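import Mathlib

/-!
Singer data: a commutative group acting regularly on the non-zero elements of an abelian group turns the latter
into a field, multiplication by units being the action.  Applied to the involutions of a Suzuki 2-group.
-/

set_option autoImplicit false

namespace Cfsg.Agent.LieRecognition.HigmanSinger

section Field

variable {E K : Type*} [AddCommGroup E] [Group K] [DistribMulAction K E]

open Classical in
/-- The multiplication on `E` given by a regular action and a base point. -/
noncomputable def rmul (e0 : E) (hreg : ∀ x : E, x ≠ 0 → ∃ k : K, k • e0 = x) (x y : E) : E :=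
  if hx : x = 0 then 0 else (hreg x hx).choose • y

open Classical in
/-- The inverse on `E` given by a regular action and a base point. -/
noncomputable def rinv (e0 : E) (hreg : ∀ x : E, x ≠ 0 → ∃ k : K, k • e0 = x) (x : E) : E :=
  if hx : x = 0 then 0 else (hreg x hx).choose⁻¹ • e0

theorem rmul_smul (e0 : E) (h0 : e0 ≠ 0) (hreg : ∀ x : E, x ≠ 0 → ∃ k : K, k • e0 = x)
    (hinj : ∀ k l : K, k • e0 = l • e0 → k = l) (k : K) (y : E) : rmul e0 hreg (k • e0) y = k • y := by
  have hk : k • e0 ≠ 0 := by
    intro h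
    exact h0 ((smul_eq_zero_iff_eq k).mp h)
  unfold rmul
  rw [dif_neg hk]
  congr 1
  exact hinj _ _ (hreg _ hk).choose_spec

theorem rmul_zero_left (e0 : E) (hreg : ∀ x : E, x ≠ 0 → ∃ k : K, k • e0 = x) (y : E) :
    rmul e0 hreg 0 y = 0 := by
  unfold rmul
  rw [dif_pos rfl]

theorem rinv_smul (e0 : E) (h0 : e0 ≠ 0) (hreg : ∀ x : E, x ≠ 0 → ∃ k : K, k • e0 = x)
    (hinj : ∀ k l : K, k • e0 = l • e0 → k = l) (k : K) : rinv e0 hreg (k • e0) = k⁻¹ • e0 := by
  have hk : k • e0 ≠ 0 := by
    intro h
    exact h0 ((smul_eq_zero_iff_eq k).mp h)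
  unfold rinv
  rw [dif_neg hk]
  congr 2
  exact hinj _ _ (hreg _ hk).choose_spec

theorem rinv_zero (e0 : E) (hreg : ∀ x : E, x ≠ 0 → ∃ k : K, k • e0 = x) :
    rinv e0 hreg 0 = 0 := by
  unfold rinv
  rw [dif_pos rfl]

/-- The field structure on `E`. -/
@[reducible] noncomputable def rfield (e0 : E) (h0 : e0 ≠ 0) (hcomm : ∀ a b : K, a * b = b * a)
    (hreg : ∀ x : E, x ≠ 0 → ∃ k : K, k • e0 = x) (hinj : ∀ k l : K, k • e0 = l • e0 → k = l) : Field E :=
  have hcomm' : ∀ x y, rmul e0 hreg x y = rmul e0 hreg y x := by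
    have hz : ∀ y, rmul e0 hreg y 0 = 0 := by
      intro y
      by_cases hy : y = 0
      · rw [hy, rmul_zero_left]
      obtain ⟨k, rfl⟩ := hreg y hy
      rw [rmul_smul e0 h0 hreg hinj, smul_zero]
    intro x y
    by_cases hx : x = 0
    · rw [hx, rmul_zero_left, hz]
    by_cases hy : y = 0
    · rw [hy, rmul_zero_left, hz]
    obtain ⟨k, rfl⟩ := hreg x hx
    obtain ⟨l, rfl⟩ := hreg y hy
    rw [rmul_smul e0 h0 hreg hinj, rmul_smul e0 h0 hreg hinj, smul_smul, smul_smul, hcomm]
  have hleft : ∀ a b c, rmul e0 hreg a (b + c) = rmul e0 hreg a b + rmul e0 hreg a c := by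
    intro a b c
    by_cases ha : a = 0
    · rw [ha, rmul_zero_left, rmul_zero_left, rmul_zero_left, add_zero]
    obtain ⟨k, rfl⟩ := hreg a ha
    simp only [rmul_smul e0 h0 hreg hinj, smul_add]
  { (inferInstance : AddCommGroup E) with
    mul := rmul e0 hreg
    one := e0
    inv := rinv e0 hreg
    mul_assoc := by
      intro a b c
      change rmul e0 hreg (rmul e0 hreg a b) c = rmul e0 hreg a (rmul e0 hreg b c)
      by_cases ha : a = 0
      · rw [ha, rmul_zero_left, rmul_zero_left, rmul_zero_left]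
      by_cases hb : b = 0
      · rw [hb, hcomm' a 0, rmul_zero_left, rmul_zero_left, hcomm' a 0, rmul_zero_left]
      obtain ⟨k, rfl⟩ := hreg a ha
      obtain ⟨l, rfl⟩ := hreg b hb
      rw [rmul_smul e0 h0 hreg hinj, rmul_smul e0 h0 hreg hinj, rmul_smul e0 h0 hreg hinj, smul_smul,
        rmul_smul e0 h0 hreg hinj, smul_smul]
    one_mul := by
      intro a
      change rmul e0 hreg e0 a = a
      have := rmul_smul e0 h0 hreg hinj 1 a
      rwa [one_smul, one_smul] at this
    mul_one := by
      intro a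
      change rmul e0 hreg a e0 = a
      rw [hcomm']
      have := rmul_smul e0 h0 hreg hinj 1 a
      rwa [one_smul, one_smul] at this
    mul_comm := hcomm'
    left_distrib := hleft
    right_distrib := by
      intro a b c
      change rmul e0 hreg (a + b) c = rmul e0 hreg a c + rmul e0 hreg b c
      rw [hcomm', hleft, hcomm' c a, hcomm' c b]
    zero_mul := fun a => rmul_zero_left e0 hreg a
    mul_zero := fun a => by
      change rmul e0 hreg a 0 = 0
      rw [hcomm', rmul_zero_left]
    exists_pair_ne := ⟨e0, 0, h0⟩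
    mul_inv_cancel := by
      intro a ha
      change rmul e0 hreg a (rinv e0 hreg a) = e0
      obtain ⟨k, rfl⟩ := hreg a ha
      rw [rinv_smul e0 h0 hreg hinj, rmul_smul e0 h0 hreg hinj, smul_inv_smul]
    inv_zero := rinv_zero e0 hreg
    nnqsmul := _
    nnqsmul_def := fun _ _ => rfl
    qsmul := _
    qsmul_def := fun _ _ => rfl }

end Field

end Cfsg.Agent.LieRecognition.HigmanSinger
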