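import Cfsg.Prelude.Def_LieRecognition
import Cfsg.Agent.S1137
import Cfsg.Agent.LieRecognition.HigmanSinger

/-!
The Singer data of a Suzuki 2-group: the involutions form the non-zero elements of a field `F` whose group of
units acts on the whole group.
-/

set_option autoImplicit false

namespace Cfsg.Agent.LieRecognition.HigmanData

open Cfsg.Agent.LieRecognition.HigmanSinger

/-- `δ : F → P` identifies the additive group of the field `F` with the group of elements of order dividing 2
of `P` (assumed central), compatibly with an action of the unit group of `F` on `P`. -/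
structure SingerData (F P : Type*) [Group P] [Field F] [MulDistribMulAction Fˣ P] (δ : F → P) : Prop where
  add : ∀ a b, δ (a + b) = δ a * δ b
  inj : Function.Injective δ
  inv : ∀ x : P, x * x = 1 ↔ ∃ a, δ a = x
  smul : ∀ (k : Fˣ) (a : F), k • δ a = δ ((k : F) * a)
  central : ∀ a x, δ a * x = x * δ a

universe u

theorem exists_singer {P : Type u} [Group P] (hP : Cfsg.IsSuzukiTwoGroup P) :
    ∃ (F : Type u) (_ : Field F) (_ : Finite F) (_ : CharP F 2) (_ : MulDistribMulAction Fˣ P) (δ : F → P),
      SingerData F P δ ∧ 2 < Nat.card F ∧ Nat.card F = Nat.card (Subgroup.center P) := by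
  classical
  obtain ⟨hS1, hS2⟩ := Cfsg.Agent.S1137.result hP
  obtain ⟨hfin, hp, -, ⟨u₀, v₀, huv, hu1, hu2, hv1, hv2⟩, K, hKc, hK⟩ := hP
  have hcomm : ∀ a b : K, a * b = b * a := by
    intro a b
    obtain ⟨g, hg⟩ := hKc.exists_generator
    obtain ⟨i, hi⟩ := Subgroup.mem_zpowers_iff.mp (hg a)
    obtain ⟨j, hj⟩ := Subgroup.mem_zpowers_iff.mp (hg b)
    rw [← hi, ← hj, ← zpow_add, ← zpow_add, add_comm]
  have hcs : ∀ (k : K) (w : P), w ∈ Subgroup.center P → k • w ∈ Subgroup.center P := by
    intro k w hw
    rw [Subgroup.mem_center_iff] at hw ⊢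
    intro g
    have h1 := hw (k⁻¹ • g)
    have h2 := congrArg (fun t => k • t) h1
    simp only [smul_mul', smul_inv_smul] at h2
    exact h2
  letI cg : CommGroup (Subgroup.center P) :=
    { (inferInstance : Group (Subgroup.center P)) with
      mul_comm := fun a b => Subtype.ext ((Subgroup.mem_center_iff.mp b.2 a.1)) }
  let E := Additive (Subgroup.center P)
  letI acg : AddCommGroup E := @Additive.addCommGroup _ cg
  let val : E → P := fun x => Subtype.val (p := fun w => w ∈ Subgroup.center P) (Additive.toMul x)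
  have hvalc : ∀ x : E, val x ∈ Subgroup.center P := fun x =>
    Subtype.property (p := fun w => w ∈ Subgroup.center P) (Additive.toMul x)
  have hval : ∀ x y : E, val x = val y → x = y := by
    intro x y h
    apply Additive.toMul.injective
    exact Subtype.ext h
  let actE : DistribMulAction K E :=
    { smul := fun k x => Additive.ofMul ⟨k • (val x), hcs k _ (hvalc x)⟩
      one_smul := fun x => by
        apply hval
        change (1 : K) • (val x) = val x
        rw [one_smul]
      mul_smul := fun k l x => by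
        apply hval
        change (k * l) • (val x) = k • (l • (val x))
        rw [mul_smul]
      smul_zero := fun k => by
        apply hval
        change k • (1 : P) = 1
        rw [smul_one]
      smul_add := fun k x y => by
        apply hval
        change k • (val x * val y) = (k • val x) * (k • val y)
        rw [smul_mul'] }
  have hact : ∀ (k : K) (x : E), val (k • x) = k • val x := fun k x => rfl
  have hu0c : u₀ ∈ Subgroup.center P := ((hS1 u₀).mp ⟨hu1, hu2⟩).1
  have hv0c : v₀ ∈ Subgroup.center P := ((hS1 v₀).mp ⟨hv1, hv2⟩).1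
  let e0 : E := Additive.ofMul ⟨u₀, hu0c⟩
  have he0 : e0 ≠ 0 := by
    intro h
    exact hu1 (congrArg val h)
  have hne : ∀ x : E, x ≠ 0 → val x ≠ 1 ∧ val x * val x = 1 := by
    intro x hx
    refine ⟨fun h => hx (hval x 0 h), ?_⟩
    exact hS2 _ (hvalc x)
  have hreg : ∀ x : E, x ≠ 0 → ∃ k : K, k • e0 = x := by
    intro x hx
    obtain ⟨k, hk, -⟩ := hK u₀ (val x) hu1 hu2 (hne x hx).1 (hne x hx).2
    exact ⟨k, hval _ _ hk⟩
  have hinj : ∀ k l : K, k • e0 = l • e0 → k = l := by
    intro k l hkl
    have hk0 : k • e0 ≠ 0 := by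
      intro h
      exact he0 ((smul_eq_zero_iff_eq k).mp h)
    obtain ⟨m, _, hm⟩ := hK u₀ (val (k • e0)) hu1 hu2 (hne _ hk0).1 (hne _ hk0).2
    rw [hm k rfl, hm l (congrArg val hkl).symm]
  letI fld : Field E := rfield e0 he0 hcomm hreg hinj
  have hmul : ∀ (k : K) (y : E), (k • e0) * y = k • y := fun k y => rmul_smul e0 he0 hreg hinj k y
  have hone : (1 : E) = e0 := rfl
  have hex : ∀ c : Eˣ, ∃ k : K, k • e0 = (c : E) := fun c => hreg _ c.ne_zero
  choose κ hκ using hex
  let f : Eˣ →* MulAut P :=
    { toFun := fun c => (κ c : MulAut P)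
      map_one' := by
        have h1 : κ 1 = 1 := hinj _ _ (by rw [hκ, one_smul]; rfl)
        rw [h1]; rfl
      map_mul' := fun c d => by
        have h1 : κ (c * d) = κ c * κ d := hinj _ _ (by
          rw [hκ, mul_smul, hκ d, ← hmul, hκ c, Units.val_mul])
        rw [h1]; rfl }
  letI actP : MulDistribMulAction Eˣ P := MulDistribMulAction.compHom P f
  have hactP : ∀ (c : Eˣ) (x : P), c • x = (κ c) • x := fun c x => rfl
  have hfinE : Finite E := inferInstanceAs (Finite (Subgroup.center P))
  have hchar : CharP E 2 := by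
    have h2 : (1 : E) + 1 = 0 := by
      apply hval
      exact hu2
    exact CharTwo.of_one_ne_zero_of_two_eq_zero one_ne_zero (by rw [← one_add_one_eq_two]; exact h2)
  refine ⟨E, fld, hfinE, hchar, actP, val, ⟨fun a b => rfl, fun a b h => hval a b h, ?_, ?_, ?_⟩, ?_, rfl⟩
  · intro x
    constructor
    · intro hx
      by_cases hx1 : x = 1
      · exact ⟨0, hx1.symm⟩
      · exact ⟨Additive.ofMul ⟨x, ((hS1 x).mp ⟨hx1, hx⟩).1⟩, rfl⟩
    · rintro ⟨a, rfl⟩
      exact hS2 _ (hvalc a)
  · intro c a
    rw [hactP, ← hκ c, hmul]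
    rfl
  · intro a x
    exact (Subgroup.mem_center_iff.mp (hvalc a) x).symm
  · let f3 : Fin 3 → E := ![0, e0, Additive.ofMul ⟨v₀, hv0c⟩]
    have h3 : Function.Injective f3 := by
      have h01 : (0 : E) ≠ e0 := he0.symm
      have h02 : (0 : E) ≠ Additive.ofMul ⟨v₀, hv0c⟩ := fun h => hv1 (congrArg val h).symm
      have h12 : e0 ≠ Additive.ofMul ⟨v₀, hv0c⟩ := fun h => huv (congrArg val h)
      intro i j hij
      fin_cases i <;> fin_cases j <;> simp [f3, h01, h02, h12, h01.symm, h02.symm, h12.symm] at hij ⊢
    have := Nat.card_le_card_of_injective f3 h3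
    rw [Nat.card_eq_fintype_card, Fintype.card_fin] at this
    omega

end Cfsg.Agent.LieRecognition.HigmanData
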