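import Mathlib
import Cfsg.Prelude.Def_LieRecognition

set_option autoImplicit false
open Cfsg

namespace Cfsg.Agent.LieRecognition.RankOneForm

variable {G Ω : Type*} [Group G] [MulAction G Ω] {a : Ω} {t : G} {Q : Subgroup G}

/-- The two-point stabiliser. -/
abbrev DD (G : Type*) {Ω : Type*} [Group G] [MulAction G Ω] (a : Ω) (t : G) : Subgroup G :=
  MulAction.stabilizer G a ⊓ MulAction.stabilizer G (t • a)

theorem tt_inv (hS : Cfsg.IsRankOneSetup G Ω a t Q) : t⁻¹ = t :=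
  inv_eq_of_mul_eq_one_right hS.mul_self

theorem ttx (hS : Cfsg.IsRankOneSetup G Ω a t Q) (x : G) : t * (t * x) = x := by
  rw [← mul_assoc, hS.mul_self, one_mul]

theorem smul_smul_self (hS : Cfsg.IsRankOneSetup G Ω a t Q) (b : Ω) : t • t • b = b := by
  rw [smul_smul, hS.mul_self, one_smul]

theorem conj_mem_stab (hS : Cfsg.IsRankOneSetup G Ω a t Q) {x : G}
    (hx : x ∈ MulAction.stabilizer G a) : t * x * t ∈ MulAction.stabilizer G (t • a) := by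
  rw [MulAction.mem_stabilizer_iff] at hx ⊢
  rw [mul_smul, mul_smul, smul_smul_self hS, hx]

theorem conj_mem_stab' (hS : Cfsg.IsRankOneSetup G Ω a t Q) {x : G}
    (hx : x ∈ MulAction.stabilizer G (t • a)) : t * x * t ∈ MulAction.stabilizer G a := by
  rw [MulAction.mem_stabilizer_iff] at hx ⊢
  rw [mul_smul, mul_smul, hx, smul_smul_self hS]

theorem conj_mem_D (hS : Cfsg.IsRankOneSetup G Ω a t Q) {x : G}
    (hx : x ∈ (MulAction.stabilizer G a ⊓ MulAction.stabilizer G (t • a))) :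
    t * x * t ∈ (MulAction.stabilizer G a ⊓ MulAction.stabilizer G (t • a)) :=
  ⟨conj_mem_stab' hS hx.2, conj_mem_stab hS hx.1⟩

/-- If `x ∈ Q` and `t x t ∈ G_a` then `x = 1`. -/
theorem eq_one_of_conj_mem (hS : Cfsg.IsRankOneSetup G Ω a t Q) {x : G} (hx : x ∈ Q)
    (h : t * x * t ∈ MulAction.stabilizer G a) : x = 1 := by
  have h1 := conj_mem_stab hS h
  have h2 : t * (t * x * t) * t = x := by
    rw [mul_assoc t x t, ttx hS, mul_assoc, hS.mul_self, mul_one]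
  rw [h2] at h1
  have h3 : x ∈ Q ⊓ MulAction.stabilizer G (t • a) := ⟨hx, h1⟩
  rw [hS.inf_eq_bot] at h3
  exact Subgroup.mem_bot.1 h3

theorem conj_Q (hS : Cfsg.IsRankOneSetup G Ω a t Q) {h x : G}
    (hh : h ∈ (MulAction.stabilizer G a ⊓ MulAction.stabilizer G (t • a))) (hx : x ∈ Q) :
    h * x * h⁻¹ ∈ Q := hS.conj_mem h hh.1 x hx

/-- Uniqueness of the canonical form `g h t f`. -/
theorem canonical_unique (hS : Cfsg.IsRankOneSetup G Ω a t Q) {g₁ h₁ f₁ g₂ h₂ f₂ : G}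
    (hg₁ : g₁ ∈ Q) (hh₁ : h₁ ∈ (MulAction.stabilizer G a ⊓ MulAction.stabilizer G (t • a))) (hf₁ : f₁ ∈ Q)
    (hg₂ : g₂ ∈ Q) (hh₂ : h₂ ∈ (MulAction.stabilizer G a ⊓ MulAction.stabilizer G (t • a))) (hf₂ : f₂ ∈ Q)
    (e : g₁ * h₁ * t * f₁ = g₂ * h₂ * t * f₂) : g₁ = g₂ ∧ h₁ = h₂ ∧ f₁ = f₂ := by
  have e1 : t * (f₁ * f₂⁻¹) * t = (g₁ * h₁)⁻¹ * (g₂ * h₂) := by
    have : t * (f₁ * f₂⁻¹) = (g₁ * h₁)⁻¹ * (g₂ * h₂) * t := by
      have h3 : (g₁ * h₁)⁻¹ * (g₁ * h₁ * t * f₁) * f₂⁻¹ = (g₁ * h₁)⁻¹ * (g₂ * h₂ * t * f₂) * f₂⁻¹ := by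
        rw [e]
      calc t * (f₁ * f₂⁻¹) = (g₁ * h₁)⁻¹ * (g₁ * h₁ * t * f₁) * f₂⁻¹ := by group
        _ = (g₁ * h₁)⁻¹ * (g₂ * h₂ * t * f₂) * f₂⁻¹ := h3
        _ = (g₁ * h₁)⁻¹ * (g₂ * h₂) * t := by group
    rw [this, mul_assoc, hS.mul_self, mul_one]
  have hmem : t * (f₁ * f₂⁻¹) * t ∈ MulAction.stabilizer G a := by
    rw [e1]
    exact mul_mem (inv_mem (mul_mem (hS.le hg₁) hh₁.1)) (mul_mem (hS.le hg₂) hh₂.1)
  have hf : f₁ * f₂⁻¹ = 1 := eq_one_of_conj_mem hS (mul_mem hf₁ (inv_mem hf₂)) hmem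
  have hff : f₁ = f₂ := mul_inv_eq_one.1 hf
  subst hff
  have e2 : g₁ * h₁ = g₂ * h₂ := mul_right_cancel (mul_right_cancel e)
  have e3 : g₂⁻¹ * g₁ = h₂ * h₁⁻¹ := by
    rw [inv_mul_eq_iff_eq_mul, ← mul_assoc, ← e2, mul_inv_cancel_right]
  have h5 : h₂ * h₁⁻¹ ∈ MulAction.stabilizer G (t • a) :=
    Subgroup.mul_mem _ (Subgroup.mem_inf.1 hh₂).2 (Subgroup.inv_mem _ (Subgroup.mem_inf.1 hh₁).2)
  have h4 : g₂⁻¹ * g₁ ∈ Q ⊓ MulAction.stabilizer G (t • a) :=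
    Subgroup.mem_inf.2 ⟨Subgroup.mul_mem _ (Subgroup.inv_mem _ hg₂) hg₁, by rw [e3]; exact h5⟩
  rw [hS.inf_eq_bot, Subgroup.mem_bot, inv_mul_eq_one] at h4
  subst h4
  exact ⟨rfl, mul_left_cancel e2, rfl⟩

end Cfsg.Agent.LieRecognition.RankOneForm
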