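import Mathlib
import Cfsg.Prelude.Def_LieRecognition

/-!
Change of base point in the rank-one set-up `Cfsg.IsRankOneSetup G Ω a t Q`:
for every point `b` and every involution `w` moving `b` there is `g` with `g • a = b`,
`g • (t • a) = w • b` and `IsRankOneSetup G Ω b w (g Q g⁻¹)`.
-/

set_option autoImplicit false

namespace Cfsg.Agent.LieRecognition.RankOneBase

open MulAction

variable {G Ω : Type*} [Group G] [MulAction G Ω]

/-- Membership in a conjugate subgroup `Q.map (MulAut.conj g)`. -/
theorem mem_map_conj_iff (Q : Subgroup G) (g x : G) :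
    x ∈ Q.map (MulAut.conj g).toMonoidHom ↔ g⁻¹ * x * g ∈ Q := by
  constructor
  · rintro ⟨y, hy, rfl⟩
    have : g⁻¹ * ((MulAut.conj g).toMonoidHom y) * g = y := by
      simp [mul_assoc]
    rw [this]; exact hy
  · intro h
    exact ⟨g⁻¹ * x * g, h, by simp [mul_assoc]⟩

theorem stabilizer_smul_eq (a : Ω) (g : G) :
    stabilizer G (g • a) = (stabilizer G a).map (MulAut.conj g).toMonoidHom :=
  stabilizer_smul_eq_stabilizer_map_conj g a

theorem card_map_conj (H : Subgroup G) (g : G) :
    Nat.card ↥(H.map (MulAut.conj g).toMonoidHom) = Nat.card H := by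
  refine (Nat.card_congr ?_).symm
  exact (H.equivMapOfInjective (MulAut.conj g).toMonoidHom (MulAut.conj g).injective).toEquiv

/-- Change of base point: if `g • a = b` and `g • (t • a) = w • b` with `w` an involution moving `b`,
then the set-up holds for `b`, `w` and `g Q g⁻¹`. -/
theorem setup_of_smul {a : Ω} {t : G} {Q : Subgroup G} (hS : Cfsg.IsRankOneSetup G Ω a t Q)
    {b : Ω} {w : G} (hw1 : w ≠ 1) (hw : w * w = 1) (hb : w • b ≠ b) {g : G} (hg : g • a = b)
    (hg' : g • (t • a) = w • b) :
    Cfsg.IsRankOneSetup G Ω b w (Q.map (MulAut.conj g).toMonoidHom) := by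
  have hinj : Function.Injective (MulAut.conj g).toMonoidHom := (MulAut.conj g).injective
  have hst : stabilizer G b = (stabilizer G a).map (MulAut.conj g).toMonoidHom := by
    rw [← hg]; exact stabilizer_smul_eq a g
  have hst' : stabilizer G (w • b) = (stabilizer G (t • a)).map (MulAut.conj g).toMonoidHom := by
    rw [← hg']; exact stabilizer_smul_eq (t • a) g
  refine
    { two_transitive := hS.two_transitive
      mul_self := hw
      ne_one := hw1
      not_mem := ?_
      le := ?_
      conj_mem := ?_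
      inf_eq_bot := ?_
      sup_eq := ?_
      even_card := ?_
      odd_card := ?_ }
  · intro h
    exact hb (mem_stabilizer_iff.1 h)
  · rw [hst]
    exact Subgroup.map_mono hS.le
  · intro h hh x hx
    rw [hst, mem_map_conj_iff] at hh
    rw [mem_map_conj_iff] at hx ⊢
    have := hS.conj_mem _ hh _ hx
    convert this using 1
    group
  · rw [hst', ← Subgroup.map_inf _ _ _ hinj, hS.inf_eq_bot, Subgroup.map_bot]
  · rw [hst', hst, ← Subgroup.map_inf _ _ _ hinj, ← Subgroup.map_sup, hS.sup_eq]
  · rw [card_map_conj]; exact hS.even_card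
  · rw [hst', hst, ← Subgroup.map_inf _ _ _ hinj, card_map_conj]; exact hS.odd_card

theorem exists_smul_pair {a : Ω} {t : G} {Q : Subgroup G} (hS : Cfsg.IsRankOneSetup G Ω a t Q)
    {b b' c c' : Ω} (h : b ≠ b') (h' : c ≠ c') : ∃ g : G, g • b = c ∧ g • b' = c' := by
  exact (MulAction.is_two_pretransitive_iff (G := G) (α := Ω)).1 hS.two_transitive h h'

/-- Change of base point: for any point `b` and any involution `w` moving `b`, a suitable conjugate
of `Q` gives a set-up at `b`, `w`. -/
theorem exists_setup {a : Ω} {t : G} {Q : Subgroup G} (hS : Cfsg.IsRankOneSetup G Ω a t Q)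
    {b : Ω} {w : G} (hw1 : w ≠ 1) (hw : w * w = 1) (hb : w • b ≠ b) :
    ∃ g : G, g • a = b ∧ g • (t • a) = w • b ∧
      Cfsg.IsRankOneSetup G Ω b w (Q.map (MulAut.conj g).toMonoidHom) := by
  have hta : a ≠ t • a := fun h => hS.not_mem (mem_stabilizer_iff.2 h.symm)
  obtain ⟨g, hg, hg'⟩ := exists_smul_pair hS hta (Ne.symm hb)
  exact ⟨g, hg, hg', setup_of_smul hS hw1 hw hb hg hg'⟩

end Cfsg.Agent.LieRecognition.RankOneBase
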