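import Mathlib
import Cfsg.Prelude.Def_Sz

/-!
# The Suzuki groups `Cfsg.Lie.Sz` as explicit matrix groups

`F` is a field of characteristic two, `θ : F →+* F` an endomorphism with `θ (θ x) = x ^ 2` and
`θ x = x ^ e`. Everything is stated for such a `θ`; `theta` gives it for the field with `2 ^ (2m+1)` elements.
-/

set_option autoImplicit false

namespace Cfsg.Agent.LieRecognition.SzMatrix

open scoped MatrixGroups Matrix
open Matrix

variable {F : Type*} [Field F]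

/-- the antidiagonal matrix -/
def J (F : Type*) [Field F] : Matrix (Fin 4) (Fin 4) F :=
  !![0, 0, 0, 1; 0, 0, 1, 0; 0, 1, 0, 0; 1, 0, 0, 0]

theorem J_mul_J : J F * J F = 1 := by
  ext i j
  fin_cases i <;> fin_cases j <;> simp [J, Matrix.mul_apply, Fin.sum_univ_four]

theorem altForm4_eq (u v : Fin 4 → F) : Cfsg.Lie.altForm4 u v = u ⬝ᵥ (J F *ᵥ v) := by
  simp [Cfsg.Lie.altForm4, J, dotProduct, Matrix.mulVec, Fin.sum_univ_four]

theorem mem_Sp4_iff (g : GL (Fin 4) F) :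
    g ∈ Cfsg.Lie.Sp4 F ↔ (g : Matrix (Fin 4) (Fin 4) F)ᵀ * J F * (g : Matrix (Fin 4) (Fin 4) F) = J F := by
  have h0 : g ∈ Cfsg.Lie.Sp4 F ↔ ∀ u v : Fin 4 → F,
      Cfsg.Lie.altForm4 ((g : Matrix (Fin 4) (Fin 4) F) *ᵥ u) ((g : Matrix (Fin 4) (Fin 4) F) *ᵥ v) =
        Cfsg.Lie.altForm4 u v := Iff.rfl
  rw [h0]
  have key : ∀ u v : Fin 4 → F,
      Cfsg.Lie.altForm4 ((g : Matrix (Fin 4) (Fin 4) F) *ᵥ u) ((g : Matrix (Fin 4) (Fin 4) F) *ᵥ v) =
        u ⬝ᵥ (((g : Matrix (Fin 4) (Fin 4) F)ᵀ * J F * (g : Matrix (Fin 4) (Fin 4) F)) *ᵥ v) := by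
    intro u v
    rw [altForm4_eq, ← Matrix.mulVec_mulVec, ← Matrix.mulVec_mulVec, Matrix.dotProduct_mulVec,
      Matrix.dotProduct_mulVec u, Matrix.vecMul_transpose, ← Matrix.dotProduct_mulVec]
  constructor
  · intro h
    ext i j
    have := h (Pi.single i 1) (Pi.single j 1)
    rw [key, altForm4_eq] at this
    simpa using this
  · intro h u v
    rw [key, h, altForm4_eq]

theorem mul_J_mul_transpose {g : GL (Fin 4) F} (hg : g ∈ Cfsg.Lie.Sp4 F) :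
    (g : Matrix (Fin 4) (Fin 4) F) * J F * (g : Matrix (Fin 4) (Fin 4) F)ᵀ = J F := by
  rw [mem_Sp4_iff] at hg
  have h1 : (J F * (g : Matrix (Fin 4) (Fin 4) F)ᵀ * J F) * (g : Matrix (Fin 4) (Fin 4) F) = 1 := by
    calc (J F * (g : Matrix (Fin 4) (Fin 4) F)ᵀ * J F) * (g : Matrix (Fin 4) (Fin 4) F)
        = J F * ((g : Matrix (Fin 4) (Fin 4) F)ᵀ * J F * (g : Matrix (Fin 4) (Fin 4) F)) := by
          simp only [Matrix.mul_assoc]
      _ = 1 := by rw [hg, J_mul_J]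
  have h2 := mul_eq_one_comm.mp h1
  calc (g : Matrix (Fin 4) (Fin 4) F) * J F * (g : Matrix (Fin 4) (Fin 4) F)ᵀ
      = ((g : Matrix (Fin 4) (Fin 4) F) * (J F * (g : Matrix (Fin 4) (Fin 4) F)ᵀ * J F)) * J F := by
        simp only [Matrix.mul_assoc, J_mul_J, Matrix.mul_one]
    _ = J F := by rw [h2, Matrix.one_mul]

/-- the defining set of `Sz F e` -/
def SzSet (F : Type*) [Field F] (e : ℕ) : Set (GL (Fin 4) F) :=
  {g | g ∈ Cfsg.Lie.Sp4 F ∧ Cfsg.Lie.star4 (g : Matrix (Fin 4) (Fin 4) F) =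
    (g : Matrix (Fin 4) (Fin 4) F).map (fun x => x ^ e)}

theorem Sz_eq_closure (e : ℕ) : Cfsg.Lie.Sz F e = Subgroup.closure (SzSet F e) := rfl

/-- column relations in `Sp4` -/
theorem col_rel {g : GL (Fin 4) F} (hg : g ∈ Cfsg.Lie.Sp4 F) (i j : Fin 4) :
    g.1 0 i * g.1 3 j + g.1 1 i * g.1 2 j + g.1 2 i * g.1 1 j + g.1 3 i * g.1 0 j = J F i j := by
  rw [mem_Sp4_iff] at hg
  have := congrFun (congrFun hg i) j
  rw [← this]
  simp [J, Matrix.mul_apply, Fin.sum_univ_four]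
  ring

/-- row relations in `Sp4` -/
theorem row_rel {g : GL (Fin 4) F} (hg : g ∈ Cfsg.Lie.Sp4 F) (i j : Fin 4) :
    g.1 i 0 * g.1 j 3 + g.1 i 1 * g.1 j 2 + g.1 i 2 * g.1 j 1 + g.1 i 3 * g.1 j 0 = J F i j := by
  have hg := mul_J_mul_transpose hg
  have := congrFun (congrFun hg i) j
  rw [← this]
  simp [J, Matrix.mul_apply, Fin.sum_univ_four]
  ring

/-- entries of `star4` -/
theorem star4_apply (g : Matrix (Fin 4) (Fin 4) F) (p r : Fin 4) :
    Cfsg.Lie.star4 g p r = g (Cfsg.Lie.pairOf p).1 (Cfsg.Lie.pairOf r).1 * g (Cfsg.Lie.pairOf p).2 (Cfsg.Lie.pairOf r).2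
      - g (Cfsg.Lie.pairOf p).2 (Cfsg.Lie.pairOf r).1 * g (Cfsg.Lie.pairOf p).1 (Cfsg.Lie.pairOf r).2 := rfl

/-- the Cauchy-Binet identity behind the multiplicativity of `star4` on `Sp4` -/
theorem minor_identity (h0 : (2 : F) = 0) (a0 a1 a2 a3 b0 b1 b2 b3 c0 c1 c2 c3 d0 d1 d2 d3 : F)
    (h1 : a0 * b3 + a1 * b2 + a2 * b1 + a3 * b0 = 0)
    (h2 : c0 * d3 + c1 * d2 + c2 * d1 + c3 * d0 = 0) :
    (a0 * c0 + a1 * c1 + a2 * c2 + a3 * c3) * (b0 * d0 + b1 * d1 + b2 * d2 + b3 * d3) -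
      (b0 * c0 + b1 * c1 + b2 * c2 + b3 * c3) * (a0 * d0 + a1 * d1 + a2 * d2 + a3 * d3) =
    (a0 * b1 - b0 * a1) * (c0 * d1 - c1 * d0) + (a0 * b2 - b0 * a2) * (c0 * d2 - c2 * d0) +
      (a1 * b3 - b1 * a3) * (c1 * d3 - c3 * d1) + (a2 * b3 - b2 * a3) * (c2 * d3 - c3 * d2) := by
  linear_combination (a0 * b3 - b0 * a3) * h2 + (c1 * d2 - c2 * d1) * h1 -
    ((a0 * b3 - b0 * a3) * (c3 * d0 + c2 * d1) + (c1 * d2 - c2 * d1) * (b0 * a3 + b1 * a2) +
      (a0 * b3 - b0 * a3) * (c1 * d2 - c2 * d1)) * h0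

theorem J_pairOf (p : Fin 4) : J F (Cfsg.Lie.pairOf p).1 (Cfsg.Lie.pairOf p).2 = 0 := by
  fin_cases p <;> simp [J, Cfsg.Lie.pairOf]

theorem star4_mul (h0 : (2 : F) = 0) {g h : GL (Fin 4) F} (hg : g ∈ Cfsg.Lie.Sp4 F) (hh : h ∈ Cfsg.Lie.Sp4 F) :
    Cfsg.Lie.star4 ((g * h : GL (Fin 4) F) : Matrix (Fin 4) (Fin 4) F) =
      Cfsg.Lie.star4 (g : Matrix (Fin 4) (Fin 4) F) * Cfsg.Lie.star4 (h : Matrix (Fin 4) (Fin 4) F) := by
  ext p r
  have h1 := row_rel hg (Cfsg.Lie.pairOf p).1 (Cfsg.Lie.pairOf p).2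
  have h2 := col_rel hh (Cfsg.Lie.pairOf r).1 (Cfsg.Lie.pairOf r).2
  rw [J_pairOf] at h1 h2
  have := minor_identity h0 _ _ _ _ _ _ _ _ _ _ _ _ _ _ _ _ h1 h2
  rw [star4_apply, Units.val_mul]
  simp only [Matrix.mul_apply, Fin.sum_univ_four]
  rw [this]
  simp only [star4_apply]
  rfl

theorem star4_explicit (g : Matrix (Fin 4) (Fin 4) F) : Cfsg.Lie.star4 g =
    !![g 0 0 * g 1 1 - g 1 0 * g 0 1, g 0 0 * g 1 2 - g 1 0 * g 0 2, g 0 1 * g 1 3 - g 1 1 * g 0 3, g 0 2 * g 1 3 - g 1 2 * g 0 3;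
      g 0 0 * g 2 1 - g 2 0 * g 0 1, g 0 0 * g 2 2 - g 2 0 * g 0 2, g 0 1 * g 2 3 - g 2 1 * g 0 3, g 0 2 * g 2 3 - g 2 2 * g 0 3;
      g 1 0 * g 3 1 - g 3 0 * g 1 1, g 1 0 * g 3 2 - g 3 0 * g 1 2, g 1 1 * g 3 3 - g 3 1 * g 1 3, g 1 2 * g 3 3 - g 3 2 * g 1 3;
      g 2 0 * g 3 1 - g 3 0 * g 2 1, g 2 0 * g 3 2 - g 3 0 * g 2 2, g 2 1 * g 3 3 - g 3 1 * g 2 3, g 2 2 * g 3 3 - g 3 2 * g 2 3] := by
  ext p r
  fin_cases p <;> fin_cases r <;> rfl

theorem star4_one : Cfsg.Lie.star4 (1 : Matrix (Fin 4) (Fin 4) F) = 1 := by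
  rw [star4_explicit]
  ext i j
  fin_cases i <;> fin_cases j <;> simp

/-- the hypotheses on `θ` and `e` under which we work: characteristic two, `θ` an endomorphism whose square is
squaring, and `θ x = x ^ e` -/
structure Good (F : Type*) [Field F] (θ : F →+* F) (e : ℕ) : Prop where
  two : (2 : F) = 0
  sq : ∀ x, θ (θ x) = x ^ 2
  pow : ∀ x, x ^ e = θ x

variable {θ : F →+* F} {e : ℕ}

theorem Good.map_eq (H : Good F θ e) (A : Matrix (Fin 4) (Fin 4) F) :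
    A.map (fun x => x ^ e) = A.map θ := by
  ext i j
  simp [Matrix.map_apply, H.pow]

theorem Good.mem_SzSet (H : Good F θ e) {g : GL (Fin 4) F} :
    g ∈ SzSet F e ↔ g ∈ Cfsg.Lie.Sp4 F ∧
      Cfsg.Lie.star4 (g : Matrix (Fin 4) (Fin 4) F) = (g : Matrix (Fin 4) (Fin 4) F).map θ := by
  rw [← H.map_eq]
  rfl

theorem Good.neg_eq (H : Good F θ e) (x : F) : -x = x := by
  linear_combination (-x) * H.two

theorem Good.add_self (H : Good F θ e) (x : F) : x + x = 0 := by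
  linear_combination x * H.two

/-- `SzSet` is the carrier of a subgroup -/
theorem Good.closure_eq (H : Good F θ e) : (Cfsg.Lie.Sz F e : Set (GL (Fin 4) F)) = SzSet F e := by
  let K : Subgroup (GL (Fin 4) F) :=
    { carrier := SzSet F e
      mul_mem' := by
        intro g h hg hh
        rw [H.mem_SzSet] at *
        refine ⟨mul_mem hg.1 hh.1, ?_⟩
        rw [star4_mul H.two hg.1 hh.1, hg.2, hh.2, Units.val_mul, Matrix.map_mul]
      one_mem' := by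
        rw [H.mem_SzSet]
        refine ⟨one_mem _, ?_⟩
        rw [Units.val_one, star4_one]
        simp
      inv_mem' := by
        intro g hg
        rw [H.mem_SzSet] at *
        refine ⟨inv_mem hg.1, ?_⟩
        have h1 : Cfsg.Lie.star4 ((g⁻¹ : GL (Fin 4) F) : Matrix (Fin 4) (Fin 4) F) *
            Cfsg.Lie.star4 (g : Matrix (Fin 4) (Fin 4) F) = 1 := by
          rw [← star4_mul H.two (inv_mem hg.1) hg.1, inv_mul_cancel, Units.val_one, star4_one]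
        have h2 : ((g⁻¹ : GL (Fin 4) F) : Matrix (Fin 4) (Fin 4) F).map θ *
            (g : Matrix (Fin 4) (Fin 4) F).map θ = 1 := by
          rw [← Matrix.map_mul, ← Units.val_mul, inv_mul_cancel]
          simp
        rw [hg.2] at h1
        have h3 : (g : Matrix (Fin 4) (Fin 4) F).map θ *
            ((g⁻¹ : GL (Fin 4) F) : Matrix (Fin 4) (Fin 4) F).map θ = 1 := mul_eq_one_comm.mp h2
        calc Cfsg.Lie.star4 ((g⁻¹ : GL (Fin 4) F) : Matrix (Fin 4) (Fin 4) F)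
            = Cfsg.Lie.star4 ((g⁻¹ : GL (Fin 4) F) : Matrix (Fin 4) (Fin 4) F) *
              ((g : Matrix (Fin 4) (Fin 4) F).map θ *
                ((g⁻¹ : GL (Fin 4) F) : Matrix (Fin 4) (Fin 4) F).map θ) := by rw [h3, Matrix.mul_one]
          _ = _ := by rw [← Matrix.mul_assoc, h1, Matrix.one_mul] }
  have : Cfsg.Lie.Sz F e = K := by
    rw [Sz_eq_closure]
    exact Subgroup.closure_eq K
  rw [this]
  rfl

theorem Good.mem_Sz (H : Good F θ e) {g : GL (Fin 4) F} :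
    g ∈ Cfsg.Lie.Sz F e ↔ g ∈ Cfsg.Lie.Sp4 F ∧
      Cfsg.Lie.star4 (g : Matrix (Fin 4) (Fin 4) F) = (g : Matrix (Fin 4) (Fin 4) F).map θ := by
  rw [← SetLike.mem_coe, H.closure_eq, H.mem_SzSet]

/-! ### Explicit elements -/

/-- a matrix preserving the form, as an element of `GL` -/
def ofSp (M : Matrix (Fin 4) (Fin 4) F) (h : Mᵀ * J F * M = J F) : GL (Fin 4) F :=
  ⟨M, J F * Mᵀ * J F, by
    have h1 : (J F * Mᵀ * J F) * M = 1 := by
      calc (J F * Mᵀ * J F) * M = J F * (Mᵀ * J F * M) := by simp only [Matrix.mul_assoc]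
        _ = 1 := by rw [h, J_mul_J]
    exact mul_eq_one_comm.mp h1, by
    calc (J F * Mᵀ * J F) * M = J F * (Mᵀ * J F * M) := by simp only [Matrix.mul_assoc]
      _ = 1 := by rw [h, J_mul_J]⟩

theorem ofSp_val (M : Matrix (Fin 4) (Fin 4) F) (h : Mᵀ * J F * M = J F) : (ofSp M h).1 = M := rfl

theorem Good.ofSp_mem (H : Good F θ e) (M : Matrix (Fin 4) (Fin 4) F) (h : Mᵀ * J F * M = J F)
    (h' : Cfsg.Lie.star4 M = M.map θ) : ofSp M h ∈ Cfsg.Lie.Sz F e := by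
  rw [H.mem_Sz]
  exact ⟨(mem_Sp4_iff _).2 h, h'⟩

/-- the unipotent matrices -/
def Umat (θ : F →+* F) (a b : F) : Matrix (Fin 4) (Fin 4) F :=
  !![1, a, b, a * b + a ^ 2 * θ a + θ b;
     0, 1, θ a, b + a * θ a;
     0, 0, 1, a;
     0, 0, 0, 1]

theorem Umat_def (θ : F →+* F) (a b : F) : Umat θ a b =
  !![1, a, b, a * b + a ^ 2 * θ a + θ b;
     0, 1, θ a, b + a * θ a;
     0, 0, 1, a;
     0, 0, 0, 1] := rfl

theorem Good.Umat_sp (H : Good F θ e) (a b : F) : (Umat θ a b)ᵀ * J F * Umat θ a b = J F := by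
  have h0 := H.two
  ext i j
  fin_cases i <;> fin_cases j <;>
    simp [J, Umat, Matrix.mul_apply, Fin.sum_univ_four] <;>
    first
    | linear_combination a * h0
    | linear_combination b * h0
    | linear_combination (a * θ a) * h0
    | linear_combination (b + a * θ a) * h0
    | linear_combination (θ a) * h0
    | linear_combination (2 * a * b + 2 * a ^ 2 * θ a + θ b) * h0

theorem Good.Umat_star (H : Good F θ e) (a b : F) :
    Cfsg.Lie.star4 (Umat θ a b) = (Umat θ a b).map θ := by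
  have h0 := H.two
  rw [star4_explicit]
  ext i j
  fin_cases i <;> fin_cases j <;>
    simp [Umat, H.sq] <;>
    first
    | ring1
    | linear_combination (-θ b) * h0
    | linear_combination (-(a ^ 2 * θ a ^ 2 + θ a * θ b)) * h0
    | linear_combination (-(a ^ 2 * θ a + θ b)) * h0

/-- the unipotent elements -/
def Good.U (H : Good F θ e) (a b : F) : GL (Fin 4) F := ofSp (Umat θ a b) (H.Umat_sp a b)

theorem Good.U_val (H : Good F θ e) (a b : F) : (H.U a b).1 = Umat θ a b := rfl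

theorem Good.U_mem (H : Good F θ e) (a b : F) : H.U a b ∈ Cfsg.Lie.Sz F e :=
  H.ofSp_mem _ _ (H.Umat_star a b)

/-- the diagonal matrices -/
def Dmat (θ : F →+* F) (k : Fˣ) : Matrix (Fin 4) (Fin 4) F :=
  !![(k : F), 0, 0, 0;
     0, θ k * (k : F)⁻¹, 0, 0;
     0, 0, k * (θ k)⁻¹, 0;
     0, 0, 0, (k : F)⁻¹]

theorem Dmat_def (θ : F →+* F) (k : Fˣ) : Dmat θ k =
  !![(k : F), 0, 0, 0;
     0, θ k * (k : F)⁻¹, 0, 0;
     0, 0, k * (θ k)⁻¹, 0;
     0, 0, 0, (k : F)⁻¹] := rfl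

theorem theta_ne_zero (θ : F →+* F) (k : Fˣ) : θ (k : F) ≠ 0 := by
  intro h
  exact k.ne_zero ((map_eq_zero θ).mp h)

theorem Dmat_sp (θ : F →+* F) (k : Fˣ) : (Dmat θ k)ᵀ * J F * Dmat θ k = J F := by
  have h1 := k.ne_zero
  have h2 := theta_ne_zero θ k
  ext i j
  fin_cases i <;> fin_cases j <;>
    simp [J, Dmat, Matrix.mul_apply, Fin.sum_univ_four] <;>
    field_simp

theorem Good.Dmat_star (H : Good F θ e) (k : Fˣ) :
    Cfsg.Lie.star4 (Dmat θ k) = (Dmat θ k).map θ := by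
  have h1 := k.ne_zero
  have h2 := theta_ne_zero θ k
  rw [star4_explicit]
  ext i j
  fin_cases i <;> fin_cases j <;>
    simp [Dmat, H.sq] <;>
    field_simp

/-- the diagonal elements -/
def Good.D (_H : Good F θ e) (k : Fˣ) : GL (Fin 4) F := ofSp (Dmat θ k) (Dmat_sp θ k)

theorem Good.D_val (H : Good F θ e) (k : Fˣ) : (H.D k).1 = Dmat θ k := rfl

theorem Good.D_mem (H : Good F θ e) (k : Fˣ) : H.D k ∈ Cfsg.Lie.Sz F e :=
  H.ofSp_mem _ _ (H.Dmat_star k)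

theorem J_sp : (J F)ᵀ * J F * J F = J F := by
  have : (J F)ᵀ = J F := by
    ext i j
    fin_cases i <;> fin_cases j <;> simp [J]
  rw [this, J_mul_J, Matrix.one_mul]

theorem Good.J_star (H : Good F θ e) : Cfsg.Lie.star4 (J F) = (J F).map θ := by
  have h0 := H.two
  rw [star4_explicit]
  ext i j
  fin_cases i <;> fin_cases j <;>
    simp [J] <;>
    linear_combination (-1) * h0

/-- the antidiagonal element -/
def W (F : Type*) [Field F] : GL (Fin 4) F := ofSp (J F) J_sp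

theorem W_val : (W F).1 = J F := rfl

theorem Good.W_mem (H : Good F θ e) : W F ∈ Cfsg.Lie.Sz F e :=
  H.ofSp_mem _ _ H.J_star

theorem W_mul_W : W F * W F = 1 := by
  apply Units.ext
  rw [Units.val_mul, W_val, J_mul_J, Units.val_one]

/-! ### Entries of an element of `Sz` -/

/-- the sixteen star relations -/
theorem Good.star_rel (H : Good F θ e) {g : GL (Fin 4) F} (hg : g ∈ Cfsg.Lie.Sz F e) (p r : Fin 4) :
    Cfsg.Lie.star4 g.1 p r = θ (g.1 p r) := by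
  have := (H.mem_Sz.1 hg).2
  exact congrFun (congrFun this p) r

/-- an element of `Sz` with vanishing `(3,0)` entry has first column a multiple of `e₀` -/
theorem Good.col_zero (H : Good F θ e) {g : GL (Fin 4) F} (hg : g ∈ Cfsg.Lie.Sz F e) (h3 : g.1 3 0 = 0) :
    g.1 1 0 = 0 ∧ g.1 2 0 = 0 := by
  have hsp := (H.mem_Sz.1 hg).1
  have C : g.1 0 0 * g.1 3 1 + g.1 1 0 * g.1 2 1 + g.1 2 0 * g.1 1 1 + g.1 3 0 * g.1 0 1 = 0 := col_rel hsp 0 1
  have R1 : g.1 0 0 * g.1 2 1 - g.1 2 0 * g.1 0 1 = θ (g.1 1 0) := H.star_rel hg 1 0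
  have R2 : g.1 1 0 * g.1 3 1 - g.1 3 0 * g.1 1 1 = θ (g.1 2 0) := H.star_rel hg 2 0
  have R3 : g.1 2 0 * g.1 3 1 - g.1 3 0 * g.1 2 1 = θ (g.1 3 0) := H.star_rel hg 3 0
  rw [h3] at C R2 R3
  rw [map_zero] at R3
  have e2 : g.1 2 0 = 0 := by
    have : g.1 2 0 * θ (g.1 2 0) = 0 := by
      rw [← R2]
      linear_combination (g.1 1 0) * R3
    rcases mul_eq_zero.mp this with h | h
    · exact h
    · exact (map_eq_zero θ).mp h
  rw [e2, map_zero] at R2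
  rw [e2] at C R1
  have e1 : g.1 1 0 = 0 := by
    have : g.1 1 0 * (g.1 1 0 * θ (g.1 1 0)) = 0 := by
      rw [← R1]
      linear_combination (g.1 0 0 * g.1 1 0) * C - (g.1 0 0) ^ 2 * R2
    rcases mul_eq_zero.mp this with h | h
    · exact h
    rcases mul_eq_zero.mp h with h | h
    · exact h
    · exact (map_eq_zero θ).mp h
  exact ⟨e1, e2⟩

/-- an element of `Sz` with first column `e₀` is unipotent upper triangular of the form `U a b` -/
theorem Good.eq_U (H : Good F θ e) {g : GL (Fin 4) F} (hg : g ∈ Cfsg.Lie.Sz F e) (h3 : g.1 3 0 = 0)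
    (h00 : g.1 0 0 = 1) : g = H.U (g.1 0 1) (g.1 0 2) := by
  have h0 := H.two
  obtain ⟨h1, h2⟩ := H.col_zero hg h3
  have hsp := (H.mem_Sz.1 hg).1
  have C1 : g.1 0 0 * g.1 3 1 + g.1 1 0 * g.1 2 1 + g.1 2 0 * g.1 1 1 + g.1 3 0 * g.1 0 1 = 0 := col_rel hsp 0 1
  have C2 : g.1 0 0 * g.1 3 2 + g.1 1 0 * g.1 2 2 + g.1 2 0 * g.1 1 2 + g.1 3 0 * g.1 0 2 = 0 := col_rel hsp 0 2
  have C3 : g.1 0 0 * g.1 3 3 + g.1 1 0 * g.1 2 3 + g.1 2 0 * g.1 1 3 + g.1 3 0 * g.1 0 3 = 1 := col_rel hsp 0 3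
  have R00 : g.1 0 0 * g.1 1 1 - g.1 1 0 * g.1 0 1 = θ (g.1 0 0) := H.star_rel hg 0 0
  have R10 : g.1 0 0 * g.1 2 1 - g.1 2 0 * g.1 0 1 = θ (g.1 1 0) := H.star_rel hg 1 0
  have R01 : g.1 0 0 * g.1 1 2 - g.1 1 0 * g.1 0 2 = θ (g.1 0 1) := H.star_rel hg 0 1
  have R11 : g.1 0 0 * g.1 2 2 - g.1 2 0 * g.1 0 2 = θ (g.1 1 1) := H.star_rel hg 1 1
  have R02 : g.1 0 1 * g.1 1 3 - g.1 1 1 * g.1 0 3 = θ (g.1 0 2) := H.star_rel hg 0 2
  have C13 : g.1 0 1 * g.1 3 3 + g.1 1 1 * g.1 2 3 + g.1 2 1 * g.1 1 3 + g.1 3 1 * g.1 0 3 = 0 := col_rel hsp 1 3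
  have C23 : g.1 0 2 * g.1 3 3 + g.1 1 2 * g.1 2 3 + g.1 2 2 * g.1 1 3 + g.1 3 2 * g.1 0 3 = 0 := col_rel hsp 2 3
  rw [h00, h1, h2, h3] at C1 C2 C3
  rw [h00, h1, map_one] at R00
  rw [h00, h1, h2, map_zero] at R10
  rw [h00, h1] at R01
  rw [h00, h2] at R11
  have e31 : g.1 3 1 = 0 := by linear_combination C1
  have e32 : g.1 3 2 = 0 := by linear_combination C2
  have e33 : g.1 3 3 = 1 := by linear_combination C3
  have e11 : g.1 1 1 = 1 := by linear_combination R00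
  have e21 : g.1 2 1 = 0 := by linear_combination R10
  have e12 : g.1 1 2 = θ (g.1 0 1) := by linear_combination R01
  have e22 : g.1 2 2 = 1 := by
    rw [e11, map_one] at R11
    linear_combination R11
  rw [e33, e11, e21, e31] at C13
  have e23 : g.1 2 3 = g.1 0 1 := by linear_combination C13 - (g.1 0 1) * h0
  rw [e33, e12, e23, e22, e32] at C23
  have e13 : g.1 1 3 = g.1 0 2 + g.1 0 1 * θ (g.1 0 1) := by
    linear_combination C23 - (g.1 0 2 + g.1 0 1 * θ (g.1 0 1)) * h0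
  rw [e13, e11] at R02
  have e03 : g.1 0 3 = g.1 0 1 * g.1 0 2 + g.1 0 1 ^ 2 * θ (g.1 0 1) + θ (g.1 0 2) := by
    linear_combination - R02 - θ (g.1 0 2) * h0
  apply Units.ext
  ext i j
  rw [H.U_val, Umat_def]
  fin_cases i <;> fin_cases j
  · exact h00
  · rfl
  · rfl
  · exact e03
  · exact h1
  · exact e11
  · exact e12
  · exact e13
  · exact h2
  · exact e21
  · exact e22
  · exact e23
  · exact h3
  · exact e31
  · exact e32
  · exact e33

/-- the Suzuki-Tits ovoid equation for the first column -/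
theorem Good.ovoid_eq (H : Good F θ e) {g : GL (Fin 4) F} (hg : g ∈ Cfsg.Lie.Sz F e) :
    (g.1 0 0 * g.1 3 0 + g.1 1 0 * g.1 2 0) * θ (g.1 3 0) =
      θ (g.1 1 0) * (g.1 3 0) ^ 2 + θ (g.1 2 0) * (g.1 2 0) ^ 2 := by
  have h0 := H.two
  have hsp := (H.mem_Sz.1 hg).1
  have C : g.1 0 0 * g.1 3 1 + g.1 1 0 * g.1 2 1 + g.1 2 0 * g.1 1 1 + g.1 3 0 * g.1 0 1 = 0 := col_rel hsp 0 1
  have R0 : g.1 0 0 * g.1 1 1 - g.1 1 0 * g.1 0 1 = θ (g.1 0 0) := H.star_rel hg 0 0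
  have R1 : g.1 0 0 * g.1 2 1 - g.1 2 0 * g.1 0 1 = θ (g.1 1 0) := H.star_rel hg 1 0
  have R2 : g.1 1 0 * g.1 3 1 - g.1 3 0 * g.1 1 1 = θ (g.1 2 0) := H.star_rel hg 2 0
  have R3 : g.1 2 0 * g.1 3 1 - g.1 3 0 * g.1 2 1 = θ (g.1 3 0) := H.star_rel hg 3 0
  generalize g.1 0 0 = v0 at *
  generalize g.1 1 0 = v1 at *
  generalize g.1 2 0 = v2 at *
  generalize g.1 3 0 = v3 at *
  generalize g.1 0 1 = u0 at *
  generalize g.1 1 1 = u1 at *
  generalize g.1 2 1 = u2 at *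
  generalize g.1 3 1 = u3 at *
  -- `t = p03 = p12`
  obtain ⟨t, ht⟩ : ∃ t, t = v0 * u3 - v3 * u0 := ⟨_, rfl⟩
  have ht' : t = v1 * u2 - v2 * u1 := by
    rw [ht]
    linear_combination C - (v3 * u0 + v1 * u2) * h0
  have h3t : v3 * t = v1 * θ v3 + v2 * θ v2 := by
    rw [ht', ← R2, ← R3]
    linear_combination (v1 * v3 * u2 - v1 * v2 * u3) * h0
  have htt : t ^ 2 = θ (v0 * v3 + v1 * v2) := by
    rw [map_add, map_mul, map_mul, ← R0, ← R1, ← R2, ← R3]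
    have : t ^ 2 = (v0 * u3 - v3 * u0) * (v1 * u2 - v2 * u1) := by
      rw [← ht, ← ht']; ring
    rw [this]
    linear_combination (-(v0 * u1 - v1 * u0) * (v2 * u3 - v3 * u2)) * h0
  have ht2 : θ t = v0 * v3 + v1 * v2 := by
    have : (θ t) ^ 2 = (v0 * v3 + v1 * v2) ^ 2 := by
      rw [← map_pow, htt, H.sq]
    have h5 : (θ t - (v0 * v3 + v1 * v2)) ^ 2 = 0 := by
      linear_combination this + ((v0 * v3 + v1 * v2) ^ 2 - θ t * (v0 * v3 + v1 * v2)) * h0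
    exact sub_eq_zero.mp (pow_eq_zero_iff (two_ne_zero) |>.mp h5)
  have h4 := congrArg θ h3t
  rw [map_mul, map_add, map_mul, map_mul, H.sq, H.sq, ht2] at h4
  linear_combination h4

/-! ### Multiplication of the explicit elements -/

theorem Good.U_mul (H : Good F θ e) (a b c d : F) :
    H.U a b * H.U c d = H.U (a + c) (b + d + a * θ c) := by
  have h0 := H.two
  apply Units.ext
  rw [Units.val_mul, H.U_val, H.U_val, H.U_val, Umat_def, Umat_def, Umat_def]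
  ext i j
  fin_cases i <;> fin_cases j <;>
    simp [Matrix.mul_apply, Fin.sum_univ_four, map_add, map_mul, H.sq] <;>
    first
    | ring1
    | linear_combination (-(a * θ c)) * h0
    | linear_combination (-(a * c * θ c + a * c * θ a + c ^ 2 * θ a + a ^ 2 * θ c)) * h0

theorem Good.U_zero (H : Good F θ e) : H.U 0 0 = 1 := by
  apply Units.ext
  rw [H.U_val, Umat_def, Units.val_one]
  ext i j
  fin_cases i <;> fin_cases j <;> simp

theorem Good.U_inj (H : Good F θ e) {a b c d : F} (h : H.U a b = H.U c d) : a = c ∧ b = d := by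
  have h1 : (H.U a b).1 = (H.U c d).1 := congrArg _ h
  exact ⟨congrFun (congrFun h1 0) 1, congrFun (congrFun h1 0) 2⟩

theorem Good.U_inv (H : Good F θ e) (a b : F) : (H.U a b)⁻¹ = H.U a (b + a * θ a) := by
  rw [inv_eq_iff_mul_eq_one, H.U_mul, ← H.U_zero]
  congr 1
  · exact H.add_self a
  · linear_combination (b + a * θ a) * H.two

theorem Good.D_mul (H : Good F θ e) (k l : Fˣ) : H.D k * H.D l = H.D (k * l) := by
  apply Units.ext
  rw [Units.val_mul, H.D_val, H.D_val, H.D_val, Dmat_def, Dmat_def, Dmat_def]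
  have h1 := k.ne_zero
  have h2 := theta_ne_zero θ k
  have h3 := l.ne_zero
  have h4 := theta_ne_zero θ l
  ext i j
  fin_cases i <;> fin_cases j <;>
    simp [Matrix.mul_apply, Fin.sum_univ_four, map_mul] <;>
    field_simp

theorem Good.D_one (H : Good F θ e) : H.D 1 = 1 := by
  apply Units.ext
  rw [H.D_val, Dmat_def, Units.val_one]
  ext i j
  fin_cases i <;> fin_cases j <;> simp

theorem Good.D_inj (H : Good F θ e) {k l : Fˣ} (h : H.D k = H.D l) : k = l := by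
  have h1 : (H.D k).1 = (H.D l).1 := congrArg _ h
  exact Units.ext (congrFun (congrFun h1 0) 0)

theorem Good.D_inv (H : Good F θ e) (k : Fˣ) : (H.D k)⁻¹ = H.D k⁻¹ := by
  rw [inv_eq_iff_mul_eq_one, H.D_mul, mul_inv_cancel, H.D_one]

/-- `D k` normalises the unipotent group -/
theorem Good.D_mul_U (H : Good F θ e) (k : Fˣ) (a b : F) :
    H.D k * H.U a b = H.U (a * k ^ 2 * (θ k)⁻¹) (b * θ k) * H.D k := by
  apply Units.ext
  rw [Units.val_mul, Units.val_mul, H.D_val, H.U_val, H.U_val, Dmat_def, Umat_def, Umat_def]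
  have h1 := k.ne_zero
  have h2 := theta_ne_zero θ k
  ext i j
  fin_cases i <;> fin_cases j <;>
    simp [Matrix.mul_apply, Fin.sum_univ_four, map_mul, H.sq] <;>
    field_simp

theorem Good.W_mul_D (H : Good F θ e) (k : Fˣ) : W F * H.D k = H.D k⁻¹ * W F := by
  apply Units.ext
  rw [Units.val_mul, Units.val_mul, H.D_val, H.D_val, W_val, Dmat_def, Dmat_def]
  have h1 := k.ne_zero
  have h2 := theta_ne_zero θ k
  ext i j
  fin_cases i <;> fin_cases j <;>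
    simp [J, Matrix.mul_apply, Fin.sum_univ_four] <;>
    field_simp

/-! ### The Borel subgroup and the Bruhat decomposition -/

/-- first column of a product, when the second factor has first column a multiple of `e₀` -/
theorem mul_col_zero (g h : GL (Fin 4) F) (h1 : h.1 1 0 = 0) (h2 : h.1 2 0 = 0) (h3 : h.1 3 0 = 0) (i : Fin 4) :
    (g * h).1 i 0 = g.1 i 0 * h.1 0 0 := by
  rw [Units.val_mul, Matrix.mul_apply, Fin.sum_univ_four, h1, h2, h3]
  ring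

theorem Good.U_mul_D_apply (H : Good F θ e) (a b : F) (k : Fˣ) :
    (H.U a b * H.D k).1 0 0 = k ∧ (H.U a b * H.D k).1 1 0 = 0 ∧ (H.U a b * H.D k).1 2 0 = 0 ∧
      (H.U a b * H.D k).1 3 0 = 0 := by
  refine ⟨?_, ?_, ?_, ?_⟩ <;>
  · rw [mul_col_zero _ _ rfl rfl rfl, H.U_val, H.D_val, Umat_def, Dmat_def]
    simp

theorem Good.U_mul_D_inj (H : Good F θ e) {a b c d : F} {k l : Fˣ}
    (h : H.U a b * H.D k = H.U c d * H.D l) : a = c ∧ b = d ∧ k = l := by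
  have h1 : k = l := by
    apply Units.ext
    rw [← (H.U_mul_D_apply a b k).1, ← (H.U_mul_D_apply c d l).1, h]
  subst h1
  have h2 := mul_right_cancel h
  exact ⟨(H.U_inj h2).1, (H.U_inj h2).2, rfl⟩

/-- elements of `Sz` fixing the point spanned by `e₀` -/
theorem Good.eq_U_mul_D (H : Good F θ e) {g : GL (Fin 4) F} (hg : g ∈ Cfsg.Lie.Sz F e) (h3 : g.1 3 0 = 0) :
    ∃ (a b : F) (k : Fˣ), g = H.U a b * H.D k := by
  obtain ⟨h1, h2⟩ := H.col_zero hg h3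
  have hsp := (H.mem_Sz.1 hg).1
  have C3 : g.1 0 0 * g.1 3 3 + g.1 1 0 * g.1 2 3 + g.1 2 0 * g.1 1 3 + g.1 3 0 * g.1 0 3 = 1 := col_rel hsp 0 3
  rw [h1, h2, h3] at C3
  have h00 : g.1 0 0 ≠ 0 := by
    intro h
    rw [h] at C3
    simp at C3
  set k : Fˣ := Units.mk0 (g.1 0 0) h00 with hk
  have hg' : g * H.D k⁻¹ ∈ Cfsg.Lie.Sz F e := mul_mem hg (H.D_mem _)
  have e3 : (g * H.D k⁻¹).1 3 0 = 0 := by
    rw [mul_col_zero _ _ rfl rfl rfl, h3, zero_mul]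
  have e0 : (g * H.D k⁻¹).1 0 0 = 1 := by
    rw [mul_col_zero _ _ rfl rfl rfl, H.D_val, Dmat_def]
    simp [hk, h00]
  have e4 := H.eq_U hg' e3 e0
  refine ⟨(g * H.D k⁻¹).1 0 1, (g * H.D k⁻¹).1 0 2, k, ?_⟩
  rw [← e4, mul_assoc, H.D_mul, inv_mul_cancel, H.D_one, mul_one]

/-- Bruhat decomposition, main step -/
theorem Good.bruhat_step (H : Good F θ e) {g : GL (Fin 4) F} (hg : g ∈ Cfsg.Lie.Sz F e) (h3 : g.1 3 0 ≠ 0) :
    ∃ a b : F, (W F * (H.U a b)⁻¹ * g).1 3 0 = 0 := by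
  have h0 := H.two
  have hov := H.ovoid_eq hg
  have ht : θ (g.1 3 0) ≠ 0 := fun h => h3 ((map_eq_zero θ).mp h)
  refine ⟨g.1 2 0 / g.1 3 0, g.1 1 0 / g.1 3 0 + (g.1 2 0 / g.1 3 0) * θ (g.1 2 0 / g.1 3 0), ?_⟩
  rw [H.U_inv]
  have hb : g.1 1 0 / g.1 3 0 + (g.1 2 0 / g.1 3 0) * θ (g.1 2 0 / g.1 3 0) +
      (g.1 2 0 / g.1 3 0) * θ (g.1 2 0 / g.1 3 0) = g.1 1 0 / g.1 3 0 := by
    linear_combination ((g.1 2 0 / g.1 3 0) * θ (g.1 2 0 / g.1 3 0)) * h0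
  rw [hb]
  have key : ∀ x y : F, (W F * H.U x y * g).1 3 0 =
      g.1 0 0 + x * g.1 1 0 + y * g.1 2 0 + (x * y + x ^ 2 * θ x + θ y) * g.1 3 0 := by
    intro x y
    rw [Units.val_mul, Units.val_mul, W_val, H.U_val, Umat_def]
    simp [J, Matrix.mul_apply, Fin.sum_univ_four]
  rw [key, map_div₀, map_div₀]
  generalize g.1 0 0 = v0 at *
  generalize g.1 1 0 = v1 at *
  generalize g.1 2 0 = v2 at *
  generalize g.1 3 0 = v3 at *
  field_simp
  linear_combination hov + (v1 * v2 * θ v3 + v2 ^ 2 * θ v2 + v3 ^ 2 * θ v1) * h0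

/-- Bruhat decomposition -/
theorem Good.bruhat (H : Good F θ e) {g : GL (Fin 4) F} (hg : g ∈ Cfsg.Lie.Sz F e) :
    (∃ (a b : F) (k : Fˣ), g = H.U a b * H.D k) ∨
      ∃ (a b c d : F) (k : Fˣ), g = H.U a b * W F * (H.U c d * H.D k) := by
  by_cases h3 : g.1 3 0 = 0
  · exact Or.inl (H.eq_U_mul_D hg h3)
  · right
    obtain ⟨a, b, hab⟩ := H.bruhat_step hg h3
    have hmem : W F * (H.U a b)⁻¹ * g ∈ Cfsg.Lie.Sz F e :=
      mul_mem (mul_mem H.W_mem (inv_mem (H.U_mem a b))) hg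
    obtain ⟨c, d, k, hk⟩ := H.eq_U_mul_D hmem hab
    refine ⟨a, b, c, d, k, ?_⟩
    rw [← hk]
    calc g = H.U a b * (W F * W F) * (H.U a b)⁻¹ * g := by rw [W_mul_W]; group
      _ = _ := by simp only [mul_assoc]

/-! ### Subgroups of `Sz` -/

/-- the stabiliser of the point spanned by `e₀`, as a subgroup of `Sz` -/
def Good.borel (H : Good F θ e) : Subgroup ↥(Cfsg.Lie.Sz F e) where
  carrier := {g | g.1.1 3 0 = 0}
  mul_mem' := by
    intro g h hg hh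
    have hg : g.1.1 3 0 = 0 := hg
    have hh : h.1.1 3 0 = 0 := hh
    obtain ⟨h1, h2⟩ := H.col_zero h.2 hh
    show (g.1 * h.1).1 3 0 = 0
    rw [mul_col_zero _ _ h1 h2 hh, hg, zero_mul]
  one_mem' := by
    show ((1 : GL (Fin 4) F)).1 3 0 = 0
    rw [Units.val_one]
    simp
  inv_mem' := by
    intro g hg
    have hg : g.1.1 3 0 = 0 := hg
    obtain ⟨a, b, k, h⟩ := H.eq_U_mul_D g.2 hg
    show ((g.1)⁻¹).1 3 0 = 0
    rw [h, _root_.mul_inv_rev, H.D_inv, H.U_inv, H.D_mul_U]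
    exact (H.U_mul_D_apply _ _ _).2.2.2

theorem Good.mem_borel (H : Good F θ e) (g : ↥(Cfsg.Lie.Sz F e)) : g ∈ H.borel ↔ g.1.1 3 0 = 0 := Iff.rfl

theorem Good.mem_borel_iff (H : Good F θ e) (g : ↥(Cfsg.Lie.Sz F e)) :
    g ∈ H.borel ↔ ∃ (a b : F) (k : Fˣ), g.1 = H.U a b * H.D k := by
  rw [H.mem_borel]
  constructor
  · exact H.eq_U_mul_D g.2
  · rintro ⟨a, b, k, h⟩
    rw [h]
    exact (H.U_mul_D_apply _ _ _).2.2.2

/-- the unipotent subgroup, as a subgroup of `Sz` -/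
def Good.unip (H : Good F θ e) : Subgroup ↥(Cfsg.Lie.Sz F e) where
  carrier := {g | ∃ a b : F, g.1 = H.U a b}
  mul_mem' := by
    rintro g h ⟨a, b, hg⟩ ⟨c, d, hh⟩
    refine ⟨a + c, b + d + a * θ c, ?_⟩
    show g.1 * h.1 = _
    rw [hg, hh, H.U_mul]
  one_mem' := ⟨0, 0, by rw [H.U_zero]; rfl⟩
  inv_mem' := by
    rintro g ⟨a, b, hg⟩
    refine ⟨a, b + a * θ a, ?_⟩
    show (g.1)⁻¹ = _
    rw [hg, H.U_inv]

theorem Good.mem_unip (H : Good F θ e) (g : ↥(Cfsg.Lie.Sz F e)) : g ∈ H.unip ↔ ∃ a b : F, g.1 = H.U a b := Iff.rfl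

/-- the unipotent elements in `Sz` -/
def Good.u (H : Good F θ e) (a b : F) : ↥(Cfsg.Lie.Sz F e) := ⟨H.U a b, H.U_mem a b⟩

/-- the diagonal elements in `Sz` -/
def Good.d (H : Good F θ e) (k : Fˣ) : ↥(Cfsg.Lie.Sz F e) := ⟨H.D k, H.D_mem k⟩

/-- the antidiagonal element in `Sz` -/
def Good.w (H : Good F θ e) : ↥(Cfsg.Lie.Sz F e) := ⟨W F, H.W_mem⟩

theorem Good.u_val (H : Good F θ e) (a b : F) : (H.u a b).1 = H.U a b := rfl
theorem Good.d_val (H : Good F θ e) (k : Fˣ) : (H.d k).1 = H.D k := rfl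
theorem Good.w_val (H : Good F θ e) : (H.w).1 = W F := rfl

theorem Good.u_mul (H : Good F θ e) (a b c d : F) :
    H.u a b * H.u c d = H.u (a + c) (b + d + a * θ c) := Subtype.ext (H.U_mul a b c d)

theorem Good.u_zero (H : Good F θ e) : H.u 0 0 = 1 := Subtype.ext H.U_zero

theorem Good.u_inj (H : Good F θ e) {a b c d : F} (h : H.u a b = H.u c d) : a = c ∧ b = d :=
  H.U_inj (congrArg Subtype.val h)

theorem Good.u_inv (H : Good F θ e) (a b : F) : (H.u a b)⁻¹ = H.u a (b + a * θ a) :=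
  Subtype.ext (H.U_inv a b)

theorem Good.d_mul (H : Good F θ e) (k l : Fˣ) : H.d k * H.d l = H.d (k * l) := Subtype.ext (H.D_mul k l)

theorem Good.d_one (H : Good F θ e) : H.d 1 = 1 := Subtype.ext H.D_one

theorem Good.d_inj (H : Good F θ e) {k l : Fˣ} (h : H.d k = H.d l) : k = l :=
  H.D_inj (congrArg Subtype.val h)

theorem Good.d_inv (H : Good F θ e) (k : Fˣ) : (H.d k)⁻¹ = H.d k⁻¹ := Subtype.ext (H.D_inv k)

theorem Good.d_mul_u (H : Good F θ e) (k : Fˣ) (a b : F) :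
    H.d k * H.u a b = H.u (a * k ^ 2 * (θ k)⁻¹) (b * θ k) * H.d k := Subtype.ext (H.D_mul_U k a b)

theorem Good.w_mul_w (H : Good F θ e) : H.w * H.w = 1 := Subtype.ext W_mul_W

theorem Good.w_inv (H : Good F θ e) : (H.w)⁻¹ = H.w := inv_eq_of_mul_eq_one_right H.w_mul_w

theorem Good.w_mul_d (H : Good F θ e) (k : Fˣ) : H.w * H.d k = H.d k⁻¹ * H.w := Subtype.ext (H.W_mul_D k)

theorem Good.mem_unip_iff (H : Good F θ e) (g : ↥(Cfsg.Lie.Sz F e)) : g ∈ H.unip ↔ ∃ a b : F, g = H.u a b := by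
  rw [H.mem_unip]
  exact ⟨fun ⟨a, b, h⟩ => ⟨a, b, Subtype.ext h⟩, fun ⟨a, b, h⟩ => ⟨a, b, congrArg Subtype.val h⟩⟩

theorem Good.mem_borel_iff' (H : Good F θ e) (g : ↥(Cfsg.Lie.Sz F e)) :
    g ∈ H.borel ↔ ∃ (a b : F) (k : Fˣ), g = H.u a b * H.d k := by
  rw [H.mem_borel_iff]
  exact ⟨fun ⟨a, b, k, h⟩ => ⟨a, b, k, Subtype.ext h⟩, fun ⟨a, b, k, h⟩ => ⟨a, b, k, congrArg Subtype.val h⟩⟩

theorem Good.u_mem_unip (H : Good F θ e) (a b : F) : H.u a b ∈ H.unip := ⟨a, b, rfl⟩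

theorem Good.unip_le_borel (H : Good F θ e) : H.unip ≤ H.borel := by
  intro g hg
  obtain ⟨a, b, rfl⟩ := (H.mem_unip_iff g).1 hg
  exact (H.mem_borel_iff' _).2 ⟨a, b, 1, by rw [H.d_one, mul_one]⟩

theorem Good.u_mem_borel (H : Good F θ e) (a b : F) : H.u a b ∈ H.borel := H.unip_le_borel (H.u_mem_unip a b)

theorem Good.d_mem_borel (H : Good F θ e) (k : Fˣ) : H.d k ∈ H.borel :=
  (H.mem_borel_iff' _).2 ⟨0, 0, k, by rw [H.u_zero, one_mul]⟩

theorem Good.u_mul_d_inj (H : Good F θ e) {a b c d : F} {k l : Fˣ}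
    (h : H.u a b * H.d k = H.u c d * H.d l) : a = c ∧ b = d ∧ k = l :=
  H.U_mul_D_inj (congrArg Subtype.val h)

theorem Good.w_not_mem_borel (H : Good F θ e) : H.w ∉ H.borel := by
  rw [H.mem_borel, H.w_val, W_val]
  have : J F 3 0 = 1 := rfl
  rw [this]
  exact one_ne_zero

theorem Good.borel_normalizes (H : Good F θ e) (h : ↥(Cfsg.Lie.Sz F e)) (hh : h ∈ H.borel)
    (s : ↥(Cfsg.Lie.Sz F e)) (hs : s ∈ H.unip) : h * s * h⁻¹ ∈ H.unip := by
  obtain ⟨a, b, k, rfl⟩ := (H.mem_borel_iff' h).1 hh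
  obtain ⟨c, d, rfl⟩ := (H.mem_unip_iff s).1 hs
  have : H.u a b * H.d k * H.u c d * (H.u a b * H.d k)⁻¹ =
      H.u a b * H.u (c * k ^ 2 * (θ k)⁻¹) (d * θ k) * (H.u a b)⁻¹ := by
    rw [mul_assoc (H.u a b), H.d_mul_u, _root_.mul_inv_rev]
    group
  rw [this]
  exact mul_mem (mul_mem (H.u_mem_unip _ _) (H.u_mem_unip _ _)) (inv_mem (H.u_mem_unip _ _))

theorem Good.bruhat_sz (H : Good F θ e) (g : ↥(Cfsg.Lie.Sz F e)) (hg : g ∉ H.borel) :
    ∃ s ∈ H.unip, (s * H.w)⁻¹ * g ∈ H.borel := by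
  rw [H.mem_borel] at hg
  obtain ⟨a, b, h⟩ := H.bruhat_step g.2 hg
  refine ⟨H.u a b, H.u_mem_unip a b, ?_⟩
  rw [H.mem_borel, _root_.mul_inv_rev, H.w_inv]
  exact h

/-- `S ∩ w B w⁻¹ = 1` -/
theorem Good.inter_trivial (H : Good F θ e) (s : ↥(Cfsg.Lie.Sz F e)) (hs : s ∈ H.unip)
    (h : (H.w)⁻¹ * s * H.w ∈ H.borel) : s = 1 := by
  obtain ⟨a, b, rfl⟩ := (H.mem_unip_iff s).1 hs
  rw [H.w_inv] at h
  have h3 : (W F * H.U a b * W F).1 3 0 = 0 := h
  obtain ⟨h1, h2⟩ := H.col_zero (H.w * H.u a b * H.w).2 h3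
  have h2 : (W F * H.U a b * W F).1 2 0 = 0 := h2
  have h1 : (W F * H.U a b * W F).1 1 0 = 0 := h1
  rw [Units.val_mul, Units.val_mul, W_val, H.U_val, Umat_def] at h1 h2 h3
  simp [J, Matrix.mul_apply, Fin.sum_univ_four] at h1 h2 h3
  subst h1
  have hb : b = 0 := by simpa using h2
  subst hb
  exact H.u_zero

/-- the unipotent group is parametrised by `F × F` -/
noncomputable def Good.unipEquiv (H : Good F θ e) : F × F ≃ H.unip :=
  Equiv.ofBijective (fun p => ⟨H.u p.1 p.2, H.u_mem_unip p.1 p.2⟩) (by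
    constructor
    · rintro ⟨a, b⟩ ⟨c, d⟩ h
      have := H.u_inj (congrArg Subtype.val h)
      exact Prod.ext this.1 this.2
    · rintro ⟨g, hg⟩
      obtain ⟨a, b, rfl⟩ := (H.mem_unip_iff g).1 hg
      exact ⟨(a, b), rfl⟩)

/-- the Borel subgroup is parametrised by `F × F × Fˣ` -/
noncomputable def Good.borelEquiv (H : Good F θ e) : F × F × Fˣ ≃ H.borel :=
  Equiv.ofBijective (fun p => ⟨H.u p.1 p.2.1 * H.d p.2.2, (H.mem_borel_iff' _).2 ⟨_, _, _, rfl⟩⟩) (by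
    constructor
    · rintro ⟨a, b, k⟩ ⟨c, d, l⟩ h
      obtain ⟨h1, h2, h3⟩ := H.u_mul_d_inj (congrArg Subtype.val h)
      exact Prod.ext h1 (Prod.ext h2 h3)
    · rintro ⟨g, hg⟩
      obtain ⟨a, b, k, rfl⟩ := (H.mem_borel_iff' g).1 hg
      exact ⟨(a, b, k), rfl⟩)

theorem Good.card_unip [Finite F] (H : Good F θ e) : Nat.card H.unip = Nat.card F ^ 2 := by
  rw [← Nat.card_congr H.unipEquiv, Nat.card_prod, _root_.sq]

theorem Good.card_borel [Finite F] (H : Good F θ e) :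
    Nat.card H.borel = Nat.card F ^ 2 * (Nat.card F - 1) := by
  rw [← Nat.card_congr H.borelEquiv, Nat.card_prod, Nat.card_prod, Nat.card_units, _root_.sq, mul_assoc]

/-! ### The field with `2 ^ (2m+1)` elements -/

section field

variable [Fintype F] {m : ℕ}

theorem two_eq_zero (hF : Fintype.card F = 2 ^ (2 * m + 1)) : (2 : F) = 0 := by
  have h1 : ((Fintype.card F : ℕ) : F) = 0 := FiniteField.cast_card_eq_zero F
  rw [hF] at h1
  push_cast at h1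
  exact pow_eq_zero_iff (by omega) |>.mp h1

theorem charP_two (hF : Fintype.card F = 2 ^ (2 * m + 1)) : CharP F 2 :=
  CharTwo.of_one_ne_zero_of_two_eq_zero one_ne_zero (two_eq_zero hF)

/-- the endomorphism `x ↦ x ^ (2 ^ (m+1))` -/
def theta (hF : Fintype.card F = 2 ^ (2 * m + 1)) : F →+* F :=
  haveI := charP_two hF
  iterateFrobenius F 2 (m + 1)

theorem theta_apply (hF : Fintype.card F = 2 ^ (2 * m + 1)) (x : F) : theta hF x = x ^ (2 ^ (m + 1)) := by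
  have := charP_two hF
  exact iterateFrobenius_def 2 (m + 1) x

theorem good (hF : Fintype.card F = 2 ^ (2 * m + 1)) : Good F (theta hF) (2 ^ (m + 1)) where
  two := two_eq_zero hF
  pow x := (theta_apply hF x).symm
  sq x := by
    rw [theta_apply, theta_apply, ← pow_mul, ← pow_add]
    have h1 : m + 1 + (m + 1) = (2 * m + 1) + 1 := by ring
    rw [h1, pow_succ 2 (2 * m + 1), ← hF, pow_mul, FiniteField.pow_card]

end field

end Cfsg.Agent.LieRecognition.SzMatrix
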