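import Mathlib

set_option autoImplicit false

namespace Cfsg.Agent.LieRecognition.HalfTransitive

open Finset

/-- The partial norm `∑_{i<p} x^i • v`. -/
def nrm {P E : Type*} [Group P] [AddCommGroup E] [DistribMulAction P E] (p : ℕ) (x : P) (v : E) : E :=
  ∑ i ∈ range p, x ^ i • v

theorem nrm_def {P E : Type*} [Group P] [AddCommGroup E] [DistribMulAction P E] (p : ℕ) (x : P) (v : E) :
    nrm p x v = ∑ i ∈ range p, x ^ i • v := rfl

section

variable {P E : Type*} [Group P] [AddCommGroup E] [DistribMulAction P E] {p : ℕ}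

theorem nrm_add (x : P) (v w : E) : nrm p x (v + w) = nrm p x v + nrm p x w := by
  simp only [nrm_def, smul_add, sum_add_distrib]

theorem nrm_sub (x : P) (v w : E) : nrm p x (v - w) = nrm p x v - nrm p x w := by
  simp only [nrm_def, smul_sub, sum_sub_distrib]

theorem nrm_nsmul (x : P) (n : ℕ) (v : E) : nrm p x (n • v) = n • nrm p x v := by
  simp only [nrm_def, smul_sum]
  exact sum_congr rfl fun i _ => smul_comm _ _ _

theorem smul_nrm {x : P} (hx : x ^ p = 1) (v : E) : x • nrm p x v = nrm p x v := by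
  simp only [nrm_def, smul_sum, smul_smul, ← pow_succ']
  have h := sum_range_succ' (fun i => x ^ i • v) p
  rw [sum_range_succ] at h
  rw [hx, pow_zero] at h
  exact (add_right_cancel h).symm

theorem nrm_of_fixed {x : P} {v : E} (h : x • v = v) : nrm p x v = p • v := by
  have : ∀ i : ℕ, x ^ i • v = v := by
    intro i
    induction i with
    | zero => simp
    | succ n ih => rw [pow_succ, mul_smul, h, ih]
  simp [nrm_def, this]

theorem nrm_smul (g x : P) (v : E) : g • nrm p x v = nrm p (g * x * g⁻¹) (g • v) := by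
  simp only [nrm_def, smul_sum, smul_smul, conj_pow]
  exact sum_congr rfl fun i _ => by simp

theorem nrm_smul_of_commute {x y : P} (h : Commute y x) (v : E) :
    nrm p x (y • v) = y • nrm p x v := by
  rw [nrm_smul, h.eq, mul_inv_cancel_right]

theorem nrm_nrm_of_commute {x y : P} (h : Commute y x) (v : E) :
    nrm p y (nrm p x v) = nrm p x (nrm p y v) := by
  simp only [nrm_def, smul_sum, smul_smul]
  rw [sum_comm]
  refine sum_congr rfl fun i _ => sum_congr rfl fun j _ => ?_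
  rw [((h.pow_pow j i).eq)]

theorem nrm_sub_self {x : P} (hx : x ^ p = 1) (v : E) : nrm p x (x • v - v) = 0 := by
  rw [nrm_sub, nrm_smul_of_commute (Commute.refl x), smul_nrm hx, sub_self]

/-- the partition formula for an elementary abelian group of order `p ^ 2` -/
theorem sum_nrm {x y : P} (h : Commute x y) (hy : y ^ p = 1) (hp : p.Prime) (v : E) :
    ∑ j ∈ range p, nrm p (x * y ^ j) v = p • v + (nrm p x (nrm p y v) - nrm p y v) := by
  have key : ∀ i ∈ (range p), i ≠ 0 → ∑ j ∈ range p, (y ^ j) ^ i • v = nrm p y v := by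
    intro i hi hi0
    have hip : i.Coprime p := by
      refine (Nat.Coprime.symm ((hp.coprime_iff_not_dvd).2 fun hd => ?_))
      exact absurd (Nat.le_of_dvd (Nat.pos_of_ne_zero hi0) hd) (not_le.2 (mem_range.1 hi))
    rw [nrm_def]
    have hpp : 0 < p := hp.pos
    refine sum_nbij' (fun j => (j * i) % p) (fun j => (j * (i : ZMod p)⁻¹.val) % p) ?_ ?_ ?_ ?_ ?_
    · intro j _; exact mem_range.2 (Nat.mod_lt _ hpp)
    · intro j _; exact mem_range.2 (Nat.mod_lt _ hpp)
    · intro j hj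
      have : Fact p.Prime := ⟨hp⟩
      have hi' : (i : ZMod p) ≠ 0 := by
        rw [Ne, ZMod.natCast_eq_zero_iff]
        exact (hp.coprime_iff_not_dvd).1 hip.symm
      have : (((j * i) % p * (i : ZMod p)⁻¹.val : ℕ) : ZMod p) = (j : ZMod p) := by
        push_cast
        rw [ZMod.natCast_mod, ZMod.natCast_val, ZMod.cast_id]
        push_cast
        rw [mul_assoc, mul_inv_cancel₀ hi', mul_one]
      rw [ZMod.natCast_eq_natCast_iff] at this
      show ((j * i) % p * (i : ZMod p)⁻¹.val) % p = j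
      rw [this, Nat.mod_eq_of_lt (mem_range.1 hj)]
    · intro j hj
      have : Fact p.Prime := ⟨hp⟩
      have hi' : (i : ZMod p) ≠ 0 := by
        rw [Ne, ZMod.natCast_eq_zero_iff]
        exact (hp.coprime_iff_not_dvd).1 hip.symm
      have : (((j * (i : ZMod p)⁻¹.val) % p * i : ℕ) : ZMod p) = (j : ZMod p) := by
        push_cast
        rw [ZMod.natCast_mod]
        push_cast
        rw [ZMod.natCast_val, ZMod.cast_id, mul_assoc, inv_mul_cancel₀ hi', mul_one]
      rw [ZMod.natCast_eq_natCast_iff] at this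
      show (((j * (i : ZMod p)⁻¹.val) % p) * i) % p = j
      rw [this, Nat.mod_eq_of_lt (mem_range.1 hj)]
    · intro j _
      show (y ^ j) ^ i • v = y ^ ((j * i) % p) • v
      rw [← pow_mul, pow_eq_pow_mod (j * i) hy]
  have h1 : ∀ i j : ℕ, (x * y ^ j) ^ i • v = x ^ i • ((y ^ j) ^ i • v) := by
    intro i j
    rw [(h.pow_right j).mul_pow, mul_smul]
  have h2 : ∀ i ∈ range p, ∑ j ∈ range p, (x * y ^ j) ^ i • v =
      (if i = 0 then (p • v - nrm p y v) else 0) + x ^ i • nrm p y v := by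
    intro i hi
    simp only [h1, ← smul_sum]
    by_cases hi0 : i = 0
    · subst hi0
      simp
    · rw [key i hi hi0, if_neg hi0, zero_add]
  simp only [nrm_def p (x * y ^ _)]
  rw [sum_comm, sum_congr rfl h2, sum_add_distrib, ← nrm_def p x, sum_ite_eq' (range p) 0,
    if_pos (mem_range.2 hp.pos)]
  abel

/-- If `z` has order dividing `p`, kills `a` by its norm, then so does every non-trivial power of `z`. -/
theorem nrm_zpow_eq_zero (hp : p.Prime) (hinv : ∀ v : E, p • v = 0 → v = 0) {z : P} (hz : z ^ p = 1)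
    {a : E} (ha : nrm p z a = 0) {j : ℤ} (hj : ¬ (p : ℤ) ∣ j) : nrm p (z ^ j) a = 0 := by
  have hc : IsCoprime j (p : ℤ) := by
    rw [Int.isCoprime_iff_gcd_eq_one, Int.gcd_comm, ← Int.isCoprime_iff_gcd_eq_one]
    exact ((Nat.prime_iff_prime_int.1 hp).coprime_iff_not_dvd).2 hj
  obtain ⟨m, l, hml⟩ := hc
  have hzj : (z ^ j) ^ p = 1 := by
    rw [← zpow_natCast, ← zpow_mul, mul_comm, zpow_mul, zpow_natCast, hz, one_zpow]
  have hfix : z ^ j • nrm p (z ^ j) a = nrm p (z ^ j) a := smul_nrm hzj a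
  have hz' : z = (z ^ j) ^ m := by
    have h1 : z ^ (m * j + l * (p : ℤ)) = z := by rw [hml, zpow_one]
    rw [zpow_add, zpow_mul z l, zpow_natCast, ← zpow_natCast, zpow_comm, zpow_natCast, hz, one_zpow,
      mul_one] at h1
    rw [← zpow_mul, mul_comm, h1]
  have hfix' : z • nrm p (z ^ j) a = nrm p (z ^ j) a := by
    have : ∀ m : ℤ, (z ^ j) ^ m • nrm p (z ^ j) a = nrm p (z ^ j) a := fun m =>
      (zpow_mem (MulAction.mem_stabilizer_iff.2 hfix) m)
    conv_lhs => rw [hz']
    have h2 := this m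
    rw [← hz'] at h2 ⊢
    exact h2
  apply hinv
  rw [← nrm_of_fixed hfix', nrm_nrm_of_commute ((Commute.refl z).zpow_right j), ha]
  simp [nrm_def]

theorem nrm_mul_of_fixed {x y : P} (h : Commute x y) {a : E} (ha : y • a = a) (k : ℤ) :
    nrm p (x * y ^ k) a = nrm p x a := by
  have h1 : ∀ i : ℕ, (y ^ k) ^ i • a = a := fun i => by
    rw [← zpow_natCast, ← zpow_mul]
    exact zpow_mem (MulAction.mem_stabilizer_iff.2 ha) _
  simp only [nrm_def]
  refine sum_congr rfl fun i _ => ?_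
  rw [(h.zpow_right k).mul_pow, mul_smul, h1]

/-- `x, y` is a basis of an elementary abelian group of order `p ^ 2`. -/
structure IsBasis (p : ℕ) (x y : P) : Prop where
  comm : Commute x y
  powx : x ^ p = 1
  powy : y ^ p = 1
  indep : ∀ i j : ℤ, x ^ i * y ^ j = 1 → (p : ℤ) ∣ i ∧ (p : ℤ) ∣ j

theorem IsBasis.symm {x y : P} (h : IsBasis p x y) : IsBasis p y x :=
  ⟨h.comm.symm, h.powy, h.powx, fun i j hij =>
    (h.indep j i ((h.comm.zpow_zpow j i).eq.trans hij)).symm⟩

theorem IsBasis.mul {x y : P} (h : IsBasis p x y) (j : ℕ) : IsBasis p (x * y ^ j) y := by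
  refine ⟨h.comm.mul_left ((Commute.refl y).pow_left j), ?_, h.powy, fun i k hik => ?_⟩
  · rw [(h.comm.pow_right j).mul_pow, h.powx, one_mul, ← pow_mul, mul_comm, pow_mul, h.powy, one_pow]
  · rw [(h.comm.pow_right j).mul_zpow, mul_assoc, ← zpow_natCast, ← zpow_mul, ← zpow_add] at hik
    obtain ⟨h1, h2⟩ := h.indep _ _ hik
    exact ⟨h1, (dvd_add_right (dvd_mul_of_dvd_right h1 _)).1 h2⟩

theorem IsBasis.right_ne_one (hp : p.Prime) {x y : P} (h : IsBasis p x y) : y ≠ 1 := by
  intro hy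
  have := (h.indep 0 1 (by simp [hy])).2
  exact hp.one_lt.ne' (Nat.dvd_one.1 (by exact_mod_cast this))

theorem IsBasis.left_ne_one (hp : p.Prime) {x y : P} (h : IsBasis p x y) : x ≠ 1 :=
  h.symm.right_ne_one hp

theorem exists_fixed [FaithfulSMul P E] (hp : p.Prime) (hinv : ∀ v : E, p • v = 0 → v = 0) {x y : P}
    (h : IsBasis p x y) : ∃ (j : ℕ) (a : E), a ≠ 0 ∧ (x * y ^ j) • a = a ∧ nrm p y a = 0 := by
  have hy : y ≠ 1 := h.right_ne_one hp
  obtain ⟨v, hv⟩ : ∃ v : E, y • v ≠ v := by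
    by_contra hcon
    push Not at hcon
    exact hy (FaithfulSMul.eq_of_smul_eq_smul (fun a : E => by rw [hcon, one_smul]))
  have hv0 : y • v - v ≠ 0 := sub_ne_zero.2 hv
  have hn : nrm p y (y • v - v) = 0 := nrm_sub_self h.powy v
  have hsum := sum_nrm (E := E) h.comm h.powy hp (y • v - v)
  rw [hn] at hsum
  have hz : nrm p x (0 : E) = 0 := by simp [nrm_def]
  rw [hz, sub_zero, add_zero] at hsum
  have hne : ∑ j ∈ range p, nrm p (x * y ^ j) (y • v - v) ≠ 0 := by
    rw [hsum]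
    exact fun hc => hv0 (hinv _ hc)
  obtain ⟨j, -, hj⟩ := exists_ne_zero_of_sum_ne_zero hne
  refine ⟨j, _, hj, smul_nrm (h.mul j).powx _, ?_⟩
  rw [nrm_nrm_of_commute (h.mul j).comm.symm, hn]
  simp [nrm_def]

/-- the key: the stabiliser of a suitable sum -/
theorem smul_eq_or (hp : p.Prime) (hinv : ∀ v : E, p • v = 0 → v = 0) {z w : P} (h : IsBasis p z w)
    {a b : E} (ha0 : a ≠ 0) (ha : z • a = a) (ha' : nrm p w a = 0) (hb : w • b = b)
    (hb' : nrm p z b = 0) {g : P} (hg : ∃ i j : ℤ, g * z * g⁻¹ = z ^ i * w ^ j)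
    (hgab : g • (a + b) = a + b) : g • a = a ∨ g • a = b := by
  obtain ⟨i, j, hij⟩ := hg
  have h1 : nrm p (g * z * g⁻¹) (g • (a + b)) = p • (g • a) := by
    rw [← nrm_smul, nrm_add, hb', add_zero, nrm_of_fixed ha, smul_comm]
  have hone : ∀ v : E, nrm p (1 : P) v = p • v := fun v => nrm_of_fixed (one_smul _ _)
  have h2 : nrm p (g * z * g⁻¹) a = nrm p (w ^ j) a := by
    rw [hij, (h.comm.zpow_zpow i j).eq]
    exact nrm_mul_of_fixed (h.comm.symm.zpow_left j) ha i
  have h3 : nrm p (g * z * g⁻¹) b = nrm p (z ^ i) b := by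
    rw [hij]
    exact nrm_mul_of_fixed (h.comm.zpow_left i) hb j
  have hpz : ∀ {x : P}, x ^ p = 1 → ∀ {k : ℤ}, (p : ℤ) ∣ k → x ^ k = 1 := by
    intro x hx k hk
    obtain ⟨l, rfl⟩ := hk
    rw [zpow_mul, zpow_natCast, hx, one_zpow]
  have hga0 : g • a ≠ 0 := fun hc => ha0 (by simpa using congrArg (fun v => g⁻¹ • v) hc)
  have hsub : ∀ {u v : E}, p • u = p • v → u = v := by
    intro u v huv
    exact sub_eq_zero.1 (hinv _ (by rw [smul_sub, huv, sub_self]))
  rw [hgab, nrm_add, h2, h3] at h1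
  by_cases hj : (p : ℤ) ∣ j
  · by_cases hi : (p : ℤ) ∣ i
    · exfalso
      rw [hpz h.powx hi, hpz h.powy hj, one_mul] at hij
      exact h.left_ne_one hp (by simpa using hij)
    · rw [nrm_zpow_eq_zero hp hinv h.powx hb' hi, add_zero, hpz h.powy hj, hone] at h1
      exact Or.inl (hsub h1.symm)
  · rw [nrm_zpow_eq_zero hp hinv h.powy ha' hj, zero_add] at h1
    by_cases hi : (p : ℤ) ∣ i
    · rw [hpz h.powx hi, hone] at h1
      exact Or.inr (hsub h1.symm)
    · exfalso
      rw [nrm_zpow_eq_zero hp hinv h.powx hb' hi] at h1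
      exact hga0 (hinv _ h1.symm)

theorem false_of_basis [Finite P] [Finite E] [FaithfulSMul P E] (hp : p.Prime) (hp2 : p ≠ 2)
    (hP : IsPGroup p P) (hinv : ∀ v : E, p • v = 0 → v = 0)
    (hconst : ∀ a b : E, a ≠ 0 → b ≠ 0 →
      Nat.card (MulAction.stabilizer P a) = Nat.card (MulAction.stabilizer P b))
    {A : Subgroup P} (hA : A.Normal) {x y : P} (h : IsBasis p x y) (hx : x ∈ A) (hy : y ∈ A)
    (hgen : ∀ {z w : P}, z ∈ A → w ∈ A → IsBasis p z w → ∀ a ∈ A, ∃ i j : ℤ, a = z ^ i * w ^ j) :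
    False := by
  obtain ⟨j, a, ha0, ha, ha'⟩ := exists_fixed (E := E) hp hinv h
  have h' : IsBasis p y (x * y ^ j) := (h.mul j).symm
  set z : P := x * y ^ j with hz
  have hzA : z ∈ A := A.mul_mem hx (A.pow_mem hy j)
  obtain ⟨k, b, hb0, hb, hb'⟩ := exists_fixed (E := E) hp hinv h'
  have h'' : IsBasis p z (y * z ^ k) := (h'.mul k).symm
  have hwa : nrm p (y * z ^ k) a = 0 := by
    rw [← ha', ← zpow_natCast z k]
    exact nrm_mul_of_fixed h'.comm ha k
  set w : P := y * z ^ k with hw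
  have hwA : w ∈ A := A.mul_mem hy (A.pow_mem hzA k)
  have hab : a ≠ b := by
    rintro rfl
    exact ha0 (hinv _ (by rw [← nrm_of_fixed ha, hb']))
  have hodd : Odd (Nat.card P) := by
    have : Fact p.Prime := ⟨hp⟩
    obtain ⟨n, hn⟩ := IsPGroup.iff_card.1 hP
    rw [hn]
    exact (hp.odd_of_ne_two hp2).pow
  have key : ∀ g : P, g • (a + b) = a + b → g • a = a ∧ g • b = b := by
    intro g hg
    have hga : g • a = a := by
      rcases smul_eq_or hp hinv h'' ha0 ha hwa hb hb'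
        (hgen hzA hwA h'' _ (hA.conj_mem z hzA g)) hg with h1 | h1
      · exact h1
      · exfalso
        have h2 : g • b = a := by
          rw [smul_add, h1, add_comm] at hg
          exact add_right_cancel hg
        have h3 : (g ^ 2) • a = a := by rw [pow_two, mul_smul, h1, h2]
        obtain ⟨m, hm⟩ := hodd
        have h4 : g = (g ^ 2) ^ (m + 1) := by
          rw [← pow_mul, show 2 * (m + 1) = Nat.card P + 1 by omega, pow_succ, pow_card_eq_one',
            one_mul]
        have h5 : g • a = a := by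
          rw [h4]
          exact Subgroup.pow_mem _ (MulAction.mem_stabilizer_iff.2 h3) _
        exact hab (h5.symm.trans h1)
    refine ⟨hga, ?_⟩
    rw [smul_add, hga] at hg
    exact add_left_cancel hg
  have hab0 : a + b ≠ 0 := by
    intro hc
    have h1 : nrm p z (a + b) = p • a := by rw [nrm_add, hb', add_zero, nrm_of_fixed ha]
    rw [hc] at h1
    exact ha0 (hinv _ (by rw [← h1]; simp [nrm_def]))
  have hle : MulAction.stabilizer P (a + b) ≤ MulAction.stabilizer P b := fun g hg =>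
    MulAction.mem_stabilizer_iff.2 (key g (MulAction.mem_stabilizer_iff.1 hg)).2
  have hle' : MulAction.stabilizer P (a + b) ≤ MulAction.stabilizer P a := fun g hg =>
    MulAction.mem_stabilizer_iff.2 (key g (MulAction.mem_stabilizer_iff.1 hg)).1
  have e1 : MulAction.stabilizer P (a + b) = MulAction.stabilizer P b :=
    Subgroup.eq_of_le_of_card_ge hle (hconst _ _ hb0 hab0).le
  have e2 : MulAction.stabilizer P (a + b) = MulAction.stabilizer P a :=
    Subgroup.eq_of_le_of_card_ge hle' (hconst _ _ ha0 hab0).le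
  have hzb : z ∈ MulAction.stabilizer P b := by
    rw [← e1, e2]
    exact MulAction.mem_stabilizer_iff.2 ha
  exact hb0 (hinv _ (by rw [← nrm_of_fixed (MulAction.mem_stabilizer_iff.1 hzb), hb']))

end

section

variable {P : Type*} [Group P] {p : ℕ}

theorem IsBasis.generates [Finite P] {A : Subgroup P} (hcard : Nat.card A = p ^ 2)
    {z w : P} (h : IsBasis p z w) (hz : z ∈ A) (hw : w ∈ A) :
    ∀ a ∈ A, ∃ i j : ℤ, a = z ^ i * w ^ j := by
  let f : Fin p × Fin p → A := fun ij => ⟨z ^ (ij.1 : ℕ) * w ^ (ij.2 : ℕ),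
    A.mul_mem (A.pow_mem hz _) (A.pow_mem hw _)⟩
  have hdvd : ∀ i j : Fin p, (p : ℤ) ∣ (i : ℕ) - (j : ℕ) → i = j := by
    intro i j hij
    have h1 := i.2
    have h2 := j.2
    have h3 := Int.eq_zero_of_abs_lt_dvd hij (by rw [abs_lt]; omega)
    exact Fin.ext (by omega)
  have hinj : Function.Injective f := by
    rintro ⟨i, j⟩ ⟨i', j'⟩ hij
    have h1 : z ^ (i : ℕ) * w ^ (j : ℕ) = z ^ (i' : ℕ) * w ^ (j' : ℕ) := congrArg Subtype.val hij
    have h2 : z ^ ((i : ℕ) - (i' : ℕ) : ℤ) * w ^ ((j : ℕ) - (j' : ℕ) : ℤ) = 1 := by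
      rw [zpow_sub, zpow_sub, zpow_natCast, zpow_natCast, zpow_natCast, zpow_natCast]
      have c1 : (z ^ (i' : ℕ))⁻¹ * w ^ (j : ℕ) = w ^ (j : ℕ) * (z ^ (i' : ℕ))⁻¹ :=
        (h.comm.pow_pow i' j).inv_left.eq
      have c2 : w ^ (j' : ℕ) * z ^ (i' : ℕ) = z ^ (i' : ℕ) * w ^ (j' : ℕ) :=
        (h.comm.symm.pow_pow j' i').eq
      calc z ^ (i : ℕ) * (z ^ (i' : ℕ))⁻¹ * (w ^ (j : ℕ) * (w ^ (j' : ℕ))⁻¹)
          = z ^ (i : ℕ) * ((z ^ (i' : ℕ))⁻¹ * w ^ (j : ℕ)) * (w ^ (j' : ℕ))⁻¹ := by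
            simp only [mul_assoc]
        _ = (z ^ (i : ℕ) * w ^ (j : ℕ)) * (w ^ (j' : ℕ) * z ^ (i' : ℕ))⁻¹ := by
            rw [c1, mul_inv_rev]
            simp only [mul_assoc]
        _ = 1 := by rw [h1, c2, mul_inv_cancel]
    obtain ⟨h3, h4⟩ := h.indep _ _ h2
    rw [hdvd _ _ h3, hdvd _ _ h4]
  have hcard' : Nat.card (Fin p × Fin p) = Nat.card A := by
    rw [hcard, Nat.card_prod, Nat.card_fin, pow_two]
  have hsurj : Function.Surjective f :=
    ((Nat.bijective_iff_injective_and_card f).2 ⟨hinj, hcard'⟩).2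
  intro a ha
  obtain ⟨⟨i, j⟩, hij⟩ := hsurj ⟨a, ha⟩
  refine ⟨(i : ℕ), (j : ℕ), ?_⟩
  rw [zpow_natCast, zpow_natCast]
  exact (congrArg Subtype.val hij).symm

theorem exists_basis [Finite P] (hp : p.Prime) {A : Subgroup P} (hcard : Nat.card A = p ^ 2)
    (hcomm : IsMulCommutative A) (hexp : ∀ a ∈ A, a ^ p = 1) :
    ∃ x y : P, x ∈ A ∧ y ∈ A ∧ IsBasis p x y := by
  have hA1 : A ≠ ⊥ := by
    rintro rfl
    rw [Subgroup.card_bot] at hcard
    exact (Nat.one_lt_pow two_ne_zero hp.one_lt).ne hcard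
  obtain ⟨x, hx, hx1⟩ := (Subgroup.bot_or_exists_ne_one A).resolve_left hA1
  have hfp : Fact p.Prime := ⟨hp⟩
  have hox : orderOf x = p := orderOf_eq_prime (hexp x hx) hx1
  have hlt : ¬ A ≤ Subgroup.zpowers x := by
    intro hle
    have h1 := Subgroup.card_le_of_le hle
    rw [hcard, Nat.card_zpowers, hox] at h1
    have h2 : p ^ 1 < p ^ 2 := Nat.pow_lt_pow_right hp.one_lt (by norm_num)
    rw [pow_one] at h2
    omega
  obtain ⟨y, hy, hyx⟩ := SetLike.not_le_iff_exists.1 hlt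
  refine ⟨x, y, hx, hy, ?_, hexp x hx, hexp y hy, fun i j hij => ?_⟩
  · exact congrArg Subtype.val (hcomm.is_comm.comm ⟨x, hx⟩ ⟨y, hy⟩)
  · have hpj : (p : ℤ) ∣ j := by
      by_contra hj
      have hc : IsCoprime j (p : ℤ) := by
        rw [Int.isCoprime_iff_gcd_eq_one, Int.gcd_comm, ← Int.isCoprime_iff_gcd_eq_one]
        exact ((Nat.prime_iff_prime_int.1 hp).coprime_iff_not_dvd).2 hj
      obtain ⟨m, l, hml⟩ := hc
      apply hyx
      have h1 : y ^ (m * j + l * (p : ℤ)) = y := by rw [hml, zpow_one]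
      have h2 : y ^ (l * (p : ℤ)) = 1 := by
        rw [mul_comm, zpow_mul, zpow_natCast, hexp y hy, one_zpow]
      have h3 : y ^ j ∈ Subgroup.zpowers x := by
        have : y ^ j = (x ^ i)⁻¹ := (inv_eq_of_mul_eq_one_right hij).symm
        rw [this]
        exact Subgroup.inv_mem _ (Subgroup.zpow_mem_zpowers x i)
      rw [← h1, zpow_add, h2, mul_one, mul_comm, zpow_mul]
      exact Subgroup.zpow_mem _ h3 m
    refine ⟨?_, hpj⟩
    obtain ⟨l, rfl⟩ := hpj
    rw [zpow_mul, zpow_natCast, hexp y hy, one_zpow, mul_one] at hij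
    rw [← hox]
    exact orderOf_dvd_iff_zpow_eq_one.2 hij

theorem pow_natCard_of_mem {K : Subgroup P} {x : P} (hx : x ∈ K) : x ^ Nat.card K = 1 :=
  congrArg Subtype.val (pow_card_eq_one' (x := (⟨x, hx⟩ : K)))

theorem mem_of_card_eq_of_isCyclic [Finite P] [IsCyclic P] {H K : Subgroup P}
    (h : Nat.card H = Nat.card K) : H ≤ K := by
  classical
  have := Fintype.ofFinite P
  intro g hg
  have hn : 0 < Nat.card K := Nat.card_pos
  have h1 := IsCyclic.card_pow_eq_one_le (α := P) hn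
  have h2 : (Finset.univ.filter fun x : P => x ∈ K) ⊆
      (Finset.univ.filter fun x : P => x ^ Nat.card K = 1) := by
    intro x hx
    rw [Finset.mem_filter] at hx ⊢
    exact ⟨Finset.mem_univ _, pow_natCard_of_mem hx.2⟩
  have h3 : (Finset.univ.filter fun x : P => x ∈ K).card = Nat.card K := by
    rw [Nat.card_eq_fintype_card, Fintype.card_subtype]
  have h4 := Finset.eq_of_subset_of_card_le h2 (by rw [h3]; exact h1)
  have h5 : g ∈ (Finset.univ.filter fun x : P => x ^ Nat.card K = 1) := by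
    rw [Finset.mem_filter]
    refine ⟨Finset.mem_univ _, ?_⟩
    rw [← h]
    exact pow_natCard_of_mem hg
  rw [← h4, Finset.mem_filter] at h5
  exact h5.2

end

end Cfsg.Agent.LieRecognition.HalfTransitive
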