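import Cfsg.Agent.LieRecognition.HigmanSecond

/-!
Higman's theorem on Suzuki 2-groups, second part: the order, by an exponential sum.
-/

set_option autoImplicit false

namespace Cfsg.Agent.LieRecognition.HigmanCount

open Cfsg.Agent.LieRecognition.HigmanData Cfsg.Agent.LieRecognition.HigmanField
  Cfsg.Agent.LieRecognition.HigmanCoeff

section Char

variable {F : Type*} [Field F] [Finite F] [CharP F 2]

/-- A non-trivial additive character with integer values. -/
theorem exists_char : ∃ ψ : F → ℤ, (∀ a b, ψ (a + b) = ψ a * ψ b) ∧ ψ 0 = 1 ∧ ∃ a, ψ a ≠ 1 := by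
  classical
  have : Finite (F ≃+* F) := Finite.of_injective (fun σ : F ≃+* F => (σ : F → F)) DFunLike.coe_injective
  let _ : Fintype (F ≃+* F) := Fintype.ofFinite _
  let t : F → F := fun x => ∑ τ : F ≃+* F, τ x
  have ht : ∀ x y, t (x + y) = t x + t y := by
    intro x y
    simp only [t, map_add, Finset.sum_add_distrib]
  have ht01 : ∀ x, t x = 0 ∨ t x = 1 := trace_mem
  have htne : ∃ x, t x ≠ 0 := by
    by_contra hcon
    push Not at hcon
    have h := FieldAutBasis.eq_zero_of_sum_eq_zero (F := F) (fun _ => 1) (fun x => by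
      simpa [t] using hcon x)
    exact one_ne_zero (congrFun h (1 : F ≃+* F))
  refine ⟨fun x => if t x = 0 then 1 else -1, ?_, ?_, ?_⟩
  · intro a b
    have h11 : (1 : F) + 1 = 0 := CharTwo.add_self_eq_zero 1
    rcases ht01 a with ha | ha <;> rcases ht01 b with hb | hb <;> simp [ht, ha, hb, h11]
  · have : t 0 = 0 := by simp [t]
    simp [this]
  · obtain ⟨x, hx⟩ := htne
    refine ⟨x, ?_⟩
    simp [hx]

end Char

theorem pow_two_cancel {a b m n : ℕ} (ha : Odd a) (hb : Odd b) (h : a * 2 ^ m = b * 2 ^ n) : a = b := by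
  have h1 : a ∣ b := by
    have h2 : a ∣ b * 2 ^ n := ⟨2 ^ m, h.symm⟩
    exact (Nat.Coprime.pow_right n (Nat.coprime_two_right.mpr ha)).dvd_of_dvd_mul_right h2
  have h3 : b ∣ a := by
    have h2 : b ∣ a * 2 ^ m := ⟨2 ^ n, h⟩
    exact (Nat.Coprime.pow_right m (Nat.coprime_two_right.mpr hb)).dvd_of_dvd_mul_right h2
  exact Nat.dvd_antisymm h1 h3

variable {F P : Type*} [Group P] [Finite P] [Field F] [Finite F] [CharP F 2] [MulDistribMulAction Fˣ P]
  {δ : F → P}

omit [CharP F 2] in
/-- The number of solutions of `x² = 1`. -/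
theorem card_involutions [Fintype P] [DecidableEq P] (hδ : SingerData F P δ) :
    (Finset.univ.filter (fun x : P => x * x = 1)).card = Nat.card F := by
  classical
  let _ : Fintype F := Fintype.ofFinite F
  rw [Nat.card_eq_fintype_card, ← Finset.card_univ, ← Finset.card_image_of_injective _ hδ.inj]
  congr 1
  ext x
  simp only [Finset.mem_filter, Finset.mem_univ, true_and, Finset.mem_image]
  exact hδ.inv x

theorem card_eq (hδ : SingerData F P δ) (hp : IsPGroup 2 P)
    (hsq : ∀ x : P, x * x * (x * x) = 1)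
    (hcomm : ∀ x y : P, (x⁻¹ * y⁻¹ * x * y) * (x⁻¹ * y⁻¹ * x * y) = 1) (hne : ∃ x : P, x * x ≠ 1) :
    Nat.card P = Nat.card F ^ 2 ∨ Nat.card P = Nat.card F ^ 3 := by
  classical
  have : Fact (Nat.Prime 2) := ⟨Nat.prime_two⟩
  let _ : Fintype F := Fintype.ofFinite F
  let _ : Fintype P := Fintype.ofFinite P
  obtain ⟨ψ, hψadd, hψ0, a₀, ha₀⟩ := exists_char (F := F)
  have hψsq : ∀ a, ψ a * ψ a = 1 := by
    intro a
    rw [← hψadd, CharTwo.add_self_eq_zero, hψ0]
  choose s hs using fun x => (hδ.inv _).mp (hsq x)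
  choose β hβ using fun x y => (hδ.inv _).mp (hcomm x y)
  have hβsymm : ∀ x y, β x y = β y x := by
    intro x y
    apply hδ.inj
    rw [hβ, hβ]
    have h2 : y⁻¹ * x⁻¹ * y * x = (x⁻¹ * y⁻¹ * x * y)⁻¹ := by group
    rw [h2]
    exact (inv_eq_of_mul_eq_one_left (hcomm x y)).symm
  have hsmul : ∀ x y, s (x * y) = s x + s y + β x y := by
    intro x y
    apply hδ.inj
    rw [hβsymm, hs, hδ.add, hδ.add, hs, hs, hβ]
    calc x * y * (x * y) = x * x * (y * ((y⁻¹ * x⁻¹ * y * x) * y)) := by group
      _ = x * x * (y * (y * (y⁻¹ * x⁻¹ * y * x))) := by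
          rw [← hβ y x, hδ.central (β y x) y]
      _ = (x * x) * (y * y) * (y⁻¹ * x⁻¹ * y * x) := by group
  have hβmul : ∀ x x' y, β (x * x') y = β x y + β x' y := by
    intro x x' y
    apply hδ.inj
    rw [hδ.add, hβ, hβ x' y, hδ.central, hβ x y]
    have h1 := hδ.central (β x y) (y⁻¹ * x' * y)
    rw [hβ] at h1
    calc (x * x')⁻¹ * y⁻¹ * (x * x') * y = x'⁻¹ * ((x⁻¹ * y⁻¹ * x * y) * (y⁻¹ * x' * y)) := by group
      _ = x'⁻¹ * ((y⁻¹ * x' * y) * (x⁻¹ * y⁻¹ * x * y)) := by rw [h1]
      _ = (x'⁻¹ * y⁻¹ * x' * y) * (x⁻¹ * y⁻¹ * x * y) := by group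
  have hs0 : ∀ x, s x = 0 ↔ x * x = 1 := by
    intro x
    rw [← δ_eq_one hδ, hs]
  have hsk : ∀ (k : Fˣ) x, s (k • x) = (k : F) * s x := by
    intro k x
    apply hδ.inj
    rw [hs, ← hδ.smul, hs, smul_mul']
  -- sums of characters
  have hsumψ : ∀ t : F, t ≠ 0 → ∑ c : F, ψ (c * t) = 0 := by
    intro t ht
    let f : Multiplicative F →* ℤ :=
      { toFun := fun c => ψ (Multiplicative.toAdd c * t)
        map_one' := by simp [hψ0]
        map_mul' := fun c d => by simp [add_mul, hψadd] }
    have hf : f ≠ 1 := by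
      intro h
      apply ha₀
      have h1 := DFunLike.congr_fun h (Multiplicative.ofAdd (a₀ * t⁻¹))
      change ψ (a₀ * t⁻¹ * t) = 1 at h1
      rwa [inv_mul_cancel_right₀ ht] at h1
    have h2 := sum_hom_units_eq_zero f hf
    rw [← h2]
    exact Fintype.sum_equiv Multiplicative.ofAdd _ _ (fun c => rfl)
  set q := Nat.card F with hq
  set S : ℤ := ∑ x : P, ψ (s x) with hS
  have hFq : Fintype.card F = q := by rw [hq, Nat.card_eq_fintype_card]
  have hqpos : 0 < q := by rw [← hFq]; exact Fintype.card_pos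
  have hPc : Fintype.card P = Nat.card P := by rw [Nat.card_eq_fintype_card]
  -- first evaluation
  have claim1 : (Nat.card P : ℤ) + ((q : ℤ) - 1) * S = (q : ℤ) ^ 2 := by
    have h1 : ∑ c : F, ∑ x : P, ψ (c * s x) = (q : ℤ) ^ 2 := by
      rw [Finset.sum_comm]
      have h2 : ∀ x : P, ∑ c : F, ψ (c * s x) = if x * x = 1 then (q : ℤ) else 0 := by
        intro x
        split_ifs with h
        · rw [(hs0 x).mpr h]
          simp only [mul_zero, hψ0, Finset.sum_const, Finset.card_univ, hFq, nsmul_eq_mul, mul_one]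
        · exact hsumψ _ (fun h' => h ((hs0 x).mp h'))
      simp only [h2]
      rw [← Finset.sum_filter, Finset.sum_const, card_involutions hδ, nsmul_eq_mul, pow_two]
    have h3 : ∑ c : F, ∑ x : P, ψ (c * s x) = (Nat.card P : ℤ) + ((q : ℤ) - 1) * S := by
      rw [← Finset.add_sum_erase _ _ (Finset.mem_univ (0 : F))]
      congr 1
      · simp only [zero_mul, hψ0, Finset.sum_const, Finset.card_univ, hPc, nsmul_eq_mul, mul_one]
      · have h4 : ∀ c ∈ Finset.univ.erase (0 : F), ∑ x : P, ψ (c * s x) = S := by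
          intro c hc
          have hc0 : c ≠ 0 := (Finset.mem_erase.mp hc).1
          rw [hS]
          refine Fintype.sum_equiv (MulAction.toPerm (Units.mk0 c hc0)) _ _ (fun x => ?_)
          rw [MulAction.toPerm_apply, hsk]
          rfl
        rw [Finset.sum_congr rfl h4, Finset.sum_const, Finset.card_erase_of_mem (Finset.mem_univ _),
          Finset.card_univ, hFq, nsmul_eq_mul]
        push_cast [Nat.cast_sub hqpos]
        ring
    rw [← h3, h1]
  -- second evaluation
  let Rad : Subgroup P :=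
    { carrier := {w | ∀ x, ψ (β x w) = 1}
      mul_mem' := by
        intro a b ha hb x
        rw [hβsymm, hβmul, hψadd, hβsymm a, hβsymm b, ha x, hb x, one_mul]
      one_mem' := by
        intro x
        have h1 := hβmul 1 1 x
        rw [mul_one] at h1
        rw [hβsymm, add_eq_left.mp h1.symm, hψ0]
      inv_mem' := by
        intro a ha x
        have h1 := hβmul 1 1 x
        rw [mul_one] at h1
        have h2 := hβmul a a⁻¹ x
        rw [mul_inv_cancel, add_eq_left.mp h1.symm] at h2
        have h3 : ψ (β a x + β a⁻¹ x) = 1 := by rw [← h2, hψ0]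
        rw [hψadd, hβsymm a x, ha x, one_mul] at h3
        rw [hβsymm]
        exact h3 }
  have hRad : ∀ w, w ∈ Rad ↔ ∀ x, ψ (β x w) = 1 := fun w => Iff.rfl
  have claim2 : S * S = (Nat.card P : ℤ) * ∑ w : Rad, ψ (s (w : P)) := by
    have h1 : S * S = ∑ w : P, ψ (s w) * ∑ x : P, ψ (β x w) := by
      rw [hS, Finset.sum_mul_sum]
      have h2 : ∀ x : P, ∑ y : P, ψ (s x) * ψ (s y) = ∑ w : P, ψ (s w) * ψ (β x w) := by
        intro x
        symm
        refine Fintype.sum_equiv (Equiv.mulLeft x) _ _ (fun w => ?_)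
        rw [Equiv.coe_mulLeft, hsmul, hψadd, hψadd]
        linear_combination (-(ψ (s w)) * ψ (β x w)) * hψsq (s x)
      simp only [h2]
      rw [Finset.sum_comm]
      refine Finset.sum_congr rfl fun w _ => ?_
      rw [Finset.mul_sum]
    have h3 : ∀ w : P, ∑ x : P, ψ (β x w) = if w ∈ Rad then (Nat.card P : ℤ) else 0 := by
      intro w
      split_ifs with h
      · rw [Finset.sum_congr rfl (fun x _ => h x)]
        simp only [Finset.sum_const, Finset.card_univ, hPc, nsmul_eq_mul, mul_one]
      · let f : P →* ℤ :=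
          { toFun := fun x => ψ (β x w)
            map_one' := by
              have h1 := hβmul 1 1 w
              rw [mul_one] at h1
              rw [add_eq_left.mp h1.symm, hψ0]
            map_mul' := fun x y => by rw [hβmul, hψadd] }
        have hf : f ≠ 1 := by
          intro h'
          apply h
          intro x
          exact DFunLike.congr_fun h' x
        exact sum_hom_units_eq_zero f hf
    rw [h1]
    simp only [h3, mul_ite, mul_zero]
    rw [← Finset.sum_filter, Finset.mul_sum]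
    symm
    refine Finset.sum_bij (fun w _ => (w : P)) ?_ ?_ ?_ ?_
    · intro w _
      simp
    · intro a _ b _ h
      exact Subtype.ext h
    · intro w hw
      exact ⟨⟨w, (Finset.mem_filter.mp hw).2⟩, Finset.mem_univ _, rfl⟩
    · intro w _
      ring
  obtain ⟨m, hm⟩ := IsPGroup.iff_card.mp hp
  obtain ⟨t, ht⟩ := IsPGroup.iff_card.mp (hp.to_subgroup Rad)
  obtain ⟨n, hn0, hn⟩ : ∃ n : ℕ, 0 < n ∧ q = 2 ^ n := by
    obtain ⟨n, _, hn⟩ := FiniteField.card F 2
    exact ⟨n, n.pos, by rw [← hFq, hn]⟩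
  have claim3 : S * S = 0 ∨ S * S = 2 ^ (m + t) := by
    let f : Rad →* ℤ :=
      { toFun := fun w => ψ (s (w : P))
        map_one' := by
          have h1 : s ((1 : Rad) : P) = 0 := by
            rw [hs0]; simp
          rw [h1, hψ0]
        map_mul' := fun x y => by
          rw [Subgroup.coe_mul, hsmul, hψadd, hψadd, y.2 (x : P), mul_one] }
    have hf : ∑ w : Rad, ψ (s (w : P)) = if f = 1 then (Fintype.card Rad : ℤ) else 0 := by
      have h0 := sum_hom_units f
      rw [Nat.cast_ite, Nat.cast_zero] at h0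
      exact h0
    rw [claim2, hf]
    split_ifs with h
    · right
      rw [hm, ← Nat.card_eq_fintype_card, ht]
      push_cast
      rw [pow_add]
    · left
      rw [mul_zero]
  rw [hm, hn] at claim1 ⊢
  push_cast at claim1
  rcases claim3 with h | h
  · left
    have hS0 : S = 0 := mul_self_eq_zero.mp h
    rw [hS0, mul_zero, add_zero] at claim1
    exact_mod_cast claim1
  · -- `S = ± 2^a`
    have hdvd : S.natAbs ∣ 2 ^ (m + t) := by
      have h1 : S.natAbs * S.natAbs = 2 ^ (m + t) := by
        have := congrArg Int.natAbs h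
        rw [Int.natAbs_mul, Int.natAbs_pow] at this
        exact this
      exact ⟨_, h1.symm⟩
    obtain ⟨a, _, ha⟩ := (Nat.dvd_prime_pow Nat.prime_two).mp hdvd
    have hodd : ∀ j : ℕ, 0 < j → Odd (2 ^ j - 1) := by
      intro j hj
      refine Nat.Even.sub_odd Nat.one_le_two_pow ?_ odd_one
      exact (Nat.even_pow.mpr ⟨even_two, by omega⟩)
    have hcast : ∀ j : ℕ, ((2 ^ j - 1 : ℕ) : ℤ) = (2 : ℤ) ^ j - 1 := by
      intro j
      rw [Nat.cast_sub Nat.one_le_two_pow]
      push_cast
      ring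
    rcases Int.natAbs_eq S with hS1 | hS1
    · exfalso
      rw [ha] at hS1
      push_cast at hS1
      rw [hS1] at claim1
      -- `2^m < 2^(2n)`
      have hlt : m < 2 * n := by
        have h1 : (2 : ℤ) ^ m < 2 ^ (2 * n) := by
          have h2 : (0 : ℤ) < ((2 : ℤ) ^ n - 1) * 2 ^ a := by
            have h3 : (1 : ℤ) < 2 ^ n := one_lt_pow₀ (by norm_num) (by omega)
            have h4 : (0 : ℤ) < 2 ^ a := by positivity
            nlinarith
          have h5 : ((2 : ℤ) ^ n) ^ 2 = 2 ^ (2 * n) := by rw [← pow_mul, mul_comm]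
          linarith
        exact (pow_lt_pow_iff_right₀ (by norm_num)).mp h1
      obtain ⟨j, hj⟩ : ∃ j, 2 * n = m + j := ⟨2 * n - m, by omega⟩
      have h1 : (2 ^ n - 1) * 2 ^ a = (2 ^ j - 1) * 2 ^ m := by
        have h2 : (((2 ^ n - 1) * 2 ^ a : ℕ) : ℤ) = (((2 ^ j - 1) * 2 ^ m : ℕ) : ℤ) := by
          rw [Nat.cast_mul, Nat.cast_mul, hcast, hcast]
          push_cast
          have h5 : ((2 : ℤ) ^ n) ^ 2 = 2 ^ m * 2 ^ j := by rw [← pow_mul, mul_comm, hj, pow_add]
          linear_combination claim1 + h5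
        exact_mod_cast h2
      have h3 := pow_two_cancel (hodd n hn0) (hodd j (by omega)) h1
      have h4 : 2 ^ n = 2 ^ j := by
        have := Nat.one_le_two_pow (n := n)
        have := Nat.one_le_two_pow (n := j)
        omega
      have h5 : n = j := Nat.pow_right_injective (le_refl 2) h4
      have h6 : m = n := by omega
      obtain ⟨x, hx⟩ := hne
      apply hx
      have h7 := card_involutions hδ
      rw [← hq, hn, ← h6, ← hm, ← hPc, ← Finset.card_univ] at h7
      have h8 := Finset.eq_of_subset_of_card_le (Finset.filter_subset _ _) (le_of_eq h7.symm)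
      have h9 : x ∈ Finset.univ.filter (fun x : P => x * x = 1) := by rw [h8]; exact Finset.mem_univ x
      exact (Finset.mem_filter.mp h9).2
    · right
      rw [ha] at hS1
      push_cast at hS1
      rw [hS1] at claim1
      have hlt : 2 * n < m := by
        have h1 : (2 : ℤ) ^ (2 * n) < 2 ^ m := by
          have h2 : (0 : ℤ) < ((2 : ℤ) ^ n - 1) * 2 ^ a := by
            have h3 : (1 : ℤ) < 2 ^ n := one_lt_pow₀ (by norm_num) (by omega)
            have h4 : (0 : ℤ) < 2 ^ a := by positivity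
            nlinarith
          have h5 : ((2 : ℤ) ^ n) ^ 2 = 2 ^ (2 * n) := by rw [← pow_mul, mul_comm]
          linarith
        exact (pow_lt_pow_iff_right₀ (by norm_num)).mp h1
      obtain ⟨j, hj⟩ : ∃ j, m = 2 * n + j := ⟨m - 2 * n, by omega⟩
      have h1 : (2 ^ n - 1) * 2 ^ a = (2 ^ j - 1) * 2 ^ (2 * n) := by
        have h2 : (((2 ^ n - 1) * 2 ^ a : ℕ) : ℤ) = (((2 ^ j - 1) * 2 ^ (2 * n) : ℕ) : ℤ) := by
          rw [Nat.cast_mul, Nat.cast_mul, hcast, hcast]
          push_cast
          have h5 : (2 : ℤ) ^ m = 2 ^ (2 * n) * 2 ^ j := by rw [hj, pow_add]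
          have h6 : ((2 : ℤ) ^ n) ^ 2 = 2 ^ (2 * n) := by rw [← pow_mul, mul_comm]
          linear_combination -claim1 + h5 - h6
        exact_mod_cast h2
      have h3 := pow_two_cancel (hodd n hn0) (hodd j (by omega)) h1
      have h4 : 2 ^ n = 2 ^ j := by
        have := Nat.one_le_two_pow (n := n)
        have := Nat.one_le_two_pow (n := j)
        omega
      have h5 : n = j := Nat.pow_right_injective (le_refl 2) h4
      rw [hj, ← h5, ← pow_mul]
      congr 1
      ring

end Cfsg.Agent.LieRecognition.HigmanCount
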