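import Mathlib
import Cfsg.Agent.Lib.FrattiniPGroup
import Cfsg.Agent.S1140

/-!
Tools for S1139 (Suzuki 2-groups of order `|Z|²` are of type A).
-/

set_option autoImplicit false
set_option linter.style.haveILetI false

namespace Cfsg.Agent.LieRecognition.HigmanTypeA

/-- A finite commutative group with an injective endomorphism whose powers are transitive on the
non-identity elements is a finite field with the endomorphism acting as multiplication by an element. -/
theorem exists_field_model {V : Type*} [CommGroup V] [Finite V] [Nontrivial V]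
    (f : V →* V) (hf : Function.Injective f)
    (htrans : ∀ v w : V, v ≠ 1 → w ≠ 1 → ∃ i : ℕ, (f^[i]) v = w)
    (F : Type*) [Field F] [Fintype F] (hF : Fintype.card F = Nat.card V) :
    ∃ (e : V ≃* Multiplicative F) (l : F), ∀ v, (e (f v)).toAdd = l * (e v).toAdd := by
  classical
  let A := Additive V
  let φ : AddMonoid.End A := MonoidHom.toAdditive f
  have hφpow : ∀ (i : ℕ) (a : A), (φ ^ i) a = Additive.ofMul (f^[i] a.toMul) := by
    intro i
    induction i with
    | zero => intro a; rfl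
    | succ n ih =>
      intro a
      rw [pow_succ, Function.iterate_succ_apply]
      exact ih (φ a)
  have hφinj1 : ∀ a : A, φ a = 0 → a = 0 := by
    intro a h
    have h1 : f a.toMul = 1 := h
    rw [← map_one f] at h1
    exact hf h1
  have hφinj : ∀ (i : ℕ) (a : A), (φ ^ i) a = 0 → a = 0 := by
    intro i
    induction i with
    | zero => intro a h; exact h
    | succ n ih =>
      intro a h
      rw [pow_succ] at h
      exact hφinj1 a (ih (φ a) h)
  obtain ⟨v0, hv0⟩ := exists_ne (1 : V)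
  let a0 : A := Additive.ofMul v0
  have ha0 : a0 ≠ 0 := hv0
  have htr : ∀ a : A, a ≠ 0 → ∃ i : ℕ, (φ ^ i) a0 = a := by
    intro a ha
    obtain ⟨i, hi⟩ := htrans v0 a.toMul hv0 ha
    exact ⟨i, by rw [hφpow]; exact congrArg Additive.ofMul hi⟩
  let E : Subring (AddMonoid.End A) := Subring.closure {φ}
  letI cE : CommRing E := Subring.closureCommRingOfComm (by
    intro x hx y hy
    rw [Set.mem_singleton_iff] at hx hy
    rw [hx, hy])
  have hφE : φ ∈ E := Subring.subset_closure rfl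
  have hφiE : ∀ i : ℕ, φ ^ i ∈ E := fun i => Subring.pow_mem _ hφE i
  have hcomm : ∀ e : E, ∀ i : ℕ, (e : AddMonoid.End A) * φ ^ i = φ ^ i * e := by
    intro e i
    have := mul_comm e ⟨φ ^ i, hφiE i⟩
    exact congrArg Subtype.val this
  -- evaluation at `a0`
  have hinj : ∀ e : E, (e : AddMonoid.End A) a0 = 0 → e = 0 := by
    intro e he
    apply Subtype.ext
    ext a
    by_cases ha : a = 0
    · subst ha
      rw [map_zero]
      exact (map_zero (0 : AddMonoid.End A)).symm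
    · obtain ⟨i, rfl⟩ := htr a ha
      have h1 : ((e : AddMonoid.End A) * φ ^ i) a0 = (φ ^ i * (e : AddMonoid.End A)) a0 := by
        rw [hcomm e i]
      have h2 : (φ ^ i * (e : AddMonoid.End A)) a0 = 0 := by
        change (φ ^ i) ((e : AddMonoid.End A) a0) = 0
        rw [he]; exact map_zero _
      exact h1.trans h2
  let ev : E →+ A :=
    { toFun := fun e => (e : AddMonoid.End A) a0
      map_zero' := rfl
      map_add' := fun x y => rfl }
  have evinj : Function.Injective ev := by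
    rw [injective_iff_map_eq_zero]
    exact fun e he => hinj e he
  have evsurj : Function.Surjective ev := by
    intro a
    by_cases ha : a = 0
    · exact ⟨0, by rw [ha]; rfl⟩
    · obtain ⟨i, hi⟩ := htr a ha
      exact ⟨⟨φ ^ i, hφiE i⟩, hi⟩
  let evE : E ≃+ A := AddEquiv.ofBijective ev ⟨evinj, evsurj⟩
  haveI : Finite A := ‹Finite V›
  haveI : Finite E := Finite.of_equiv A evE.symm.toEquiv
  haveI : Nontrivial E := ⟨0, 1, by
    intro h
    have : ev 0 = ev 1 := by rw [h]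
    exact ha0 this.symm⟩
  have hform : ∀ e : E, e ≠ 0 → ∃ i : ℕ, e = ⟨φ ^ i, hφiE i⟩ := by
    intro e he
    have h1 : ev e ≠ 0 := by
      intro h; exact he (hinj e h)
    obtain ⟨i, hi⟩ := htr (ev e) h1
    exact ⟨i, evinj hi.symm⟩
  haveI : NoZeroDivisors E := ⟨by
    intro x y hxy
    by_contra hcon
    push Not at hcon
    obtain ⟨i, rfl⟩ := hform x hcon.1
    obtain ⟨j, rfl⟩ := hform y hcon.2
    have h1 : ((φ ^ i) ((φ ^ j) a0)) = 0 := by
      have := congrArg (fun e : E => (e : AddMonoid.End A) a0) hxy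
      exact this
    exact ha0 (hφinj j _ (hφinj i _ h1))⟩
  haveI : IsDomain E := NoZeroDivisors.to_isDomain E
  letI fE : Field E := (Finite.isField_of_domain E).toField
  letI : Fintype E := Fintype.ofFinite E
  have hcardE : Fintype.card E = Fintype.card F := by
    rw [hF, ← Nat.card_eq_fintype_card]
    exact Nat.card_congr evE.toEquiv
  let ρ : E ≃+* F := FiniteField.ringEquivOfCardEq hcardE
  let eA : A ≃+ F := evE.symm.trans ρ.toAddEquiv
  refine ⟨AddEquiv.toMultiplicative eA, ρ ⟨φ, hφE⟩, ?_⟩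
  intro v
  change eA (φ (Additive.ofMul v)) = ρ ⟨φ, hφE⟩ * eA (Additive.ofMul v)
  change ρ (evE.symm (φ (Additive.ofMul v))) = ρ ⟨φ, hφE⟩ * ρ (evE.symm (Additive.ofMul v))
  rw [← map_mul]
  congr 1
  rw [AddEquiv.symm_apply_eq]
  change φ (Additive.ofMul v) = φ (evE (evE.symm (Additive.ofMul v)))
  rw [AddEquiv.apply_symm_apply]

/-- `exists_field_model` with commutativity as a hypothesis -/
theorem exists_field_model' {V : Type*} [Group V] (hcomm : ∀ a b : V, a * b = b * a)
    [Finite V] [Nontrivial V]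
    (f : V →* V) (hf : Function.Injective f)
    (htrans : ∀ v w : V, v ≠ 1 → w ≠ 1 → ∃ i : ℕ, (f^[i]) v = w)
    (F : Type*) [Field F] [Fintype F] (hF : Fintype.card F = Nat.card V) :
    ∃ (e : V ≃* Multiplicative F) (l : F), ∀ v, (e (f v)).toAdd = l * (e v).toAdd := by
  letI : CommGroup V := { ‹Group V› with mul_comm := hcomm }
  exact exists_field_model f hf htrans F hF

/-- Two extensions of the same group by central subgroups, all squares lying in the kernels, are isomorphic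
as soon as an isomorphism of the kernels matches the squaring maps. -/
theorem mulEquiv_of_same_squares {P₁ P₂ V : Type*} [Group P₁] [Group P₂] [Group V]
    (π₁ : P₁ →* V) (π₂ : P₂ →* V) (h₁ : Function.Surjective π₁) (h₂ : Function.Surjective π₂)
    (hc₁ : π₁.ker ≤ Subgroup.center P₁) (hc₂ : π₂.ker ≤ Subgroup.center P₂)
    (θ : π₁.ker ≃* π₂.ker) (hs₁ : ∀ g : P₁, g * g ∈ π₁.ker) (hs₂ : ∀ g : P₂, g * g ∈ π₂.ker)
    (hθ : ∀ (g₁ : P₁) (g₂ : P₂), π₁ g₁ = π₂ g₂ → θ ⟨g₁ * g₁, hs₁ g₁⟩ = ⟨g₂ * g₂, hs₂ g₂⟩) :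
    Nonempty (P₁ ≃* P₂) := by
  let D : Subgroup (P₁ × P₂) :=
    MonoidHom.eqLocus (π₁.comp (MonoidHom.fst P₁ P₂)) (π₂.comp (MonoidHom.snd P₁ P₂))
  have hD : ∀ x : P₁ × P₂, x ∈ D ↔ π₁ x.1 = π₂ x.2 := fun x => Iff.rfl
  have hker₁ : ∀ z : π₁.ker, π₁ z = 1 := fun z => z.2
  have hker₂ : ∀ z : π₂.ker, π₂ z = 1 := fun z => z.2
  let δ : π₁.ker →* D :=
    { toFun := fun z => ⟨((z : P₁), (θ z : P₂)), by rw [hD]; rw [hker₁, hker₂]⟩
      map_one' := by
        apply Subtype.ext
        simp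
      map_mul' := by
        intro a b
        apply Subtype.ext
        simp }
  let Δ : Subgroup D := δ.range
  have hΔc : ∀ d ∈ Δ, ∀ x : D, x * d = d * x := by
    rintro _ ⟨z, rfl⟩ x
    apply Subtype.ext
    apply Prod.ext
    · exact (Subgroup.mem_center_iff.mp (hc₁ z.2)) x.1.1
    · exact (Subgroup.mem_center_iff.mp (hc₂ (θ z).2)) x.1.2
  haveI hΔn : Δ.Normal := ⟨fun d hd x => by rw [hΔc d hd x, mul_inv_cancel_right]; exact hd⟩
  have hsq : ∀ a : D ⧸ Δ, a * a = 1 := by
    intro a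
    obtain ⟨d, rfl⟩ := QuotientGroup.mk_surjective a
    rw [← QuotientGroup.mk_mul, QuotientGroup.eq_one_iff]
    refine ⟨⟨d.1.1 * d.1.1, hs₁ _⟩, ?_⟩
    apply Subtype.ext
    apply Prod.ext
    · rfl
    · exact congrArg Subtype.val (hθ d.1.1 d.1.2 d.2)
  have hcomm : ∀ a b : D ⧸ Δ, a * b = b * a := by
    intro a b
    have hinv : ∀ c : D ⧸ Δ, c⁻¹ = c := fun c => inv_eq_of_mul_eq_one_left (hsq c)
    calc a * b = (a * b)⁻¹ := (hinv _).symm
      _ = b⁻¹ * a⁻¹ := mul_inv_rev a b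
      _ = b * a := by rw [hinv, hinv]
  let K₁ : Subgroup D := ((π₁.comp (MonoidHom.fst P₁ P₂)).comp D.subtype).ker
  have hK₁ : ∀ d : D, d ∈ K₁ ↔ π₁ d.1.1 = 1 := fun d => Iff.rfl
  haveI : Fact (Nat.Prime 2) := ⟨Nat.prime_two⟩
  obtain ⟨K, hK⟩ := Cfsg.Agent.Lib.FrattiniPGroup.exists_isCompl_of_elementary (p := 2) hcomm
    (fun a => by rw [pow_two]; exact hsq a) (K₁.map (QuotientGroup.mk' Δ))
  let C : Subgroup D := K.comap (QuotientGroup.mk' Δ)
  have hΔC : Δ ≤ C := by
    intro d hd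
    change QuotientGroup.mk' Δ d ∈ K
    have : QuotientGroup.mk' Δ d = 1 := (QuotientGroup.eq_one_iff d).mpr hd
    rw [this]
    exact one_mem K
  have hCK : ∀ d ∈ C, d ∈ K₁ → d ∈ Δ := by
    intro d hdC hdK
    have h1 : QuotientGroup.mk' Δ d ∈ K₁.map (QuotientGroup.mk' Δ) ⊓ K := ⟨⟨d, hdK, rfl⟩, hdC⟩
    rw [hK.inf_eq_bot, Subgroup.mem_bot] at h1
    exact (QuotientGroup.eq_one_iff d).mp h1
  have hCtop : ∀ d : D, ∃ c ∈ C, ∃ k ∈ K₁, d = c * k := by
    intro d
    have h1 : QuotientGroup.mk' Δ d ∈ K ⊔ K₁.map (QuotientGroup.mk' Δ) := by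
      rw [sup_comm, hK.sup_eq_top]; exact Subgroup.mem_top _
    haveI : (K₁.map (QuotientGroup.mk' Δ)).Normal :=
      ⟨fun n hn g => by rw [hcomm g n, mul_inv_cancel_right]; exact hn⟩
    obtain ⟨x, hx, y, hy, hxy⟩ := Subgroup.mem_sup_of_normal_right.mp h1
    obtain ⟨k, hk, rfl⟩ := hy
    refine ⟨d * k⁻¹, ?_, k, hk, by group⟩
    change QuotientGroup.mk' Δ (d * k⁻¹) ∈ K
    rw [map_mul, map_inv, ← hxy, mul_inv_cancel_right]
    exact hx
  let p₁ : C →* P₁ := ((MonoidHom.fst P₁ P₂).comp D.subtype).comp C.subtype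
  let p₂ : C →* P₂ := ((MonoidHom.snd P₁ P₂).comp D.subtype).comp C.subtype
  have hp₁i : Function.Injective p₁ := by
    rw [injective_iff_map_eq_one]
    intro c hc
    have hc1 : c.1.1.1 = 1 := hc
    have hcK : c.1 ∈ K₁ := by rw [hK₁, hc1, map_one]
    obtain ⟨z, hz⟩ := hCK c.1 c.2 hcK
    have hz1 : (z : P₁) = 1 := by
      have := congrArg (fun d : D => d.1.1) hz
      exact this.trans hc1
    have hz2 : z = 1 := Subtype.ext hz1
    apply Subtype.ext
    rw [← hz, hz2, map_one]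
    rfl
  have hp₂i : Function.Injective p₂ := by
    rw [injective_iff_map_eq_one]
    intro c hc
    have hc1 : c.1.1.2 = 1 := hc
    have hcK : c.1 ∈ K₁ := by rw [hK₁, (hD _).mp c.1.2, hc1, map_one]
    obtain ⟨z, hz⟩ := hCK c.1 c.2 hcK
    have hz1 : (θ z : P₂) = 1 := by
      have := congrArg (fun d : D => d.1.2) hz
      exact this.trans hc1
    have hz2 : z = 1 := by
      have : θ z = 1 := Subtype.ext hz1
      exact (MulEquiv.map_eq_one_iff θ).mp this
    apply Subtype.ext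
    rw [← hz, hz2, map_one]
    rfl
  have hp₁s : Function.Surjective p₁ := by
    intro g₁
    obtain ⟨g₂, hg₂⟩ := h₂ (π₁ g₁)
    obtain ⟨c, hc, k, hk, hck⟩ := hCtop ⟨(g₁, g₂), hg₂.symm⟩
    let z : π₁.ker := ⟨k.1.1, hk⟩
    refine ⟨⟨c * δ z, mul_mem hc (hΔC ⟨z, rfl⟩)⟩, ?_⟩
    change c.1.1 * k.1.1 = g₁
    exact (congrArg (fun d : D => d.1.1) hck).symm
  have hp₂s : Function.Surjective p₂ := by
    intro g₂
    obtain ⟨g₁, hg₁⟩ := h₁ (π₂ g₂)
    obtain ⟨c, hc, k, hk, hck⟩ := hCtop ⟨(g₁, g₂), hg₁⟩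
    have hk2 : k.1.2 ∈ π₂.ker := by
      have h3 := (hD _).mp k.2
      have h4 : π₁ k.1.1 = 1 := hk
      rw [h4] at h3
      exact h3.symm
    let z : π₁.ker := θ.symm ⟨k.1.2, hk2⟩
    refine ⟨⟨c * δ z, mul_mem hc (hΔC ⟨z, rfl⟩)⟩, ?_⟩
    change c.1.2 * (θ (θ.symm ⟨k.1.2, hk2⟩) : P₂) = g₂
    rw [MulEquiv.apply_symm_apply]
    exact (congrArg (fun d : D => d.1.2) hck).symm
  exact ⟨(MulEquiv.ofBijective p₁ ⟨hp₁i, hp₁s⟩).symm.trans (MulEquiv.ofBijective p₂ ⟨hp₂i, hp₂s⟩)⟩

/-- A non-additive "quadratic" map on a finite field of characteristic 2 that is equivariant for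
multiplication by a generator is a product of two different automorphisms. -/
theorem squaring_monomial {F : Type*} [Field F] [Fintype F] [CharP F 2] (s : F → F)
    (B : F →+ F →+ F) (hB : ∀ x y, s (x + y) = s x + s y + B x y) (hB0 : ∃ x y, B x y ≠ 0)
    (l m : F) (hl : ∀ x, s (l * x) = m * s x) (hgen : ∀ x : F, x ≠ 0 → ∃ i : ℕ, x = l ^ i)
    (h1 : s 1 = 1) : ∃ σ τ : F ≃+* F, σ ≠ τ ∧ ∀ x, s x = σ x * τ x := by
  classical
  have h2 : ∀ x : F, x + x = 0 := fun x => CharTwo.add_self_eq_zero x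
  obtain ⟨t, c, hc⟩ := (Cfsg.Agent.S1140.result (F := F)).2.2 B
  -- the monoid homomorphisms `(x, y) ↦ σ x * τ y`
  let χ : (F ≃+* F) × (F ≃+* F) → (F × F →* F) := fun p =>
    { toFun := fun z => p.1 z.1 * p.2 z.2
      map_one' := by simp
      map_mul' := by intro a b; simp [mul_mul_mul_comm] }
  have hχ : Function.Injective χ := by
    intro p q hpq
    have h3 : ∀ z : F × F, p.1 z.1 * p.2 z.2 = q.1 z.1 * q.2 z.2 := fun z =>
      DFunLike.congr_fun hpq z
    apply Prod.ext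
    · ext x
      simpa using h3 (x, 1)
    · ext x
      simpa using h3 (1, x)
  have hli : LinearIndependent F (fun p => (χ p : F × F → F)) :=
    (linearIndependent_monoidHom (F × F) F).comp χ hχ
  -- `B (l x, l y) = m B (x, y)`
  have hBl : ∀ x y, B (l * x) (l * y) = m * B x y := by
    intro x y
    have h3 := hB (l * x) (l * y)
    rw [← mul_add, hl, hl, hl, hB x y] at h3
    have h4 : B (l * x) (l * y) = m * (s x + s y + B x y) - (m * s x + m * s y) := by
      rw [h3]; ring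
    rw [h4]; ring
  have hsum : ∑ p ∈ t, (c p * (p.1 l * p.2 l - m)) • (χ p : F × F → F) = 0 := by
    funext z
    obtain ⟨x, y⟩ := z
    simp only [Finset.sum_apply, Pi.smul_apply, smul_eq_mul, Pi.zero_apply]
    have h3 := hBl x y
    rw [hc, hc, Finset.mul_sum, ← sub_eq_zero, ← Finset.sum_sub_distrib] at h3
    rw [← h3]
    apply Finset.sum_congr rfl
    intro p _
    change c p * (p.1 l * p.2 l - m) * (p.1 x * p.2 y) = _
    rw [map_mul, map_mul]
    ring
  have hcoef : ∀ p ∈ t, c p * (p.1 l * p.2 l - m) = 0 :=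
    linearIndependent_iff'.mp hli t _ hsum
  obtain ⟨x0, y0, hxy⟩ := hB0
  obtain ⟨p, hp, hcp⟩ : ∃ p ∈ t, c p ≠ 0 := by
    by_contra hcon
    push Not at hcon
    apply hxy
    rw [hc]
    apply Finset.sum_eq_zero
    intro p hp
    rw [hcon p hp, zero_mul]
  have hm : p.1 l * p.2 l = m := by
    have := (mul_eq_zero.mp (hcoef p hp)).resolve_left hcp
    exact sub_eq_zero.mp this
  have hs0 : s 0 = 0 := by
    have h3 := hB 0 0
    rw [add_zero, map_zero, add_zero, h2] at h3
    exact h3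
  have hspow : ∀ i : ℕ, s (l ^ i) = m ^ i := by
    intro i
    induction i with
    | zero => rw [pow_zero, pow_zero, h1]
    | succ n ih => rw [pow_succ', hl, ih, pow_succ']
  have hs : ∀ x, s x = p.1 x * p.2 x := by
    intro x
    by_cases hx : x = 0
    · rw [hx, hs0, map_zero, zero_mul]
    · obtain ⟨i, rfl⟩ := hgen x hx
      rw [hspow, map_pow, map_pow, ← mul_pow, hm]
  refine ⟨p.1, p.2, ?_, hs⟩
  intro heq
  apply hxy
  have h3 := hB x0 y0
  rw [hs, hs, hs, heq, map_add] at h3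
  have h4 : B x0 y0 = (p.2 x0 + p.2 y0) * (p.2 x0 + p.2 y0) - (p.2 x0 * p.2 x0 + p.2 y0 * p.2 y0) := by
    rw [h3]; ring
  rw [h4]
  have h5 : (p.2 x0 + p.2 y0) * (p.2 x0 + p.2 y0) - (p.2 x0 * p.2 x0 + p.2 y0 * p.2 y0) =
      p.2 x0 * p.2 y0 + p.2 x0 * p.2 y0 := by ring
  rw [h5, h2]

/-- If `x ↦ x φ(x)` has no nontrivial kernel then `φ` has odd order. -/
theorem odd_orderOf {F : Type*} [Field F] [Fintype F] (φ : F ≃+* F)
    (h : ∀ x : F, x * φ x = 1 → x = 1) : Odd (orderOf φ) := by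
  classical
  -- fixed points of `φ²` are fixed by `φ`
  have h1 : ∀ y : F, φ (φ y) = y → φ y = y := by
    intro y hy
    by_cases hy0 : y = 0
    · rw [hy0, map_zero]
    have hφy0 : φ y ≠ 0 := by
      intro h0; exact hy0 ((map_eq_zero φ).mp h0)
    have h2 := h (φ y / y) (by
      rw [map_div₀, hy]
      field_simp)
    field_simp at h2
    exact h2
  rw [← Nat.not_even_iff_odd]
  rintro ⟨k, hk⟩
  haveI : Finite (F ≃+* F) :=
    Finite.of_injective (fun σ : F ≃+* F => (σ : F → F)) DFunLike.coe_injective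
  have hpos : 0 < orderOf φ := orderOf_pos φ
  let H : Subgroup (RingAut F) := Subgroup.zpowers φ
  let K : Subgroup (RingAut F) := Subgroup.zpowers (φ ^ 2)
  letI : Fintype H := Fintype.ofFinite H
  letI : Fintype K := Fintype.ofFinite K
  have hH : Module.finrank (FixedPoints.subfield H F) F = orderOf φ := by
    rw [FixedPoints.finrank_eq_card, ← Nat.card_eq_fintype_card, Nat.card_zpowers]
  have hK : Module.finrank (FixedPoints.subfield K F) F = orderOf (φ ^ 2) := by
    rw [FixedPoints.finrank_eq_card, ← Nat.card_eq_fintype_card, Nat.card_zpowers]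
  have heq : FixedPoints.subfield H F = FixedPoints.subfield K F := by
    apply le_antisymm
    · intro x hx
      rintro ⟨g, hg⟩
      obtain ⟨i, rfl⟩ := hg
      exact hx ⟨(φ ^ 2) ^ i, by
        rw [← zpow_natCast, ← zpow_mul]
        exact zpow_mem (Subgroup.mem_zpowers φ) _⟩
    · intro x hx
      have h3 : φ (φ x) = x := by
        have := hx ⟨φ ^ 2, Subgroup.mem_zpowers _⟩
        exact this
      have h4 : φ x = x := h1 x h3
      have h5 : φ ∈ MulAction.stabilizer (RingAut F) x := h4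
      rintro ⟨g, hg⟩
      have h6 : g ∈ MulAction.stabilizer (RingAut F) x :=
        (Subgroup.zpowers_le.mpr h5) hg
      exact h6
  rw [heq, hK] at hH
  have h7 : orderOf (φ ^ 2) = k := by
    rw [orderOf_pow' φ two_ne_zero, hk, ← two_mul, Nat.gcd_mul_right_left, Nat.mul_div_cancel_left]
    exact two_pos
  omega

end Cfsg.Agent.LieRecognition.HigmanTypeA
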