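import Mathlib

/-!
# The canonical representation of a Coxeter system and positivity of its form

For a Coxeter system `cs : CoxeterSystem M W` with `W` finite: `orderOf (s_a s_b) = M a b` and, if the diagram is
connected, the form `q x = ∑ x_a K_ab x_b`, `K_ab = -cos (π / M a b)`, is positive definite.
-/

set_option autoImplicit false
set_option linter.unusedSectionVars false

namespace Cfsg.Agent.LieRecognition.CoxForm

open Finset

section form

variable {B : Type*} [Fintype B] [DecidableEq B] (M : CoxeterMatrix B)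

/-- the Gram matrix of the canonical form -/
noncomputable def K (a b : B) : ℝ := if M a b = 0 then -1 else -Real.cos (Real.pi / M a b)

theorem K_self (a : B) : K M a a = 1 := by
  simp [K]

theorem K_symm (a b : B) : K M a b = K M b a := by
  simp [K, M.symmetric a b]

/-- `fn a x = (e_a, x)` -/
noncomputable def fn (a : B) : (B → ℝ) →ₗ[ℝ] ℝ where
  toFun x := ∑ b, K M a b * x b
  map_add' x y := by simp [mul_add, Finset.sum_add_distrib]
  map_smul' c x := by
    simp only [Pi.smul_apply, smul_eq_mul, RingHom.id_apply, Finset.mul_sum]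
    exact Finset.sum_congr rfl fun b _ => by ring

theorem fn_apply (a : B) (x : B → ℝ) : fn M a x = ∑ b, K M a b * x b := rfl

/-- basis vector -/
def bs (a : B) : B → ℝ := Pi.single a 1

theorem fn_bs (a b : B) : fn M a (bs b) = K M a b := by
  rw [fn_apply, Finset.sum_eq_single b]
  · simp [bs]
  · intro c _ hc
    simp [bs, hc]
  · intro h
    exact absurd (Finset.mem_univ b) h

/-- the reflection in `e_a` -/
noncomputable def sg (a : B) : Module.End ℝ (B → ℝ) :=
  LinearMap.id - (2 : ℝ) • (fn M a).smulRight (bs a)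

theorem sg_apply (a : B) (x : B → ℝ) : sg M a x = x - (2 * fn M a x) • bs a := by
  simp [sg, smul_smul]

theorem sg_sq (a : B) : sg M a * sg M a = 1 := by
  refine LinearMap.ext fun x => ?_
  rw [Module.End.mul_apply, sg_apply, sg_apply, map_sub, map_smul, fn_bs, K_self, Module.End.one_apply]
  simp only [smul_eq_mul, mul_one]
  rw [sub_sub, ← add_smul]
  have : 2 * (fn M a) x + 2 * ((fn M a) x - 2 * (fn M a) x) = 0 := by ring
  rw [this, zero_smul, sub_zero]

/-- `e_a ↦ -e_a` -/
theorem sg_bs (a : B) : sg M a (bs a) = - bs a := by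
  rw [sg_apply, fn_bs, K_self]
  ext b
  simp
  ring

theorem sg_fix (a : B) (x : B → ℝ) (h : fn M a x = 0) : sg M a x = x := by
  rw [sg_apply, h]
  simp

section pair

variable (a b : B) (c : ℝ) (hc : K M a b = -c)
include hc

theorem fn_a_step (x : B → ℝ) :
    fn M a ((sg M a * sg M b) x) = - fn M a x - 2 * c * fn M b x := by
  rw [Module.End.mul_apply, sg_apply, sg_apply]
  simp only [map_sub, map_smul, fn_bs, K_self, hc, smul_eq_mul]
  ring

theorem fn_b_step (x : B → ℝ) :
    fn M b ((sg M a * sg M b) x) = 2 * c * fn M a x + (4 * c ^ 2 - 1) * fn M b x := by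
  rw [Module.End.mul_apply, sg_apply, sg_apply]
  simp only [map_sub, map_smul, fn_bs, K_self, hc, smul_eq_mul, K_symm M b a]
  ring

theorem step_eq (x : B → ℝ) :
    (sg M a * sg M b) x = x + (-2 * (fn M a x + 2 * c * fn M b x)) • bs a + (-2 * fn M b x) • bs b := by
  rw [Module.End.mul_apply, sg_apply, sg_apply]
  simp only [map_sub, map_smul, fn_bs, hc, smul_eq_mul]
  ext d
  simp only [Pi.sub_apply, Pi.add_apply, Pi.smul_apply, smul_eq_mul]
  ring

omit hc in
theorem pow_eq (x : B → ℝ) (k : ℕ) :
    ∃ A D : ℝ, ((sg M a * sg M b) ^ k) x = x + A • bs a + D • bs b := by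
  induction k with
  | zero => exact ⟨0, 0, by simp⟩
  | succ k ih =>
    obtain ⟨A, D, h⟩ := ih
    rw [pow_succ', Module.End.mul_apply, h]
    refine ⟨A - 2 * (fn M a (x + A • bs a + D • bs b) + 2 * (-K M a b) * fn M b (x + A • bs a + D • bs b)),
      D - 2 * fn M b (x + A • bs a + D • bs b), ?_⟩
    rw [step_eq M a b (-K M a b) (by ring)]
    ext d
    simp only [Pi.add_apply, Pi.smul_apply, smul_eq_mul]
    ring

theorem rec_a (x : B → ℝ) (k : ℕ) :
    fn M a (((sg M a * sg M b) ^ (k + 2)) x) =
      (4 * c ^ 2 - 2) * fn M a (((sg M a * sg M b) ^ (k + 1)) x) - fn M a (((sg M a * sg M b) ^ k) x) := by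
  rw [pow_succ' _ (k + 1), Module.End.mul_apply, fn_a_step M a b c hc, pow_succ' _ k, Module.End.mul_apply,
    fn_a_step M a b c hc, fn_b_step M a b c hc]
  ring

theorem rec_b (x : B → ℝ) (k : ℕ) :
    fn M b (((sg M a * sg M b) ^ (k + 2)) x) =
      (4 * c ^ 2 - 2) * fn M b (((sg M a * sg M b) ^ (k + 1)) x) - fn M b (((sg M a * sg M b) ^ k) x) := by
  rw [pow_succ' _ (k + 1), Module.End.mul_apply, fn_b_step M a b c hc, pow_succ' _ k, Module.End.mul_apply,
    fn_a_step M a b c hc, fn_b_step M a b c hc]
  ring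

end pair

/-- solution of the recursion -/
theorem rec_sol (f : ℕ → ℝ) (θ : ℝ) (hf : ∀ k, f (k + 2) = (4 * Real.cos θ ^ 2 - 2) * f (k + 1) - f k) (k : ℕ) :
    f k * Real.sin (2 * θ) = Real.sin (2 * k * θ) * f 1 - Real.sin (2 * k * θ - 2 * θ) * f 0 := by
  induction k using Nat.strong_induction_on with
  | _ k ih =>
    rcases k with _ | _ | k
    · simp
      ring
    · have : 2 * ((0 + 1 : ℕ) : ℝ) * θ = 2 * θ := by push_cast; ring
      rw [this, sub_self, Real.sin_zero]
      ring_nf
    · rw [hf k]
      have h1 := ih (k + 1) (by omega)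
      have h0 := ih k (by omega)
      have hc : 4 * Real.cos θ ^ 2 - 2 = 2 * Real.cos (2 * θ) := by
        rw [Real.cos_two_mul]; ring
      rw [sub_mul, mul_assoc, h1, h0, hc]
      push_cast
      have e1 : 2 * ((k : ℝ) + 1 + 1) * θ = 2 * ((k : ℝ) + 1) * θ + 2 * θ := by ring
      have e2 : 2 * (k : ℝ) * θ = 2 * ((k : ℝ) + 1) * θ - 2 * θ := by ring
      have e3 : 2 * ((k : ℝ) + 1) * θ + 2 * θ - 2 * θ = 2 * ((k : ℝ) + 1) * θ := by ring
      have e4 : 2 * ((k : ℝ) + 1) * θ - 2 * θ - 2 * θ = 2 * ((k : ℝ) + 1) * θ - 2 * (2 * θ) := by ring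
      rw [e1, e2, e3, e4]
      set y := 2 * ((k : ℝ) + 1) * θ
      rw [Real.sin_add y (2 * θ), Real.sin_sub y (2 * θ), Real.sin_sub y (2 * (2 * θ)), Real.sin_two_mul (2 * θ),
        Real.cos_two_mul (2 * θ)]
      ring

theorem cos_lt_one {m : ℕ} (hm : 2 ≤ m) : Real.cos (Real.pi / m) ^ 2 < 1 := by
  have hpi := Real.pi_pos
  have hm' : (2 : ℝ) ≤ m := by exact_mod_cast hm
  have h1 : 0 < Real.pi / m := by positivity
  have h2 : Real.pi / m < Real.pi := by
    rw [div_lt_iff₀ (by positivity)]
    nlinarith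
  have := Real.sin_pos_of_pos_of_lt_pi h1 h2
  have h3 := Real.sin_sq_add_cos_sq (Real.pi / m)
  nlinarith [sq_nonneg (Real.sin (Real.pi / m)), mul_pos this this]

theorem period (f : ℕ → ℝ) (m : ℕ) (hm : 2 ≤ m) (hf : ∀ k, f (k + 2) = (4 * Real.cos (Real.pi / m) ^ 2 - 2) * f (k + 1) - f k)
    (h2 : m = 2 → f 1 = - f 0) : f m = f 0 := by
  rcases Nat.eq_or_lt_of_le hm with rfl | h3
  · have h3 := hf 0
    have : Real.cos (Real.pi / ((2 : ℕ) : ℝ)) = 0 := by
      push_cast
      exact Real.cos_pi_div_two
    rw [this] at h3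
    simp only [Nat.zero_add] at h3
    rw [h3, h2 rfl]
    ring
  · have hpi := Real.pi_pos
    have hm' : (3 : ℝ) ≤ m := by exact_mod_cast h3
    have hs := rec_sol f (Real.pi / m) hf m
    have e1 : 2 * (m : ℝ) * (Real.pi / m) = 2 * Real.pi := by field_simp
    rw [e1, Real.sin_two_pi, Real.sin_two_pi_sub] at hs
    have h1 : 0 < Real.pi / m := by positivity
    have h4 : 2 * (Real.pi / m) < Real.pi := by
      rw [← mul_div_assoc, div_lt_iff₀ (by positivity)]
      nlinarith
    have hpos := Real.sin_pos_of_pos_of_lt_pi (by linarith : 0 < 2 * (Real.pi / m)) h4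
    have : (f m - f 0) * Real.sin (2 * (Real.pi / m)) = 0 := by
      rw [sub_mul, hs]; ring
    rcases mul_eq_zero.1 this with h | h
    · linarith
    · exact absurd h hpos.ne'

theorem liftable : M.IsLiftable (sg M) := by
  intro a b
  by_cases hab : a = b
  · subst hab
    rw [sg_sq, one_pow]
  by_cases h0 : M a b = 0
  · rw [h0, pow_zero]
  have h1 := M.off_diagonal a b hab
  have hm : 2 ≤ M a b := by omega
  have hK : K M a b = - Real.cos (Real.pi / M a b) := by simp [K, h0]
  set c := Real.cos (Real.pi / M a b) with hcdef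
  have hc1 : c ^ 2 < 1 := cos_lt_one hm
  refine LinearMap.ext fun x => ?_
  obtain ⟨A, D, hAD⟩ := pow_eq M a b x (M a b)
  have pa : fn M a (((sg M a * sg M b) ^ (M a b)) x) = fn M a x := by
    have := period (fun k => fn M a (((sg M a * sg M b) ^ k) x)) (M a b) hm (rec_a M a b c hK x) (by
      intro h2
      have hc0 : c = 0 := by
        rw [hcdef, h2]; push_cast; exact Real.cos_pi_div_two
      simp only [pow_one, pow_zero, Module.End.one_apply]
      rw [fn_a_step M a b c hK, hc0]; ring)
    simpa using this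
  have pb : fn M b (((sg M a * sg M b) ^ (M a b)) x) = fn M b x := by
    have := period (fun k => fn M b (((sg M a * sg M b) ^ k) x)) (M a b) hm (rec_b M a b c hK x) (by
      intro h2
      have hc0 : c = 0 := by
        rw [hcdef, h2]; push_cast; exact Real.cos_pi_div_two
      simp only [pow_one, pow_zero, Module.End.one_apply]
      rw [fn_b_step M a b c hK, hc0]; ring)
    simpa using this
  rw [hAD] at pa pb
  simp only [map_add, map_smul, fn_bs, K_self, hK, K_symm M b a, smul_eq_mul] at pa pb
  have hA : (1 - c ^ 2) * A = 0 := by linear_combination pa + c * pb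
  have hD : (1 - c ^ 2) * D = 0 := by linear_combination pb + c * pa
  have hne : (1 - c ^ 2) ≠ 0 := by linarith
  have hA0 : A = 0 := (mul_eq_zero.1 hA).resolve_left hne
  have hD0 : D = 0 := (mul_eq_zero.1 hD).resolve_left hne
  rw [hAD, hA0, hD0, Module.End.one_apply]
  simp

end form

section finite

variable {B : Type*} [Fintype B] [DecidableEq B] {M : CoxeterMatrix B} {W : Type*} [Group W]
  (cs : CoxeterSystem M W)

/-- the canonical representation -/
noncomputable def rep : W →* Module.End ℝ (B → ℝ) := cs.lift ⟨sg M, liftable M⟩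

theorem rep_simple (a : B) : rep cs (cs.simple a) = sg M a := cs.lift_apply_simple (liftable M) a

include cs in
theorem ne_zero_of_finite [Finite W] (a b : B) : M a b ≠ 0 := by
  intro h0
  have hab : a ≠ b := by
    rintro rfl
    rw [M.diagonal] at h0
    exact one_ne_zero h0
  have hK : K M a b = -1 := by simp [K, h0]
  have key : ∀ k : ℕ, ((sg M a * sg M b) ^ k) (bs a) = bs a + (2 * k : ℝ) • (bs a + bs b) := by
    intro k
    induction k with
    | zero => simp
    | succ k ih =>
      rw [pow_succ', Module.End.mul_apply, ih, step_eq M a b 1 hK]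
      simp only [map_add, map_smul, fn_bs, K_self, hK, K_symm M b a, smul_eq_mul]
      ext d
      simp only [Pi.add_apply, Pi.smul_apply, smul_eq_mul]
      push_cast
      ring
  obtain ⟨n, hn, hpow⟩ := (isOfFinOrder_of_finite (cs.simple a * cs.simple b)).exists_pow_eq_one
  have h1 : (sg M a * sg M b) ^ n = 1 := by
    rw [← rep_simple cs a, ← rep_simple cs b, ← map_mul, ← map_pow, hpow, map_one]
  have h2 := key n
  rw [h1, Module.End.one_apply] at h2
  have h3 := congrFun h2 b
  simp [bs, hab.symm] at h3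
  omega

theorem orderOf_eq [Finite W] (a b : B) : orderOf (cs.simple a * cs.simple b) = M a b := by
  apply Nat.dvd_antisymm
  · exact orderOf_dvd_of_pow_eq_one (cs.simple_mul_simple_pow a b)
  by_cases hab : a = b
  · subst hab
    rw [M.diagonal]
    exact one_dvd _
  have h0 : M a b ≠ 0 := ne_zero_of_finite cs a b
  have h1 := M.off_diagonal a b hab
  have hm : 2 ≤ M a b := by omega
  have hK : K M a b = - Real.cos (Real.pi / M a b) := by simp [K, h0]
  set n := orderOf (cs.simple a * cs.simple b) with hn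
  have hpow : (sg M a * sg M b) ^ n = 1 := by
    rw [← rep_simple cs a, ← rep_simple cs b, ← map_mul, ← map_pow, hn, pow_orderOf_eq_one, map_one]
  rcases Nat.eq_or_lt_of_le hm with h2 | h3
  · -- m = 2
    have hc0 : Real.cos (Real.pi / M a b) = 0 := by
      rw [← h2]; push_cast; exact Real.cos_pi_div_two
    have key : ∀ k : ℕ, fn M a (((sg M a * sg M b) ^ k) (bs a)) = (-1) ^ k := by
      intro k
      induction k with
      | zero => simp [fn_bs, K_self]
      | succ k ih =>
        rw [pow_succ', Module.End.mul_apply, fn_a_step M a b _ hK, ih, hc0]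
        ring
    have := key n
    rw [hpow, Module.End.one_apply, fn_bs, K_self] at this
    rw [← h2]
    have hev : Even n := by
      by_contra ho
      rw [Nat.not_even_iff_odd] at ho
      rw [ho.neg_one_pow] at this
      norm_num at this
    exact hev.two_dvd
  · have hpi := Real.pi_pos
    have hm' : (3 : ℝ) ≤ M a b := by exact_mod_cast h3
    set θ := Real.pi / M a b with hθ
    have hp1 : 0 < θ := by positivity
    have h4 : 2 * θ < Real.pi := by
      rw [hθ, ← mul_div_assoc, div_lt_iff₀ (by positivity)]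
      nlinarith
    have hpos := Real.sin_pos_of_pos_of_lt_pi (by linarith : 0 < 2 * θ) h4
    have hs := rec_sol (fun k => fn M a (((sg M a * sg M b) ^ k) (bs a))) θ
      (rec_a M a b (Real.cos θ) hK (bs a)) n
    simp only [hpow, Module.End.one_apply, pow_zero, pow_one, fn_bs, K_self,
      fn_a_step M a b (Real.cos θ) hK, K_symm M b a, hK] at hs
    have hcos : Real.cos (2 * n * θ) = 1 := by
      have e : (-1 : ℝ) - 2 * Real.cos θ * -Real.cos θ = Real.cos (2 * θ) := by
        rw [Real.cos_two_mul]; ring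
      rw [e, Real.sin_sub] at hs
      have : (Real.cos (2 * n * θ) - 1) * Real.sin (2 * θ) = 0 := by linear_combination -hs
      rcases mul_eq_zero.1 this with h | h
      · linarith
      · exact absurd h hpos.ne'
    rw [Real.cos_eq_one_iff] at hcos
    obtain ⟨z, hz⟩ := hcos
    have hz' : (z : ℝ) * (M a b : ℝ) = n := by
      have h5 : (z : ℝ) * (2 * Real.pi) = 2 * n * (Real.pi / M a b) := by rw [hz]
      have hM0 : (M a b : ℝ) ≠ 0 := by positivity
      field_simp at h5
      linarith
    have hz2 : z * (M a b : ℤ) = (n : ℤ) := by exact_mod_cast hz'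
    have : (M a b : ℤ) ∣ (n : ℤ) := ⟨z, by rw [← hz2, mul_comm]⟩
    exact_mod_cast this

/-- invariant inner product -/
noncomputable def ip [Fintype W] (x y : B → ℝ) : ℝ := ∑ w : W, ∑ b, (rep cs w x) b * (rep cs w y) b

section ipl

variable [Fintype W]

theorem ip_add_right (x y z : B → ℝ) : ip cs x (y + z) = ip cs x y + ip cs x z := by
  simp [ip, mul_add, Finset.sum_add_distrib]

theorem ip_smul_right (r : ℝ) (x y : B → ℝ) : ip cs x (r • y) = r * ip cs x y := by
  simp only [ip, map_smul, Pi.smul_apply, smul_eq_mul, Finset.mul_sum]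
  exact Finset.sum_congr rfl fun w _ => Finset.sum_congr rfl fun b _ => by ring

theorem ip_comm (x y : B → ℝ) : ip cs x y = ip cs y x := by
  simp only [ip]
  exact Finset.sum_congr rfl fun w _ => Finset.sum_congr rfl fun b _ => by ring

theorem ip_neg_left (x y : B → ℝ) : ip cs (-x) y = - ip cs x y := by
  simp [ip]

theorem ip_rep (g : W) (x y : B → ℝ) : ip cs (rep cs g x) (rep cs g y) = ip cs x y := by
  simp only [ip, ← Module.End.mul_apply, ← map_mul]
  exact Fintype.sum_equiv (Equiv.mulRight g) _ _ fun w => rfl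

theorem ip_pos (x : B → ℝ) (hx : x ≠ 0) : 0 < ip cs x x := by
  have h0 : ∀ w : W, 0 ≤ ∑ b, (rep cs w x) b * (rep cs w x) b := fun w =>
    Finset.sum_nonneg fun b _ => mul_self_nonneg _
  apply Finset.sum_pos' (fun w _ => h0 w)
  refine ⟨1, Finset.mem_univ _, ?_⟩
  rw [map_one, Module.End.one_apply]
  obtain ⟨b, hb⟩ := Function.ne_iff.1 hx
  apply Finset.sum_pos' (fun b _ => mul_self_nonneg _)
  exact ⟨b, Finset.mem_univ _, mul_self_pos.2 hb⟩

theorem ip_bs (a : B) (x : B → ℝ) : ip cs (bs a) x = fn M a x * ip cs (bs a) (bs a) := by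
  set y := x + (- fn M a x) • bs a with hy
  have hfy : fn M a y = 0 := by
    rw [hy, map_add, map_smul, fn_bs, K_self]
    simp
  have h1 : ip cs (bs a) y = 0 := by
    have := ip_rep cs (cs.simple a) (bs a) y
    rw [rep_simple, sg_bs, sg_fix M a y hfy, ip_neg_left] at this
    linarith
  rw [hy, ip_add_right, ip_smul_right] at h1
  linarith

end ipl

/-- `q x = ∑ x_a (e_a, x)` -/
noncomputable def q (M : CoxeterMatrix B) (x : B → ℝ) : ℝ := ∑ a, x a * fn M a x

theorem K_ne_zero (a b : B) (hab : a ≠ b) (h2 : M a b ≠ 2) : K M a b ≠ 0 := by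
  unfold K
  split_ifs with h0
  · norm_num
  · have h1 := M.off_diagonal a b hab
    have hm : 3 ≤ M a b := by omega
    have hm' : (3 : ℝ) ≤ M a b := by exact_mod_cast hm
    have hpi := Real.pi_pos
    have : 0 < Real.cos (Real.pi / M a b) := by
      apply Real.cos_pos_of_mem_Ioo
      constructor
      · have : 0 < Real.pi / M a b := by positivity
        linarith
      · rw [div_lt_div_iff₀ (by positivity) (by norm_num)]
        nlinarith
    linarith

include cs in
/-- Positivity of the canonical form of a finite Coxeter group with connected diagram. -/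
theorem q_pos [Finite W]
    (hconn : ∀ J : Set B, J.Nonempty → Jᶜ.Nonempty → ∃ a ∈ J, ∃ b ∈ Jᶜ, M a b ≠ 2)
    (x : B → ℝ) (hx : x ≠ 0) : 0 < q M x := by
  classical
  have := Fintype.ofFinite W
  obtain ⟨a₀, -⟩ := Function.ne_iff.1 hx
  have hlam : ∀ a, ip cs (bs a) (bs a) = ip cs (bs a₀) (bs a₀) := by
    by_contra hcon
    push Not at hcon
    obtain ⟨a₁, ha₁⟩ := hcon
    obtain ⟨a, ha, b, hb, hne⟩ := hconn {a | ip cs (bs a) (bs a) = ip cs (bs a₀) (bs a₀)} ⟨a₀, rfl⟩ ⟨a₁, ha₁⟩
    have hab : a ≠ b := by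
      rintro rfl
      exact hb ha
    have h1 := ip_bs cs a (bs b)
    have h2 := ip_bs cs b (bs a)
    rw [fn_bs] at h1 h2
    rw [ip_comm, h2, K_symm M b a] at h1
    have := mul_left_cancel₀ (K_ne_zero a b hab hne) h1
    exact hb (this.trans ha)
  have hpos : 0 < ip cs (bs a₀) (bs a₀) := by
    apply ip_pos
    intro h
    have := congrFun h a₀
    simp [bs] at this
  have key : ip cs x x = ip cs (bs a₀) (bs a₀) * q M x := by
    have e : x = ∑ a, x a • bs a := by
      ext b
      simp [bs, Finset.sum_apply, Pi.single_apply]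
    have hsum : ∀ (s : Finset B) (y : B → ℝ), ip cs y (∑ a ∈ s, x a • bs a) = ∑ a ∈ s, x a * ip cs y (bs a) := by
      intro s y
      induction s using Finset.induction_on with
      | empty => simp [ip]
      | insert a s ha ih => rw [Finset.sum_insert ha, Finset.sum_insert ha, ip_add_right, ip_smul_right, ih]
    have h1 : ip cs x x = ip cs x (∑ a, x a • bs a) := by rw [← e]
    rw [h1, hsum, q, Finset.mul_sum]
    refine Finset.sum_congr rfl fun a _ => ?_
    rw [ip_comm, ip_bs, hlam]
    ring
  have := ip_pos cs x hx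
  rw [key] at this
  exact (pos_iff_pos_of_mul_pos this).1 hpos

end finite

end Cfsg.Agent.LieRecognition.CoxForm
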