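import Mathlib
import Cfsg.Agent.LieExceptional.BNPairCore

/-!
Feit--Higman for (B,N)-pairs of rank two, group-theoretic half: the Hecke operators on `G ⧸ B`.

For a finite group with a (B,N)-pair of rank two we produce two real matrices indexed by `G ⧸ B`
satisfying the quadratic relations, the braid relation of length `n` where `2 * n` is the order of the
Weyl group, and such that the alternating products of length `1, ..., n` have trace zero.
-/

set_option autoImplicit false

namespace Cfsg.Agent.LieRecognition.FeitHigmanGroup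

open Cfsg Cfsg.Agent.LieExceptional.BNPairCore

/-! ### Alternating products -/

/-- The alternating product `a * b * a * ...` with `k` factors. -/
def alt {M : Type*} [Monoid M] : ℕ → M → M → M
  | 0, _, _ => 1
  | k + 1, a, b => a * alt k b a

theorem alt_zero {M : Type*} [Monoid M] (a b : M) : alt 0 a b = 1 := rfl

theorem alt_succ {M : Type*} [Monoid M] (k : ℕ) (a b : M) : alt (k + 1) a b = a * alt k b a := rfl

theorem alt_one {M : Type*} [Monoid M] (a b : M) : alt 1 a b = a := by
  rw [alt_succ, alt_zero, mul_one]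

variable {G : Type*} [Group G] {P : BNPair G}

theorem alt_mem_N {s t : G} (hs : s ∈ P.S) (ht : t ∈ P.S) (k : ℕ) : alt k s t ∈ P.N := by
  induction k generalizing s t with
  | zero => exact one_mem _
  | succ k ih => exact mul_mem (mem_N hs) (ih ht hs)

/-- the word with `k` alternating letters -/
def altWord {M : Type*} : ℕ → M → M → List M
  | 0, _, _ => []
  | k + 1, a, b => a :: altWord k b a

theorem altWord_prod {M : Type*} [Monoid M] (k : ℕ) (a b : M) :
    (altWord k a b).prod = alt k a b := by
  induction k generalizing a b with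
  | zero => rfl
  | succ k ih => rw [altWord, List.prod_cons, ih, alt_succ]

theorem len_alt_le {s t : G} (hs : s ∈ P.S) (ht : t ∈ P.S) (k : ℕ) : len P (alt k s t) ≤ k := by
  induction k generalizing s t with
  | zero => rw [alt_zero, len_one]
  | succ k ih =>
    rw [alt_succ]
    exact (len_mul_left_le hs (alt_mem_N ht hs k)).trans (Nat.succ_le_succ (ih ht hs))

/-- If `alt (k+1) s t` is reduced, so is `alt k t s`. -/
theorem len_alt_pred {s t : G} (hs : s ∈ P.S) (ht : t ∈ P.S) {k : ℕ}
    (h : len P (alt (k + 1) s t) = k + 1) : len P (alt k t s) = k := by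
  have h1 := len_alt_le (P := P) ht hs k
  have h2 := len_mul_left_le (P := P) hs (alt_mem_N (P := P) ht hs k)
  rw [← alt_succ, h] at h2
  omega

/-- Reduced words in two letters are alternating: every element of `N` is congruent to one of
the alternating words of its own length. -/
theorem exists_alt {s t : G} (hS : P.S = {s, t}) {n : G} (hn : n ∈ P.N) :
    (alt (len P n) s t)⁻¹ * n ∈ P.B ∨ (alt (len P n) t s)⁻¹ * n ∈ P.B := by
  have hs : s ∈ P.S := by rw [hS]; simp
  have ht : t ∈ P.S := by rw [hS]; simp
  obtain ⟨k, hk⟩ : ∃ k, len P n = k := ⟨_, rfl⟩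
  induction k generalizing n with
  | zero =>
    left
    rw [hk, alt_zero]
    simpa using (len_eq_zero_iff hn).1 hk
  | succ k ih =>
    obtain ⟨l, hl, hlS, hl'⟩ := exists_reduced (P := P) hn
    rw [hk] at hl
    match l, hl, hlS, hl' with
    | a :: l₂, hl, hlS, hl' =>
      have ha : a ∈ P.S := hlS a (by simp)
      have hl₂S : ∀ x ∈ l₂, x ∈ P.S := fun x hx => hlS x (by simp [hx])
      have hmN : l₂.prod ∈ P.N := prod_mem_N hl₂S
      rw [List.prod_cons] at hl'
      have hlen : l₂.length = k := by simpa using hl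
      have hmk : len P l₂.prod = k := by
        have h1 : len P l₂.prod ≤ k := hlen ▸ len_prod_le hl₂S
        have h2 : len P (a * l₂.prod) ≤ len P l₂.prod + 1 := len_mul_left_le ha hmN
        rw [len_congr hl', hk] at h2
        omega
      have key : ∀ u v : G, u ∈ P.S → v ∈ P.S → (a = u ∨ a = v) →
          (alt k u v)⁻¹ * l₂.prod ∈ P.B → (alt (k+1) v u)⁻¹ * n ∈ P.B ∨
            (alt (k+1) u v)⁻¹ * n ∈ P.B := by
        intro u v hu hv hauv huv
        rcases hauv with rfl | rfl
        · -- `n ~ u * alt k u v`, impossible if `k ≥ 1`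
          rcases Nat.eq_zero_or_pos k with rfl | hkpos
          · right
            rw [alt_succ, alt_zero, mul_one]
            rw [alt_zero, inv_one, one_mul] at huv
            have h3 := rel_trans (rel_mul_left a (show (1 : G)⁻¹ * l₂.prod ∈ P.B by simpa using huv))
              hl'
            simpa using h3
          · exfalso
            obtain ⟨j, rfl⟩ : ∃ j, k = j + 1 := ⟨k - 1, by omega⟩
            have h3 : (a * alt (j + 1) a v)⁻¹ * n ∈ P.B := rel_trans (rel_mul_left a huv) hl'
            have h4 : len P (a * alt (j + 1) a v) = j + 1 + 1 := by rw [len_congr h3, hk]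
            have h5 : len P (a * (a * alt j v a)) = len P (alt j v a) :=
              len_congr (rel_sq_mul ha (alt_mem_N hv ha j))
            rw [alt_succ, h5] at h4
            have h6 := len_alt_le (P := P) hv ha j
            omega
        · left
          rw [alt_succ]
          exact rel_trans (rel_mul_left a huv) hl'
      have hast : a = s ∨ a = t := by
        have := ha
        rw [hS] at this
        simpa using this
      rw [hk]
      rcases ih hmN hmk with h | h
      · rw [hmk] at h
        exact (key s t hs ht hast h).symm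
      · rw [hmk] at h
        exact key t s ht hs hast.symm h

/-! ### The relation of type `w` on `G ⧸ B` -/

variable (P) in
/-- `R P w x y`: the cosets `x = gB`, `y = hB` are such that `g⁻¹ h ∈ B w B`. -/
def R (w : G) (x y : G ⧸ P.B) : Prop := ∃ g h : G, (g : G ⧸ P.B) = x ∧ (h : G ⧸ P.B) = y ∧ g⁻¹ * h ∈ C P w

theorem R_mk_iff {w g h : G} : R P w (g : G ⧸ P.B) (h : G ⧸ P.B) ↔ g⁻¹ * h ∈ C P w := by
  constructor
  · rintro ⟨g', h', hg, hh, hw⟩
    rw [QuotientGroup.eq] at hg hh
    have e : g⁻¹ * h = (g'⁻¹ * g)⁻¹ * (g'⁻¹ * h') * (h'⁻¹ * h) := by group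
    rw [e]
    exact mul_mem_C_right hh (mul_mem_C_left (inv_mem hg) hw)
  · intro hw
    exact ⟨g, h, rfl, rfl, hw⟩

theorem inv_rel {s : G} (hs : s ∈ P.S) : C P s⁻¹ = C P s := by
  apply C_eq_of_rel
  have : (s⁻¹)⁻¹ * s = s * s := by group
  rw [this]
  exact P.sq_mem s hs

theorem R_symm {s : G} (hs : s ∈ P.S) {x y : G ⧸ P.B} (h : R P s x y) : R P s y x := by
  obtain ⟨g, h', rfl, rfl, hw⟩ := h
  rw [R_mk_iff]
  have := inv_mem_C hw
  rw [inv_rel hs] at this
  have e : (g⁻¹ * h')⁻¹ = h'⁻¹ * g := by group
  rwa [e] at this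

theorem R_irrefl {w : G} (hw : w ∉ P.B) (x : G ⧸ P.B) : ¬ R P w x x := by
  induction x using QuotientGroup.induction_on with
  | H g =>
    rw [R_mk_iff]
    intro h
    rw [inv_mul_cancel] at h
    have h1 : C P 1 = C P w := C_eq_of_mem h
    have h2 : w ∈ C P 1 := h1 ▸ self_mem_C w
    exact hw (mem_C_one.1 h2)

/-- `B s B B s B ⊆ B ∪ B s B`. -/
theorem R_trans {s : G} (hs : s ∈ P.S) {x y z : G ⧸ P.B} (h : R P s x y) (h' : R P s y z) :
    x = z ∨ R P s x z := by
  induction x using QuotientGroup.induction_on with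
  | H g =>
  induction y using QuotientGroup.induction_on with
  | H g' =>
  induction z using QuotientGroup.induction_on with
  | H g'' =>
    rw [R_mk_iff] at h h' ⊢
    rw [QuotientGroup.eq]
    obtain ⟨b, hb, c, hc, e⟩ := mem_C.1 h
    obtain ⟨b', hb', c', hc', e'⟩ := mem_C.1 h'
    have e2 : g⁻¹ * g'' = b * (s * (c * b') * s) * c' := by
      calc g⁻¹ * g'' = (g⁻¹ * g') * (g'⁻¹ * g'') := by group
        _ = _ := by rw [e, e']; group
    rw [e2]
    rcases axiom_left (P := P) hs (mem_N hs) (mul_mem hc hb') with h3 | h3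
    · left
      exact mul_mem (mul_mem hb (mem_B_of_mem_C (P.sq_mem s hs) h3)) hc'
    · right
      exact mul_mem_C_right hc' (mul_mem_C_left hb h3)

/-- If `len w ≤ len (s w)`, then relations of type `s` and `w` compose to type `s w`. -/
theorem R_comp {s w : G} (hs : s ∈ P.S) (hw : w ∈ P.N) (hle : len P w ≤ len P (s * w))
    {x y z : G ⧸ P.B} (h : R P s x y) (h' : R P w y z) : R P (s * w) x z := by
  induction x using QuotientGroup.induction_on with
  | H g =>
  induction y using QuotientGroup.induction_on with
  | H g' =>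
  induction z using QuotientGroup.induction_on with
  | H g'' =>
    rw [R_mk_iff] at h h' ⊢
    obtain ⟨b, hb, c, hc, e⟩ := mem_C.1 h
    obtain ⟨b', hb', c', hc', e'⟩ := mem_C.1 h'
    have e2 : g⁻¹ * g'' = b * (s * (c * b') * w) * c' := by
      calc g⁻¹ * g'' = (g⁻¹ * g') * (g'⁻¹ * g'') := by group
        _ = _ := by rw [e, e']; group
    rw [e2]
    exact mul_mem_C_right hc' (mul_mem_C_left hb (mul_mem_C_of_le hs hw (mul_mem hc hb') hle))

theorem exists_of_R_mul {s w : G} {x z : G ⧸ P.B} (h : R P (s * w) x z) :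
    ∃ y, R P s x y ∧ R P w y z := by
  induction x using QuotientGroup.induction_on with
  | H g =>
  induction z using QuotientGroup.induction_on with
  | H g'' =>
    rw [R_mk_iff] at h
    obtain ⟨b, hb, c, hc, e⟩ := mem_C.1 h
    refine ⟨((g * b * s : G) : G ⧸ P.B), ?_, ?_⟩
    · rw [R_mk_iff]
      exact mem_C.2 ⟨b, hb, 1, one_mem _, by group⟩
    · rw [R_mk_iff]
      refine mem_C.2 ⟨1, one_mem _, c, hc, ?_⟩
      calc (g * b * s)⁻¹ * g'' = s⁻¹ * b⁻¹ * (g⁻¹ * g'') := by group
        _ = _ := by rw [e]; group

theorem R_unique {s w : G} (hs : s ∈ P.S) (hw : w ∈ P.N) (hle : len P w ≤ len P (s * w))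
    {x y y' z : G ⧸ P.B} (h : R P s x y) (h' : R P w y z) (k : R P s x y') (k' : R P w y' z) :
    y = y' := by
  rcases R_trans hs (R_symm hs h) k with h1 | h1
  · exact h1
  · exfalso
    have h2 := R_comp hs hw hle h1 k'
    induction y using QuotientGroup.induction_on with
    | H g =>
    induction z using QuotientGroup.induction_on with
    | H g'' =>
      rw [R_mk_iff] at h2 h'
      exact not_C_mul_left_eq hs hw (C_eq_of_mem_mem h2 h')

/-! ### Hecke matrices -/

open Classical in
variable (P) in
/-- The matrix of the relation of type `w`. -/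
noncomputable def T (w : G) : Matrix (G ⧸ P.B) (G ⧸ P.B) ℝ :=
  Matrix.of fun x y => if R P w x y then 1 else 0

open Classical in
theorem T_apply (w : G) (x y : G ⧸ P.B) : T P w x y = if R P w x y then 1 else 0 := rfl

theorem T_congr {w w' : G} (h : w⁻¹ * w' ∈ P.B) : T P w = T P w' := by
  have : R P w = R P w' := by
    funext x y
    unfold R
    rw [C_eq_of_rel h]
  unfold T
  rw [this]

theorem T_one [DecidableEq (G ⧸ P.B)] : T P (1 : G) = 1 := by
  ext x y
  rw [T_apply, Matrix.one_apply]
  have : R P 1 x y ↔ x = y := by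
    induction x using QuotientGroup.induction_on with
    | H g =>
    induction y using QuotientGroup.induction_on with
    | H g' =>
      rw [R_mk_iff, mem_C_one, QuotientGroup.eq]
  simp only [this]

theorem T_mul [Fintype (G ⧸ P.B)] {s w : G} (hs : s ∈ P.S) (hw : w ∈ P.N)
    (hle : len P w ≤ len P (s * w)) : T P s * T P w = T P (s * w) := by
  classical
  ext x z
  rw [Matrix.mul_apply, T_apply]
  by_cases h : R P (s * w) x z
  · rw [if_pos h]
    obtain ⟨y, h1, h2⟩ := exists_of_R_mul h
    rw [Finset.sum_eq_single y]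
    · rw [T_apply, T_apply, if_pos h1, if_pos h2, mul_one]
    · intro y' _ hy'
      rw [T_apply, T_apply]
      by_cases k1 : R P s x y'
      · by_cases k2 : R P w y' z
        · exact absurd (R_unique hs hw hle k1 k2 h1 h2) hy'
        · rw [if_neg k2, mul_zero]
      · rw [if_neg k1, zero_mul]
    · intro hy; exact absurd (Finset.mem_univ y) hy
  · rw [if_neg h]
    apply Finset.sum_eq_zero
    intro y _
    rw [T_apply, T_apply]
    by_cases k1 : R P s x y
    · by_cases k2 : R P w y z
      · exact absurd (R_comp hs hw hle k1 k2) h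
      · rw [if_neg k2, mul_zero]
    · rw [if_neg k1, zero_mul]

variable (P) in
/-- The index `|B s B / B|`. -/
noncomputable def q (s : G) : ℕ := Nat.card {y : G ⧸ P.B // R P s ((1 : G) : G ⧸ P.B) y}

theorem card_R (s : G) (x : G ⧸ P.B) : Nat.card {y : G ⧸ P.B // R P s x y} = q P s := by
  induction x using QuotientGroup.induction_on with
  | H g =>
    unfold q
    refine (Nat.card_congr ?_).symm
    refine Equiv.subtypeEquiv (MulAction.toPerm g) ?_
    intro y
    induction y using QuotientGroup.induction_on with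
    | H h =>
      have : (MulAction.toPerm g : Equiv.Perm (G ⧸ P.B)) (h : G ⧸ P.B) = ((g * h : G) : G ⧸ P.B) := rfl
      rw [this, R_mk_iff, R_mk_iff]
      have e : g⁻¹ * (g * h) = 1⁻¹ * h := by group
      rw [e]

theorem card_filter_R [Fintype (G ⧸ P.B)] (s : G) (x : G ⧸ P.B)
    [DecidablePred fun y => R P s x y] :
    (Finset.univ.filter fun y => R P s x y).card = q P s := by
  rw [← card_R s x, Nat.card_eq_fintype_card, Fintype.card_subtype]

theorem T_sq [Fintype (G ⧸ P.B)] [DecidableEq (G ⧸ P.B)] {s : G} (hs : s ∈ P.S) :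
    T P s * T P s = ((q P s : ℝ) - 1) • T P s + (q P s : ℝ) • (1 : Matrix (G ⧸ P.B) (G ⧸ P.B) ℝ) := by
  classical
  have hsB := not_mem_B hs
  ext x z
  rw [Matrix.mul_apply]
  have h0 : ∀ y, T P s x y * T P s y z = if (R P s x y ∧ R P s y z) then 1 else 0 := by
    intro y
    rw [T_apply, T_apply]
    by_cases k1 : R P s x y
    · by_cases k2 : R P s y z
      · simp [k1, k2]
      · simp [k1, k2]
    · simp [k1]
  rw [Finset.sum_congr rfl fun y _ => h0 y]
  rw [Finset.sum_boole]
  rw [Matrix.add_apply, Matrix.smul_apply, Matrix.smul_apply, T_apply, Matrix.one_apply]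
  by_cases hxz : x = z
  · subst hxz
    have h1 : (Finset.univ.filter fun y => R P s x y ∧ R P s y x)
        = Finset.univ.filter fun y => R P s x y := by
      ext y
      simp only [Finset.mem_filter, Finset.mem_univ, true_and]
      exact ⟨fun h => h.1, fun h => ⟨h, R_symm hs h⟩⟩
    rw [h1, card_filter_R]
    rw [if_neg (R_irrefl hsB x)]
    simp
  · by_cases h : R P s x z
    · have h1 : (Finset.univ.filter fun y => R P s x y ∧ R P s y z)
          = (Finset.univ.filter fun y => R P s x y).erase z := by
        ext y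
        simp only [Finset.mem_filter, Finset.mem_univ, true_and, Finset.mem_erase]
        constructor
        · rintro ⟨h1, h2⟩
          refine ⟨?_, h1⟩
          rintro rfl
          exact R_irrefl hsB y h2
        · rintro ⟨h1, h2⟩
          refine ⟨h2, ?_⟩
          rcases R_trans hs (R_symm hs h2) h with h3 | h3
          · exact absurd h3 h1
          · exact h3
      rw [h1, Finset.card_erase_of_mem (by simpa using h), card_filter_R]
      have hq : 1 ≤ q P s := by
        rw [← card_filter_R s x]
        exact Finset.card_pos.2 ⟨z, by simpa using h⟩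
      rw [if_pos h, if_neg hxz, Nat.cast_sub hq]
      simp
    · have h1 : (Finset.univ.filter fun y => R P s x y ∧ R P s y z) = ∅ := by
        ext y
        simp only [Finset.mem_filter, Finset.mem_univ, true_and, Finset.notMem_empty, iff_false]
        rintro ⟨h1, h2⟩
        rcases R_trans hs h1 h2 with h3 | h3
        · exact hxz h3
        · exact h h3
      rw [h1, if_neg h, if_neg hxz]
      simp

theorem two_le_q [Finite G] {s : G} (hs : s ∈ P.S) : 2 ≤ q P s := by
  classical
  have : Fintype (G ⧸ P.B) := Fintype.ofFinite _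
  obtain ⟨b, hb, hC⟩ := exists_mem_C_self (P := P) hs
  rw [← card_filter_R s ((1 : G) : G ⧸ P.B)]
  have h1 : ((s : G) : G ⧸ P.B) ∈ Finset.univ.filter fun y => R P s ((1 : G) : G ⧸ P.B) y := by
    simp only [Finset.mem_filter, Finset.mem_univ, true_and, R_mk_iff, inv_one, one_mul]
    exact self_mem_C s
  have h2 : ((s * b * s : G) : G ⧸ P.B) ∈ Finset.univ.filter fun y => R P s ((1 : G) : G ⧸ P.B) y := by
    simp only [Finset.mem_filter, Finset.mem_univ, true_and, R_mk_iff, inv_one, one_mul]
    exact hC
  have h3 : ((s : G) : G ⧸ P.B) ≠ ((s * b * s : G) : G ⧸ P.B) := by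
    intro h
    rw [QuotientGroup.eq] at h
    have e : s⁻¹ * (s * b * s) = b * s := by group
    rw [e] at h
    have := mul_mem (inv_mem hb) h
    rw [inv_mul_cancel_left] at this
    exact not_mem_B hs this
  exact Finset.one_lt_card.2 ⟨_, h1, _, h2, h3⟩

theorem trace_T [Fintype (G ⧸ P.B)] {w : G} (hw : w ∉ P.B) : (T P w).trace = 0 := by
  classical
  unfold Matrix.trace
  apply Finset.sum_eq_zero
  intro x _
  rw [Matrix.diag_apply, T_apply, if_neg (R_irrefl hw x)]

/-! ### Rank two: the length of the braid relation -/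

section RankTwo

variable {s t : G}

/-- Both alternating words of length `k` are reduced. -/
def Red (P : BNPair G) (s t : G) (k : ℕ) : Prop :=
  len P (alt k s t) = k ∧ len P (alt k t s) = k

theorem Red.pred (hs : s ∈ P.S) (ht : t ∈ P.S) {k : ℕ} (h : Red P s t (k + 1)) : Red P s t k :=
  ⟨len_alt_pred ht hs h.2, len_alt_pred hs ht h.1⟩

theorem Red.of_le (hs : s ∈ P.S) (ht : t ∈ P.S) {k m : ℕ} (hkm : k ≤ m) (h : Red P s t m) :
    Red P s t k := by
  induction hkm with
  | refl => exact h
  | step _ ih => exact ih (h.pred hs ht)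

theorem red_zero : Red P s t 0 := ⟨len_one, len_one⟩

theorem red_one (hs : s ∈ P.S) (ht : t ∈ P.S) : Red P s t 1 := by
  refine ⟨?_, ?_⟩
  · rw [alt_one, len_gen hs]
  · rw [alt_one, len_gen ht]

/-- If `len (alt k t s) = k` but `alt (k+1) s t` is not reduced then `alt k s t ~ alt k t s`. -/
theorem braid_of_not_red (hS : P.S = {s, t}) (hst : s ≠ t) {k : ℕ} (hk : Red P s t k)
    (h : len P (alt (k + 1) s t) ≠ k + 1) : (alt k s t)⁻¹ * alt k t s ∈ P.B := by
  have hs : s ∈ P.S := by rw [hS]; simp
  have ht : t ∈ P.S := by rw [hS]; simp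
  rw [alt_succ] at h
  have hN := alt_mem_N (P := P) ht hs k
  rcases len_mul_left_cases (P := P) hs hN with h1 | h1
  · rw [hk.2] at h1; exact absurd h1 h
  rw [hk.2] at h1
  obtain ⟨j, rfl⟩ : ∃ j, k = j + 1 := ⟨k - 1, by omega⟩
  have h2 : len P (s * alt (j + 1) t s) = j := by omega
  have h3 := exists_alt hS (mul_mem (mem_N hs) hN)
  rw [h2] at h3
  rcases h3 with h3 | h3
  · -- `s * alt (j+1) t s ~ alt j s t`, so `alt (j+1) t s ~ s * alt j s t`
    exfalso
    have h4 : (s * alt j s t)⁻¹ * alt (j + 1) t s ∈ P.B :=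
      rel_trans (rel_mul_left s h3) (rel_sq_mul hs hN)
    rcases Nat.eq_zero_or_pos j with rfl | hj
    · rw [alt_zero, mul_one, alt_one] at h4
      exact hst (P.inj s hs t ht h4)
    · obtain ⟨i, rfl⟩ : ∃ i, j = i + 1 := ⟨j - 1, by omega⟩
      have h5 := len_congr h4
      rw [hk.2, alt_succ, len_congr (rel_sq_mul hs (alt_mem_N ht hs i))] at h5
      have h6 := len_alt_le (P := P) ht hs i
      omega
  · have h4 : (s * alt j t s)⁻¹ * alt (j + 1) t s ∈ P.B :=
      rel_trans (rel_mul_left s h3) (rel_sq_mul hs hN)
    exact h4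

/-- If `alt (k+1) t s` is reduced, then `alt (k+1) s t` and `alt (k+1) t s`... -/
theorem not_red_of_braid (hs : s ∈ P.S) (ht : t ∈ P.S) {k : ℕ} (hk : 1 ≤ k)
    (h : (alt k s t)⁻¹ * alt k t s ∈ P.B) : len P (alt (k + 1) s t) ≠ k + 1 := by
  obtain ⟨j, rfl⟩ : ∃ j, k = j + 1 := ⟨k - 1, by omega⟩
  have h1 : (s * alt (j + 1) s t)⁻¹ * (s * alt (j + 1) t s) ∈ P.B := rel_mul_left s h
  rw [alt_succ, ← len_congr h1, alt_succ, len_congr (rel_sq_mul hs (alt_mem_N ht hs j))]
  have := len_alt_le (P := P) ht hs j
  omega

/-- In a finite group there is a largest `n` such that both alternating words of length `n` are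
reduced. -/
theorem exists_max_red [Finite G] (hS : P.S = {s, t}) (hst : s ≠ t) :
    ∃ n, 2 ≤ n ∧ Red P s t n ∧ (alt n s t)⁻¹ * alt n t s ∈ P.B ∧
      ∀ k, 1 ≤ k → k < n → (alt k s t)⁻¹ * alt k t s ∉ P.B := by
  classical
  have hs : s ∈ P.S := by rw [hS]; simp
  have ht : t ∈ P.S := by rw [hS]; simp
  have hex : ∃ k, ¬ Red P s t (k + 1) := by
    by_contra hcon
    push Not at hcon
    have h1 : Function.Injective fun k : ℕ => alt (k + 1) s t := by
      intro a b hab
      have h2 : len P (alt (a + 1) s t) = len P (alt (b + 1) s t) := by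
        have : alt (a + 1) s t = alt (b + 1) s t := hab
        rw [this]
      rw [(hcon a).1, (hcon b).1] at h2
      omega
    exact not_injective_infinite_finite _ h1
  let n := Nat.find hex
  have hn : ¬ Red P s t (n + 1) := Nat.find_spec hex
  have hlt : ∀ k, k < n → Red P s t (k + 1) := fun k hk => by
    have := Nat.find_min hex hk
    push Not at this
    exact this
  have hred : Red P s t n := by
    rcases Nat.eq_zero_or_pos n with h0 | h0
    · rw [h0]; exact red_zero
    · have := hlt (n - 1) (by omega)
      rwa [Nat.sub_add_cancel h0] at this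
  have hn1 : 1 ≤ n := by
    rw [Nat.one_le_iff_ne_zero]
    intro h0
    rw [h0] at hn
    exact hn (red_one hs ht)
  have hbraid : (alt n s t)⁻¹ * alt n t s ∈ P.B := by
    by_cases h1 : len P (alt (n + 1) s t) = n + 1
    · have h2 : len P (alt (n + 1) t s) ≠ n + 1 := fun h2 => hn ⟨h1, h2⟩
      have hS' : P.S = {t, s} := by rw [hS, Set.pair_comm]
      exact rel_symm (braid_of_not_red hS' hst.symm ⟨hred.2, hred.1⟩ h2)
    · exact braid_of_not_red hS hst hred h1
  refine ⟨n, ?_, hred, hbraid, ?_⟩
  · by_contra hlt2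
    have h1 : n = 1 := by omega
    rw [h1, alt_one, alt_one] at hbraid
    exact hst (P.inj s hs t ht hbraid)
  · intro k hk1 hkn h
    exact not_red_of_braid hs ht hk1 h (hred.of_le hs ht (show k + 1 ≤ n by omega)).1

/-- Alternating products of the Hecke operators. -/
theorem alt_T [Fintype (G ⧸ P.B)] [DecidableEq (G ⧸ P.B)] (hs : s ∈ P.S) (ht : t ∈ P.S) {k : ℕ}
    (hk : len P (alt k s t) = k) : alt k (T P s) (T P t) = T P (alt k s t) := by
  induction k generalizing s t with
  | zero => rw [alt_zero, alt_zero, T_one]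
  | succ k ih =>
    have h1 := len_alt_pred hs ht hk
    rw [alt_succ, alt_succ, ih ht hs h1, T_mul hs (alt_mem_N ht hs k)]
    rw [← alt_succ, hk, h1]
    exact Nat.le_succ k

theorem card_weyl (hS : P.S = {s, t}) {n : ℕ} (hn : 1 ≤ n) (hred : Red P s t n)
    (hbraid : (alt n s t)⁻¹ * alt n t s ∈ P.B)
    (hne : ∀ k, 1 ≤ k → k < n → (alt k s t)⁻¹ * alt k t s ∉ P.B) :
    ((P.B ⊓ P.N).subgroupOf P.N).index = 2 * n := by
  have hs : s ∈ P.S := by rw [hS]; simp
  have ht : t ∈ P.S := by rw [hS]; simp
  let f : Bool × Fin n → P.N ⧸ (P.B ⊓ P.N).subgroupOf P.N := fun p =>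
    if p.1 then ((⟨alt (p.2 : ℕ) s t, alt_mem_N hs ht _⟩ : P.N) : P.N ⧸ (P.B ⊓ P.N).subgroupOf P.N)
    else ((⟨alt ((p.2 : ℕ) + 1) t s, alt_mem_N ht hs _⟩ : P.N) : P.N ⧸ (P.B ⊓ P.N).subgroupOf P.N)
  have hmk : ∀ (a b : G) (ha : a ∈ P.N) (hb : b ∈ P.N),
      (((⟨a, ha⟩ : P.N) : P.N ⧸ (P.B ⊓ P.N).subgroupOf P.N) = ((⟨b, hb⟩ : P.N) :
        P.N ⧸ (P.B ⊓ P.N).subgroupOf P.N)) ↔ a⁻¹ * b ∈ P.B := by
    intro a b ha hb
    rw [QuotientGroup.eq, Subgroup.mem_subgroupOf]
    constructor
    · intro h; exact h.1
    · intro h; exact ⟨h, P.N.mul_mem (P.N.inv_mem ha) hb⟩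
  have hredle : ∀ k, k ≤ n → Red P s t k := fun k hk => hred.of_le hs ht hk
  have hf : Function.Bijective f := by
    constructor
    · rintro ⟨a, i⟩ ⟨b, j⟩ hab
      have hi := i.2
      have hj := j.2
      cases a <;> cases b
      · simp only [f, Bool.false_eq_true, if_false] at hab
        rw [hmk] at hab
        have := len_congr hab
        rw [(hredle _ (by omega)).2, (hredle _ (by omega)).2] at this
        have h2 : i = j := by ext; omega
        rw [h2]
      · exfalso
        simp only [f, Bool.false_eq_true, if_false, if_true] at hab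
        rw [hmk] at hab
        have := len_congr hab
        rw [(hredle _ (by omega)).2, (hredle _ (by omega)).1] at this
        rw [← this] at hab
        exact hne _ (by omega) (by omega) (rel_symm hab)
      · exfalso
        simp only [f, Bool.false_eq_true, if_false, if_true] at hab
        rw [hmk] at hab
        have := len_congr hab
        rw [(hredle _ (by omega)).2, (hredle _ (by omega)).1] at this
        rw [this] at hab
        exact hne _ (by omega) (by omega) hab
      · simp only [f, if_true] at hab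
        rw [hmk] at hab
        have := len_congr hab
        rw [(hredle _ (by omega)).1, (hredle _ (by omega)).1] at this
        have h2 : i = j := by ext; omega
        rw [h2]
    · intro x
      induction x using QuotientGroup.induction_on with
      | H m =>
        obtain ⟨m, hm⟩ := m
        have hlen : len P m ≤ n := by
          by_contra hcon
          -- a reduced word of length `> n`
          have key : ∀ k, ∀ w ∈ P.N, len P w = k → k ≤ n := by
            intro k
            induction k with
            | zero => intro w _ _; exact Nat.zero_le _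
            | succ k ih =>
              intro w hw hk
              rcases exists_alt hS hw with h1 | h1
              · rw [hk] at h1
                have h2 := len_congr h1
                rw [hk] at h2
                have h3 := ih _ (alt_mem_N ht hs k) (len_alt_pred hs ht h2)
                rcases Nat.lt_or_ge k n with h4 | h4
                · omega
                · have : k = n := by omega
                  subst this
                  exact absurd h2 (not_red_of_braid hs ht hn hbraid)
              · rw [hk] at h1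
                have h2 := len_congr h1
                rw [hk] at h2
                have h3 := ih _ (alt_mem_N hs ht k) (len_alt_pred ht hs h2)
                rcases Nat.lt_or_ge k n with h4 | h4
                · omega
                · have : k = n := by omega
                  subst this
                  exact absurd h2 (not_red_of_braid ht hs hn (rel_symm hbraid))
          exact hcon (key _ m hm rfl)
        rcases exists_alt hS hm with h1 | h1
        · rcases Nat.lt_or_ge (len P m) n with h2 | h2
          · refine ⟨(true, ⟨len P m, h2⟩), ?_⟩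
            simp only [f, if_true]
            rw [hmk]
            exact h1
          · have h3 : len P m = n := by omega
            rw [h3] at h1
            refine ⟨(false, ⟨n - 1, by omega⟩), ?_⟩
            simp only [f, Bool.false_eq_true, if_false]
            rw [hmk, Nat.sub_add_cancel hn]
            exact rel_trans (rel_symm hbraid) h1
        · rcases Nat.eq_zero_or_pos (len P m) with h2 | h2
          · refine ⟨(true, ⟨0, by omega⟩), ?_⟩
            simp only [f, if_true]
            rw [hmk]
            rw [h2, alt_zero] at h1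
            rw [alt_zero]
            exact h1
          · refine ⟨(false, ⟨len P m - 1, by omega⟩), ?_⟩
            simp only [f, Bool.false_eq_true, if_false]
            rw [hmk, Nat.sub_add_cancel h2]
            exact h1
  have h1 : ((P.B ⊓ P.N).subgroupOf P.N).index = Nat.card (Bool × Fin n) :=
    (Nat.card_congr (Equiv.ofBijective f hf)).symm
  rw [h1]
  simp

end RankTwo

/-- The Hecke matrices of a finite (B,N)-pair of rank two. -/
theorem exists_hecke [Finite G] [Fintype (G ⧸ P.B)] [DecidableEq (G ⧸ P.B)] (h2 : P.rank = 2) :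
    ∃ (n q₁ q₂ : ℕ) (S T : Matrix (G ⧸ P.B) (G ⧸ P.B) ℝ), 2 ≤ q₁ ∧ 2 ≤ q₂ ∧ 2 ≤ n ∧
      S * S = ((q₁ : ℝ) - 1) • S + (q₁ : ℝ) • (1 : Matrix (G ⧸ P.B) (G ⧸ P.B) ℝ) ∧
      T * T = ((q₂ : ℝ) - 1) • T + (q₂ : ℝ) • (1 : Matrix (G ⧸ P.B) (G ⧸ P.B) ℝ) ∧
      alt n S T = alt n T S ∧
      (∀ k, 1 ≤ k → k ≤ n → (alt k S T).trace = 0 ∧ (alt k T S).trace = 0) ∧
      ((P.B ⊓ P.N).subgroupOf P.N).index = 2 * n := by
  have hcard : P.S.ncard = 2 := by
    rw [← h2]; rfl
  obtain ⟨s, t, hst, hS⟩ := Set.ncard_eq_two.1 hcard
  have hs : s ∈ P.S := by rw [hS]; simp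
  have ht : t ∈ P.S := by rw [hS]; simp
  obtain ⟨n, hn2, hred, hbraid, hne⟩ := exists_max_red hS hst
  have hredle : ∀ k, k ≤ n → Red P s t k := fun k hk => hred.of_le hs ht hk
  refine ⟨n, q P s, q P t, T P s, T P t, two_le_q hs, two_le_q ht, hn2, T_sq hs, T_sq ht, ?_, ?_,
    card_weyl hS (by omega) hred hbraid hne⟩
  · rw [alt_T hs ht hred.1, alt_T ht hs hred.2]
    exact T_congr hbraid
  · intro k hk1 hkn
    have h1 := hredle k hkn
    rw [alt_T hs ht h1.1, alt_T ht hs h1.2]
    constructor
    · apply trace_T
      intro h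
      have h3 := (len_eq_zero_iff (alt_mem_N hs ht k)).2 h
      rw [h1.1] at h3
      omega
    · apply trace_T
      intro h
      have h3 := (len_eq_zero_iff (alt_mem_N ht hs k)).2 h
      rw [h1.2] at h3
      omega

end Cfsg.Agent.LieRecognition.FeitHigmanGroup
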