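import Mathlib

/-!
The linear algebra half of the Feit–Higman theorem: two operators `a`, `b` on a finite-dimensional real
vector space that satisfy the relations of a dihedral Hecke algebra of length `m` with parameters
`s, t > 1`, and such that all alternating words of length `1, …, m` have trace `0`, exist only for
`m ∈ {2, 3, 4, 6, 8}`.
-/

set_option autoImplicit false
set_option linter.unusedSimpArgs false

namespace Cfsg.Agent.LieRecognition.FeitHigmanLin

/-- The alternating product `a b a ⋯` with `k` factors. -/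
def alt {M : Type*} [Monoid M] : M → M → ℕ → M
  | _, _, 0 => 1
  | a, b, k + 1 => a * alt b a k

section Alt

variable {M : Type*} [Monoid M]

theorem alt_zero (a b : M) : alt a b 0 = 1 := rfl

theorem alt_succ (a b : M) (k : ℕ) : alt a b (k + 1) = a * alt b a k := rfl

theorem alt_two_mul (a b : M) : ∀ k : ℕ, alt a b (2 * k) = (a * b) ^ k
  | 0 => by rw [mul_zero, alt_zero, pow_zero]
  | k + 1 => by
    rw [show 2 * (k + 1) = (2 * k + 1) + 1 by ring, alt_succ, alt_succ, alt_two_mul a b k, pow_succ',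
      mul_assoc]

theorem alt_two_mul_add_one (a b : M) (k : ℕ) : alt a b (2 * k + 1) = a * (b * a) ^ k := by
  rw [alt_succ, alt_two_mul]

theorem mul_pow_mul (a b : M) : ∀ k : ℕ, a * (b * a) ^ k = (a * b) ^ k * a
  | 0 => by simp
  | k + 1 => by
    rw [pow_succ', pow_succ']
    calc a * (b * a * (b * a) ^ k) = a * b * (a * (b * a) ^ k) := by simp only [mul_assoc]
      _ = a * b * ((a * b) ^ k * a) := by rw [mul_pow_mul a b k]
      _ = a * b * (a * b) ^ k * a := by simp only [mul_assoc]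

end Alt

section Cheb

variable {A : Type*} [Ring A] [Algebra ℝ A]

/-- The Chebyshev-like sequence `S₀ = 0`, `S₁ = 1`, `S_{k+2} = Y S_{k+1} - c S_k`. -/
def S (c : ℝ) (Y : A) : ℕ → A
  | 0 => 0
  | 1 => 1
  | k + 2 => Y * S c Y (k + 1) - c • S c Y k

theorem S_zero (c : ℝ) (Y : A) : S c Y 0 = 0 := rfl

theorem S_one (c : ℝ) (Y : A) : S c Y 1 = 1 := rfl

theorem S_add_two (c : ℝ) (Y : A) (k : ℕ) :
    S c Y (k + 2) = Y * S c Y (k + 1) - c • S c Y k := rfl

theorem S_two (c : ℝ) (Y : A) : S c Y 2 = Y := by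
  rw [show 2 = 0 + 2 from rfl, S_add_two, S_zero, zero_add, S_one]; simp

theorem S_commute (c : ℝ) {Y Z : A} (h : Commute Z Y) : ∀ k, Commute Z (S c Y k)
  | 0 => by rw [S_zero]; exact Commute.zero_right _
  | 1 => by rw [S_one]; exact Commute.one_right _
  | k + 2 => by
    rw [S_add_two]
    exact (h.mul_right (S_commute c h (k + 1))).sub_right ((S_commute c h k).smul_right c)

/-- `G_n = ∑_{i + k = n} S_i(y) S_k(Y)`, the divided difference of `S_n`. -/
def G (c y : ℝ) (Y : A) (n : ℕ) : A := ∑ k ∈ Finset.range n, S c y (n - k) • S c Y k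

theorem G_zero (c y : ℝ) (Y : A) : G c y Y 0 = 0 := by
  unfold G; simp

theorem G_one (c y : ℝ) (Y : A) : G c y Y 1 = 0 := by
  unfold G; simp [S_zero]

theorem G_add_two (c y : ℝ) (Y : A) (n : ℕ) :
    G c y Y (n + 2) = y • G c y Y (n + 1) - c • G c y Y n + S c Y (n + 1) := by
  unfold G
  rw [Finset.sum_range_succ, Finset.sum_range_succ, Finset.sum_range_succ, smul_add,
    Finset.smul_sum, Finset.smul_sum]
  have h1 : ∀ k ∈ Finset.range n, S c y (n + 2 - k) • S c Y k =
      y • (S c y (n + 1 - k) • S c Y k) - c • (S c y (n - k) • S c Y k) := by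
    intro k hk
    have hk' : k < n := Finset.mem_range.1 hk
    obtain ⟨j, rfl⟩ : ∃ j, n = k + j := ⟨n - k, by omega⟩
    have e1 : k + j + 2 - k = j + 2 := by omega
    have e2 : k + j + 1 - k = j + 1 := by omega
    have e3 : k + j - k = j := by omega
    rw [e1, e2, e3, S_add_two, sub_smul, smul_smul, smul_smul, smul_eq_mul]
  rw [Finset.sum_congr rfl h1, Finset.sum_sub_distrib]
  have e1 : n + 2 - n = 2 := by omega
  have e2 : n + 2 - (n + 1) = 1 := by omega
  have e3 : n + 1 - n = 1 := by omega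
  rw [e1, e2, e3, S_two, S_one, one_smul, one_smul]
  abel

theorem sub_mul_G (c y : ℝ) (Y : A) : ∀ n : ℕ,
    (Y - y • (1 : A)) * G c y Y n = S c Y n - (S c y n) • (1 : A)
  | 0 => by rw [G_zero, S_zero, S_zero]; simp
  | 1 => by rw [G_one, S_one, S_one]; simp
  | n + 2 => by
    rw [G_add_two, S_add_two, S_add_two, mul_add, mul_sub, mul_smul_comm, mul_smul_comm,
      sub_mul_G c y Y n, sub_mul_G c y Y (n + 1), smul_sub, smul_sub, sub_mul, smul_mul_assoc,
      one_mul, sub_smul, smul_smul, smul_smul, smul_eq_mul]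
    abel

/-- The value of the divided difference at `Y = y` (a derivative). -/
theorem G_self (c y : ℝ) : ∀ n : ℕ,
    (y ^ 2 - 4 * c) * G c y y (n + 1) = n * S c y (n + 2) - (n + 2) * c * S c y n
  | 0 => by rw [zero_add, G_one, S_zero]; simp
  | 1 => by
    rw [show 1 + 1 = 0 + 2 from rfl, G_add_two, zero_add, G_one, G_zero, S_one,
      show 1 + 2 = 1 + 2 from rfl, S_add_two, S_two, S_one]
    simp only [smul_eq_mul]
    push_cast
    ring
  | n + 2 => by
    have h1 := G_self c y n
    have h2 := G_self c y (n + 1)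
    rw [G_add_two]
    have e1 : n + 1 + 2 = (n + 1) + 2 := rfl
    have e2 : n + 2 + 2 = (n + 2) + 2 := rfl
    rw [S_add_two c y (n + 1)] at h2
    rw [S_add_two c y (n + 2), show n + 2 + 1 = (n + 1) + 2 from rfl, S_add_two c y (n + 1)]
    rw [show n + 1 + 1 = n + 2 from rfl] at h2 ⊢
    simp only [smul_eq_mul] at h1 h2 ⊢
    have e3 : S c y (n + 2) = y * S c y (n + 1) - c * S c y n := by
      rw [S_add_two]; rfl
    push_cast at h1 h2 ⊢
    have e4 : c * S c y n = y * S c y (n + 1) - S c y (n + 2) := by rw [e3]; ring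
    linear_combination y * h2 - c * h1 + (n + 2) * c * e4

end Cheb

section Hecke

variable {A : Type*} [Ring A] [Algebra ℝ A]

/-- The central element `ab + ba - (t-1)a - (s-1)b + (s-1)(t-1)`. -/
def Yop (a b : A) (s t : ℝ) : A :=
  a * b + b * a - (t - 1) • a - (s - 1) • b + ((s - 1) * (t - 1)) • (1 : A)

theorem Yop_def (a b : A) (s t : ℝ) :
    Yop a b s t = a * b + b * a - (t - 1) • a - (s - 1) • b + ((s - 1) * (t - 1)) • (1 : A) := rfl

theorem Yop_swap (a b : A) (s t : ℝ) : Yop b a t s = Yop a b s t := by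
  rw [Yop_def, Yop_def]
  module

variable {a b : A} {s t : ℝ}

theorem sq_aux {a : A} {s : ℝ} (ha : a * a = (s - 1) • a + s • (1 : A)) (z : A) :
    z * a * a = (s - 1) • (z * a) + s • z := by
  rw [mul_assoc, ha, mul_add, mul_smul_comm, mul_smul_comm, mul_one]

theorem Yop_comm_left (ha : a * a = (s - 1) • a + s • (1 : A)) :
    a * Yop a b s t = Yop a b s t * a := by
  have ha' := sq_aux ha
  rw [Yop_def]
  simp only [mul_add, add_mul, mul_sub, sub_mul, smul_add, smul_sub, mul_smul_comm, smul_mul_assoc,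
    smul_smul, mul_one, one_mul, ← mul_assoc, ha, ha']
  module

theorem Yop_comm_right (hb : b * b = (t - 1) • b + t • (1 : A)) :
    b * Yop a b s t = Yop a b s t * b := by
  rw [← Yop_swap]
  exact Yop_comm_left hb

theorem Yop_commute (ha : a * a = (s - 1) • a + s • (1 : A))
    (hb : b * b = (t - 1) • b + t • (1 : A)) : Commute (Yop a b s t) (a * b) :=
  (show Commute (Yop a b s t) a from (Yop_comm_left ha).symm).mul_right
    (show Commute (Yop a b s t) b from (Yop_comm_right hb).symm)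

/-- `(ab)² = Y ab - st`. -/
theorem ab_sq (ha : a * a = (s - 1) • a + s • (1 : A)) (hb : b * b = (t - 1) • b + t • (1 : A)) :
    (a * b) * (a * b) = Yop a b s t * (a * b) - (s * t) • (1 : A) := by
  have ha' := sq_aux ha
  have hb' := sq_aux hb
  rw [Yop_def]
  simp only [mul_add, add_mul, mul_sub, sub_mul, smul_add, smul_sub, mul_smul_comm, smul_mul_assoc,
    smul_smul, mul_one, one_mul, ← mul_assoc, ha, ha', hb, hb']
  module

/-- `(ab)^k = S_k(Y) ab - st S_{k-1}(Y)`. -/
theorem ab_pow (ha : a * a = (s - 1) • a + s • (1 : A)) (hb : b * b = (t - 1) • b + t • (1 : A)) :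
    ∀ k : ℕ, (a * b) ^ (k + 1) = S (s * t) (Yop a b s t) (k + 1) * (a * b) -
      (s * t) • S (s * t) (Yop a b s t) k
  | 0 => by rw [zero_add, pow_one, S_one, S_zero]; simp
  | k + 1 => by
    have hc : Commute (a * b) (S (s * t) (Yop a b s t) (k + 1)) :=
      S_commute _ (Yop_commute ha hb).symm _
    have hc' : Commute (Yop a b s t) (S (s * t) (Yop a b s t) (k + 1)) :=
      S_commute _ (Commute.refl _) _
    have hc'' : Commute (a * b) (S (s * t) (Yop a b s t) k) :=
      S_commute _ (Yop_commute ha hb).symm _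
    rw [pow_succ, ab_pow ha hb k, sub_mul, mul_assoc, ab_sq ha hb, S_add_two, mul_sub, sub_mul,
      ← mul_assoc, ← hc'.eq]
    simp only [smul_mul_assoc, mul_smul_comm, mul_one]
    abel

theorem S_mul_sub (ha : a * a = (s - 1) • a + s • (1 : A)) (hb : b * b = (t - 1) • b + t • (1 : A)) :
    ∀ k : ℕ, S (s * t) (Yop a b s t) k * (a * b - b * a) = (a * b) ^ k - (b * a) ^ k
  | 0 => by rw [S_zero]; simp
  | k + 1 => by
    have h1 := ab_pow ha hb k
    have h2 := ab_pow hb ha k
    rw [Yop_swap, mul_comm t s] at h2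
    rw [h1, h2, mul_sub]
    abel

/-- `(ab - ba)² = (Y - (1 + st))(Y + (s + t))`. -/
theorem sub_sq (ha : a * a = (s - 1) • a + s • (1 : A)) (hb : b * b = (t - 1) • b + t • (1 : A)) :
    (a * b - b * a) * (a * b - b * a) =
      (Yop a b s t - (1 + s * t) • (1 : A)) * (Yop a b s t + (s + t) • (1 : A)) := by
  have ha' := sq_aux ha
  have hb' := sq_aux hb
  rw [Yop_def]
  simp only [mul_add, add_mul, mul_sub, sub_mul, smul_add, smul_sub, mul_smul_comm, smul_mul_assoc,
    smul_smul, mul_one, one_mul, ← mul_assoc, ha, ha', hb, hb']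
  module

/-- `(S_{k+1}(Y) + q S_k(Y)) (a - b) = (ab)^k a - (ba)^k b` when `s = t = q`. -/
theorem S_mul_sub_odd {q : ℝ} (ha : a * a = (q - 1) • a + q • (1 : A))
    (hb : b * b = (q - 1) • b + q • (1 : A)) (k : ℕ) :
    (S (q * q) (Yop a b q q) (k + 1) + q • S (q * q) (Yop a b q q) k) * (a - b) =
      (a * b) ^ k * a - (b * a) ^ k * b := by
  have ha' := sq_aux ha
  have hb' := sq_aux hb
  rcases k with _ | k
  · rw [zero_add, S_one, S_zero]; simp
  · have h1 := ab_pow ha hb k
    have h2 := ab_pow hb ha k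
    rw [Yop_swap] at h2
    rw [h1, h2]
    have e : (a * b) * a - (b * a) * b = (Yop a b q q + q • (1 : A)) * (a - b) := by
      rw [Yop_def]
      simp only [mul_add, add_mul, mul_sub, sub_mul, smul_add, smul_sub, mul_smul_comm,
        smul_mul_assoc, smul_smul, mul_one, one_mul, ← mul_assoc, ha, ha', hb, hb']
      module
    set Y := Yop a b q q with hY
    set T := S (q * q) Y (k + 1) with hT
    have hc : Commute Y T := S_commute _ (Commute.refl _) _
    rw [S_add_two]
    calc (Y * T - (q * q) • S (q * q) Y k + q • T) * (a - b)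
        = T * ((Y + q • (1 : A)) * (a - b)) - (q * q) • S (q * q) Y k * (a - b) := by
          rw [hc.eq]
          simp only [mul_add, add_mul, sub_mul, mul_smul_comm, smul_mul_assoc, mul_one, one_mul,
            ← mul_assoc]
          abel
      _ = T * ((a * b) * a - (b * a) * b) - (q * q) • S (q * q) Y k * (a - b) := by rw [e]
      _ = _ := by
          simp only [mul_add, add_mul, sub_mul, mul_sub, mul_smul_comm, smul_mul_assoc, mul_one,
            one_mul, ← mul_assoc]
          abel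

/-- `(a - b)² = 1 + q² - Y` when `s = t = q`. -/
theorem sub_sq_odd {q : ℝ} (ha : a * a = (q - 1) • a + q • (1 : A))
    (hb : b * b = (q - 1) • b + q • (1 : A)) :
    (a - b) * (a - b) = (1 + q * q) • (1 : A) - Yop a b q q := by
  have ha' := sq_aux ha
  have hb' := sq_aux hb
  rw [Yop_def]
  simp only [mul_add, add_mul, mul_sub, sub_mul, smul_add, smul_sub, mul_smul_comm, smul_mul_assoc,
    smul_smul, mul_one, one_mul, ← mul_assoc, ha, ha', hb, hb']
  module

/-- Reduction of `(ab)(ba)^{k+1}`. -/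
theorem mul_swap_pow (ha : a * a = (s - 1) • a + s • (1 : A))
    (hb : b * b = (t - 1) • b + t • (1 : A)) (k : ℕ) :
    (a * b) * (b * a) ^ (k + 1) = (t - 1) • (a * (b * a) ^ (k + 1)) +
      (t * (s - 1)) • (a * (b * a) ^ k) + (s * t) • (b * a) ^ k := by
  have e : (a * b) * (b * a) = (t - 1) • (a * (b * a)) + (t * (s - 1)) • a + (s * t) • (1 : A) := by
    have ha' := sq_aux ha
    have hb' := sq_aux hb
    simp only [mul_add, add_mul, smul_add, mul_smul_comm, smul_mul_assoc, smul_smul, mul_one,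
      one_mul, ← mul_assoc, ha, ha', hb, hb']
    module
  rw [pow_succ', ← mul_assoc (a * b), e]
  simp only [add_mul, smul_mul_assoc, one_mul, mul_assoc]

/-- Reduction of `a (ab)^{j+1} a`. -/
theorem mul_pow_succ_mul (ha : a * a = (s - 1) • a + s • (1 : A)) (j : ℕ) :
    a * ((a * b) ^ (j + 1) * a) = (s - 1) • ((a * b) ^ (j + 1) * a) + s • (b * a) ^ (j + 1) := by
  rw [pow_succ' (b * a), mul_assoc b a, mul_pow_mul a b j, pow_succ' (a * b)]
  have : a * (a * b * (a * b) ^ j * a) = (a * a) * (b * ((a * b) ^ j * a)) := by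
    simp only [mul_assoc]
  rw [this, ha]
  simp only [add_mul, smul_mul_assoc, one_mul, mul_assoc]

end Hecke

section Trace

variable {V : Type*} [AddCommGroup V] [Module ℝ V] [FiniteDimensional ℝ V]

theorem trace_proj {Y T : Module.End ℝ V} {y κ : ℝ} (h1 : (Y - y • (1 : Module.End ℝ V)) * T = 0)
    (h2 : ∀ v, Y v = y • v → T v = κ • v) (hκ : κ ≠ 0) :
    ∃ D : ℕ, LinearMap.trace ℝ V T = κ * D := by
  set p : Submodule ℝ V := LinearMap.ker (Y - y • (1 : Module.End ℝ V)) with hp
  have hproj : LinearMap.IsProj p (κ⁻¹ • T) := by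
    refine ⟨fun x => ?_, fun x hx => ?_⟩
    · rw [hp, LinearMap.mem_ker, LinearMap.smul_apply, map_smul]
      have : ((Y - y • (1 : Module.End ℝ V)) * T) x = 0 := by rw [h1]; rfl
      have h3 : (Y - y • (1 : Module.End ℝ V)) (T x) = 0 := this
      rw [h3, smul_zero]
    · rw [hp, LinearMap.mem_ker, LinearMap.sub_apply, LinearMap.smul_apply, Module.End.one_apply,
        sub_eq_zero] at hx
      rw [LinearMap.smul_apply, h2 x hx, smul_smul, inv_mul_cancel₀ hκ, one_smul]
  refine ⟨Module.finrank ℝ p, ?_⟩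
  have h3 := hproj.trace
  rw [map_smul, smul_eq_mul] at h3
  rw [← h3]
  field_simp

omit [FiniteDimensional ℝ V] in
theorem S_apply {Y : Module.End ℝ V} {y c : ℝ} {v : V} (h : Y v = y • v) :
    ∀ k : ℕ, S c Y k v = S c y k • v
  | 0 => by rw [S_zero, S_zero]; simp
  | 1 => by rw [S_one, S_one]; simp
  | k + 2 => by
    rw [S_add_two, S_add_two, LinearMap.sub_apply, Module.End.mul_apply, LinearMap.smul_apply,
      S_apply h (k + 1), S_apply h k, map_smul, h, sub_smul, smul_eq_mul, smul_smul,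
      smul_smul, mul_comm y]

omit [FiniteDimensional ℝ V] in
theorem G_apply {Y : Module.End ℝ V} {y c : ℝ} {v : V} (h : Y v = y • v) (n : ℕ) :
    G c y Y n v = G c y y n • v := by
  unfold G
  rw [LinearMap.sum_apply, Finset.sum_smul]
  refine Finset.sum_congr rfl fun k _ => ?_
  rw [LinearMap.smul_apply, S_apply h k, smul_smul, smul_eq_mul]

theorem S_ne {c y : ℝ} (hc : c ≠ 0) : ∀ k : ℕ, ¬ (S c y k = 0 ∧ S c y (k + 1) = 0)
  | 0 => fun h => one_ne_zero ((S_one c y).symm.trans h.2)
  | k + 1 => fun h => by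
    apply S_ne (c := c) (y := y) hc k
    refine ⟨?_, h.1⟩
    have h2 := h.2
    rw [S_add_two, h.1, mul_zero, zero_sub, neg_eq_zero, smul_eq_mul] at h2
    exact (mul_eq_zero.1 h2).resolve_left hc

theorem even_eq {a b : Module.End ℝ V} {s t : ℝ} (hs : 1 < s) (ht : 1 < t)
    (ha : a * a = (s - 1) • a + s • (1 : Module.End ℝ V))
    (hb : b * b = (t - 1) • b + t • (1 : Module.End ℝ V)) {n : ℕ} (hn : 2 ≤ n)
    (hbraid : (a * b) ^ n = (b * a) ^ n)
    (htr : ∀ k, 1 ≤ k → k ≤ 2 * n →
      LinearMap.trace ℝ V (alt a b k) = 0 ∧ LinearMap.trace ℝ V (alt b a k) = 0)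
    {y : ℝ} (hy : S (s * t) y n = 0) (hy1 : y ≠ 1 + s * t) (hy2 : y ≠ -(s + t)) :
    ∃ D : ℕ, (D : ℝ) * n * ((1 + s * t - y) * (s + t + y)) =
      Module.finrank ℝ V * (4 * (s * t) - y ^ 2) := by
  set Y := Yop a b s t with hY
  set x := a * b with hx
  set x' := b * a with hx'
  have hc0 : s * t ≠ 0 := by positivity
  have hcomm : Commute Y (x - x') := by
    have h1 : Commute Y (a * b) := Yop_commute ha hb
    have h2 : Commute Y (b * a) := by
      have := Yop_commute hb ha
      rwa [Yop_swap] at this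
    exact h1.sub_right h2
  obtain ⟨n', rfl⟩ : ∃ n', n = n' + 2 := ⟨n - 2, by omega⟩
  set σ := S (s * t) y (n' + 1) with hσ
  set g := G (s * t) y y (n' + 2) with hg
  have hσ0 : σ ≠ 0 := fun h => S_ne hc0 (n' + 1) ⟨h, hy⟩
  have hgs : (y ^ 2 - 4 * (s * t)) * g = -(2 * (n' + 2) * (s * t) * σ) := by
    have h1 := G_self (s * t) y (n' + 1)
    rw [show n' + 1 + 1 = n' + 2 from rfl, S_add_two, show n' + 1 + 1 = n' + 2 from rfl, hy] at h1
    rw [hg, h1]
    simp only [smul_eq_mul]
    push_cast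
    ring
  have hg0 : g ≠ 0 := by
    intro h
    rw [h, mul_zero] at hgs
    have : 2 * ((n' : ℝ) + 2) * (s * t) * σ ≠ 0 := by
      have : (0 : ℝ) < 2 * ((n' : ℝ) + 2) * (s * t) := by positivity
      exact mul_ne_zero this.ne' hσ0
    apply this
    linarith
  set κ := (y - (1 + s * t)) * (y + (s + t)) * g with hκ
  have hκ0 : κ ≠ 0 := by
    refine mul_ne_zero (mul_ne_zero (sub_ne_zero.2 hy1) ?_) hg0
    intro h
    exact hy2 (by linarith)
  set T := (x - x') * (x - x') * G (s * t) y Y (n' + 2) with hT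
  have h1 : (Y - y • (1 : Module.End ℝ V)) * T = 0 := by
    have e1 : Commute (Y - y • (1 : Module.End ℝ V)) (x - x') :=
      hcomm.sub_left ((Commute.one_left _).smul_left y)
    have e2 : (x - x') * S (s * t) Y (n' + 2) = S (s * t) Y (n' + 2) * (x - x') :=
      (S_commute _ hcomm.symm _).eq
    calc (Y - y • (1 : Module.End ℝ V)) * T
        = (x - x') * (x - x') * ((Y - y • (1 : Module.End ℝ V)) * G (s * t) y Y (n' + 2)) := by
          rw [hT, ← mul_assoc, (e1.mul_right e1).eq, mul_assoc]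
      _ = (x - x') * ((x - x') * S (s * t) Y (n' + 2)) := by
          rw [sub_mul_G, hy, zero_smul, sub_zero, mul_assoc]
      _ = (x - x') * ((a * b) ^ (n' + 2) - (b * a) ^ (n' + 2)) := by
          rw [e2, hY, S_mul_sub ha hb]
      _ = 0 := by rw [hbraid, sub_self, mul_zero]
  have h2 : ∀ v, Y v = y • v → T v = κ • v := by
    intro v hv
    have e1 : ∀ z : V, Y z = y • z → ((x - x') * (x - x')) z =
        ((y - (1 + s * t)) * (y + (s + t))) • z := by
      intro z hz
      rw [hx, hx', sub_sq ha hb, ← hY, Module.End.mul_apply]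
      have : (Y + (s + t) • (1 : Module.End ℝ V)) z = (y + (s + t)) • z := by
        rw [LinearMap.add_apply, hz, LinearMap.smul_apply, Module.End.one_apply, ← add_smul]
      rw [this, map_smul, LinearMap.sub_apply, hz, LinearMap.smul_apply, Module.End.one_apply,
        ← sub_smul, smul_smul, mul_comm]
    rw [hT, Module.End.mul_apply, G_apply hv, map_smul, e1 v hv, smul_smul, hκ, hg, mul_comm]
  have h3 : LinearMap.trace ℝ V T = -(2 * (s * t) * Module.finrank ℝ V * σ) := by
    have e0 : ∀ k, (x - x') * (x - x') * S (s * t) Y k =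
        (x - x') * ((a * b) ^ k - (b * a) ^ k) := by
      intro k
      have e2 : (x - x') * S (s * t) Y k = S (s * t) Y k * (x - x') :=
        (S_commute _ hcomm.symm _).eq
      rw [mul_assoc, e2, hY, S_mul_sub ha hb]
    have htr1 : ∀ k, 1 ≤ k → k ≤ n' + 2 → LinearMap.trace ℝ V ((a * b) ^ k) = 0 ∧
        LinearMap.trace ℝ V ((b * a) ^ k) = 0 := by
      intro k hk1 hk2
      have := htr (2 * k) (by omega) (by omega)
      rwa [alt_two_mul, alt_two_mul] at this
    have htr2 : ∀ k, k ≤ n' + 1 → LinearMap.trace ℝ V (a * (b * a) ^ k) = 0 ∧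
        LinearMap.trace ℝ V (b * (a * b) ^ k) = 0 := by
      intro k hk2
      have := htr (2 * k + 1) (by omega) (by omega)
      rwa [alt_two_mul_add_one, alt_two_mul_add_one] at this
    have e3 : ∀ k, LinearMap.trace ℝ V ((x - x') * (x - x') * S (s * t) Y (k + 1)) =
        LinearMap.trace ℝ V ((a * b) ^ (k + 2)) + LinearMap.trace ℝ V ((b * a) ^ (k + 2)) -
        ((t - 1) * LinearMap.trace ℝ V (a * (b * a) ^ (k + 1)) +
          (t * (s - 1)) * LinearMap.trace ℝ V (a * (b * a) ^ k) +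
          (s * t) * LinearMap.trace ℝ V ((b * a) ^ k)) -
        ((s - 1) * LinearMap.trace ℝ V (b * (a * b) ^ (k + 1)) +
          (s * (t - 1)) * LinearMap.trace ℝ V (b * (a * b) ^ k) +
          (t * s) * LinearMap.trace ℝ V ((a * b) ^ k)) := by
      intro k
      have f1 := mul_swap_pow ha hb k
      have f2 := mul_swap_pow hb ha k
      rw [e0]
      have f3 : (x - x') * ((a * b) ^ (k + 1) - (b * a) ^ (k + 1)) =
          (a * b) ^ (k + 2) + (b * a) ^ (k + 2) - (a * b) * (b * a) ^ (k + 1) -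
          (b * a) * (a * b) ^ (k + 1) := by
        rw [show k + 2 = (k + 1) + 1 from rfl, pow_succ' (a * b) (k + 1),
          pow_succ' (b * a) (k + 1), sub_mul, mul_sub, mul_sub]
        abel
      rw [f3, f1, f2]
      simp only [map_add, map_sub, map_smul, smul_eq_mul]
    have e4 : ∀ k ∈ Finset.range n', LinearMap.trace ℝ V
        (S (s * t) y (n' + 2 - (k + 1 + 1)) • ((x - x') * (x - x') * S (s * t) Y (k + 1 + 1))) = 0 := by
      intro k hk
      have hk' : k < n' := Finset.mem_range.1 hk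
      rw [map_smul, e3 (k + 1)]
      rw [(htr1 (k + 1 + 2) (by omega) (by omega)).1, (htr1 (k + 1 + 2) (by omega) (by omega)).2,
        (htr2 (k + 1 + 1) (by omega)).1, (htr2 (k + 1 + 1) (by omega)).2,
        (htr2 (k + 1) (by omega)).1, (htr2 (k + 1) (by omega)).2,
        (htr1 (k + 1) (by omega) (by omega)).1, (htr1 (k + 1) (by omega) (by omega)).2]
      simp
    have e5 : LinearMap.trace ℝ V ((x - x') * (x - x') * S (s * t) Y (0 + 1)) =
        -(2 * (s * t) * Module.finrank ℝ V) := by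
      rw [e3 0]
      rw [(htr1 (0 + 2) (by omega) (by omega)).1, (htr1 (0 + 2) (by omega) (by omega)).2,
        (htr2 (0 + 1) (by omega)).1, (htr2 (0 + 1) (by omega)).2,
        (htr2 0 (by omega)).1, (htr2 0 (by omega)).2, pow_zero, pow_zero, LinearMap.trace_one]
      ring
    rw [hT]
    unfold G
    rw [Finset.mul_sum, map_sum, Finset.sum_range_succ', Finset.sum_range_succ']
    have e6 : ∀ k, (x - x') * (x - x') * (S (s * t) y (n' + 2 - k) • S (s * t) Y k) =
        S (s * t) y (n' + 2 - k) • ((x - x') * (x - x') * S (s * t) Y k) := by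
      intro k
      rw [mul_smul_comm]
    simp only [e6]
    rw [Finset.sum_eq_zero e4, zero_add, map_smul, e5, S_zero, mul_zero, smul_zero, map_zero,
      add_zero, smul_eq_mul, show n' + 2 - (0 + 1) = n' + 1 by omega, ← hσ]
    ring
  obtain ⟨D, hD⟩ := trace_proj h1 h2 hκ0
  refine ⟨D, ?_⟩
  rw [h3, hκ] at hD
  -- multiply by `y² - 4st` and cancel `σ`
  have h4 : (2 * (s * t) * σ) * ((D : ℝ) * (n' + 2) * ((1 + s * t - y) * (s + t + y))) =
      (2 * (s * t) * σ) * (Module.finrank ℝ V * (4 * (s * t) - y ^ 2)) := by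
    linear_combination -(y ^ 2 - 4 * (s * t)) * hD + ((1 + s * t - y) * (s + t + y)) * D * hgs
  have h5 : 2 * (s * t) * σ ≠ 0 := by
    refine mul_ne_zero (mul_ne_zero two_ne_zero hc0) hσ0
  have h6 := mul_left_cancel₀ h5 h4
  push_cast
  exact h6

theorem odd_eq {a b : Module.End ℝ V} {q : ℝ} (hq : 1 < q)
    (ha : a * a = (q - 1) • a + q • (1 : Module.End ℝ V))
    (hb : b * b = (q - 1) • b + q • (1 : Module.End ℝ V)) {n : ℕ} (hn : 1 ≤ n)
    (hbraid : a * (b * a) ^ n = b * (a * b) ^ n)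
    (htr : ∀ k, 1 ≤ k → k ≤ 2 * n + 1 →
      LinearMap.trace ℝ V (alt a b k) = 0 ∧ LinearMap.trace ℝ V (alt b a k) = 0)
    {y : ℝ} (hy : S (q * q) y (n + 1) + q * S (q * q) y n = 0) (hy1 : y ≠ 1 + q * q)
    (hy2 : y + 2 * q ≠ 0) :
    ∃ D : ℕ, (D : ℝ) * (2 * n + 1) * (1 + q * q - y) =
      2 * Module.finrank ℝ V * (2 * q - y) := by
  set Y := Yop a b q q with hY
  have hc0 : q * q ≠ 0 := by positivity
  have hcomm : Commute Y (a - b) :=
    (show Commute Y a from (Yop_comm_left ha).symm).sub_right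
      (show Commute Y b from (Yop_comm_right hb).symm)
  obtain ⟨n', rfl⟩ : ∃ n', n = n' + 1 := ⟨n - 1, by omega⟩
  set σ := S (q * q) y (n' + 1) with hσ
  have hy' : S (q * q) y (n' + 2) = -(q * σ) := by
    rw [show n' + 1 + 1 = n' + 2 from rfl] at hy
    linarith
  set g := G (q * q) y y (n' + 2) + q * G (q * q) y y (n' + 1) with hg
  have hσ0 : σ ≠ 0 := by
    intro h
    apply S_ne hc0 (n' + 1)
    refine ⟨h, ?_⟩
    rw [show n' + 1 + 1 = n' + 2 from rfl, hy', h, mul_zero, neg_zero]
  have hgs : (y - 2 * q) * g = -((2 * (n' + 1) + 1) * q * σ) := by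
    have h1 := G_self (q * q) y (n' + 1)
    have h2 := G_self (q * q) y n'
    rw [show n' + 1 + 1 = n' + 2 from rfl, S_add_two, show n' + 1 + 1 = n' + 2 from rfl, hy',
      ← hσ] at h1
    rw [hy'] at h2
    have h3 : S (q * q) y (n' + 2) = y * σ - (q * q) * S (q * q) y n' := by
      rw [S_add_two]; rfl
    rw [hy'] at h3
    simp only [smul_eq_mul] at h1
    push_cast at h1 h2
    apply mul_left_cancel₀ hy2
    rw [hg]
    have h4 : (q * q) * S (q * q) y n' = y * σ + q * σ := by linarith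
    linear_combination h1 + q * h2 - (n' + 2) * q * h4
  have hg0 : g ≠ 0 := by
    intro h
    rw [h, mul_zero] at hgs
    have : (2 * ((n' : ℝ) + 1) + 1) * q * σ ≠ 0 := by
      have : (0 : ℝ) < (2 * ((n' : ℝ) + 1) + 1) * q := by positivity
      exact mul_ne_zero this.ne' hσ0
    apply this
    linarith
  set κ := ((1 + q * q) - y) * g with hκ
  have hκ0 : κ ≠ 0 := mul_ne_zero (sub_ne_zero.2 (Ne.symm hy1)) hg0
  set H : Module.End ℝ V := G (q * q) y Y (n' + 2) + q • G (q * q) y Y (n' + 1) with hH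
  set P : Module.End ℝ V := S (q * q) Y (n' + 2) + q • S (q * q) Y (n' + 1) with hP
  set T := (a - b) * (a - b) * H with hT
  have hYH : (Y - y • (1 : Module.End ℝ V)) * H = P := by
    rw [hH, mul_add, mul_smul_comm, sub_mul_G, sub_mul_G, hy', ← hσ, hP, smul_sub, smul_smul,
      neg_smul]
    abel
  have h1 : (Y - y • (1 : Module.End ℝ V)) * T = 0 := by
    have e1 : Commute (Y - y • (1 : Module.End ℝ V)) (a - b) :=
      hcomm.sub_left ((Commute.one_left _).smul_left y)
    have e2 : (a - b) * P = P * (a - b) :=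
      ((S_commute _ hcomm.symm _).add_right ((S_commute _ hcomm.symm _).smul_right q)).eq
    have e3 := S_mul_sub_odd ha hb (n' + 1)
    calc (Y - y • (1 : Module.End ℝ V)) * T
        = (a - b) * (a - b) * ((Y - y • (1 : Module.End ℝ V)) * H) := by
          rw [hT, ← mul_assoc, (e1.mul_right e1).eq, mul_assoc]
      _ = (a - b) * (P * (a - b)) := by rw [hYH, mul_assoc, e2]
      _ = (a - b) * ((a * b) ^ (n' + 1) * a - (b * a) ^ (n' + 1) * b) := by
          rw [hP, hY, e3]
      _ = 0 := by rw [← mul_pow_mul a b, ← mul_pow_mul b a, hbraid, sub_self, mul_zero]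
  have h2 : ∀ v, Y v = y • v → T v = κ • v := by
    intro v hv
    have e1 : ((a - b) * (a - b)) v = ((1 + q * q) - y) • v := by
      rw [sub_sq_odd ha hb, ← hY, LinearMap.sub_apply, hv, LinearMap.smul_apply,
        Module.End.one_apply, sub_smul]
    have e2 : H v = g • v := by
      rw [hH, LinearMap.add_apply, LinearMap.smul_apply, G_apply hv, G_apply hv, smul_smul,
        ← add_smul]
    rw [hT, Module.End.mul_apply, e2, map_smul, e1, smul_smul, hκ, mul_comm]
  have h3 : LinearMap.trace ℝ V T = 2 * q * Module.finrank ℝ V * σ := by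
    have htr1 : ∀ k, 1 ≤ k → k ≤ n' + 1 → LinearMap.trace ℝ V ((a * b) ^ k) = 0 ∧
        LinearMap.trace ℝ V ((b * a) ^ k) = 0 := by
      intro k hk1 hk2
      have := htr (2 * k) (by omega) (by omega)
      rwa [alt_two_mul, alt_two_mul] at this
    have htr2 : ∀ k, k ≤ n' + 1 → LinearMap.trace ℝ V ((a * b) ^ k * a) = 0 ∧
        LinearMap.trace ℝ V ((b * a) ^ k * b) = 0 := by
      intro k hk2
      have := htr (2 * k + 1) (by omega) (by omega)
      rwa [alt_two_mul_add_one, alt_two_mul_add_one, mul_pow_mul, mul_pow_mul] at this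
    have e0 : ∀ k, (a - b) * (a - b) * (S (q * q) Y (k + 1) + q • S (q * q) Y k) =
        (a - b) * ((a * b) ^ k * a - (b * a) ^ k * b) := by
      intro k
      have e2 : (a - b) * (S (q * q) Y (k + 1) + q • S (q * q) Y k) =
          (S (q * q) Y (k + 1) + q • S (q * q) Y k) * (a - b) :=
        ((S_commute _ hcomm.symm _).add_right ((S_commute _ hcomm.symm _).smul_right q)).eq
      rw [mul_assoc, e2, hY, S_mul_sub_odd ha hb]
    have e3 : ∀ k, (a - b) * ((a * b) ^ k * a - (b * a) ^ k * b) =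
        a * ((a * b) ^ k * a) + b * ((b * a) ^ k * b) - (a * b) ^ (k + 1) - (b * a) ^ (k + 1) := by
      intro k
      have e4 : a * ((b * a) ^ k * b) = (a * b) ^ (k + 1) := by
        rw [← mul_assoc, mul_pow_mul, mul_assoc, ← pow_succ]
      have e5 : b * ((a * b) ^ k * a) = (b * a) ^ (k + 1) := by
        rw [← mul_assoc, mul_pow_mul, mul_assoc, ← pow_succ]
      rw [sub_mul, mul_sub, mul_sub, e4, e5]
      abel
    -- the general term
    have e4 : ∀ k ∈ Finset.range n', LinearMap.trace ℝ V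
        (S (q * q) y (n' + 1 - (k + 1)) •
          ((a - b) * (a - b) * (S (q * q) Y (k + 1 + 1) + q • S (q * q) Y (k + 1)))) = 0 := by
      intro k hk
      have hk' : k < n' := Finset.mem_range.1 hk
      rw [map_smul, e0 (k + 1), e3 (k + 1), mul_pow_succ_mul ha, mul_pow_succ_mul hb]
      simp only [map_add, map_sub, map_smul, smul_eq_mul]
      rw [(htr1 (k + 1 + 1) (by omega) (by omega)).1, (htr1 (k + 1 + 1) (by omega) (by omega)).2,
        (htr2 (k + 1) (by omega)).1, (htr2 (k + 1) (by omega)).2,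
        (htr1 (k + 1) (by omega) (by omega)).1, (htr1 (k + 1) (by omega) (by omega)).2]
      simp
    have e5 : LinearMap.trace ℝ V
        ((a - b) * (a - b) * (S (q * q) Y (0 + 1) + q • S (q * q) Y 0)) =
        2 * q * Module.finrank ℝ V := by
      rw [e0 0, e3 0]
      simp only [pow_zero, one_mul, zero_add, pow_one]
      rw [ha, hb]
      simp only [map_add, map_sub, map_smul, smul_eq_mul]
      have f1 := htr2 0 (by omega)
      have f2 := htr1 1 (by omega) (by omega)
      simp only [pow_zero, one_mul, pow_one] at f1 f2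
      rw [f1.1, f1.2, f2.1, f2.2, LinearMap.trace_one]
      ring
    have e6 : H = ∑ k ∈ Finset.range (n' + 1), S (q * q) y (n' + 1 - k) •
        (S (q * q) Y (k + 1) + q • S (q * q) Y k) := by
      rw [hH]
      unfold G
      rw [Finset.sum_range_succ' _ (n' + 1), S_zero, smul_zero, add_zero, Finset.smul_sum,
        ← Finset.sum_add_distrib]
      refine Finset.sum_congr rfl fun k _ => ?_
      rw [show n' + 2 - (k + 1) = n' + 1 - k by omega, smul_add, smul_comm q]
    rw [hT, e6, Finset.mul_sum, map_sum, Finset.sum_range_succ']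
    simp only [mul_smul_comm]
    rw [Finset.sum_eq_zero e4, zero_add, map_smul, e5, smul_eq_mul,
      show n' + 1 - 0 = n' + 1 by omega, ← hσ]
    ring
  obtain ⟨D, hD⟩ := trace_proj h1 h2 hκ0
  refine ⟨D, ?_⟩
  rw [h3, hκ] at hD
  have h4 : (q * σ) * ((D : ℝ) * (2 * (n' + 1) + 1) * (1 + q * q - y)) =
      (q * σ) * (2 * Module.finrank ℝ V * (2 * q - y)) := by
    linear_combination (y - 2 * q) * hD + (1 + q * q - y) * D * hgs
  have h6 := mul_left_cancel₀ (mul_ne_zero (by positivity) hσ0) h4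
  push_cast
  exact h6

end Trace

section Trig

open Real

/-- `S_k(2 r cos θ) r sin θ = r^k sin (k θ)` for `c = r²`. -/
theorem S_cos (r θ : ℝ) : ∀ k : ℕ,
    S (r * r) (2 * r * cos θ) k * (r * sin θ) = r ^ k * sin (k * θ)
  | 0 => by rw [S_zero]; simp
  | 1 => by rw [S_one]; simp
  | k + 2 => by
    have h1 := S_cos r θ k
    have h2 := S_cos r θ (k + 1)
    rw [S_add_two, smul_eq_mul, sub_mul]
    have e : sin (((k + 2 : ℕ) : ℝ) * θ) =
        2 * cos θ * sin (((k + 1 : ℕ) : ℝ) * θ) - sin ((k : ℝ) * θ) := by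
      have e1 : ((k + 2 : ℕ) : ℝ) * θ = ((k + 1 : ℕ) : ℝ) * θ + θ := by push_cast; ring
      have e2 : (k : ℝ) * θ = ((k + 1 : ℕ) : ℝ) * θ - θ := by push_cast; ring
      rw [e1, e2, sin_add, sin_sub]
      ring
    rw [e]
    linear_combination (2 * r * cos θ) * h2 - r * r * h1

theorem S_cos_eq_zero {r θ : ℝ} (hr : r ≠ 0) (hs : sin θ ≠ 0) {n : ℕ} (h : sin (n * θ) = 0) :
    S (r * r) (2 * r * cos θ) n = 0 := by
  have := S_cos r θ n
  rw [h, mul_zero] at this
  exact (mul_eq_zero.1 this).resolve_right (mul_ne_zero hr hs)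

theorem S_cos_odd_eq_zero {q θ : ℝ} (hq : q ≠ 0) (hs : sin θ ≠ 0) {n : ℕ}
    (h : sin ((2 * n + 1) * (θ / 2)) = 0) :
    S (q * q) (2 * q * cos θ) (n + 1) + q * S (q * q) (2 * q * cos θ) n = 0 := by
  have h1 := S_cos q θ n
  have h2 := S_cos q θ (n + 1)
  have e1 : ((n + 1 : ℕ) : ℝ) * θ = (2 * n + 1) * (θ / 2) + θ / 2 := by push_cast; ring
  have e2 : (n : ℝ) * θ = (2 * n + 1) * (θ / 2) - θ / 2 := by ring
  rw [e2, sin_sub, h, zero_mul, zero_sub] at h1
  rw [e1, sin_add, h, zero_mul, zero_add] at h2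
  have h3 : (S (q * q) (2 * q * cos θ) (n + 1) + q * S (q * q) (2 * q * cos θ) n) *
      (q * sin θ) = 0 := by
    linear_combination h2 + q * h1
  exact (mul_eq_zero.1 h3).resolve_right (mul_ne_zero hq hs)

/-- Rationality in the odd case. -/
theorem rational_odd {q y : ℝ} {D m v : ℕ} {q' : ℚ} (hqq : q = q') (hq : 1 < q) (hv : 0 < v)
    (h : (D : ℝ) * m * (1 + q * q - y) = 2 * v * (2 * q - y)) : ∃ r : ℚ, y = r := by
  have hv' : (0 : ℝ) < v := Nat.cast_pos.2 hv
  have h1 : y * (2 * v - D * m) = 4 * q * v - D * m * (1 + q * q) := by linarith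
  by_cases h2 : (2 * v - D * m : ℝ) = 0
  · exfalso
    rw [h2, mul_zero] at h1
    have h3 : (D * m : ℝ) = 2 * v := by linarith
    rw [h3] at h1
    have h4 : 2 * v * ((q - 1) * (q - 1)) = 0 := by linarith
    have h5 : (0 : ℝ) < 2 * v * ((q - 1) * (q - 1)) := by
      have : 0 < q - 1 := by linarith
      positivity
    linarith
  · refine ⟨(4 * q' * v - D * m * (1 + q' * q')) / (2 * v - D * m), ?_⟩
    push_cast
    rw [← hqq, eq_div_iff h2]
    exact h1

/-- Rationality in the even case. -/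
theorem rational_even {s t y : ℝ} {s' t' : ℚ} (hss : s = s') (htt : t = t') (hs : 1 < s)
    (ht : 1 < t) {D D' n v : ℕ} (hn : 0 < n) (hv : 0 < v) (hy : y ^ 2 < 4 * (s * t))
    (h : (D : ℝ) * n * ((1 + s * t - y) * (s + t + y)) = v * (4 * (s * t) - y ^ 2))
    (h' : (D' : ℝ) * n * ((1 + s * t + y) * (s + t - y)) = v * (4 * (s * t) - y ^ 2)) :
    ∃ r : ℚ, y = r := by
  have hv' : (0 : ℝ) < v := Nat.cast_pos.2 hv
  have hn' : (0 : ℝ) < n := Nat.cast_pos.2 hn
  have hE : 0 < 4 * (s * t) - y ^ 2 := by linarith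
  have hR : 0 < (v : ℝ) * (4 * (s * t) - y ^ 2) := mul_pos hv' hE
  have hD : (D : ℝ) ≠ 0 := by
    intro h0; rw [h0, zero_mul, zero_mul] at h; linarith
  have hD' : (D' : ℝ) ≠ 0 := by
    intro h0; rw [h0, zero_mul, zero_mul] at h'; linarith
  set α : ℝ := v / (D * n) with hα
  set β : ℝ := v / (D' * n) with hβ
  have hDn : (D : ℝ) * n ≠ 0 := mul_ne_zero hD hn'.ne'
  have hDn' : (D' : ℝ) * n ≠ 0 := mul_ne_zero hD' hn'.ne'
  have e1 : (1 + s * t - y) * (s + t + y) = α * (4 * (s * t) - y ^ 2) := by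
    rw [hα, div_mul_eq_mul_div, eq_div_iff hDn, ← h]; ring
  have e2 : (1 + s * t + y) * (s + t - y) = β * (4 * (s * t) - y ^ 2) := by
    rw [hβ, div_mul_eq_mul_div, eq_div_iff hDn', ← h']; ring
  have e3 : y ^ 2 * (α + β - 2) = 4 * (s * t) * (α + β) - 2 * ((1 + s * t) * (s + t)) := by
    linear_combination e1 + e2
  have e4 : α + β - 2 ≠ 0 := by
    intro h0
    rw [h0, mul_zero] at e3
    have h1 : α + β = 2 := by linarith
    rw [h1] at e3
    have h2 : s * ((t - 1) * (t - 1)) + t * ((s - 1) * (s - 1)) = 0 := by linarith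
    have h3 : 0 < s * ((t - 1) * (t - 1)) := by
      have : 0 < t - 1 := by linarith
      positivity
    have h4 : 0 < t * ((s - 1) * (s - 1)) := by
      have : 0 < s - 1 := by linarith
      positivity
    linarith
  have e5 : y * (2 * ((s - 1) * (t - 1))) = (α - β) * (4 * (s * t) - y ^ 2) := by
    linear_combination e1 - e2
  have e6 : 2 * ((s - 1) * (t - 1)) ≠ 0 := by
    have h1 : 0 < s - 1 := by linarith
    have h2 : 0 < t - 1 := by linarith
    positivity
  set α' : ℚ := v / (D * n) with hα'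
  set β' : ℚ := v / (D' * n) with hβ'
  have hαα : α = (α' : ℝ) := by rw [hα, hα']; push_cast; rfl
  have hββ : β = (β' : ℝ) := by rw [hβ, hβ']; push_cast; rfl
  set r₂ : ℚ := (4 * (s' * t') * (α' + β') - 2 * ((1 + s' * t') * (s' + t'))) / (α' + β' - 2)
    with hr₂
  have hy2 : y ^ 2 = (r₂ : ℝ) := by
    rw [hr₂]
    push_cast
    rw [← hαα, ← hββ, ← hss, ← htt, eq_div_iff e4]
    exact e3
  refine ⟨(α' - β') * (4 * (s' * t') - r₂) / (2 * ((s' - 1) * (t' - 1))), ?_⟩
  push_cast
  rw [← hαα, ← hββ, ← hss, ← htt, eq_div_iff e6, ← hy2]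
  exact e5

theorem den_two_div_odd {m : ℕ} (hm : Odd m) : ((2 : ℚ) / (m : ℚ)).den = m := by
  have hm0 : m ≠ 0 := by rintro rfl; simp at hm
  have h := Rat.den_div_eq_of_coprime (a := 2) (b := (m : ℤ)) (by positivity)
    (by
      have : Nat.Coprime 2 m := (Nat.coprime_two_left).2 hm
      simpa using this)
  have : ((2 : ℤ) : ℚ) / ((m : ℤ) : ℚ) = (2 : ℚ) / (m : ℚ) := by push_cast; rfl
  rw [this] at h
  exact_mod_cast h

theorem den_two_div_even {k : ℕ} (hk : 0 < k) : ((2 : ℚ) / ((2 * k : ℕ) : ℚ)).den = k := by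
  have e : (2 : ℚ) / ((2 * k : ℕ) : ℚ) = ((1 : ℤ) : ℚ) / ((k : ℤ) : ℚ) := by
    push_cast
    have : (k : ℚ) ≠ 0 := by positivity
    field_simp
  rw [e]
  have h := Rat.den_div_eq_of_coprime (a := 1) (b := (k : ℤ)) (by exact_mod_cast hk) (by simp)
  exact_mod_cast h

theorem small_of_cos_rational {m : ℕ} (hm : 0 < m) (h : ∃ r : ℚ, cos (2 * π / m) = r) :
    m = 1 ∨ m = 2 ∨ m = 3 ∨ m = 4 ∨ m = 6 := by
  have h1 : ((2 : ℚ) / (m : ℚ)).den ≤ 3 := by
    by_contra hlt
    push Not at hlt
    have h2 := irrational_cos_rat_mul_pi hlt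
    apply h2
    obtain ⟨r, hr⟩ := h
    refine ⟨r, ?_⟩
    rw [← hr]
    congr 1
    push_cast
    ring
  rcases Nat.even_or_odd m with he | ho
  · obtain ⟨k, hk⟩ := he
    have hk' : m = 2 * k := by omega
    subst hk'
    rw [den_two_div_even (by omega)] at h1
    omega
  · rw [den_two_div_odd ho] at h1
    obtain ⟨k, hk⟩ := ho
    omega

end Trig

section Main

open Real

variable {V : Type*} [AddCommGroup V] [Module ℝ V] [FiniteDimensional ℝ V] [Nontrivial V]

theorem feit_higman_even {a b : Module.End ℝ V} {s t : ℝ} {s' t' : ℚ} (hss : s = s') (htt : t = t')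
    (hs : 1 < s) (ht : 1 < t)
    (ha : a * a = (s - 1) • a + s • (1 : Module.End ℝ V))
    (hb : b * b = (t - 1) • b + t • (1 : Module.End ℝ V)) {n : ℕ} (hn : 2 ≤ n)
    (hbraid : (a * b) ^ n = (b * a) ^ n)
    (htr : ∀ k, 1 ≤ k → k ≤ 2 * n →
      LinearMap.trace ℝ V (alt a b k) = 0 ∧ LinearMap.trace ℝ V (alt b a k) = 0) :
    n = 2 ∨ n = 3 ∨ n = 4 := by
  have hst : 0 < s * t := by positivity
  set r := Real.sqrt (s * t) with hr
  have hr0 : 0 < r := Real.sqrt_pos.2 hst
  have hrr : r * r = s * t := Real.mul_self_sqrt hst.le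
  have hn0 : (0 : ℝ) < n := by exact_mod_cast (by omega : 0 < n)
  have hv : 0 < Module.finrank ℝ V := Module.finrank_pos
  -- all `2 r cos (π j / n)` are rational
  have key : ∀ j : ℕ, 1 ≤ j → j < n → ∃ z : ℚ, 2 * r * cos (π * j / n) = z := by
    have aux : ∀ j : ℕ, 1 ≤ j → j < n → 0 < sin (π * j / n) ∧ (2 * r * cos (π * j / n)) ^ 2 <
        4 * (s * t) ∧ ∃ D : ℕ, (D : ℝ) * n * ((1 + s * t - 2 * r * cos (π * j / n)) *
          (s + t + 2 * r * cos (π * j / n))) =
        Module.finrank ℝ V * (4 * (s * t) - (2 * r * cos (π * j / n)) ^ 2) := by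
      intro j hj1 hj2
      have hj0 : (0 : ℝ) < j := by exact_mod_cast hj1
      have hjn : (j : ℝ) < n := by exact_mod_cast hj2
      have hsin : 0 < sin (π * j / n) := by
        apply sin_pos_of_pos_of_lt_pi
        · positivity
        · rw [div_lt_iff₀ hn0]
          exact mul_lt_mul_of_pos_left hjn pi_pos
      set θ := π * j / n with hθ
      have hcs := sin_sq_add_cos_sq θ
      have hlt : (2 * r * cos θ) ^ 2 < 4 * (s * t) := by
        have : (2 * r * cos θ) ^ 2 = 4 * (r * r) * cos θ ^ 2 := by ring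
        rw [this, hrr]
        have h1 : cos θ ^ 2 < 1 := by
          have : 0 < sin θ ^ 2 := by positivity
          linarith
        have h2 : 0 < 4 * (s * t) := by positivity
        nlinarith
      refine ⟨hsin, hlt, ?_⟩
      apply even_eq hs ht ha hb hn hbraid htr
      · rw [← hrr]
        apply S_cos_eq_zero hr0.ne' hsin.ne'
        have : (n : ℝ) * θ = j * π := by rw [hθ]; field_simp
        rw [this, sin_nat_mul_pi]
      · intro h
        rw [h] at hlt
        nlinarith [sq_nonneg (s * t - 1)]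
      · intro h
        rw [h] at hlt
        nlinarith [sq_nonneg (s - t)]
    intro j hj1 hj2
    obtain ⟨h1, h2, D, hD⟩ := aux j hj1 hj2
    obtain ⟨h3, h4, D', hD'⟩ := aux (n - j) (by omega) (by omega)
    have e : π * ((n - j : ℕ) : ℝ) / n = π - π * j / n := by
      rw [Nat.cast_sub hj2.le]
      field_simp
    rw [e, cos_pi_sub] at hD'
    refine rational_even hss htt hs ht (by omega) hv h2 hD (D' := D') ?_
    rw [show (2 * r * -cos (π * j / n)) = -(2 * r * cos (π * j / n)) by ring] at hD'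
    rw [neg_sq] at hD'
    rw [← hD']
    ring
  have hcos : ∃ z : ℚ, cos (2 * π / n) = z := by
    obtain ⟨z, hz⟩ := key 1 le_rfl (by omega)
    refine ⟨z ^ 2 / (2 * (s' * t')) - 1, ?_⟩
    push_cast
    rw [← hss, ← htt, ← hz, show 2 * π / n = 2 * (π * ((1 : ℕ) : ℝ) / n) by push_cast; ring,
      cos_two_mul]
    rw [← hrr]
    field_simp
  rcases small_of_cos_rational (by omega) hcos with h | h | h | h | h
  · omega
  · exact Or.inl h
  · exact Or.inr (Or.inl h)
  · exact Or.inr (Or.inr h)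
  · exfalso
    subst h
    obtain ⟨z1, hz1⟩ := key 1 le_rfl (by omega)
    obtain ⟨z2, hz2⟩ := key 2 (by omega) (by omega)
    have e1 : π * ((1 : ℕ) : ℝ) / ((6 : ℕ) : ℝ) = π / 6 := by push_cast; ring
    have e2 : π * ((2 : ℕ) : ℝ) / ((6 : ℕ) : ℝ) = π / 3 := by push_cast; ring
    rw [e1, cos_pi_div_six] at hz1
    rw [e2, cos_pi_div_three] at hz2
    have h3 : Irrational (Real.sqrt 3) := by
      have := Nat.Prime.irrational_sqrt (p := 3) (by norm_num)
      exact_mod_cast this
    apply h3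
    refine ⟨z1 / z2, ?_⟩
    push_cast
    rw [← hz1, ← hz2]
    field_simp

theorem feit_higman_odd {a b : Module.End ℝ V} {q : ℝ} {q' : ℚ} (hqq : q = q')
    (hq : 1 < q)
    (ha : a * a = (q - 1) • a + q • (1 : Module.End ℝ V))
    (hb : b * b = (q - 1) • b + q • (1 : Module.End ℝ V)) {n : ℕ} (hn : 1 ≤ n)
    (hbraid : a * (b * a) ^ n = b * (a * b) ^ n)
    (htr : ∀ k, 1 ≤ k → k ≤ 2 * n + 1 →
      LinearMap.trace ℝ V (alt a b k) = 0 ∧ LinearMap.trace ℝ V (alt b a k) = 0) :
    n = 1 := by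
  have hv : 0 < Module.finrank ℝ V := Module.finrank_pos
  have hn0 : (0 : ℝ) < n := by exact_mod_cast (by omega : 0 < n)
  set m : ℕ := 2 * n + 1 with hm
  have hm0 : (0 : ℝ) < m := by exact_mod_cast (by omega : 0 < m)
  set θ := 2 * π / m with hθ
  have hsin : 0 < sin θ := by
    apply sin_pos_of_pos_of_lt_pi
    · positivity
    · rw [hθ, div_lt_iff₀ hm0]
      have : (2 : ℝ) < m := by exact_mod_cast (by omega : 2 < m)
      nlinarith [pi_pos]
  have hcs := sin_sq_add_cos_sq θ
  have hc1 : cos θ < 1 := by nlinarith [sq_nonneg (sin θ), cos_le_one θ]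
  have hc2 : -1 < cos θ := by nlinarith [sq_nonneg (sin θ), neg_one_le_cos θ]
  have hq0 : 0 < q := by linarith
  obtain ⟨D, hD⟩ := odd_eq hq ha hb hn hbraid htr (y := 2 * q * cos θ)
    (S_cos_odd_eq_zero hq0.ne' hsin.ne' (by
      have : (2 * (n : ℝ) + 1) * (θ / 2) = π := by
        rw [hθ, hm]
        push_cast
        field_simp
      rw [this, sin_pi]))
    (by
      intro h
      have h1 : 2 * q * cos θ < 2 * q := by nlinarith
      nlinarith [sq_nonneg (q - 1)])
    (by
      intro h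
      have h1 : 0 < q * (cos θ + 1) := mul_pos hq0 (by linarith)
      nlinarith)
  have hrat : ∃ r : ℚ, 2 * q * cos θ = r := by
    refine rational_odd (D := D) (m := m) (v := Module.finrank ℝ V) hqq hq hv ?_
    rw [← hD, hm]
    push_cast
    ring
  have hcos : ∃ r : ℚ, cos (2 * π / m) = r := by
    obtain ⟨z, hz⟩ := hrat
    refine ⟨z / (2 * q'), ?_⟩
    push_cast
    rw [← hqq, ← hz, ← hθ]
    field_simp
  rcases small_of_cos_rational (by omega) hcos with h | h | h | h | h <;> omega

/-- **Feit–Higman, linear algebra half.** -/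
theorem feit_higman_linear (a b : Module.End ℝ V) (s t : ℚ) (hs : 1 < s) (ht : 1 < t)
    (m : ℕ) (hm : 2 ≤ m)
    (ha : a * a = ((s : ℝ) - 1) • a + (s : ℝ) • (1 : Module.End ℝ V))
    (hb : b * b = ((t : ℝ) - 1) • b + (t : ℝ) • (1 : Module.End ℝ V))
    (hbraid : alt a b m = alt b a m)
    (htr : ∀ k, 1 ≤ k → k ≤ m →
      LinearMap.trace ℝ V (alt a b k) = 0 ∧ LinearMap.trace ℝ V (alt b a k) = 0) :
    m = 2 ∨ m = 3 ∨ m = 4 ∨ m = 6 ∨ m = 8 := by
  have hs' : (1 : ℝ) < s := by exact_mod_cast hs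
  have ht' : (1 : ℝ) < t := by exact_mod_cast ht
  rcases Nat.even_or_odd' m with ⟨n, rfl | rfl⟩
  · rcases Nat.lt_or_ge n 2 with h | h
    · left; omega
    · rw [alt_two_mul, alt_two_mul] at hbraid
      have := feit_higman_even rfl rfl hs' ht' ha hb h hbraid htr
      omega
  · have hn : 1 ≤ n := by omega
    rw [alt_two_mul_add_one, alt_two_mul_add_one] at hbraid
    -- `s = t`
    have hst : (s : ℝ) = t := by
      by_contra hne
      -- `w a = b w` with `w = (ba)^n` up to side
      have hua : ∃ a' : Module.End ℝ V, a' * a = 1 := by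
        refine ⟨(s : ℝ)⁻¹ • (a - ((s : ℝ) - 1) • 1), ?_⟩
        rw [smul_mul_assoc, sub_mul, smul_mul_assoc, one_mul, ha, add_sub_cancel_left, smul_smul,
          inv_mul_cancel₀ (by linarith), one_smul]
      have hub : ∃ b' : Module.End ℝ V, b' * b = 1 := by
        refine ⟨(t : ℝ)⁻¹ • (b - ((t : ℝ) - 1) • 1), ?_⟩
        rw [smul_mul_assoc, sub_mul, smul_mul_assoc, one_mul, hb, add_sub_cancel_left, smul_smul,
          inv_mul_cancel₀ (by linarith), one_smul]
      obtain ⟨a', ha'⟩ := hua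
      obtain ⟨b', hb'⟩ := hub
      have huw : ∀ k : ℕ, ∃ w' : Module.End ℝ V, w' * (a * b) ^ k = 1 := by
        intro k
        induction k with
        | zero => exact ⟨1, by simp⟩
        | succ k ih =>
          obtain ⟨w', hw'⟩ := ih
          refine ⟨w' * (b' * a'), ?_⟩
          rw [pow_succ']
          calc w' * (b' * a') * (a * b * (a * b) ^ k)
              = w' * (b' * ((a' * a) * (b * (a * b) ^ k))) := by simp only [mul_assoc]
            _ = w' * ((b' * b) * (a * b) ^ k) := by rw [ha', one_mul, mul_assoc]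
            _ = 1 := by rw [hb', one_mul, hw']
      obtain ⟨w', hw'⟩ := huw n
      set w := (a * b) ^ n with hw
      have h1 : w * a = b * w := by rw [hw, ← mul_pow_mul, hbraid]
      have h2 : w * (a * a) = (b * b) * w := by
        rw [← mul_assoc, h1, mul_assoc, h1, mul_assoc]
      rw [ha, hb, mul_add, add_mul, mul_smul_comm, mul_smul_comm, smul_mul_assoc, smul_mul_assoc,
        mul_one, one_mul, ← h1] at h2
      have h3 : ((s : ℝ) - t) • (w * (a + 1)) = 0 := by
        rw [mul_add, mul_one]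
        have : ((s : ℝ) - t) • (w * a + w) =
            (((s : ℝ) - 1) • (w * a) + (s : ℝ) • w) - (((t : ℝ) - 1) • (w * a) + (t : ℝ) • w) := by
          module
        rw [this, h2, sub_self]
      have h4 : w * (a + 1) = 0 := (smul_eq_zero.1 h3).resolve_left (sub_ne_zero.2 hne)
      have h5 : a + 1 = 0 := by
        calc a + 1 = (w' * w) * (a + 1) := by rw [hw', one_mul]
          _ = w' * (w * (a + 1)) := mul_assoc _ _ _
          _ = 0 := by rw [h4, mul_zero]
      have h6 : LinearMap.trace ℝ V (a + 1) = 0 := by rw [h5, map_zero]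
      have h7 := (htr 1 le_rfl (by omega)).1
      rw [show (1 : ℕ) = 0 + 1 from rfl, alt_succ, alt_zero, mul_one] at h7
      rw [map_add, h7, zero_add, LinearMap.trace_one] at h6
      have hv : 0 < Module.finrank ℝ V := Module.finrank_pos
      have : (Module.finrank ℝ V : ℝ) ≠ 0 := by positivity
      exact this h6
    rw [← hst] at hb
    have := feit_higman_odd (q' := s) rfl hs' ha hb hn hbraid htr
    omega

end Main

end Cfsg.Agent.LieRecognition.FeitHigmanLin
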