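import Cfsg.Agent.LieRecognition.CoxClass
import Cfsg.Agent.Tits.OfBN
import Cfsg.Agent.S0320
import Cfsg.Agent.S1142

/-!
# The type of an irreducible (B,N)-pair of rank at least 3 of a finite group

`sub`: the (B,N)-pair of a parabolic subgroup.  `exists_type`: the Coxeter matrix is one of `A_n, C_n, D_n, E_n, F_4`.
-/

set_option autoImplicit false

namespace Cfsg.Agent.LieRecognition.BNCox

open Cfsg.Agent.Tits Cfsg.Agent.Tits.OfBN Cfsg.Agent.LieRecognition.CoxForm Cfsg.Agent.LieRecognition.CoxClass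

section sub

variable {G : Type*} [Group G] (P : Cfsg.BNPair G) (J : Set G) (hJ : J ⊆ P.S)

theorem B_le : P.B ≤ P.parabolic J := le_sup_left

theorem J_le : J ⊆ P.parabolic J := fun _ hx => (le_sup_right : _ ≤ P.parabolic J) (Subgroup.subset_closure hx)

/-- `N` of the parabolic subgroup -/
def NJ : Subgroup G := Subgroup.closure J ⊔ (P.B ⊓ P.N)

theorem NJ_le : NJ P J ≤ P.parabolic J :=
  sup_le (le_sup_right : _ ≤ P.parabolic J) (inf_le_left.trans (B_le P J))

include hJ in
theorem NJ_le_N : NJ P J ≤ P.N :=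
  sup_le ((Subgroup.closure_le _).2 (hJ.trans P.subset)) inf_le_right

include hJ in
theorem B_inf_NJ : P.B ⊓ NJ P J = P.B ⊓ P.N := by
  apply le_antisymm
  · exact inf_le_inf_left _ (NJ_le_N P J hJ)
  · exact le_inf inf_le_left le_sup_right

/-- the (B,N)-pair of a parabolic subgroup -/
def sub : Cfsg.BNPair (P.parabolic J) where
  B := P.B.subgroupOf (P.parabolic J)
  N := (NJ P J).subgroupOf (P.parabolic J)
  S := {x | (x : G) ∈ J}
  sup_eq_top := by
    rw [← Subgroup.subgroupOf_sup (B_le P J) (NJ_le P J), Subgroup.subgroupOf_eq_top]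
    apply sup_le le_sup_left
    exact le_trans (le_sup_left : _ ≤ NJ P J) le_sup_right
  conj_mem := by
    intro n hn t ht
    rw [Subgroup.mem_subgroupOf] at hn ⊢
    obtain ⟨h1, h2⟩ := ht
    exact P.conj_mem n (NJ_le_N P J hJ hn) t ⟨h1, NJ_le_N P J hJ h2⟩
  subset := by
    intro s hs
    exact (le_sup_left : _ ≤ NJ P J) (Subgroup.subset_closure hs)
  sq_mem := fun s hs => P.sq_mem s (hJ hs)
  inj := fun s hs s' hs' h => Subtype.ext (P.inj s (hJ hs) s' (hJ hs') h)
  closure_sup := by
    apply Subgroup.map_injective (P.parabolic J).subtype_injective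
    rw [Subgroup.map_sup, MonoidHom.map_closure, Subgroup.subgroupOf_map_subtype, inf_eq_left.2 (NJ_le P J)]
    have h1 : (P.parabolic J).subtype '' {x | (x : G) ∈ J} = J := by
      ext x
      constructor
      · rintro ⟨y, hy, rfl⟩
        exact hy
      · intro hx
        exact ⟨⟨x, J_le P J hx⟩, hx, rfl⟩
    have h2 : Subgroup.map (P.parabolic J).subtype (P.B.subgroupOf (P.parabolic J) ⊓ (NJ P J).subgroupOf (P.parabolic J))
        = P.B ⊓ P.N := by
      rw [← B_inf_NJ P J hJ]
      have : P.B.subgroupOf (P.parabolic J) ⊓ (NJ P J).subgroupOf (P.parabolic J) =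
        (P.B ⊓ NJ P J).subgroupOf (P.parabolic J) := rfl
      rw [this, Subgroup.subgroupOf_map_subtype, inf_eq_left.2 (inf_le_left.trans (B_le P J))]
    rw [h1, h2]
    rfl
  mul_mem_union := by
    intro s hs n hn b hb
    have hn' := NJ_le_N P J hJ hn
    have conv : ∀ y x : P.parabolic J, (x : G) ∈ DoubleCoset.doubleCoset (y : G) (P.B : Set G) P.B →
        x ∈ DoubleCoset.doubleCoset y (P.B.subgroupOf (P.parabolic J) : Set _) (P.B.subgroupOf (P.parabolic J)) := by
      intro y x hx
      rw [DoubleCoset.mem_doubleCoset] at hx ⊢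
      obtain ⟨b₁, hb₁, b₂, hb₂, h⟩ := hx
      exact ⟨⟨b₁, B_le P J hb₁⟩, hb₁, ⟨b₂, B_le P J hb₂⟩, hb₂, Subtype.ext h⟩
    rcases P.mul_mem_union s (hJ hs) n hn' b hb with h | h
    · exact Or.inl (conv (s * n) (s * b * n) h)
    · exact Or.inr (conv n (s * b * n) h)
  conj_ne := by
    intro s hs h
    apply P.conj_ne s (hJ hs)
    ext x
    constructor
    · rintro ⟨b, hb, rfl⟩
      have : (fun b : P.parabolic J => s * b * s) ⟨b, B_le P J hb⟩ ∈ (P.B.subgroupOf (P.parabolic J) : Set _) := by
        rw [← h]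
        exact ⟨⟨b, B_le P J hb⟩, hb, rfl⟩
      exact this
    · intro hx
      have : (⟨x, B_le P J hx⟩ : P.parabolic J) ∈ (P.B.subgroupOf (P.parabolic J) : Set _) := hx
      rw [← h] at this
      obtain ⟨b, hb, hbx⟩ := this
      exact ⟨b, hb, congrArg Subtype.val hbx⟩

end sub

section dihedral

/-- a finite group generated by two involutions `a, b` has order `o` or `2 o`, `o` the order of `a b` -/
theorem card_dihedral {W : Type*} [Group W] [Finite W] (a b : W) (ha : a * a = 1) (hb : b * b = 1)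
    (hgen : Subgroup.closure {a, b} = ⊤) : Nat.card W = orderOf (a * b) ∨ Nat.card W = 2 * orderOf (a * b) := by
  classical
  have hba : b * a = (a * b)⁻¹ := by
    rw [mul_inv_rev, inv_eq_of_mul_eq_one_left ha, inv_eq_of_mul_eq_one_left hb]
  have hmem : ∀ g : W, g ∈ Subgroup.zpowers (a * b) ∨ g * a ∈ Subgroup.zpowers (a * b) := by
    intro g
    have hg : g ∈ Subgroup.closure {a, b} := by rw [hgen]; exact Subgroup.mem_top g
    refine Subgroup.closure_induction_right (p := fun g _ => g ∈ Subgroup.zpowers (a * b) ∨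
      g * a ∈ Subgroup.zpowers (a * b)) ?_ ?_ ?_ hg
    · exact Or.inl (one_mem _)
    · intro x _ y hy ih
      rcases hy with rfl | hy
      · rcases ih with ih | ih
        · right
          rwa [mul_assoc, ha, mul_one]
        · exact Or.inl ih
      · rw [Set.mem_singleton_iff] at hy
        subst hy
        rcases ih with ih | ih
        · right
          rw [mul_assoc, hba]
          exact mul_mem ih (inv_mem (Subgroup.mem_zpowers _))
        · left
          have : x * y = (x * a) * (a * y) := by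
            rw [mul_assoc, ← mul_assoc a a y, ha, one_mul]
          rw [this]
          exact mul_mem ih (Subgroup.mem_zpowers _)
    · intro x _ y hy ih
      have hinv : y⁻¹ = y := by
        rcases hy with rfl | hy
        · exact inv_eq_of_mul_eq_one_left ha
        · rw [Set.mem_singleton_iff] at hy
          subst hy
          exact inv_eq_of_mul_eq_one_left hb
      rw [hinv]
      rcases hy with rfl | hy
      · rcases ih with ih | ih
        · right
          rwa [mul_assoc, ha, mul_one]
        · exact Or.inl ih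
      · rw [Set.mem_singleton_iff] at hy
        subst hy
        rcases ih with ih | ih
        · right
          rw [mul_assoc, hba]
          exact mul_mem ih (inv_mem (Subgroup.mem_zpowers _))
        · left
          have : x * y = (x * a) * (a * y) := by
            rw [mul_assoc, ← mul_assoc a a y, ha, one_mul]
          rw [this]
          exact mul_mem ih (Subgroup.mem_zpowers _)
  have hcard : Nat.card (Subgroup.zpowers (a * b)) = orderOf (a * b) := Nat.card_zpowers _
  have hmul := Subgroup.card_mul_index (Subgroup.zpowers (a * b))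
  rw [hcard] at hmul
  have hidx : (Subgroup.zpowers (a * b)).index ≤ 2 := by
    rw [Subgroup.index]
    have hsurj : Function.Surjective (fun t : Bool => (QuotientGroup.mk (if t then (1 : W) else a) :
        W ⧸ Subgroup.zpowers (a * b))) := by
      intro x
      induction x using QuotientGroup.induction_on with
      | _ g =>
      rcases hmem g⁻¹ with h | h
      · refine ⟨true, ?_⟩
        simp only [if_true]
        rw [QuotientGroup.eq, inv_one, one_mul]
        simpa using inv_mem h
      · refine ⟨false, ?_⟩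
        simp only [Bool.false_eq_true, if_false]
        rw [QuotientGroup.eq]
        have := inv_mem h
        rwa [mul_inv_rev, inv_inv] at this
    have := Nat.card_le_card_of_surjective _ hsurj
    simpa using this
  have hpos : 0 < (Subgroup.zpowers (a * b)).index := Nat.pos_of_ne_zero Subgroup.index_ne_zero_of_finite
  interval_cases h : (Subgroup.zpowers (a * b)).index
  · left
    omega
  · right
    omega

end dihedral

section labels

variable {G : Type*} [Group G] [Finite G] (P : Cfsg.BNPair G) [hN : ((P.B ⊓ P.N).subgroupOf P.N).Normal]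
variable {M : CoxeterMatrix P.S} (cs : CoxeterSystem M (WP P))
  (hcs : ∀ s : P.S, cs.simple s = QuotientGroup.mk (⟨(s : G), P.subset s.2⟩ : P.N))

include hcs

theorem label_ne_five (s t : P.S) : M s t ≠ 5 := by
  classical
  intro h5
  have hst : s ≠ t := by
    rintro rfl
    rw [M.diagonal] at h5
    omega
  set J : Set G := {(s : G), (t : G)} with hJdef
  have hJ : J ⊆ P.S := by
    rintro x (rfl | hx)
    · exact s.2
    · rw [Set.mem_singleton_iff] at hx
      subst hx
      exact t.2
  set P' := sub P J hJ with hP'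
  have hN' : ((P'.B ⊓ P'.N).subgroupOf P'.N).Normal := normal_subgroupOf P'
  obtain ⟨M', cs', hcs'⟩ := S0320.result P'
  have hsJ : (s : G) ∈ J := Or.inl rfl
  have htJ : (t : G) ∈ J := Or.inr rfl
  let s' : P'.S := ⟨⟨(s : G), J_le P J hsJ⟩, hsJ⟩
  let t' : P'.S := ⟨⟨(t : G), J_le P J htJ⟩, htJ⟩
  have hall : ∀ x : P'.S, x = s' ∨ x = t' := by
    intro x
    have hx : ((x : P.parabolic J) : G) ∈ J := x.2
    rcases hx with hx | hx
    · left
      exact Subtype.ext (Subtype.ext hx)
    · right
      exact Subtype.ext (Subtype.ext hx)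
  have hne : s' ≠ t' := by
    intro h
    apply hst
    apply Subtype.ext
    exact congrArg (fun x : P'.S => ((x : P.parabolic J) : G)) h
  -- rank 2
  have hrank : P'.rank = 2 := by
    rw [Cfsg.BNPair.rank, Nat.card_eq_two_iff]
    refine ⟨s', t', hne, ?_⟩
    ext x
    simp only [Set.mem_insert_iff, Set.mem_singleton_iff, Set.mem_univ, iff_true]
    exact hall x
  have hidx := S1142.result P' hrank
  have hcardW : Nat.card (WP P') = ((P'.B ⊓ P'.N).subgroupOf P'.N).index := rfl
  rw [← hcardW] at hidx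
  -- the map of Weyl groups
  have hle : P'.N ≤ P.N.subgroupOf (P.parabolic J) := by
    intro x hx
    exact NJ_le_N P J hJ hx
  let f : P'.N →* P.N :=
    { toFun := fun n => ⟨((n : P.parabolic J) : G), NJ_le_N P J hJ n.2⟩
      map_one' := rfl
      map_mul' := fun _ _ => rfl }
  let g : P'.N →* WP P := (QuotientGroup.mk' _).comp f
  have hker : ∀ n : P'.N, g n = 1 ↔ n ∈ (P'.B ⊓ P'.N).subgroupOf P'.N := by
    intro n
    show (QuotientGroup.mk (f n) : WP P) = 1 ↔ _
    rw [QuotientGroup.eq_one_iff, Subgroup.mem_subgroupOf, Subgroup.mem_subgroupOf]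
    constructor
    · intro h
      exact ⟨h.1, n.2⟩
    · intro h
      exact ⟨h.1, (f n).2⟩
  let φ : WP P' →* WP P := QuotientGroup.lift _ g (fun n hn => (hker n).2 hn)
  have hφ : Function.Injective φ := by
    rw [injective_iff_map_eq_one]
    intro x hx
    induction x using QuotientGroup.induction_on with
    | _ n =>
    rw [QuotientGroup.eq_one_iff]
    exact (hker n).1 hx
  have hφs : φ (cs'.simple s') = cs.simple s := by
    rw [hcs', hcs]
    rfl
  have hφt : φ (cs'.simple t') = cs.simple t := by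
    rw [hcs', hcs]
    rfl
  have hfin : Finite (WP P) := inferInstance
  have hord : orderOf (cs'.simple s' * cs'.simple t') = 5 := by
    rw [← orderOf_injective φ hφ, map_mul, hφs, hφt]
    have := Fintype.ofFinite P.S
    rw [orderOf_eq cs s t, h5]
  have hgen : Subgroup.closure {cs'.simple s', cs'.simple t'} = ⊤ := by
    rw [← cs'.subgroup_closure_range_simple]
    congr 1
    ext x
    simp only [Set.mem_insert_iff, Set.mem_singleton_iff, Set.mem_range]
    constructor
    · rintro (rfl | rfl)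
      · exact ⟨s', rfl⟩
      · exact ⟨t', rfl⟩
    · rintro ⟨y, rfl⟩
      rcases hall y with rfl | rfl
      · exact Or.inl rfl
      · exact Or.inr rfl
  have := card_dihedral (cs'.simple s') (cs'.simple t') (cs'.simple_mul_simple_self _)
    (cs'.simple_mul_simple_self _) hgen
  rw [hord] at this
  simp only [Set.mem_insert_iff, Set.mem_singleton_iff] at hidx
  change Nat.card (WP P') = 5 ∨ Nat.card (WP P') = 2 * 5 at this
  omega

omit [Finite G] in
/-- irreducible means connected -/
theorem connected (hirr : P.Irreducible) (J : Set P.S) (hJ : J.Nonempty) (hJc : Jᶜ.Nonempty) :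
    ∃ a ∈ J, ∃ b ∈ Jᶜ, M a b ≠ 2 := by
  obtain ⟨s, hs, t, ht, h⟩ := hirr (Subtype.val '' J) (by
    rintro x ⟨y, _, rfl⟩
    exact y.2) (hJ.image _) (by
    obtain ⟨y, hy⟩ := hJc
    refine ⟨y, y.2, ?_⟩
    rintro ⟨z, hz, hzy⟩
    exact hy (Subtype.ext hzy ▸ hz))
  obtain ⟨s, hs', rfl⟩ := hs
  refine ⟨s, hs', ⟨t, ht.1⟩, ?_, ?_⟩
  · intro hmem
    exact ht.2 ⟨_, hmem, rfl⟩
  · intro h2
    apply h
    have h1 := cs.simple_mul_simple_pow s ⟨t, ht.1⟩
    rw [h2, pow_two, hcs, hcs] at h1
    have hs2 := cs.simple_mul_simple_self s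
    have ht2 := cs.simple_mul_simple_self ⟨t, ht.1⟩
    rw [hcs] at hs2 ht2
    have h3 : ((QuotientGroup.mk (⟨(s : G), P.subset s.2⟩ : P.N) : WP P) *
        QuotientGroup.mk (⟨t, P.subset ht.1⟩ : P.N)) *
        (QuotientGroup.mk (⟨(s : G), P.subset s.2⟩ : P.N))⁻¹ * (QuotientGroup.mk (⟨t, P.subset ht.1⟩ : P.N))⁻¹ = 1 := by
      rw [inv_eq_of_mul_eq_one_left hs2, inv_eq_of_mul_eq_one_left ht2, ← h1]
      group
    have h4 : (QuotientGroup.mk ((⟨(s : G), P.subset s.2⟩ : P.N) * ⟨t, P.subset ht.1⟩ *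
      (⟨(s : G), P.subset s.2⟩ : P.N)⁻¹ * (⟨t, P.subset ht.1⟩ : P.N)⁻¹) : WP P) = 1 := h3
    rw [QuotientGroup.eq_one_iff, Subgroup.mem_subgroupOf] at h4
    exact h4.1

/-- the classification of the Coxeter matrix -/
theorem outcome (hirr : P.Irreducible) (h3 : 3 ≤ P.rank) : Outcome M := by
  classical
  have := Fintype.ofFinite P.S
  have hfin : Finite (WP P) := inferInstance
  refine classify_coxeter cs (label_ne_five P cs hcs) (connected P cs hcs hirr) ?_
  rw [← Nat.card_eq_fintype_card]
  exact h3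

end labels

/-! ### the type as a Coxeter matrix on `Fin n` -/

/-- a symmetric matrix function gives a Coxeter matrix -/
def cox (n : ℕ) (m : ℕ → ℕ → ℕ) (h1 : ∀ i, m i i = 1) (hs : ∀ i j, m i j = m j i) (hne : ∀ i j, i < j → m i j ≠ 1) :
    CoxeterMatrix (Fin n) where
  M := Matrix.of fun i j => m i j
  isSymm := by
    ext i j
    exact hs j i
  diagonal := fun i => h1 i
  off_diagonal := by
    intro i j hij
    rcases Nat.lt_trichotomy i j with h | h | h
    · exact hne _ _ h
    · exact absurd (Fin.ext h) hij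
    · intro h2
      have h3 : m j i = 1 := by rw [← hs]; exact h2
      exact hne _ _ h h3

theorem cox_apply {n : ℕ} {m : ℕ → ℕ → ℕ} (h1 : ∀ i, m i i = 1) (hs : ∀ i j, m i j = m j i)
    (hne : ∀ i j, i < j → m i j ≠ 1) (i j : Fin n) : cox n m h1 hs hne i j = m i j := rfl

/-- type `A_n` -/
def cA (n : ℕ) : CoxeterMatrix (Fin n) := cox n mA (fun i => by simp [mA]) (fun i j => by unfold mA; split_ifs <;> omega)
  (fun i j hij => by unfold mA; split_ifs <;> omega)

/-- type `C_n` -/
def cC (n : ℕ) : CoxeterMatrix (Fin n) := cox n (mC n) (fun i => by simp [mC])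
  (fun i j => by unfold mC; split_ifs <;> omega) (fun i j hij => by unfold mC; split_ifs <;> omega)

/-- type `D_n` -/
def cD (n : ℕ) : CoxeterMatrix (Fin n) := cox n (mD n) (fun i => by simp [mD])
  (fun i j => by unfold mD; split_ifs <;> omega) (fun i j hij => by unfold mD; split_ifs <;> omega)

/-- type `E_n` -/
def cE (n : ℕ) : CoxeterMatrix (Fin n) := cox n (mE n) (fun i => by simp [mE])
  (fun i j => by unfold mE; split_ifs <;> omega) (fun i j hij => by unfold mE; split_ifs <;> omega)

/-- type `F_4` -/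
def cF : CoxeterMatrix (Fin 4) := cox 4 mF (fun i => by simp [mF])
  (fun i j => by unfold mF; split_ifs <;> omega) (fun i j hij => by unfold mF; split_ifs <;> omega)

theorem cA_apply {n : ℕ} (i j : Fin n) : cA n i j = mA i j := rfl
theorem cC_apply {n : ℕ} (i j : Fin n) : cC n i j = mC n i j := rfl
theorem cD_apply {n : ℕ} (i j : Fin n) : cD n i j = mD n i j := rfl
theorem cE_apply {n : ℕ} (i j : Fin n) : cE n i j = mE n i j := rfl
theorem cF_apply (i j : Fin 4) : cF i j = mF i j := rfl

/-- transport of the type along a labelling -/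
theorem bnType_of_lab {G : Type*} [Group G] (P : Cfsg.BNPair G) (hN : ((P.B ⊓ P.N).subgroupOf P.N).Normal)
    {M : CoxeterMatrix P.S} (cs : CoxeterSystem M (WP P))
    (hcs : ∀ s : P.S, cs.simple s = QuotientGroup.mk (⟨(s : G), P.subset s.2⟩ : P.N))
    {n : ℕ} (v : Fin n ≃ P.S) (M' : CoxeterMatrix (Fin n)) (h : ∀ i j, M (v i) (v j) = M' i j) :
    Core.BNType P M' v := by
  have hM : M.reindex v.symm = M' := by
    apply CoxeterMatrix.ext
    ext i j
    rw [CoxeterMatrix.reindex_apply, Equiv.symm_symm]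
    exact h i j
  refine ⟨hN, hM ▸ cs.reindex v.symm, ?_⟩
  intro i
  subst hM
  rw [CoxeterSystem.reindex_simple, Equiv.symm_symm]
  exact hcs (v i)

/-- **The type of an irreducible (B,N)-pair of rank at least 3 of a finite group.** -/
theorem exists_type {G : Type*} [Group G] [Finite G] (P : Cfsg.BNPair G) (hirr : P.Irreducible) (h3 : 3 ≤ P.rank) :
    (∃ (n : ℕ) (v : Fin n ≃ P.S), 3 ≤ n ∧ Core.BNType P (cA n) v) ∨
    (∃ (n : ℕ) (v : Fin n ≃ P.S), 3 ≤ n ∧ Core.BNType P (cC n) v) ∨
    (∃ (n : ℕ) (v : Fin n ≃ P.S), 4 ≤ n ∧ Core.BNType P (cD n) v) ∨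
    (∃ v : Fin 6 ≃ P.S, Core.BNType P (cE 6) v) ∨ (∃ v : Fin 7 ≃ P.S, Core.BNType P (cE 7) v) ∨
    (∃ v : Fin 8 ≃ P.S, Core.BNType P (cE 8) v) ∨ (∃ v : Fin 4 ≃ P.S, Core.BNType P cF v) := by
  have hN := normal_subgroupOf P
  obtain ⟨M, cs, hcs⟩ := S0320.result P
  rcases outcome P cs hcs hirr h3 with ⟨n, v, hn, h⟩ | ⟨n, v, hn, h⟩ | ⟨n, v, hn, h⟩ | ⟨v, h⟩ | ⟨v, h⟩ | ⟨v, h⟩ | ⟨v, h⟩
  · exact Or.inl ⟨n, v, hn, bnType_of_lab P hN cs hcs v _ h⟩
  · exact Or.inr (Or.inl ⟨n, v, hn, bnType_of_lab P hN cs hcs v _ h⟩)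
  · exact Or.inr (Or.inr (Or.inl ⟨n, v, hn, bnType_of_lab P hN cs hcs v _ h⟩))
  · exact Or.inr (Or.inr (Or.inr (Or.inl ⟨v, bnType_of_lab P hN cs hcs v _ h⟩)))
  · exact Or.inr (Or.inr (Or.inr (Or.inr (Or.inl ⟨v, bnType_of_lab P hN cs hcs v _ h⟩))))
  · exact Or.inr (Or.inr (Or.inr (Or.inr (Or.inr (Or.inl ⟨v, bnType_of_lab P hN cs hcs v _ h⟩)))))
  · exact Or.inr (Or.inr (Or.inr (Or.inr (Or.inr (Or.inr ⟨v, bnType_of_lab P hN cs hcs v _ h⟩)))))

end Cfsg.Agent.LieRecognition.BNCox
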