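import Mathlib
import Cfsg.Agent.LieRecognition.HigmanSinger

/-!
The automorphism group of a finite field is cyclic; consequently a group acting additively on an abelian group `E`,
fixing a non-zero element and normalising a commutative group acting regularly on `E ∖ {0}`, acts through a cyclic
group.
-/

set_option autoImplicit false

namespace Cfsg.Agent.LieRecognition.FieldSemilinear

open Cfsg.Agent.LieRecognition.HigmanSinger

theorem isCyclic_ringAut (F : Type*) [Field F] [Finite F] : IsCyclic (F ≃+* F) := by
  obtain ⟨p, hp⟩ := CharP.exists F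
  haveI hpp : Fact p.Prime := ⟨CharP.char_is_prime F p⟩
  letI : Algebra (ZMod p) F := ZMod.algebra F p
  let φ : (F ≃ₐ[ZMod p] F) →* (F ≃+* F) :=
    { toFun := fun σ => σ.toRingEquiv
      map_one' := rfl
      map_mul' := fun _ _ => rfl }
  have hφ : Function.Surjective φ := by
    intro σ
    refine ⟨AlgEquiv.ofRingEquiv (f := σ) ?_, ?_⟩
    · intro x
      have : (σ : F →+* F).comp (algebraMap (ZMod p) F) = algebraMap (ZMod p) F := Subsingleton.elim _ _
      exact RingHom.congr_fun this x
    · ext x
      rfl
  exact isCyclic_of_surjective φ hφ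

/-- A group `V` acting additively on the finite abelian group `E`, fixing a non-zero `e0`, and normalising a commutative
group `K` acting regularly on `E ∖ {0}`, acts on `E` through a cyclic group. -/
theorem exists_generator {E K V : Type*} [AddCommGroup E] [Finite E] [Group K] [DistribMulAction K E]
    [Group V] [DistribMulAction V E] (e0 : E) (h0 : e0 ≠ 0) (hcomm : ∀ a b : K, a * b = b * a)
    (hreg : ∀ x : E, x ≠ 0 → ∃ k : K, k • e0 = x) (hinj : ∀ k l : K, k • e0 = l • e0 → k = l)
    (hnorm : ∀ (v : V) (k : K), ∃ k' : K, ∀ x : E, v • k • x = k' • v • x)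
    (hfix : ∀ v : V, v • e0 = e0) :
    ∃ v0 : V, ∀ v : V, ∃ n : ℤ, ∀ x : E, (v * v0 ^ n) • x = x := by
  letI : Field E := rfield e0 h0 hcomm hreg hinj
  have hmul : ∀ (k : K) (y : E), (k • e0) * y = k • y := fun k y => rmul_smul e0 h0 hreg hinj k y
  have hmulv : ∀ (v : V) (x y : E), v • (x * y) = (v • x) * (v • y) := by
    intro v x y
    by_cases hx : x = 0
    · rw [hx, zero_mul, smul_zero, zero_mul]
    obtain ⟨k, rfl⟩ := hreg x hx
    obtain ⟨k', hk'⟩ := hnorm v k
    rw [hmul, hk', hk', hfix, hmul]
  let φ : V →* (E ≃+* E) :=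
    { toFun := fun v =>
        { toFun := fun x => v • x
          invFun := fun x => v⁻¹ • x
          left_inv := fun x => inv_smul_smul v x
          right_inv := fun x => smul_inv_smul v x
          map_mul' := hmulv v
          map_add' := fun x y => smul_add v x y }
      map_one' := by ext x; exact one_smul V x
      map_mul' := fun v w => by ext x; exact mul_smul v w x }
  haveI : IsCyclic (E ≃+* E) := isCyclic_ringAut E
  haveI : IsCyclic φ.range := inferInstance
  obtain ⟨⟨g, v0, rfl⟩, hg⟩ := IsCyclic.exists_generator (α := φ.range)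
  refine ⟨v0, fun v => ?_⟩
  obtain ⟨n, hn⟩ := Subgroup.mem_zpowers_iff.1 (hg ⟨φ v, v, rfl⟩)
  refine ⟨-n, fun x => ?_⟩
  have h1 : φ v0 ^ n = φ v := congrArg Subtype.val hn
  have h2 : φ (v * v0 ^ (-n)) = 1 := by
    rw [map_mul, map_zpow, zpow_neg, h1, mul_inv_cancel]
  have h3 := congrArg (fun σ : E ≃+* E => σ x) h2
  exact h3

end Cfsg.Agent.LieRecognition.FieldSemilinear
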