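import Cfsg.Agent.ClassicalGeometry.PSL2Klein
import Cfsg.Agent.ClassicalGeometry.SLTwoFour
import Cfsg.Agent.ClassicalGeometry.PSL2Basic

/-!
# The non-split torus of `PSL₂(q)`, `q ≡ 3 (mod 4)`, and centralisers of involutions
-/

set_option autoImplicit false
set_option linter.unusedSectionVars false
set_option linter.style.haveILetI false

namespace Cfsg.Agent.LieRecognition.PSLTwoLocal

open Matrix
open Cfsg.Agent.ClassicalGeometry.SLTwoFour (w ext2 det2 mul00 mul01 mul10 mul11 w00 w01 w10 w11 w_mul_self
  exists_conj_w card_circle_three exists_sq_add_sq neg_ij two_ne_zero_of_odd one00 one01 one10 one11)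
open Cfsg.Agent.ClassicalGeometry.PSL2Klein (mk mk_eq_mk mk_eq_one mk_neg involution_iff one_ne_neg_one)

variable {F : Type*} [Field F]

local notation "SL2" => Matrix.SpecialLinearGroup (Fin 2)
local notation "PSL2" => Matrix.ProjectiveSpecialLinearGroup (Fin 2)

/-- `T` is a torus of order `(q+1)/2` through the involution `i`. -/
structure IsTorusAt {L : Type*} [Group L] (q : ℕ) (i : L) (T : Subgroup L) : Prop where
  cyclic : IsCyclic T
  card : 2 * Nat.card T = q + 1
  mem : i ∈ T
  le : T ≤ Subgroup.centralizer {i}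
  card_centralizer : Nat.card (Subgroup.centralizer {i}) = q + 1
  centralizer_eq : ∀ y ∈ T, y * y ≠ 1 → Subgroup.centralizer {y} = T

theorem mem_centralizer_w {x : SL2 F} : x ∈ Subgroup.centralizer {(w : SL2 F)} ↔ x 0 0 = x 1 1 ∧ x 0 1 = - x 1 0 := by
  rw [Subgroup.mem_centralizer_singleton_iff]
  constructor
  · intro h
    have h00 := congrArg (fun y : SL2 F => y 0 0) h
    have h01 := congrArg (fun y : SL2 F => y 0 1) h
    simp only [mul00, mul01, w00, w01, w10, w11] at h00 h01
    constructor
    · linear_combination h01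
    · linear_combination (-1) * h00
  · rintro ⟨h1, h2⟩
    apply ext2
    · rw [mul00, mul00, w00, w10, w01]; linear_combination (-1) * h2
    · rw [mul01, mul01, w01, w11, w00]; linear_combination h1
    · rw [mul10, mul10, w10, w11, w00]; linear_combination h1
    · rw [mul11, mul11, w10, w11, w01]; linear_combination h2

/-- The centraliser of `w` in `SL₂` is the circle. -/
noncomputable def circEquiv : ↥(Subgroup.centralizer {(w : SL2 F)}) ≃ {p : F × F // p.1 ^ 2 + p.2 ^ 2 = 1} where
  toFun x := ⟨(x.1 0 0, x.1 0 1), by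
    have h := mem_centralizer_w.1 x.2
    have hd := det2 x.1
    simp only
    have h2 : x.1 1 0 = - x.1 0 1 := by rw [h.2]; ring
    rw [← h.1, h2] at hd
    linear_combination hd⟩
  invFun p := ⟨⟨!![p.1.1, p.1.2; -p.1.2, p.1.1], by rw [det_fin_two_of]; linear_combination p.2⟩,
    mem_centralizer_w.2 ⟨rfl, (neg_neg _).symm⟩⟩
  left_inv x := by
    apply Subtype.ext
    have h := mem_centralizer_w.1 x.2
    apply ext2
    · rfl
    · rfl
    · show - x.1 0 1 = x.1 1 0
      rw [h.2]; ring
    · show x.1 0 0 = x.1 1 1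
      exact h.1
  right_inv p := rfl

theorem card_centralizer_w [Fintype F] (hq : Fintype.card F % 4 = 3) :
    Nat.card ↥(Subgroup.centralizer {(w : SL2 F)}) = Fintype.card F + 1 := by
  rw [Nat.card_congr circEquiv, card_circle_three hq]

theorem not_isSquare_neg_one [Fintype F] (hq : Fintype.card F % 4 = 3) : ¬ IsSquare (-1 : F) := by
  rw [FiniteField.isSquare_neg_one_iff]; omega

theorem isCyclic_centralizer_w [Fintype F] (hq : Fintype.card F % 4 = 3) :
    IsCyclic ↥(Subgroup.centralizer {(w : SL2 F)}) := by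
  obtain ⟨ι, hι⟩ := IsAlgClosed.exists_pow_nat_eq (k := AlgebraicClosure F) (-1) (n := 2) (by norm_num)
  let φ := algebraMap F (AlgebraicClosure F)
  have hφ : Function.Injective φ := (algebraMap F (AlgebraicClosure F)).injective
  let f : ↥(Subgroup.centralizer {(w : SL2 F)}) →* AlgebraicClosure F :=
    { toFun := fun x => φ (x.1 0 0) + φ (x.1 0 1) * ι
      map_one' := by
        show φ ((1 : SL2 F) 0 0) + φ ((1 : SL2 F) 0 1) * ι = 1
        rw [one00, one01, map_one, map_zero]; ring
      map_mul' := by
        intro x y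
        show φ ((x.1 * y.1) 0 0) + φ ((x.1 * y.1) 0 1) * ι = _
        have h := mem_centralizer_w.1 y.2
        rw [mul00, mul01, ← h.1]
        have h2 : y.1 1 0 = - y.1 0 1 := by rw [h.2]; ring
        rw [h2]
        simp only [map_add, map_mul, map_neg]
        linear_combination (- φ (x.1 0 1) * φ (y.1 0 1)) * hι }
  refine isCyclic_of_injective_ringHom f ?_
  intro x y hxy
  have hxy' : φ (x.1 0 0) + φ (x.1 0 1) * ι = φ (y.1 0 0) + φ (y.1 0 1) * ι := hxy
  have h01 : x.1 0 1 = y.1 0 1 := by
    by_contra hne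
    apply not_isSquare_neg_one hq
    have hne' : x.1 0 1 - y.1 0 1 ≠ 0 := sub_ne_zero.2 hne
    refine ⟨(y.1 0 0 - x.1 0 0) / (x.1 0 1 - y.1 0 1), ?_⟩
    apply hφ
    have hι' : ι = φ ((y.1 0 0 - x.1 0 0) / (x.1 0 1 - y.1 0 1)) := by
      rw [map_div₀, eq_div_iff (by rw [Ne, map_eq_zero]; exact hne')]
      simp only [map_sub]
      linear_combination hxy'
    rw [map_mul, ← hι', map_neg, map_one, ← hι]; ring
  have h00 : x.1 0 0 = y.1 0 0 := by
    apply hφ
    rw [h01] at hxy'
    exact add_right_cancel hxy'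
  have hx := mem_centralizer_w.1 x.2
  have hy := mem_centralizer_w.1 y.2
  apply Subtype.ext
  apply ext2
  · exact h00
  · exact h01
  · have h1 : x.1 1 0 = - x.1 0 1 := by rw [hx.2]; ring
    have h2 : y.1 1 0 = - y.1 0 1 := by rw [hy.2]; ring
    rw [h1, h2, h01]
  · rw [← hx.1, ← hy.1, h00]

/-- The image in `PSL₂` of the centraliser of `w`. -/
def torus (F : Type*) [Field F] : Subgroup (PSL2 F) :=
  (Subgroup.centralizer {(w : SL2 F)}).map (QuotientGroup.mk' _)

theorem mk_mem_torus {x : SL2 F} : mk x ∈ torus F ↔ x ∈ Subgroup.centralizer {(w : SL2 F)} := by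
  constructor
  · rintro ⟨y, hy, hyx⟩
    have hyx' : mk y = mk x := hyx
    rcases mk_eq_mk.1 hyx' with h | h
    · rw [← h]; exact hy
    · have : x = -y := by rw [h, neg_neg]
      rw [this]
      have h2 := mem_centralizer_w.1 hy
      refine mem_centralizer_w.2 ?_
      rw [neg_ij, neg_ij, neg_ij, neg_ij, h2.1, h2.2]
      exact ⟨rfl, rfl⟩
  · intro h
    exact ⟨x, h, rfl⟩

theorem card_torus [Fintype F] (hq : Fintype.card F % 4 = 3) :
    2 * Nat.card (torus F) = Fintype.card F + 1 := by
  have h2 : (2 : F) ≠ 0 := two_ne_zero_of_odd (Nat.odd_iff.2 (by omega))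
  rw [← card_centralizer_w hq]
  set H := Subgroup.centralizer {(w : SL2 F)} with hH
  let f : H →* PSL2 F := (QuotientGroup.mk' _).comp H.subtype
  have hr : f.range = torus F := by
    rw [torus, MonoidHom.range_comp, Subgroup.range_subtype]
  have hk : Nat.card f.ker = 2 := by
    have hm : (-1 : SL2 F) ∈ H := mem_centralizer_w.2 (by
      rw [neg_ij, neg_ij, neg_ij, neg_ij, one00, one01, one10, one11]; simp)
    rw [Nat.card_eq_two_iff]
    refine ⟨1, ⟨⟨-1, hm⟩, ?_⟩, ?_, ?_⟩
    · rw [MonoidHom.mem_ker]
      show mk (-1 : SL2 F) = 1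
      rw [mk_eq_one]; right; rfl
    · intro h
      have := congrArg (fun z => ((z : f.ker) : H).1) h
      exact one_ne_neg_one h2 this
    · ext x
      simp only [Set.mem_insert_iff, Set.mem_singleton_iff, Set.mem_univ, iff_true]
      have hx : mk (x.1.1 : SL2 F) = 1 := x.2
      rcases mk_eq_one.1 hx with h | h
      · left; exact Subtype.ext (Subtype.ext h)
      · right; exact Subtype.ext (Subtype.ext h)
  have h1 := Subgroup.card_eq_card_quotient_mul_card_subgroup f.ker
  rw [hk, Nat.card_congr (QuotientGroup.quotientKerEquivRange f).toEquiv, hr] at h1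
  rw [h1]; ring

theorem isCyclic_torus [Fintype F] (hq : Fintype.card F % 4 = 3) : IsCyclic (torus F) := by
  haveI := isCyclic_centralizer_w hq
  exact isCyclic_of_surjective ((QuotientGroup.mk' _).subgroupMap (Subgroup.centralizer {(w : SL2 F)}))
    (MonoidHom.subgroupMap_surjective _ _)

theorem mk_commute {x y : SL2 F} : mk x * mk y = mk y * mk x ↔ x * y = y * x ∨ x * y = -(y * x) := by
  have : mk x * mk y = mk (x * y) := rfl
  rw [this]
  have : mk y * mk x = mk (y * x) := rfl
  rw [this, mk_eq_mk]

/-- Elements of the torus which are not involutions have the torus as centraliser. -/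
theorem centralizer_torus [Fintype F] (hq : Fintype.card F % 4 = 3) {y : PSL2 F} (hy : y ∈ torus F) (hy2 : y * y ≠ 1) :
    Subgroup.centralizer {y} = torus F := by
  have h2 : (2 : F) ≠ 0 := two_ne_zero_of_odd (Nat.odd_iff.2 (by omega))
  obtain ⟨Y, rfl⟩ := QuotientGroup.mk_surjective y
  have hY := mk_mem_torus.1 hy
  have hY' := mem_centralizer_w.1 hY
  have hne0 : Y 0 0 ≠ 0 := by
    intro h0
    apply hy2
    have h3 : (Y * Y : SL2 F) = -1 := by
      have hd := det2 Y
      apply ext2
      · rw [mul00, neg_ij, one00]; rw [← hY'.1, h0] at hd; rw [h0]; linear_combination -hd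
      · rw [mul01, neg_ij, one01, ← hY'.1, h0]; ring
      · rw [mul10, neg_ij, one10, ← hY'.1, h0]; ring
      · rw [mul11, neg_ij, one11, ← hY'.1, h0]; rw [← hY'.1, h0] at hd; linear_combination -hd
    show mk (Y * Y) = 1
    rw [h3, mk_eq_one]; right; rfl
  have hne1 : Y 0 1 ≠ 0 := by
    intro h0
    apply hy2
    have h10 : Y 1 0 = 0 := by
      have := hY'.2; rw [h0] at this; linear_combination this
    have h3 : (Y * Y : SL2 F) = 1 := by
      have hd := det2 Y
      rw [← hY'.1, h0] at hd
      apply ext2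
      · rw [mul00, one00, h0]; linear_combination hd
      · rw [mul01, one01, h0]; ring
      · rw [mul10, one10, h10]; ring
      · rw [mul11, one11, h0, ← hY'.1]; linear_combination hd
    show mk (Y * Y) = 1
    rw [h3, mk_eq_one]; left; rfl
  apply le_antisymm
  · intro c hc
    obtain ⟨C, rfl⟩ := QuotientGroup.mk_surjective c
    rw [Subgroup.mem_centralizer_singleton_iff] at hc
    have hc' : mk C * mk Y = mk Y * mk C := hc.symm ▸ rfl
    rw [show ((C : PSL2 F)) = mk C from rfl, mk_mem_torus]
    refine mem_centralizer_w.2 ?_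
    rcases mk_commute.1 hc' with h | h
    · have e00 := congrArg (fun y : SL2 F => y 0 0) h
      have e01 := congrArg (fun y : SL2 F => y 0 1) h
      simp only [mul00, mul01] at e00 e01
      have h10 : Y 1 0 = - Y 0 1 := by rw [hY'.2]; ring
      rw [h10] at e00
      rw [← hY'.1] at e01
      constructor
      · apply mul_left_cancel₀ hne1; linear_combination e01
      · apply mul_left_cancel₀ hne1; linear_combination (-1) * e00
    · exfalso
      have htr : (2 : F) * Y 0 0 = 0 := by
        have h4 : C * Y * C⁻¹ = -Y := by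
          rw [h, neg_mul, mul_inv_cancel_right]
        have h5 : (C * Y * C⁻¹ : SL2 F).1.trace = Y.1.trace := by
          rw [Matrix.SpecialLinearGroup.coe_mul, Matrix.trace_mul_comm, ← Matrix.SpecialLinearGroup.coe_mul,
            ← mul_assoc, inv_mul_cancel, one_mul]
        rw [h4, Matrix.SpecialLinearGroup.coe_neg, Matrix.trace_neg, trace_fin_two] at h5
        have h6 : Y.1 0 0 + Y.1 1 1 = 0 := by
          apply mul_left_cancel₀ h2; linear_combination -h5
        have h7 : Y.1 1 1 = Y.1 0 0 := hY'.1.symm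
        rw [h7] at h6
        show 2 * Y.1 0 0 = 0
        linear_combination h6
      rcases mul_eq_zero.1 htr with h | h
      · exact h2 h
      · exact hne0 h
  · intro c hc
    haveI := isCyclic_torus hq
    rw [Subgroup.mem_centralizer_singleton_iff]
    have hcomm := (IsCyclic.commGroup (α := torus F)).mul_comm ⟨c, hc⟩ ⟨_, hy⟩
    exact congrArg Subtype.val hcomm

/-- Elements `c` of the centraliser of `mk w`: either in the torus, or anti-commuting with `w`. -/
theorem card_centralizer_mk_w [Fintype F] (hq : Fintype.card F % 4 = 3) :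
    Nat.card (Subgroup.centralizer {mk (w : SL2 F)}) = Fintype.card F + 1 := by
  have hle : torus F ≤ Subgroup.centralizer {mk (w : SL2 F)} := by
    intro c hc
    obtain ⟨C, rfl⟩ := QuotientGroup.mk_surjective c
    have hC := mk_mem_torus.1 hc
    rw [Subgroup.mem_centralizer_singleton_iff] at hC ⊢
    show mk (C * w) = mk (w * C)
    rw [hC]
  obtain ⟨c, d, hcd⟩ := exists_sq_add_sq (F := F) (Nat.odd_iff.2 (by omega)) (-1)
  -- an element outside the torus
  let R : SL2 F := ⟨!![c, d; d, -c], by rw [det_fin_two_of]; linear_combination -hcd⟩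
  have R00 : R 0 0 = c := rfl
  have R01 : R 0 1 = d := rfl
  have R10 : R 1 0 = d := rfl
  have R11 : R 1 1 = -c := rfl
  have hRw : R * w = -(w * R) := by
    apply ext2
    · rw [neg_ij, mul00, mul00, w00, w10, w01, R00, R01, R10]; ring
    · rw [neg_ij, mul01, mul01, w01, w11, w00, R00, R01, R11]; ring
    · rw [neg_ij, mul10, mul10, w10, w11, w00, R00, R11, R10]; ring
    · rw [neg_ij, mul11, mul11, w10, w11, w01, R01, R11, R10]; ring
  have h2 : (2 : F) ≠ 0 := two_ne_zero_of_odd (Nat.odd_iff.2 (by omega))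
  have key : ∀ X : SL2 F, mk X ∈ Subgroup.centralizer {mk (w : SL2 F)} →
      (X * w = w * X ∨ X * w = -(w * X)) := by
    intro X hX
    rw [Subgroup.mem_centralizer_singleton_iff] at hX
    exact mk_commute.1 hX
  have hindex : ((torus F).subgroupOf (Subgroup.centralizer {mk (w : SL2 F)})).index = 2 := by
    rw [Subgroup.index_eq_two_iff]
    have hRm : mk R ∈ Subgroup.centralizer {mk (w : SL2 F)} := by
      rw [Subgroup.mem_centralizer_singleton_iff]
      exact mk_commute.2 (Or.inr hRw)
    refine ⟨⟨mk R, hRm⟩, ?_⟩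
    rintro ⟨b, hb⟩
    obtain ⟨B, rfl⟩ := QuotientGroup.mk_surjective b
    rw [Subgroup.mem_subgroupOf, Subgroup.mem_subgroupOf]
    change Xor (mk (B * R) ∈ torus F) (mk B ∈ torus F)
    rw [mk_mem_torus, mk_mem_torus, Subgroup.mem_centralizer_singleton_iff, Subgroup.mem_centralizer_singleton_iff]
    have hne : ∀ X : SL2 F, X * w = w * X → X * w = -(w * X) → False := by
      intro X h1 h3
      rw [h1] at h3
      have h4 := congrArg (fun y : SL2 F => y * (w * X)⁻¹) h3
      simp only [mul_inv_cancel, neg_mul] at h4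
      exact one_ne_neg_one h2 h4
    rcases key B hb with h | h
    · right
      refine ⟨h, fun h' => hne (B * R) h' ?_⟩
      calc B * R * w = B * (R * w) := mul_assoc _ _ _
        _ = -(B * w * R) := by rw [hRw]; simp [mul_assoc]
        _ = -(w * (B * R)) := by rw [h, mul_assoc]
    · left
      refine ⟨?_, fun h' => hne B h' h⟩
      calc B * R * w = B * (R * w) := mul_assoc _ _ _
        _ = -(B * w * R) := by rw [hRw]; simp [mul_assoc]
        _ = w * (B * R) := by rw [h]; simp [mul_assoc]
  have h3 := Subgroup.card_mul_index ((torus F).subgroupOf (Subgroup.centralizer {mk (w : SL2 F)}))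
  rw [hindex, Nat.card_congr (Subgroup.subgroupOfEquivOfLe hle).toEquiv] at h3
  rw [← h3, ← card_torus hq, mul_comm]

theorem isTorusAt_mk_w [Fintype F] (hq : Fintype.card F % 4 = 3) :
    IsTorusAt (Fintype.card F) (mk (w : SL2 F)) (torus F) where
  cyclic := isCyclic_torus hq
  card := card_torus hq
  mem := mk_mem_torus.2 (Subgroup.mem_centralizer_singleton_iff.2 rfl)
  le := by
    intro c hc
    obtain ⟨C, rfl⟩ := QuotientGroup.mk_surjective c
    have hC := mk_mem_torus.1 hc
    rw [Subgroup.mem_centralizer_singleton_iff] at hC ⊢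
    show mk (C * w) = mk (w * C)
    rw [hC]
  card_centralizer := card_centralizer_mk_w hq
  centralizer_eq := fun _ hy hy2 => centralizer_torus hq hy hy2

/-- Transport of tori along isomorphisms. -/
theorem IsTorusAt.map {L L' : Type*} [Group L] [Group L'] {q : ℕ} {i : L} {T : Subgroup L} (h : IsTorusAt q i T)
    (e : L ≃* L') : IsTorusAt q (e i) (T.map e.toMonoidHom) := by
  have hc : ∀ y : L, Subgroup.centralizer {e y} = (Subgroup.centralizer {y}).map e.toMonoidHom := by
    intro y
    ext x
    rw [Subgroup.mem_centralizer_singleton_iff, Subgroup.mem_map]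
    constructor
    · intro hx
      refine ⟨e.symm x, ?_, by simp⟩
      rw [Subgroup.mem_centralizer_singleton_iff]
      apply e.injective
      simpa using hx
    · rintro ⟨z, hz, rfl⟩
      rw [Subgroup.mem_centralizer_singleton_iff] at hz
      have := congrArg e hz
      simpa using this
  have hcard : ∀ H : Subgroup L, Nat.card (H.map e.toMonoidHom) = Nat.card H := fun H =>
    (Nat.card_congr (e.subgroupMap H).toEquiv).symm
  refine ⟨?_, ?_, ?_, ?_, ?_, ?_⟩
  · haveI := h.cyclic
    exact isCyclic_of_surjective (e.subgroupMap T) (e.subgroupMap T).surjective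
  · rw [hcard]; exact h.card
  · exact ⟨i, h.mem, rfl⟩
  · rw [hc]; exact Subgroup.map_mono h.le
  · rw [hc, hcard]; exact h.card_centralizer
  · rintro _ ⟨y, hy, rfl⟩ hy2
    have : y * y ≠ 1 := by
      intro h1; apply hy2
      have := congrArg e h1
      simpa using this
    show Subgroup.centralizer {e y} = _
    rw [hc, h.centralizer_eq y hy this]

/-- All involutions of `PSL₂(q)` are conjugate. -/
theorem exists_conj_mk_w [Fintype F] (hodd : Odd (Fintype.card F)) (i : PSL2 F) (hi : i ≠ 1) (hi2 : i * i = 1) :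
    ∃ g : PSL2 F, g * mk w * g⁻¹ = i := by
  have h2 : (2 : F) ≠ 0 := two_ne_zero_of_odd hodd
  obtain ⟨A, rfl⟩ := QuotientGroup.mk_surjective i
  have hA := (involution_iff h2).1 ⟨hi, hi2⟩
  obtain ⟨g, hg⟩ := exists_conj_w hodd A (Subtype.ext (by simpa using hA))
  exact ⟨mk g, by rw [← hg]; rfl⟩

theorem exists_isTorusAt [Fintype F] (hq : Fintype.card F % 4 = 3) (i : PSL2 F) (hi : i ≠ 1) (hi2 : i * i = 1) :
    ∃ T : Subgroup (PSL2 F), IsTorusAt (Fintype.card F) i T := by
  obtain ⟨g, hg⟩ := exists_conj_mk_w (Nat.odd_iff.2 (by omega)) i hi hi2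
  refine ⟨(torus F).map (MulAut.conj g).toMonoidHom, ?_⟩
  rw [← hg]
  exact (isTorusAt_mk_w hq).map (MulAut.conj g)

end Cfsg.Agent.LieRecognition.PSLTwoLocal
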