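/-
`H¹ = G¹ ∩ H` for the small Ree groups `twistedG2 K (3 ^ m)`.
-/
import Cfsg.Agent.LieRecognition.ReeData
import Cfsg.Agent.ChevalleyStructure.HDiagG2

set_option autoImplicit false
set_option linter.unusedSectionVars false

namespace Cfsg.Agent.LieRecognition.ReeDiag

open Cfsg.Lie
open Cfsg.Agent.ChevalleyStructure.Ree.Bracket Cfsg.Agent.ChevalleyStructure.Ree.Good
open Cfsg.Agent.ChevalleyStructure.Ree.Checks Cfsg.Agent.ChevalleyStructure.Ree.Words
open Cfsg.Agent.ChevalleyStructure.Ree.Gens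
open Cfsg.Agent.ChevalleyStructure.SparseHDiag Cfsg.Agent.ChevalleyStructure.HDiagG2
open Cfsg.Agent.LieRecognition.ReeData

section field
variable {K : Type*} [Field K]

theorem cartan_a (s : Fin 12) : cartanRS chevG2 7 s.val = 2 * rootA s.val - 3 * rootB s.val := by
  revert s; decide

theorem cartan_b (s : Fin 12) : cartanRS chevG2 6 s.val = - rootA s.val + 2 * rootB s.val := by
  revert s; decide

theorem zpow_eq (α β : Kˣ) (x y : ℤ) : α ^ x * β ^ y =
    (α ^ 2 * β) ^ (2 * x - 3 * y) * (α ^ 3 * β ^ 2) ^ (- x + 2 * y) := by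
  have e1 : (α ^ 2 * β) ^ (2 * x - 3 * y) = α ^ (2 * (2 * x - 3 * y)) * β ^ (2 * x - 3 * y) := by
    rw [mul_zpow, ← zpow_natCast α 2, ← zpow_mul]; rfl
  have e2 : (α ^ 3 * β ^ 2) ^ (-x + 2 * y) = α ^ (3 * (-x + 2 * y)) * β ^ (2 * (-x + 2 * y)) := by
    rw [mul_zpow, ← zpow_natCast α 3, ← zpow_natCast β 2, ← zpow_mul, ← zpow_mul]; rfl
  rw [e1, e2]
  calc α ^ x * β ^ y = α ^ (2 * (2 * x - 3 * y) + 3 * (-x + 2 * y)) * β ^ ((2 * x - 3 * y) + 2 * (-x + 2 * y)) := by
        congr 2 <;> ring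
    _ = _ := by rw [zpow_add, zpow_add, mul_mul_mul_comm]

/-- `hU α β = h_a(α²β) h_b(α³β²)` -/
theorem hMat_eq (α β : Kˣ) : hMat (α : K) (β : K) =
    chevG2.hMat K 7 ((α ^ 2 * β : Kˣ) : K) * chevG2.hMat K 6 ((α ^ 3 * β ^ 2 : Kˣ) : K) := by
  rw [hMat_chevG2 (by decide) (Units.ne_zero _), hMat_chevG2 (by decide) (Units.ne_zero _),
    Matrix.diagonal_mul_diagonal, hMat]
  congr 1
  funext i
  rcases i with i | i
  · rw [hVal_inl, hVal_inl, mul_one]
  · rw [hVal_inr, hVal_inr]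
    have h2 := congrArg (fun u : Kˣ => (u : K)) (zpow_eq α β (rootA i.val) (rootB i.val))
    simp only [Units.val_mul, Units.val_zpow_eq_zpow_val] at h2
    have e1 : cartanRS chevG2 7 i.val = 2 * rootA i.val - 3 * rootB i.val := cartan_a i
    have e2 : cartanRS chevG2 6 i.val = - rootA i.val + 2 * rootB i.val := cartan_b i
    rw [e1, e2]
    simp only [Units.val_mul]
    exact h2

theorem hU_mem_diagonal (α β : Kˣ) : hU α β ∈ chevG2.diagonalSubgroup K := by
  have h1 : ∀ γ : Kˣ, chevG2.hMat K 7 (γ : K) * chevG2.hMat K 7 ((γ⁻¹ : Kˣ) : K) = 1 := fun γ => by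
    rw [hMat_chevG2 (by decide) (Units.ne_zero _), hMat_chevG2 (by decide) (Units.ne_zero _),
      Matrix.diagonal_mul_diagonal, ← Matrix.diagonal_one]
    congr 1
    funext i
    rcases i with i | i
    · rw [hVal_inl, hVal_inl, mul_one]
    · rw [hVal_inr, hVal_inr, ← mul_zpow, ← Units.val_mul, mul_inv_cancel, Units.val_one, one_zpow]
  have h2 : ∀ γ : Kˣ, chevG2.hMat K 6 (γ : K) * chevG2.hMat K 6 ((γ⁻¹ : Kˣ) : K) = 1 := fun γ => by
    rw [hMat_chevG2 (by decide) (Units.ne_zero _), hMat_chevG2 (by decide) (Units.ne_zero _),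
      Matrix.diagonal_mul_diagonal, ← Matrix.diagonal_one]
    congr 1
    funext i
    rcases i with i | i
    · rw [hVal_inl, hVal_inl, mul_one]
    · rw [hVal_inr, hVal_inr, ← mul_zpow, ← Units.val_mul, mul_inv_cancel, Units.val_one, one_zpow]
  set x : Kˣ := α ^ 2 * β
  set y : Kˣ := α ^ 3 * β ^ 2
  set g1 : GL chevG2.Idx K := ⟨chevG2.hMat K 7 (x : K), chevG2.hMat K 7 ((x⁻¹ : Kˣ) : K), h1 x, by
    have := h1 x⁻¹
    rwa [inv_inv] at this⟩ with hg1
  set g2 : GL chevG2.Idx K := ⟨chevG2.hMat K 6 (y : K), chevG2.hMat K 6 ((y⁻¹ : Kˣ) : K), h2 y, by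
    have := h2 y⁻¹
    rwa [inv_inv] at this⟩ with hg2
  have h3 : hU α β = g1 * g2 := by
    apply Units.ext
    rw [coe_hU, hMat_eq]
    rfl
  rw [h3]
  refine mul_mem (Subgroup.subset_closure ⟨7, (x : K), by decide, x.ne_zero, rfl⟩)
    (Subgroup.subset_closure ⟨6, (y : K), by decide, y.ne_zero, rfl⟩)

theorem diagonal_of_mem {g : GL chevG2.Idx K} (hg : g ∈ chevG2.diagonalSubgroup K) :
    ∃ d : chevG2.Idx → K, (g : Matrix chevG2.Idx chevG2.Idx K) = Matrix.diagonal d := by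
  unfold ChevalleyDatum.diagonalSubgroup at hg
  induction hg using Subgroup.closure_induction with
  | mem x hx =>
    obtain ⟨r, t, hr, ht, h⟩ := hx
    exact ⟨_, h.trans (hMat_chevG2 hr ht)⟩
  | one => exact ⟨fun _ => 1, by rw [Units.val_one, Matrix.diagonal_one]⟩
  | mul x y _ _ hx hy =>
    obtain ⟨d, hd⟩ := hx
    obtain ⟨e, he⟩ := hy
    exact ⟨fun i => d i * e i, by rw [Units.val_mul, hd, he, Matrix.diagonal_mul_diagonal]⟩
  | inv x _ hx =>
    obtain ⟨d, hd⟩ := hx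
    have h1 : ((x⁻¹ : GL chevG2.Idx K) : Matrix chevG2.Idx chevG2.Idx K) * Matrix.diagonal d = 1 := by
      rw [← hd, ← Units.val_mul, inv_mul_cancel, Units.val_one]
    have hd0 : ∀ i, d i ≠ 0 := by
      intro i hi
      have h2 := congrFun (congrFun h1 i) i
      rw [Matrix.mul_diagonal, hi, mul_zero, Matrix.one_apply_eq] at h2
      exact zero_ne_one h2
    refine ⟨fun i => (d i)⁻¹, ?_⟩
    ext i j
    have h2 := congrFun (congrFun h1 i) j
    rw [Matrix.mul_diagonal] at h2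
    by_cases hij : i = j
    · subst hij
      rw [Matrix.one_apply_eq] at h2
      rw [Matrix.diagonal_apply_eq]
      exact eq_inv_of_mul_eq_one_left h2
    · rw [Matrix.one_apply_ne hij] at h2
      rw [Matrix.diagonal_apply_ne _ hij]
      exact (mul_eq_zero.1 h2).resolve_right (hd0 j)

end field

variable {K : Type*} [Field K] [Fintype K] {m : ℕ}

theorem tU_mem_diagonal (e : ℕ) (a : Kˣ) : tU e a ∈ chevG2.diagonalSubgroup K := hU_mem_diagonal _ _

/-- `H¹ = {h a}` -/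
theorem mem_diagonal_iff (hK : Fintype.card K = 3 ^ (2 * m + 1)) (hex : Exists K m)
    (g : ↥(twistedG2 K (3 ^ m))) :
    (g : GL chevG2.Idx K) ∈ chevG2.diagonalSubgroup K ↔ ∃ a, g = h hK a := by
  constructor
  · intro hg
    obtain ⟨d, hd⟩ := diagonal_of_mem hg
    have hoff : ∀ i j : Fin 7, i ≠ j → bl g i j = 0 := by
      intro i j hij
      unfold bl
      rw [hd, Mb_apply]
      exact Matrix.diagonal_apply_ne _ (fun h' => hij (S_injective h'))
    rcases (data_of_exists hK hex).bruhat g with ⟨t, u, v, a, rfl⟩ | ⟨t, u, v, a, t', u', v', rfl⟩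
    · have hz : ∀ i : Fin 7, i ≠ 0 → bl (U m t u v) i 0 = 0 := by
        intro i hi
        have h1 := hoff i 0 hi
        rw [bl_mul_h hK] at h1
        exact (mul_eq_zero.1 h1).resolve_right (dA_ne hK a 0)
      obtain ⟨rfl, rfl, rfl⟩ := U_eq_of_bl hK _ _ _ (hz 1 (by decide)) (hz 2 (by decide)) (hz 3 (by decide))
      exact ⟨a, by rw [U_zero hK, one_mul]⟩
    · exfalso
      have h1 := hoff 0 6 (by decide)
      rw [bl_big hK] at h1
      exact dA_ne hK a 0 (neg_eq_zero.1 h1)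
  · rintro ⟨a, rfl⟩
    exact tU_mem_diagonal _ a

end Cfsg.Agent.LieRecognition.ReeDiag
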