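import Cfsg.Agent.LieRecognition.ReeAbs

/-!
# The torus of the small Ree groups: odd order elements
-/

set_option autoImplicit false

namespace Cfsg.Agent.LieRecognition.ReeTorus

open Cfsg.Agent.LieRecognition.ReeAbs

variable {K : Type*} [Field K] {m : ℕ}

theorem odd_order_iff [Fintype K] (hK : Fintype.card K = 3 ^ (2 * m + 1)) (a : Kˣ) :
    Odd (orderOf a) ↔ a ^ ((3 ^ (2 * m + 1) - 1) / 2) = 1 := by
  have h8 := three_pow_odd_mod m
  have hord : a ^ (3 ^ (2 * m + 1) - 1) = 1 := by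
    rw [← hK]
    apply Units.ext
    rw [Units.val_pow_eq_pow_val, FiniteField.pow_card_sub_one_eq_one _ a.ne_zero, Units.val_one]
  have hd := orderOf_dvd_of_pow_eq_one hord
  have h2 : 3 ^ (2 * m + 1) - 1 = 2 * ((3 ^ (2 * m + 1) - 1) / 2) := by omega
  constructor
  · intro ho
    apply orderOf_dvd_iff_pow_eq_one.mp
    rw [h2] at hd
    exact (Nat.Coprime.dvd_of_dvd_mul_left (Nat.coprime_two_right.mpr ho) hd)
  · intro h1
    have h3 := orderOf_dvd_of_pow_eq_one h1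
    have h4 : Odd ((3 ^ (2 * m + 1) - 1) / 2) := by
      rw [Nat.odd_iff]
      omega
    exact Odd.of_dvd_nat h4 h3

theorem card_odd [Fintype K] (hK : Fintype.card K = 3 ^ (2 * m + 1)) :
    2 * Nat.card {a : Kˣ // Odd (orderOf a)} = 3 ^ (2 * m + 1) - 1 := by
  have h8 := three_pow_odd_mod m
  have h2 : 3 ^ (2 * m + 1) - 1 = 2 * ((3 ^ (2 * m + 1) - 1) / 2) := by omega
  have e : {a : Kˣ // Odd (orderOf a)} ≃
      (powMonoidHom ((3 ^ (2 * m + 1) - 1) / 2) : Kˣ →* Kˣ).ker :=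
    Equiv.subtypeEquivRight (fun a => by
      rw [MonoidHom.mem_ker, powMonoidHom_apply]
      exact odd_order_iff hK a)
  rw [Nat.card_congr e, IsCyclic.card_powMonoidHom_ker, Nat.card_units, Nat.card_eq_fintype_card,
    hK, Nat.gcd_eq_right (Dvd.intro_left _ h2.symm)]
  exact h2.symm

theorem card_odd_of_equiv [Fintype K] (hK : Fintype.card K = 3 ^ (2 * m + 1)) {H : Type*} [Group H]
    (e : Kˣ ≃* H) : 2 * Nat.card {a : H // Odd (orderOf a)} = 3 ^ (2 * m + 1) - 1 := by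
  rw [← card_odd hK]
  congr 1
  refine Nat.card_congr (e.symm.toEquiv.subtypeEquiv (fun a => ?_))
  rw [MulEquiv.toEquiv_eq_coe, MulEquiv.coe_toEquiv, MulEquiv.orderOf_eq]

/-- exponent facts: an odd order unit with `a ^ (σ + 3) = 1` is trivial -/
theorem eq_one_of_pow_add_three [Fintype K] (hK : Fintype.card K = 3 ^ (2 * m + 1)) (a : Kˣ)
    (ho : Odd (orderOf a)) (h : a ^ (3 ^ (m + 1) + 3) = 1) : a = 1 := by
  -- `a ^ (σ² ) = a ^ 3`, `σ ≡ -3`, so `a ^ 9 = a ^ 3`, `a ^ 6 = 1`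
  have h1 : a ^ (3 ^ (m + 1)) = (a ^ 3)⁻¹ := by
    rw [pow_add] at h
    exact eq_inv_of_mul_eq_one_left h
  have h2 : a ^ (3 ^ (m + 1) * 3 ^ (m + 1)) = a ^ 3 := by
    rw [← pow_add, show m + 1 + (m + 1) = (2 * m + 1) + 1 by ring, pow_succ, pow_mul,
      units_pow_card hK]
  have h3 : a ^ (3 ^ (m + 1) * 3 ^ (m + 1)) = a ^ 9 := by
    rw [pow_mul, h1, inv_pow, ← pow_mul, mul_comm 3, pow_mul, h1, inv_pow, inv_inv, ← pow_mul]
  have h4 : a ^ 6 = 1 := by
    have : a ^ 3 * a ^ 6 = a ^ 3 * 1 := by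
      rw [← pow_add, mul_one, ← h2, h3]
    exact mul_left_cancel this
  have h5 : a ^ 3 = 1 := by
    have hd := orderOf_dvd_of_pow_eq_one h4
    have : orderOf a ∣ 3 := by
      rw [show 6 = 2 * 3 by norm_num] at hd
      exact Nat.Coprime.dvd_of_dvd_mul_left (Nat.coprime_two_right.mpr ho) hd
    exact orderOf_dvd_iff_pow_eq_one.mp this
  exact eq_one_of_pow_three hK 1 a (by simpa using h5)

theorem eq_one_of_pow_two_mul_add_three [Fintype K] (hK : Fintype.card K = 3 ^ (2 * m + 1)) (a : Kˣ)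
    (h : a ^ (2 * 3 ^ (m + 1) + 3) = 1) : a = 1 := by
  -- `a ^ (2σ) = a⁻³`; raise to the power `2σ`: `a ^ (4σ²) = a ^ 12 = a ^ 9`
  have h1 : a ^ (2 * 3 ^ (m + 1)) = (a ^ 3)⁻¹ := by
    rw [pow_add] at h
    exact eq_inv_of_mul_eq_one_left h
  have h2 : a ^ ((2 * 3 ^ (m + 1)) * (2 * 3 ^ (m + 1))) = a ^ 12 := by
    rw [show (2 * 3 ^ (m + 1)) * (2 * 3 ^ (m + 1)) = (3 ^ (2 * m + 1)) * 12 by ring, pow_mul,
      units_pow_card hK]
  have h3 : a ^ ((2 * 3 ^ (m + 1)) * (2 * 3 ^ (m + 1))) = a ^ 9 := by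
    rw [pow_mul, h1, inv_pow, ← pow_mul, mul_comm 3, pow_mul, h1, inv_pow, inv_inv, ← pow_mul]
  have h4 : a ^ 3 = 1 := by
    have : a ^ 9 * a ^ 3 = a ^ 9 * 1 := by
      rw [← pow_add, mul_one, ← h3, h2]
    exact mul_left_cancel this
  exact eq_one_of_pow_three hK 1 a (by simpa using h4)

variable {G : Type*} [Group G] {U : K → K → K → G} {h : Kˣ → G} {n : G}

theorem orderOf_h [Fintype K] (D : Data m U h n) (a : Kˣ) : orderOf (h a) = orderOf a := by
  have hinj : Function.Injective (MonoidHom.mk' h D.h_mul) := by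
    intro x y hxy
    have : U 0 0 0 * h x = U 0 0 0 * h y := congrArg _ hxy
    exact (D.inj₁ _ _ _ _ _ _ _ _ this).2.2.2
  exact orderOf_injective (MonoidHom.mk' h D.h_mul) hinj a

/-- a non-trivial element of odd order of the torus commutes with no non-trivial `U t u v` -/
theorem U_eq_one_of_commute [Fintype K] (D : Data m U h n) (hK : Fintype.card K = 3 ^ (2 * m + 1))
    (a : Kˣ) (ha : a ≠ 1) (ho : Odd (orderOf a)) (t u v : K) (hc : h a * U t u v = U t u v * h a) :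
    t = 0 ∧ u = 0 ∧ v = 0 := by
  rw [D.h_U] at hc
  obtain ⟨ht, hu, hv, -⟩ := D.inj₁ _ _ _ _ _ _ _ _ hc
  refine ⟨?_, ?_, ?_⟩
  · by_contra h0
    have h1 : (a : K) ^ 3 ^ (m + 1) = 1 := by
      have : (a : K) ^ 3 ^ (m + 1) * t = 1 * t := by rw [ht, one_mul]
      exact mul_right_cancel₀ h0 this
    exact ha (eq_one_of_pow_three hK (m + 1) a (Units.ext (by
      rw [Units.val_pow_eq_pow_val, h1, Units.val_one])))
  · by_contra h0
    have h1 : (a : K) ^ (3 ^ (m + 1) + 3) = 1 := by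
      have : (a : K) ^ (3 ^ (m + 1) + 3) * u = 1 * u := by rw [hu, one_mul]
      exact mul_right_cancel₀ h0 this
    exact ha (eq_one_of_pow_add_three hK a ho (Units.ext (by
      rw [Units.val_pow_eq_pow_val, h1, Units.val_one])))
  · by_contra h0
    have h1 : (a : K) ^ (2 * 3 ^ (m + 1) + 3) = 1 := by
      have : (a : K) ^ (2 * 3 ^ (m + 1) + 3) * v = 1 * v := by rw [hv, one_mul]
      exact mul_right_cancel₀ h0 this
    exact ha (eq_one_of_pow_two_mul_add_three hK a (Units.ext (by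
      rw [Units.val_pow_eq_pow_val, h1, Units.val_one])))

end Cfsg.Agent.LieRecognition.ReeTorus
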