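/-
Statements on small Ree groups derived from the existence part of the Bruhat normal form.
-/
import Cfsg.Agent.LieRecognition.ReeDiag
import Cfsg.Agent.LieRecognition.ReeTorus
import Cfsg.Agent.S1101
import Cfsg.Agent.ChevalleyStructure.Ree.Normal

set_option autoImplicit false
set_option linter.unusedSectionVars false

namespace Cfsg.Agent.LieRecognition.ReeFinal

open Cfsg.Lie
open Cfsg.Agent.ChevalleyStructure.Ree.Gens
open Cfsg.Agent.LieRecognition.ReeData Cfsg.Agent.LieRecognition.ReeDiag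
open Cfsg.Agent.LieRecognition

section abs
variable {K : Type*} [Field K] {G : Type*} [Group G] {m : ℕ} {U : K → K → K → G} {h : Kˣ → G} {n : G}

/-- The order of a group with the Bruhat normal form of the small Ree groups. -/
theorem card_of_data [Fintype K] (D : ReeAbs.Data m U h n) (hK : Fintype.card K = 3 ^ (2 * m + 1)) :
    Nat.card G = (3 ^ (2 * m + 1)) ^ 3 * (3 ^ (2 * m + 1) - 1) * ((3 ^ (2 * m + 1)) ^ 3 + 1) := by
  classical
  let f : (K × K × K × Kˣ) ⊕ (K × K × K × Kˣ × K × K × K) → G := fun x =>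
    match x with
    | Sum.inl (t, u, v, a) => U t u v * h a
    | Sum.inr (t, u, v, a, t', u', v') => U t u v * h a * n * U t' u' v'
  have hf : Function.Bijective f := by
    constructor
    · rintro (⟨t, u, v, a⟩ | ⟨t, u, v, a, t', u', v'⟩) (⟨t₁, u₁, v₁, a₁⟩ | ⟨t₁, u₁, v₁, a₁, t₁', u₁', v₁'⟩) hh
      · obtain ⟨rfl, rfl, rfl, rfl⟩ := D.inj₁ _ _ _ _ _ _ _ _ hh
        rfl
      · exact absurd hh (D.ne _ _ _ _ _ _ _ _ _ _ _)
      · exact absurd hh.symm (D.ne _ _ _ _ _ _ _ _ _ _ _)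
      · obtain ⟨rfl, rfl, rfl, rfl, rfl, rfl, rfl⟩ := D.inj₂ _ _ _ _ _ _ _ _ _ _ _ _ _ _ hh
        rfl
    · intro g
      rcases D.bruhat g with ⟨t, u, v, a, rfl⟩ | ⟨t, u, v, a, t', u', v', rfl⟩
      · exact ⟨Sum.inl (t, u, v, a), rfl⟩
      · exact ⟨Sum.inr (t, u, v, a, t', u', v'), rfl⟩
  rw [← Nat.card_congr (Equiv.ofBijective f hf), Nat.card_eq_fintype_card, Fintype.card_sum]
  simp only [Fintype.card_prod, Fintype.card_units, hK]
  generalize 3 ^ (2 * m + 1) = q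
  generalize q - 1 = r
  ring

end abs

variable {K : Type*} [Field K] [Fintype K] {m : ℕ}

theorem exists_bruhat (hK : Fintype.card K = 3 ^ (2 * m + 1)) : ReeData.Exists K m := by
  obtain ⟨θ, c⟩ := Cfsg.Agent.ChevalleyStructure.Ree.Normal.exists_ctx hK
  exact fun g hg => c.bruhat hg

/-- The instance of `ReeAbs.Data` for the small Ree groups, with explicit elements. -/
theorem data (hK : Fintype.card K = 3 ^ (2 * m + 1)) :
    ReeAbs.Data m (ReeData.U m) (ReeData.h hK) (ReeData.n hK) := data_of_exists hK (exists_bruhat hK)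

/-- The order of the small Ree groups. -/
theorem card (hK : Fintype.card K = 3 ^ (2 * m + 1)) : Nat.card ↥(twistedG2 K (3 ^ m)) =
    (3 ^ (2 * m + 1)) ^ 3 * (3 ^ (2 * m + 1) - 1) * ((3 ^ (2 * m + 1)) ^ 3 + 1) := card_of_data (data hK) hK

section
variable (hK : Fintype.card K = 3 ^ (2 * m + 1))

/-- `H¹ ≃ Kˣ` -/
noncomputable def torusEquiv (hex : ReeData.Exists K m) :
    Kˣ ≃* ↥(chevG2.diagonalSubgroup K ⊓ twistedG2 K (3 ^ m)) := by
  refine MulEquiv.ofBijective (MonoidHom.mk' (fun a => ⟨tU (3 ^ m) a, tU_mem_diagonal _ a, tU_mem hK a⟩)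
    (fun a b => Subtype.ext (tU_mul _ a b).symm)) ⟨fun a b hab => ?_, fun g => ?_⟩
  · have h1 : tU (3 ^ m) a = tU (3 ^ m) b := congrArg Subtype.val hab
    exact h_injective hK (Subtype.ext h1)
  · obtain ⟨g, hg1, hg2⟩ := g
    obtain ⟨a, ha⟩ := (mem_diagonal_iff hK hex ⟨g, hg2⟩).1 hg1
    exact ⟨a, Subtype.ext (congrArg Subtype.val ha).symm⟩

include hK

theorem s1151 (hex : ReeData.Exists K m) :
    2 * Nat.card {h : ↥(chevG2.diagonalSubgroup K ⊓ twistedG2 K (3 ^ m)) // Odd (orderOf h)} = 3 ^ (2 * m + 1) - 1 ∧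
      ∀ h ∈ (chevG2.diagonalSubgroup K ⊓ twistedG2 K (3 ^ m)), h ≠ 1 → Odd (orderOf h) →
        (chevG2.posUnipotent K ⊓ twistedG2 K (3 ^ m)) ⊓ Subgroup.centralizer {h} = ⊥ := by
  refine ⟨ReeTorus.card_odd_of_equiv hK (torusEquiv hK hex), ?_⟩
  rintro h ⟨hh1, hh2⟩ hne hodd
  obtain ⟨a, ha⟩ := (mem_diagonal_iff hK hex ⟨h, hh2⟩).1 hh1
  have D := data_of_exists hK hex
  have ha' : h = tU (3 ^ m) a := congrArg Subtype.val ha
  have hodda : Odd (orderOf a) := by
    rw [← ReeTorus.orderOf_h D a, ← ha]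
    rwa [← Subgroup.orderOf_coe]
  have ha1 : a ≠ 1 := by
    rintro rfl
    exact hne (by rw [ha', tU_one])
  rw [eq_bot_iff]
  rintro g ⟨⟨hg1, hg2⟩, hg3⟩
  obtain ⟨t, u, v, hw⟩ := ((Cfsg.Agent.S1101.result hK).1 g).1 ⟨hg1, hg2⟩
  have hgw : g = wU (3 ^ m) t u v := Units.ext (by rw [hw, coe_wU])
  have hcomm : ReeData.h hK a * ReeData.U m t u v = ReeData.U m t u v * ReeData.h hK a := by
    apply Subtype.ext
    have := Subgroup.mem_centralizer_singleton_iff.1 hg3
    rw [hgw, ha'] at this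
    exact this.symm
  obtain ⟨rfl, rfl, rfl⟩ := ReeTorus.U_eq_one_of_commute D hK a ha1 hodda t u v hcomm
  rw [Subgroup.mem_bot, hgw]
  exact congrArg Subtype.val (U_zero hK)

theorem s1152 (hex : ReeData.Exists K m)
    (a : ↥(twistedG2 K (3 ^ m))) (haH : (a : GL chevG2.Idx K) ∈ chevG2.diagonalSubgroup K) (ha1 : a ≠ 1) (ha2 : a * a = 1) :
    Nonempty (↥(Subgroup.centralizer {a}) ≃* Multiplicative (ZMod 2) × Matrix.ProjectiveSpecialLinearGroup (Fin 2) K) ∧
      ∀ S : Sylow 2 ↥(twistedG2 K (3 ^ m)), Nat.card S = 8 ∧ ∀ x ∈ S, x * x = 1 := by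
  have D := data_of_exists hK hex
  obtain ⟨b, hb⟩ := (mem_diagonal_iff hK hex a).1 haH
  have hb1 : b ≠ 1 := by
    rintro rfl
    apply ha1
    rw [hb]
    exact Subtype.ext (tU_one _)
  have hb2 : b * b = 1 := by
    apply h_injective hK
    rw [h_mul hK, ← hb, ha2]
    exact (Subtype.ext (tU_one _)).symm
  have hb3 : b = -1 := by
    have h1 : (b : K) * b = 1 := by rw [← Units.val_mul, hb2, Units.val_one]
    rcases mul_self_eq_one_iff.1 h1 with h2 | h2
    · exact absurd (Units.ext h2) hb1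
    · exact Units.ext h2
  rw [hb, hb3]
  exact ⟨D.centralizer_iso hK, D.sylow_two hK (card_of_data D hK)⟩

/-- `|H¹| = q - 1` -/
theorem card_diagonal : Nat.card ↥(chevG2.diagonalSubgroup K ⊓ twistedG2 K (3 ^ m)) = 3 ^ (2 * m + 1) - 1 := by
  rw [← Nat.card_congr (torusEquiv hK (exists_bruhat hK)).toEquiv, Nat.card_units, Nat.card_eq_fintype_card, hK]

end

end Cfsg.Agent.LieRecognition.ReeFinal
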