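import Mathlib
import Cfsg.Agent.S0074

/-!
# Involutions and Sylow 2-subgroups of groups with involution centraliser `Z₂ × L`

Abstract part of the 2-local analysis of the small Ree groups.
-/

set_option autoImplicit false

namespace Cfsg.Agent.LieRecognition.ReeInv

open Subgroup
open scoped commutatorElement

/-- `i, j` generate a self-centralising four-group of `L`, on which `u` acts as a 3-cycle. -/
structure KleinData (L : Type*) [Group L] (i j u : L) : Prop where
  i_ne : i ≠ 1
  j_ne : j ≠ 1
  ne : i ≠ j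
  ii : i * i = 1
  jj : j * j = 1
  ij : i * j = j * i
  uiu : u * i * u⁻¹ = j
  uju : u * j * u⁻¹ = i * j
  cent : ∀ x, x * i = i * x → x * j = j * x → x = 1 ∨ x = i ∨ x = j ∨ x = i * j

/-- `a` is an involution of `G` with centraliser `⟨a⟩ × f(L)`, `f` injective. -/
structure CentData (G : Type*) [Group G] (L : Type*) [Group L] (a : G) (f : L →* G) : Prop where
  ne_one : a ≠ 1
  sq : a * a = 1
  inj : Function.Injective f
  comm : ∀ l, a * f l = f l * a
  not_mem : ∀ l, f l ≠ a
  surj : ∀ x, x * a = a * x → ∃ l, x = f l ∨ x = a * f l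

section basic

variable {G : Type*} [Group G] {L : Type*} [Group L] {a : G} {f : L →* G}

/-- conjugate data -/
theorem CentData.conj (h : CentData G L a f) (g : G) :
    CentData G L (g * a * g⁻¹) ((MulAut.conj g).toMonoidHom.comp f) where
  ne_one := by
    intro h1
    apply h.ne_one
    have : a = g⁻¹ * (g * a * g⁻¹) * g := by group
    rw [this, h1]; group
  sq := by
    have : g * a * g⁻¹ * (g * a * g⁻¹) = g * (a * a) * g⁻¹ := by group
    rw [this, h.sq]; group
  inj := by
    intro x y hxy
    simpa using hxy |> fun h' => h.inj (by simpa using h')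
  comm := by
    intro l
    simp only [MonoidHom.comp_apply, MulEquiv.coe_toMonoidHom, MulAut.conj_apply]
    have := h.comm l
    calc g * a * g⁻¹ * (g * f l * g⁻¹) = g * (a * f l) * g⁻¹ := by group
      _ = g * (f l * a) * g⁻¹ := by rw [this]
      _ = _ := by group
  not_mem := by
    intro l hl
    simp only [MonoidHom.comp_apply, MulEquiv.coe_toMonoidHom, MulAut.conj_apply] at hl
    exact h.not_mem l (by simpa using hl)
  surj := by
    intro x hx
    have : (g⁻¹ * x * g) * a = a * (g⁻¹ * x * g) := by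
      calc (g⁻¹ * x * g) * a = g⁻¹ * (x * (g * a * g⁻¹)) * g := by group
        _ = g⁻¹ * ((g * a * g⁻¹) * x) * g := by rw [hx]
        _ = _ := by group
    obtain ⟨l, hl | hl⟩ := h.surj _ this
    · refine ⟨l, Or.inl ?_⟩
      simp only [MonoidHom.comp_apply, MulEquiv.coe_toMonoidHom, MulAut.conj_apply]
      rw [← hl]; group
    · refine ⟨l, Or.inr ?_⟩
      simp only [MonoidHom.comp_apply, MulEquiv.coe_toMonoidHom, MulAut.conj_apply]
      calc x = g * (g⁻¹ * x * g) * g⁻¹ := by group
        _ = g * (a * f l) * g⁻¹ := by rw [hl]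
        _ = _ := by group

/-- orbit-stabiliser for conjugation by a subgroup -/
theorem card_orbit_conj [Finite G] (N : Subgroup G) (x : G) :
    Nat.card N = Nat.card {y : G // ∃ n ∈ N, n * x * n⁻¹ = y} *
      Nat.card ↥(N ⊓ centralizer {x}) := by
  classical
  have key : Nat.card N = Nat.card (Σ y : {y : G // ∃ n ∈ N, n * x * n⁻¹ = y},
      {n : N // (n : G) * x * (n : G)⁻¹ = y}) := by
    apply Nat.card_congr
    exact
      { toFun := fun n => ⟨⟨(n : G) * x * (n : G)⁻¹, n, n.2, rfl⟩, ⟨n, rfl⟩⟩
        invFun := fun s => s.2.1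
        left_inv := fun n => rfl
        right_inv := by
          rintro ⟨⟨y, hy⟩, ⟨n, hn⟩⟩
          simp only at hn
          subst hn
          rfl }
  rw [key]
  have hfin : Finite {y : G // ∃ n ∈ N, n * x * n⁻¹ = y} := inferInstance
  let hft := Fintype.ofFinite {y : G // ∃ n ∈ N, n * x * n⁻¹ = y}
  rw [Nat.card_sigma]
  have this : ∀ y : {y : G // ∃ n ∈ N, n * x * n⁻¹ = y},
      Nat.card {n : N // (n : G) * x * (n : G)⁻¹ = y} = Nat.card ↥(N ⊓ centralizer {x}) := by
    rintro ⟨y, n₀, hn₀, rfl⟩
    apply Nat.card_congr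
    refine
      { toFun := fun n => ⟨n₀⁻¹ * (n.1 : G), ?_⟩
        invFun := fun c => ⟨⟨n₀ * (c : G), N.mul_mem hn₀ (mem_inf.1 c.2).1⟩, ?_⟩
        left_inv := ?_
        right_inv := ?_ }
    · refine mem_inf.2 ⟨N.mul_mem (N.inv_mem hn₀) n.1.2, ?_⟩
      rw [mem_centralizer_singleton_iff]
      have h2 := n.2
      simp only at h2
      calc n₀⁻¹ * (n.1 : G) * x = n₀⁻¹ * ((n.1 : G) * x * (n.1 : G)⁻¹) * n.1 := by group
        _ = n₀⁻¹ * (n₀ * x * n₀⁻¹) * n.1 := by rw [h2]
        _ = x * (n₀⁻¹ * n.1) := by group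
    · have h2 := (mem_inf.1 c.2).2
      rw [mem_centralizer_singleton_iff] at h2
      simp only
      calc n₀ * (c : G) * x * (n₀ * (c : G))⁻¹ = n₀ * ((c : G) * x) * (c : G)⁻¹ * n₀⁻¹ := by group
        _ = n₀ * (x * (c : G)) * (c : G)⁻¹ * n₀⁻¹ := by rw [h2]
        _ = n₀ * x * n₀⁻¹ := by group
    · intro n
      ext
      simp
    · intro c
      ext
      simp
  rw [Finset.sum_congr rfl (fun y _ => this y), Finset.sum_const, smul_eq_mul, Finset.card_univ,
    Fintype.card_eq_nat_card]

end basic

section main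

variable {G : Type*} [Group G] {L : Type*} [Group L] {a : G} {f : L →* G} {i j u : L}

theorem KleinData.ij_ne (hk : KleinData L i j u) : i * j ≠ 1 := by
  intro h
  apply hk.ne
  calc i = i * (j * j) := by rw [hk.jj, mul_one]
    _ = (i * j) * j := by group
    _ = j := by rw [h, one_mul]

theorem KleinData.ij_ne_i (hk : KleinData L i j u) : i * j ≠ i := by
  intro h
  exact hk.j_ne (mul_eq_left.1 h)

theorem KleinData.ij_ne_j (hk : KleinData L i j u) : i * j ≠ j := by
  intro h
  exact hk.i_ne (mul_eq_right.1 h)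

theorem KleinData.uiju (hk : KleinData L i j u) : u * (i * j) * u⁻¹ = i := by
  calc u * (i * j) * u⁻¹ = (u * i * u⁻¹) * (u * j * u⁻¹) := by group
    _ = j * (i * j) := by rw [hk.uiu, hk.uju]
    _ = i * (j * j) := by rw [← mul_assoc, ← hk.ij, mul_assoc]
    _ = i := by rw [hk.jj, mul_one]

/-- the predicate "in the four-group" -/
def InV (i j v : L) : Prop := v = 1 ∨ v = i ∨ v = j ∨ v = i * j

theorem inV_iff (hk : KleinData L i j u) (v : L) : InV i j v ↔ v * i = i * v ∧ v * j = j * v := by
  constructor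
  · rintro (rfl | rfl | rfl | rfl)
    · simp
    · exact ⟨rfl, hk.ij⟩
    · exact ⟨hk.ij.symm, rfl⟩
    · constructor
      · rw [mul_assoc, ← hk.ij]
      · rw [← mul_assoc, ← hk.ij]
  · rintro ⟨h1, h2⟩
    exact hk.cent v h1 h2

theorem inV_sq (hk : KleinData L i j u) {v : L} (h : InV i j v) : v * v = 1 := by
  rcases h with (rfl | rfl | rfl | rfl)
  · simp
  · exact hk.ii
  · exact hk.jj
  · calc i * j * (i * j) = i * (j * i) * j := by group
      _ = i * (i * j) * j := by rw [hk.ij]
      _ = (i * i) * (j * j) := by group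
      _ = 1 := by rw [hk.ii, hk.jj, one_mul]

/-- the elementary abelian group of order 8, as a centraliser -/
def S8 (a : G) (f : L →* G) (i j : L) : Subgroup G := centralizer {a, f i, f j}

theorem mem_S8 {x : G} : x ∈ S8 a f i j ↔ x * a = a * x ∧ x * f i = f i * x ∧ x * f j = f j * x := by
  unfold S8
  rw [mem_centralizer_iff]
  simp only [Set.mem_insert_iff, Set.mem_singleton_iff, forall_eq_or_imp, forall_eq]
  constructor
  · rintro ⟨h1, h2, h3⟩
    exact ⟨h1.symm, h2.symm, h3.symm⟩
  · rintro ⟨h1, h2, h3⟩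
    exact ⟨h1.symm, h2.symm, h3.symm⟩

theorem mem_S8_f (hc : CentData G L a f) {l : L} (hk : KleinData L i j u) :
    f l ∈ S8 a f i j ↔ InV i j l := by
  rw [mem_S8, inV_iff hk]
  constructor
  · rintro ⟨-, h2, h3⟩
    exact ⟨hc.inj (by simpa using h2), hc.inj (by simpa using h3)⟩
  · rintro ⟨h1, h2⟩
    refine ⟨(hc.comm l).symm, ?_, ?_⟩
    · rw [← map_mul, h1, map_mul]
    · rw [← map_mul, h2, map_mul]

theorem a_mem_S8 (hc : CentData G L a f) : a ∈ S8 a f i j :=
  mem_S8.2 ⟨rfl, hc.comm i, hc.comm j⟩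

theorem mem_S8_af (hc : CentData G L a f) {l : L} (hk : KleinData L i j u) :
    a * f l ∈ S8 a f i j ↔ InV i j l := by
  rw [← mem_S8_f hc hk]
  exact Subgroup.mul_mem_cancel_left _ (a_mem_S8 hc)

theorem mem_S8_iff (hc : CentData G L a f) (hk : KleinData L i j u) {x : G} :
    x ∈ S8 a f i j ↔ ∃ v, InV i j v ∧ (x = f v ∨ x = a * f v) := by
  constructor
  · intro hx
    obtain ⟨l, rfl | rfl⟩ := hc.surj x (mem_S8.1 hx).1
    · exact ⟨l, (mem_S8_f hc hk).1 hx, Or.inl rfl⟩
    · exact ⟨l, (mem_S8_af hc hk).1 hx, Or.inr rfl⟩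
  · rintro ⟨v, hv, rfl | rfl⟩
    · exact (mem_S8_f hc hk).2 hv
    · exact (mem_S8_af hc hk).2 hv

theorem S8_sq (hc : CentData G L a f) (hk : KleinData L i j u) {x : G} (hx : x ∈ S8 a f i j) :
    x * x = 1 := by
  obtain ⟨v, hv, rfl | rfl⟩ := (mem_S8_iff hc hk).1 hx
  · rw [← map_mul, inV_sq hk hv, map_one]
  · calc a * f v * (a * f v) = a * (f v * a) * f v := by group
      _ = a * (a * f v) * f v := by rw [hc.comm]
      _ = (a * a) * (f v * f v) := by group
      _ = 1 := by rw [hc.sq, ← map_mul, inV_sq hk hv, map_one, one_mul]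

theorem comm_of_sq (S : Subgroup G) (hS : ∀ x ∈ S, x * x = 1) {x y : G} (hx : x ∈ S) (hy : y ∈ S) :
    x * y = y * x := by
  have h1 := hS _ (S.mul_mem hx hy)
  have h2 := hS _ hx
  have h3 := hS _ hy
  calc x * y = x * ((x * y) * (x * y)) * y := by rw [h1]; group
    _ = (x * x) * (y * x) * (y * y) := by group
    _ = y * x := by rw [h2, h3]; group

theorem isPGroup_S8 (hc : CentData G L a f) (hk : KleinData L i j u) :
    IsPGroup 2 (S8 a f i j) := by
  rintro ⟨x, hx⟩
  refine ⟨1, ?_⟩
  ext
  simp only [pow_one, SubmonoidClass.mk_pow, OneMemClass.coe_one]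
  rw [pow_two]
  exact S8_sq hc hk hx

/-- a Sylow 2-subgroup containing `S8` equals it -/
theorem sylow_eq_S8 (hc : CentData G L a f) (hk : KleinData L i j u)
    (S : Sylow 2 G) (hS : ∀ x ∈ S, x * x = 1) (h : S8 a f i j ≤ S) :
    (S : Subgroup G) = S8 a f i j := by
  apply le_antisymm _ h
  intro x hx
  have comm : ∀ {x y : G}, x ∈ (S : Subgroup G) → y ∈ (S : Subgroup G) → x * y = y * x :=
    fun hx hy => comm_of_sq (S : Subgroup G) hS hx hy
  refine mem_S8.2 ⟨comm hx (h (a_mem_S8 hc)), comm hx (h ?_), comm hx (h ?_)⟩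
  · exact (mem_S8_f hc hk).2 (Or.inr (Or.inl rfl))
  · exact (mem_S8_f hc hk).2 (Or.inr (Or.inr (Or.inl rfl)))

theorem exists_conj_sylow [Finite G] (hc : CentData G L a f) (hk : KleinData L i j u)
    (hexp : ∀ S : Sylow 2 G, ∀ x ∈ S, x * x = 1) (S : Sylow 2 G) :
    ∃ g : G, (S : Subgroup G) = S8 (g * a * g⁻¹) ((MulAut.conj g).toMonoidHom.comp f) i j := by
  obtain ⟨P, hP⟩ := (isPGroup_S8 hc hk).exists_le_sylow
  have hPe := sylow_eq_S8 hc hk P (hexp P) hP
  obtain ⟨g, hg⟩ := MulAction.exists_smul_eq G P S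
  refine ⟨g, ?_⟩
  apply sylow_eq_S8 (hc.conj g) hk S (hexp S)
  intro x hx
  have hx' : g⁻¹ * x * g ∈ (P : Subgroup G) := by
    rw [hPe]
    rw [mem_S8] at hx ⊢
    simp only [MonoidHom.comp_apply, MulEquiv.coe_toMonoidHom, MulAut.conj_apply] at hx
    have key : ∀ y : G, x * (g * y * g⁻¹) = g * y * g⁻¹ * x →
        g⁻¹ * x * g * y = y * (g⁻¹ * x * g) := by
      intro y hy
      calc g⁻¹ * x * g * y = g⁻¹ * (x * (g * y * g⁻¹)) * g := by group
        _ = g⁻¹ * (g * y * g⁻¹ * x) * g := by rw [hy]
        _ = _ := by group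
    exact ⟨key _ hx.1, key _ hx.2.1, key _ hx.2.2⟩
  rw [← hg, Sylow.coe_subgroup_smul, Subgroup.mem_pointwise_smul_iff_inv_smul_mem]
  simpa [MulAut.smul_def] using hx'

end main

section count

variable {G : Type*} [Group G] {L : Type*} [Group L] {a : G} {f : L →* G} {i j u : L}

/-- membership in the normaliser of a finite subgroup from one inclusion -/
theorem mem_normalizer_of_forall [Finite G] {H : Subgroup G} {g : G}
    (h : ∀ x ∈ H, g * x * g⁻¹ ∈ H) : g ∈ normalizer (H : Set G) := by
  rw [mem_normalizer_iff_map_conj_eq]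
  have h1 : H.map (MulAut.conj g).toMonoidHom ≤ H := by
    rintro _ ⟨x, hx, rfl⟩
    simpa using h x hx
  exact Subgroup.eq_of_le_of_card_ge h1 (by
    rw [Subgroup.card_map_of_injective (MulAut.conj g).injective])

theorem fu_mem_normalizer [Finite G] (hc : CentData G L a f) (hk : KleinData L i j u) :
    f u ∈ normalizer (S8 a f i j : Set G) := by
  apply mem_normalizer_of_forall
  intro x hx
  obtain ⟨v, hv, hx'⟩ := (mem_S8_iff hc hk).1 hx
  have hv' : InV i j (u * v * u⁻¹) := by
    rcases hv with (rfl | rfl | rfl | rfl)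
    · left; group
    · right; right; left; exact hk.uiu
    · right; right; right; exact hk.uju
    · right; left; exact hk.uiju
  rw [mem_S8_iff hc hk]
  refine ⟨u * v * u⁻¹, hv', ?_⟩
  rcases hx' with rfl | rfl
  · left; simp
  · right
    calc f u * (a * f v) * (f u)⁻¹ = (f u * a) * f v * (f u)⁻¹ := by group
      _ = (a * f u) * f v * (f u)⁻¹ := by rw [hc.comm]
      _ = a * f (u * v * u⁻¹) := by simp [mul_assoc]

theorem le_normalizer_S8 : S8 a f i j ≤ normalizer (S8 a f i j : Set G) := Subgroup.le_normalizer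

/-- conjugation of `f l` by an element of the centraliser of `a` -/
theorem conj_f {x : G} (hc : CentData G L a f) (hx : x * a = a * x) :
    ∃ l, (x = f l ∨ x = a * f l) ∧ ∀ m, x * f m * x⁻¹ = f (l * m * l⁻¹) := by
  obtain ⟨l, hl⟩ := hc.surj x hx
  refine ⟨l, hl, fun m => ?_⟩
  rcases hl with rfl | rfl
  · simp
  · calc a * f l * f m * (a * f l)⁻¹ = a * (f l * f m * (f l)⁻¹) * a⁻¹ := by group
      _ = a * f (l * m * l⁻¹) * a⁻¹ := by simp
      _ = f (l * m * l⁻¹) * a * a⁻¹ := by rw [hc.comm]
      _ = _ := by group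

/-- the stabiliser of `a` in the normaliser has order 24 -/
theorem card_normalizer_inf [Finite G] (hc : CentData G L a f) (hk : KleinData L i j u)
    (h8 : Nat.card (S8 a f i j) = 8) (h16 : ¬ 16 ∣ Nat.card G) :
    Nat.card ↥(normalizer (S8 a f i j : Set G) ⊓ centralizer {a}) = 24 := by
  classical
  set N := normalizer (S8 a f i j : Set G) with hN
  have hfiS : f i ∈ S8 a f i j := (mem_S8_f hc hk).2 (Or.inr (Or.inl rfl))
  have hfjS : f j ∈ S8 a f i j := (mem_S8_f hc hk).2 (Or.inr (Or.inr (Or.inl rfl)))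
  have huN := fu_mem_normalizer hc hk
  rw [← hN] at huN
  -- general fact on conjugates
  have hconj : ∀ n ∈ N ⊓ centralizer {a}, ∀ m, InV i j m → m ≠ 1 →
      ∃ m', InV i j m' ∧ m' ≠ 1 ∧ n * f m * n⁻¹ = f m' := by
    intro n hn m hm hm1
    rw [mem_inf, mem_centralizer_singleton_iff] at hn
    obtain ⟨l, -, hl⟩ := conj_f hc hn.2
    refine ⟨l * m * l⁻¹, ?_, ?_, hl m⟩
    · rw [← mem_S8_f hc hk, ← hl]
      exact (mem_normalizer_iff.1 hn.1 _).1 ((mem_S8_f hc hk).2 hm)
    · intro h
      apply hm1
      calc m = l⁻¹ * (l * m * l⁻¹) * l := by group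
        _ = 1 := by rw [h]; group
  -- last stabiliser
  have e3 : Nat.card ↥(N ⊓ centralizer {a} ⊓ centralizer {f i} ⊓ centralizer {f j}) = 8 := by
    rw [← h8]
    congr 1
    have : N ⊓ centralizer {a} ⊓ centralizer {f i} ⊓ centralizer {f j} = S8 a f i j := by
      ext x
      rw [mem_inf, mem_inf, mem_inf, mem_centralizer_singleton_iff, mem_centralizer_singleton_iff,
        mem_centralizer_singleton_iff, mem_S8]
      constructor
      · rintro ⟨⟨⟨-, h1⟩, h2⟩, h3⟩
        exact ⟨h1, h2, h3⟩
      · rintro ⟨h1, h2, h3⟩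
        exact ⟨⟨⟨le_normalizer_S8 (mem_S8.2 ⟨h1, h2, h3⟩), h1⟩, h2⟩, h3⟩
    rw [this]
  have hdvd : ∀ H : Subgroup G, ¬ 16 ∣ Nat.card H := fun H h =>
    h16 (h.trans (Subgroup.card_subgroup_dvd_card H))
  -- second stabiliser
  have o2 := card_orbit_conj (N ⊓ centralizer {a} ⊓ centralizer {f i}) (f j)
  rw [e3] at o2
  have c2 : Nat.card {y : G // ∃ n ∈ N ⊓ centralizer {a} ⊓ centralizer {f i}, n * f j * n⁻¹ = y} = 1 := by
    set O := {y : G | ∃ n ∈ N ⊓ centralizer {a} ⊓ centralizer {f i}, n * f j * n⁻¹ = y} with hO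
    have hsub : O ⊆ ({f j, f (i * j)} : Set G) := by
      rintro y ⟨n, hn, rfl⟩
      have hn' := (mem_inf.1 hn).1
      have hn2 := (mem_inf.1 hn).2
      rw [mem_centralizer_singleton_iff] at hn2
      obtain ⟨m', hm', hm1, hmm⟩ := hconj n hn' j (Or.inr (Or.inr (Or.inl rfl))) hk.j_ne
      rw [hmm]
      rcases hm' with (rfl | rfl | rfl | rfl)
      · exact absurd rfl hm1
      · exfalso
        apply hk.ne
        apply hc.inj
        calc f m' = n⁻¹ * (n * f m') := by group
          _ = n⁻¹ * (f m' * n) := by rw [hn2]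
          _ = n⁻¹ * (n * f j * n⁻¹ * n) := by rw [hmm]
          _ = f j := by group
      · simp
      · simp
    have hmem : f j ∈ O := ⟨1, Subgroup.one_mem _, by simp⟩
    have hcard : Nat.card O = O.ncard := Nat.card_coe_set_eq O
    change Nat.card O = 1
    have hle : O.ncard ≤ 2 := by
      refine (Set.ncard_le_ncard hsub (Set.toFinite _)).trans ?_
      exact (Set.ncard_insert_le _ _).trans (by rw [Set.ncard_singleton])
    have hpos : 0 < O.ncard := (Set.ncard_pos (Set.toFinite _)).2 ⟨_, hmem⟩
    have hne2 : O.ncard ≠ 2 := by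
      intro h2
      apply hdvd (N ⊓ centralizer {a} ⊓ centralizer {f i})
      rw [o2]
      change 16 ∣ Nat.card O * 8
      rw [hcard, h2]
    rw [hcard]; omega
  rw [c2, one_mul] at o2
  -- first stabiliser
  have o1 := card_orbit_conj (N ⊓ centralizer {a}) (f i)
  rw [o2] at o1
  have c1 : Nat.card {y : G // ∃ n ∈ N ⊓ centralizer {a}, n * f i * n⁻¹ = y} = 3 := by
    set O := {y : G | ∃ n ∈ N ⊓ centralizer {a}, n * f i * n⁻¹ = y} with hO
    have hOe : O = ({f i, f j, f (i * j)} : Set G) := by
      apply Set.Subset.antisymm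
      · rintro y ⟨n, hn, rfl⟩
        obtain ⟨m', hm', hm1, hmm⟩ := hconj n hn i (Or.inr (Or.inl rfl)) hk.i_ne
        rw [hmm]
        rcases hm' with (rfl | rfl | rfl | rfl)
        · exact absurd rfl hm1
        · simp
        · simp
        · simp
      · have hfu : f u ∈ N ⊓ centralizer {a} := by
          rw [mem_inf, mem_centralizer_singleton_iff]
          exact ⟨huN, (hc.comm u).symm⟩
        rintro y (rfl | rfl | rfl)
        · exact ⟨1, Subgroup.one_mem _, by simp⟩
        · refine ⟨f u, hfu, ?_⟩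
          rw [← hk.uiu]; simp
        · refine ⟨f u * f u, Subgroup.mul_mem _ hfu hfu, ?_⟩
          calc f u * f u * f i * (f u * f u)⁻¹ = f (u * (u * i * u⁻¹) * u⁻¹) := by
                simp [mul_assoc]
            _ = f (i * j) := by rw [hk.uiu, hk.uju]
    change Nat.card O = 3
    rw [Nat.card_coe_set_eq O, hOe]
    rw [Set.ncard_eq_three]
    refine ⟨f i, f j, f (i * j), ?_, ?_, ?_, rfl⟩
    · exact fun h => hk.ne (hc.inj h)
    · exact fun h => hk.ij_ne_i (hc.inj h).symm
    · exact fun h => hk.ij_ne_j (hc.inj h).symm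
  rw [c1] at o1
  exact o1

/-- commutators of elements of the centraliser of `a` lie in the image of `f` -/
theorem commutator_mem_range (hc : CentData G L a f) {H : Subgroup G} (hH : H ≤ centralizer {a}) :
    ⁅H, H⁆ ≤ f.range := by
  rw [Subgroup.commutator_le]
  intro x hx y hy
  have hx' := mem_centralizer_singleton_iff.1 (hH hx)
  have hy' := mem_centralizer_singleton_iff.1 (hH hy)
  obtain ⟨l, hl⟩ := hc.surj x hx'
  obtain ⟨m, hm⟩ := hc.surj y hy'
  rw [MonoidHom.mem_range]
  refine ⟨⁅l, m⁆, ?_⟩
  have ha : ∀ z : G, z * a = a * z → a * z * a⁻¹ = z := by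
    intro z hz; rw [← hz]; group
  have hfa : ∀ l, a * f l * a⁻¹ = f l := fun l => ha _ (hc.comm l).symm
  have hcl : ∀ l, Commute a (f l) := fun l => hc.comm l
  rw [map_commutatorElement]
  rcases hl with rfl | rfl <;> rcases hm with rfl | rfl
  · rfl
  · rw [commutatorElement_def, commutatorElement_def]
    have h1 : f l * (a * f m) * (f l)⁻¹ * (a * f m)⁻¹ = a * (f l * f m * (f l)⁻¹ * (f m)⁻¹) * a⁻¹ := by
      have := (hcl l).eq
      calc f l * (a * f m) * (f l)⁻¹ * (a * f m)⁻¹ = (f l * a) * f m * (f l)⁻¹ * (f m)⁻¹ * a⁻¹ := by group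
        _ = (a * f l) * f m * (f l)⁻¹ * (f m)⁻¹ * a⁻¹ := by rw [this]
        _ = _ := by group
    rw [h1]
    have h2 : f l * f m * (f l)⁻¹ * (f m)⁻¹ = f (l * m * l⁻¹ * m⁻¹) := by simp
    rw [h2, hfa]
  · rw [commutatorElement_def, commutatorElement_def]
    have h1 : a * f l * f m * (a * f l)⁻¹ * (f m)⁻¹ = a * (f l * f m * (f l)⁻¹ * (f m)⁻¹) * a⁻¹ := by
      have h3 : a⁻¹ * (f m)⁻¹ = (f m)⁻¹ * a⁻¹ := ((hcl m).inv_inv).eq
      calc a * f l * f m * (a * f l)⁻¹ * (f m)⁻¹ = a * f l * f m * (f l)⁻¹ * (a⁻¹ * (f m)⁻¹) := by group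
        _ = a * f l * f m * (f l)⁻¹ * ((f m)⁻¹ * a⁻¹) := by rw [h3]
        _ = _ := by group
    rw [h1]
    have h2 : f l * f m * (f l)⁻¹ * (f m)⁻¹ = f (l * m * l⁻¹ * m⁻¹) := by simp
    rw [h2, hfa]
  · rw [commutatorElement_def, commutatorElement_def]
    have e1 : (a * f l) * (a * f m) = f l * f m := by
      calc (a * f l) * (a * f m) = (f l * a) * (a * f m) := by rw [(hcl l).eq]
        _ = f l * (a * a) * f m := by group
        _ = _ := by rw [hc.sq]; group
    have e2 : (a * f l)⁻¹ * (a * f m)⁻¹ = (f l)⁻¹ * (f m)⁻¹ := by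
      calc (a * f l)⁻¹ * (a * f m)⁻¹ = ((a * f m) * (a * f l))⁻¹ := by group
        _ = (f m * f l)⁻¹ := by
          congr 1
          calc (a * f m) * (a * f l) = (f m * a) * (a * f l) := by rw [(hcl m).eq]
            _ = f m * (a * a) * f l := by group
            _ = _ := by rw [hc.sq]; group
        _ = _ := by group
    calc f l * f m * (f l)⁻¹ * (f m)⁻¹ = ((a * f l) * (a * f m)) * ((a * f l)⁻¹ * (a * f m)⁻¹) := by
          rw [e1, e2]; group
      _ = _ := by group

/-- All non-identity elements of the elementary abelian group are conjugate to `a` in its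
normaliser, whose order is 168. -/
theorem main_S8 [Finite G] (hc : CentData G L a f) (hk : KleinData L i j u)
    (hG : commutator G = ⊤)
    (h8 : Nat.card (S8 a f i j) = 8) (h16 : ¬ 16 ∣ Nat.card G) (S : Sylow 2 G)
    (hS : (S : Subgroup G) = S8 a f i j) :
    Nat.card (normalizer (S8 a f i j : Set G)) = 168 ∧
      ∀ x ∈ S8 a f i j, x ≠ 1 → ∃ n ∈ normalizer (S8 a f i j : Set G), n * a * n⁻¹ = x := by
  classical
  have h24 := card_normalizer_inf hc hk h8 h16
  have o := card_orbit_conj (normalizer (S8 a f i j : Set G)) a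
  rw [h24] at o
  set N := normalizer (S8 a f i j : Set G) with hN
  have huN := fu_mem_normalizer hc hk
  rw [← hN] at huN
  set O := {y : G | ∃ n ∈ N, n * a * n⁻¹ = y} with hO
  have o' : Nat.card N = O.ncard * 24 := by
    rw [o, ← Nat.card_coe_set_eq]; rfl
  have hodd : ¬ 2 ∣ O.ncard := by
    intro h
    apply h16
    refine dvd_trans ?_ (Subgroup.card_subgroup_dvd_card N)
    rw [o']
    obtain ⟨k, hk⟩ := h
    exact ⟨3 * k, by rw [hk]; ring⟩
  -- closure of the orbit under conjugation by `f u`
  have hcl : ∀ y, y ∈ O → f u * y * (f u)⁻¹ ∈ O := by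
    rintro y ⟨n, hn, rfl⟩
    exact ⟨f u * n, N.mul_mem huN hn, by group⟩
  have haO : a ∈ O := ⟨1, N.one_mem, by group⟩
  have hsub : ∀ y, y ∈ O → y ∈ S8 a f i j ∧ y ≠ 1 := by
    rintro y ⟨n, hn, rfl⟩
    refine ⟨(mem_normalizer_iff.1 hn _).1 (a_mem_S8 hc), fun h => hc.ne_one ?_⟩
    calc a = n⁻¹ * (n * a * n⁻¹) * n := by group
      _ = 1 := by rw [h]; group
  have f1 : f i ∈ O → f j ∈ O := fun h => by
    have := hcl _ h
    rwa [← map_mul, ← map_inv, ← map_mul, hk.uiu] at this
  have f2 : f j ∈ O → f (i * j) ∈ O := fun h => by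
    have := hcl _ h
    rwa [← map_mul, ← map_inv, ← map_mul, hk.uju] at this
  have f3 : f (i * j) ∈ O → f i ∈ O := fun h => by
    have := hcl _ h
    rwa [← map_mul, ← map_inv, ← map_mul, hk.uiju] at this
  have hca : ∀ v, f u * (a * f v) * (f u)⁻¹ = a * f (u * v * u⁻¹) := by
    intro v
    calc f u * (a * f v) * (f u)⁻¹ = (f u * a) * f v * (f u)⁻¹ := by group
      _ = (a * f u) * f v * (f u)⁻¹ := by rw [hc.comm]
      _ = a * f (u * v * u⁻¹) := by simp [mul_assoc]
  have g1 : a * f i ∈ O → a * f j ∈ O := fun h => by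
    have := hcl _ h
    rwa [hca, hk.uiu] at this
  have g2 : a * f j ∈ O → a * f (i * j) ∈ O := fun h => by
    have := hcl _ h
    rwa [hca, hk.uju] at this
  have g3 : a * f (i * j) ∈ O → a * f i ∈ O := fun h => by
    have := hcl _ h
    rwa [hca, hk.uiju] at this
  -- distinctness
  have d1 : f i ≠ f j := fun h => hk.ne (hc.inj h)
  have d2 : f i ≠ f (i * j) := fun h => hk.ij_ne_i (hc.inj h).symm
  have d3 : f j ≠ f (i * j) := fun h => hk.ij_ne_j (hc.inj h).symm
  have d4 : ∀ v, a ≠ f v := fun v h => hc.not_mem v h.symm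
  have d5 : ∀ v, v ≠ 1 → a ≠ a * f v := fun v hv h => hv (hc.inj (by
    rw [map_one]; exact (mul_eq_left.1 h.symm)))
  have d6 : ∀ v w, f v ≠ a * f w := fun v w h => hc.not_mem (v * w⁻¹) (by
    rw [map_mul, map_inv, h]; group)
  have d7 : ∀ v w, v ≠ w → a * f v ≠ a * f w := fun v w h h' => h (hc.inj (mul_left_cancel h'))
  have hfin : O.Finite := Set.toFinite _
  -- the case distinction
  by_cases hA : f i ∈ O
  · by_cases hB : a * f i ∈ O
    · -- all seven
      have hOe : O = ((({a} ∪ ({f i, f j, f (i * j)} ∪ {a * f i, a * f j, a * f (i * j)}) : Finset G)) : Set G) := by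
        ext y
        constructor
        · intro hy
          obtain ⟨hy1, hy2⟩ := hsub y hy
          obtain ⟨v, hv, rfl | rfl⟩ := (mem_S8_iff hc hk).1 hy1
          · rcases hv with (rfl | rfl | rfl | rfl)
            · exact absurd (map_one f) hy2
            · simp
            · simp
            · simp
          · rcases hv with (rfl | rfl | rfl | rfl)
            · simp
            · simp
            · simp
            · simp
        · intro hy
          simp only [Finset.coe_union, Finset.coe_singleton, Finset.coe_insert,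
            Set.mem_union, Set.mem_singleton_iff, Set.mem_insert_iff] at hy
          rcases hy with rfl | (rfl | rfl | rfl) | (rfl | rfl | rfl)
          · exact haO
          · exact hA
          · exact f1 hA
          · exact f2 (f1 hA)
          · exact hB
          · exact g1 hB
          · exact g2 (g1 hB)
      have hO7 : O.ncard = 7 := by
        rw [hOe, Set.ncard_coe_finset, Finset.card_union_of_disjoint,
          Finset.card_union_of_disjoint, Finset.card_singleton, Finset.card_eq_three.2,
          Finset.card_eq_three.2]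
        · exact ⟨_, _, _, d7 _ _ hk.ne, d7 _ _ hk.ij_ne_i.symm, d7 _ _ hk.ij_ne_j.symm, rfl⟩
        · exact ⟨_, _, _, d1, d2, d3, rfl⟩
        · rw [Finset.disjoint_left]
          intro y hy hy'
          simp only [Finset.mem_insert, Finset.mem_singleton] at hy hy'
          rcases hy with rfl | rfl | rfl <;> rcases hy' with h | h | h <;> exact d6 _ _ h
        · rw [Finset.disjoint_left]
          intro y hy hy'
          simp only [Finset.mem_singleton] at hy
          subst hy
          simp only [Finset.mem_union, Finset.mem_insert, Finset.mem_singleton] at hy'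
          rcases hy' with (h | h | h) | (h | h | h)
          · exact d4 _ h
          · exact d4 _ h
          · exact d4 _ h
          · exact d5 _ hk.i_ne h
          · exact d5 _ hk.j_ne h
          · exact d5 _ hk.ij_ne h
      refine ⟨by rw [o', hO7], ?_⟩
      intro x hx hx1
      suffices h : x ∈ O from h
      rw [hOe]
      obtain ⟨v, hv, rfl | rfl⟩ := (mem_S8_iff hc hk).1 hx
      · rcases hv with (rfl | rfl | rfl | rfl)
        · exact absurd (map_one f) hx1
        · simp
        · simp
        · simp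
      · rcases hv with (rfl | rfl | rfl | rfl)
        · simp
        · simp
        · simp
        · simp
    · exfalso
      apply hodd
      have hOe : O = ((({a} ∪ {f i, f j, f (i * j)} : Finset G)) : Set G) := by
        ext y
        constructor
        · intro hy
          obtain ⟨hy1, hy2⟩ := hsub y hy
          obtain ⟨v, hv, rfl | rfl⟩ := (mem_S8_iff hc hk).1 hy1
          · rcases hv with (rfl | rfl | rfl | rfl)
            · exact absurd (map_one f) hy2
            · simp
            · simp
            · simp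
          · rcases hv with (rfl | rfl | rfl | rfl)
            · simp
            · exact absurd hy hB
            · exact absurd (g3 (g2 hy)) hB
            · exact absurd (g3 hy) hB
        · intro hy
          simp only [Finset.coe_union, Finset.coe_singleton, Finset.coe_insert,
            Set.mem_union, Set.mem_singleton_iff, Set.mem_insert_iff] at hy
          rcases hy with rfl | (rfl | rfl | rfl)
          · exact haO
          · exact hA
          · exact f1 hA
          · exact f2 (f1 hA)
      rw [hOe, Set.ncard_coe_finset, Finset.card_union_of_disjoint, Finset.card_singleton,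
        Finset.card_eq_three.2 ⟨_, _, _, d1, d2, d3, rfl⟩]
      · norm_num
      · rw [Finset.disjoint_left]
        intro y hy hy'
        simp only [Finset.mem_singleton] at hy
        subst hy
        simp only [Finset.mem_insert, Finset.mem_singleton] at hy'
        rcases hy' with (h | h | h) <;> exact d4 _ h
  · by_cases hB : a * f i ∈ O
    · exfalso
      apply hodd
      have hOe : O = ((({a} ∪ {a * f i, a * f j, a * f (i * j)} : Finset G)) : Set G) := by
        ext y
        constructor
        · intro hy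
          obtain ⟨hy1, hy2⟩ := hsub y hy
          obtain ⟨v, hv, rfl | rfl⟩ := (mem_S8_iff hc hk).1 hy1
          · rcases hv with (rfl | rfl | rfl | rfl)
            · exact absurd (map_one f) hy2
            · exact absurd hy hA
            · exact absurd (f3 (f2 hy)) hA
            · exact absurd (f3 hy) hA
          · rcases hv with (rfl | rfl | rfl | rfl)
            · simp
            · simp
            · simp
            · simp
        · intro hy
          simp only [Finset.coe_union, Finset.coe_singleton, Finset.coe_insert,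
            Set.mem_union, Set.mem_singleton_iff, Set.mem_insert_iff] at hy
          rcases hy with rfl | (rfl | rfl | rfl)
          · exact haO
          · exact hB
          · exact g1 hB
          · exact g2 (g1 hB)
      rw [hOe, Set.ncard_coe_finset, Finset.card_union_of_disjoint, Finset.card_singleton,
        Finset.card_eq_three.2 ⟨_, _, _, d7 _ _ hk.ne, d7 _ _ hk.ij_ne_i.symm,
          d7 _ _ hk.ij_ne_j.symm, rfl⟩]
      · norm_num
      · rw [Finset.disjoint_left]
        intro y hy hy'
        simp only [Finset.mem_singleton] at hy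
        subst hy
        simp only [Finset.mem_insert, Finset.mem_singleton] at hy'
        rcases hy' with (h | h | h)
        · exact d5 _ hk.i_ne h
        · exact d5 _ hk.j_ne h
        · exact d5 _ hk.ij_ne h
    · exfalso
      -- `N` centralises `a`: contradiction with transfer
      have hNC : N ≤ centralizer {a} := by
        intro n hn
        rw [mem_centralizer_singleton_iff]
        have hy : n * a * n⁻¹ ∈ O := ⟨n, hn, rfl⟩
        have : n * a * n⁻¹ = a := by
          obtain ⟨hy1, hy2⟩ := hsub _ hy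
          obtain ⟨v, hv, he | he⟩ := (mem_S8_iff hc hk).1 hy1
          · rw [he] at hy hy2
            rcases hv with (rfl | rfl | rfl | rfl)
            · exact absurd (map_one f) hy2
            · exact absurd hy hA
            · exact absurd (f3 (f2 hy)) hA
            · exact absurd (f3 hy) hA
          · rw [he] at hy hy2
            rcases hv with (rfl | rfl | rfl | rfl)
            · rw [he, map_one, mul_one]
            · exact absurd hy hB
            · exact absurd (g3 (g2 hy)) hB
            · exact absurd (g3 hy) hB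
        calc n * a = n * a * n⁻¹ * n := by group
          _ = a * n := by rw [this]
      have hcomm := commutator_mem_range hc hNC
      have hSc : IsMulCommutative S := by
        refine ⟨⟨?_⟩⟩
        rintro ⟨x, hx⟩ ⟨y, hy⟩
        ext
        have hx' : x ∈ S8 a f i j := hS ▸ hx
        have hy' : y ∈ S8 a f i j := hS ▸ hy
        exact comm_of_sq (S8 a f i j) (fun z hz => S8_sq hc hk hz) hx' hy'
      have htr := Cfsg.Agent.S0074.result S hSc
      have ha1 : a ∈ commutator G ⊓ (S : Subgroup G) := by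
        rw [hG, mem_inf, hS]
        exact ⟨mem_top _, a_mem_S8 hc⟩
      rw [htr] at ha1
      have hNS : normalizer ((S : Subgroup G) : Set G) = N := by rw [hS]
      have ha2 := (mem_inf.1 ha1).1
      have ha3 : a ∈ ⁅N, N⁆ := by
        rw [← hNS]; exact ha2
      obtain ⟨l, hl⟩ := hcomm ha3
      exact hc.not_mem l hl

end count

section final

variable {G : Type*} [Group G] [Finite G] {L : Type*} [Group L] {a : G} {f : L →* G} {i j u : L}

theorem not_sixteen_dvd (hS8 : ∀ S : Sylow 2 G, Nat.card S = 8) : ¬ 16 ∣ Nat.card G := by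
  intro h
  obtain ⟨S⟩ : Nonempty (Sylow 2 G) := inferInstance
  have h1 : (2 ^ 4) ∣ Nat.card S := S.pow_dvd_card_of_pow_dvd_card (by norm_num; exact h)
  rw [hS8] at h1
  norm_num at h1

/-- Sylow 2-subgroups are self-centralising with normaliser of order 168. -/
theorem sylow_two (hc : CentData G L a f) (hk : KleinData L i j u) (hG : commutator G = ⊤)
    (hS8 : ∀ S : Sylow 2 G, Nat.card S = 8 ∧ ∀ x ∈ S, x * x = 1) (S : Sylow 2 G) :
    centralizer ((S : Subgroup G) : Set G) = S ∧
      Nat.card (normalizer ((S : Subgroup G) : Set G)) = 168 := by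
  obtain ⟨g, hg⟩ := exists_conj_sylow hc hk (fun S => (hS8 S).2) S
  have hc' := hc.conj g
  have h8 : Nat.card (S8 (g * a * g⁻¹) ((MulAut.conj g).toMonoidHom.comp f) i j) = 8 := by
    rw [← hg]; exact (hS8 S).1
  have hm := main_S8 hc' hk hG h8 (not_sixteen_dvd fun S => (hS8 S).1) S hg
  rw [hg]
  refine ⟨?_, hm.1⟩
  apply le_antisymm
  · intro x hx
    rw [mem_centralizer_iff] at hx
    rw [mem_S8]
    refine ⟨(hx _ (a_mem_S8 hc')).symm, (hx _ ?_).symm, (hx _ ?_).symm⟩
    · exact (mem_S8_f hc' hk).2 (Or.inr (Or.inl rfl))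
    · exact (mem_S8_f hc' hk).2 (Or.inr (Or.inr (Or.inl rfl)))
  · intro x hx
    rw [mem_centralizer_iff]
    intro y hy
    exact comm_of_sq _ (fun z hz => S8_sq hc' hk hz) hy hx

/-- all involutions are conjugate -/
theorem isConj_involution (hc : CentData G L a f) (hk : KleinData L i j u) (hG : commutator G = ⊤)
    (hS8 : ∀ S : Sylow 2 G, Nat.card S = 8 ∧ ∀ x ∈ S, x * x = 1) {t : G} (ht : t ≠ 1)
    (ht2 : t * t = 1) : ∃ g, g * a * g⁻¹ = t := by
  have hp : IsPGroup 2 (zpowers t) := by
    apply IsPGroup.of_card (n := 1)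
    rw [Nat.card_zpowers, pow_one]
    exact orderOf_eq_prime (by rw [pow_two, ht2]) ht
  obtain ⟨S, hSt⟩ := hp.exists_le_sylow
  obtain ⟨g, hg⟩ := exists_conj_sylow hc hk (fun S => (hS8 S).2) S
  have hc' := hc.conj g
  have h8 : Nat.card (S8 (g * a * g⁻¹) ((MulAut.conj g).toMonoidHom.comp f) i j) = 8 := by
    rw [← hg]; exact (hS8 S).1
  have hm := main_S8 hc' hk hG h8 (not_sixteen_dvd fun S => (hS8 S).1) S hg
  have htS : t ∈ S8 (g * a * g⁻¹) ((MulAut.conj g).toMonoidHom.comp f) i j := by
    rw [← hg]; exact hSt (mem_zpowers t)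
  obtain ⟨n, -, hn⟩ := hm.2 t htS ht
  exact ⟨n * g, by rw [← hn]; group⟩

end final

end Cfsg.Agent.LieRecognition.ReeInv
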