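import Cfsg.Agent.LieRecognition.CTSound
import Cfsg.Agent.ChevalleyStructure.FastReflD4

/-! Table facts for the Curtis-Tits theorem: type D4. -/

set_option autoImplicit false
set_option maxRecDepth 100000

namespace Cfsg.Agent.LieRecognition.CTRawD4

open Cfsg.Lie Cfsg.Agent.ChevalleyStructure Cfsg.Agent.LieRecognition.CTTab
  Cfsg.Agent.LieRecognition.CTGood

/-- packed reflections -/
def W : ℕ → ℕ
  | 0 => FastReflD4.W0
  | 1 => FastReflD4.W1
  | 2 => FastReflD4.W2
  | 3 => FastReflD4.W3
  | _ => 0

/-- packed signs -/
def E : ℕ → ℕ
  | 0 => FastReflD4.E0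
  | 1 => FastReflD4.E1
  | 2 => FastReflD4.E2
  | 3 => FastReflD4.E3
  | _ => 0

/-- the raw data -/
def raw : Raw where
  n := 24
  l := 4
  PT := RootVecTab.packD4
  W := W
  E := E
  P := FastDataD4.rows
  S := 0xc0d0e12
  M := 0x20302020003020303000302020300
  DS := 0x10000000000020101000000000000010102000000000001
  AD := 0x1010001

theorem braid : raw.chkBraid = true := by decide +kernel
theorem desc : raw.chkDesc = true := by decide +kernel
theorem str0 : raw.chkStr 0 = true := by decide +kernel
theorem str1 : raw.chkStr 1 = true := by decide +kernel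
theorem str2 : raw.chkStr 2 = true := by decide +kernel
theorem str3 : raw.chkStr 3 = true := by decide +kernel
theorem dec : raw.chkDec = true := by decide +kernel
theorem short : CommOrbit.shortOK chevD4 = true := by decide +kernel

theorem link : Link chevD4 raw where
  hn := rfl
  hl := rfl
  hPT := rfl
  checked := RootVecTab.checked_D4
  short := short
  facts := fun i hi => NSimple.facts_of_check chevD4 i (NSimpleSmall.checkD4 i hi)
  compat := FastReflD4.compat
  etaW := by
    intro i hi s hs
    have hi : i < 4 := hi
    have hc := NSimpleSmall.checkD4 i hi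
    interval_cases i
    · exact FastEta.etaCheck_sound hc FastReflD4.eta0 hs
    · exact FastEta.etaCheck_sound hc FastReflD4.eta1 hs
    · exact FastEta.etaCheck_sound hc FastReflD4.eta2 hs
    · exact FastEta.etaCheck_sound hc FastReflD4.eta3 hs
  rows := FastDataD4.rows_check
  hS := by
    intro i hi
    have hi : i < 4 := hi
    interval_cases i <;> rfl
  pair := PairReduction.pairD4

theorem good : Good chevD4 chevD4.reflectRoot (NSimple.eta chevD4) raw.mu raw.ds raw.m := by
  refine good_of_link link braid desc ?_ dec
  intro k hk
  have hk : k < 4 := hk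
  interval_cases k
  · exact str0
  · exact str1
  · exact str2
  · exact str3

end Cfsg.Agent.LieRecognition.CTRawD4
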