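import Mathlib

/-!
# Generic counting and coprime action lemmas for the small Ree groups
-/

set_option autoImplicit false

namespace Cfsg.Agent.LieRecognition.ReeGeneric

open Subgroup

section conj

variable {G : Type*} [Group G]

/-- An element of prime power order is conjugate into a subgroup of index prime to `p`. -/
theorem exists_conj_mem [Finite G] {p : ℕ} [hp : Fact p.Prime] (A : Subgroup G) (hA : ¬ p ∣ A.index)
    {y : G} (hy : IsPGroup p (zpowers y)) : ∃ g : G, g⁻¹ * y * g ∈ A := by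
  have hne : ¬ p ∣ Nat.card (G ⧸ A) := hA
  obtain ⟨c, hc⟩ := hy.nonempty_fixed_point_of_prime_not_dvd_card (G ⧸ A) hne
  obtain ⟨g, rfl⟩ := QuotientGroup.mk_surjective c
  have h1 := hc ⟨y, mem_zpowers y⟩
  refine ⟨g, ?_⟩
  have h2 : ((y * g : G) : G ⧸ A) = (g : G ⧸ A) := h1
  rw [eq_comm, QuotientGroup.eq] at h2
  simpa [mul_assoc] using h2

theorem exists_conj_mem_of_orderOf [Finite G] {p : ℕ} [hp : Fact p.Prime] (A : Subgroup G)
    (hA : ¬ p ∣ A.index) {y : G} (hy : orderOf y = p) : ∃ g : G, g⁻¹ * y * g ∈ A := by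
  apply exists_conj_mem (p := p) A hA
  apply IsPGroup.of_card (n := 1)
  rw [Nat.card_zpowers, hy, pow_one]

/-- elements of a trivial-intersection type subgroup, counted up to conjugation -/
theorem card_conj_mul [Finite G] (A N : Subgroup G)
    (hN : ∀ n ∈ N, ∀ x ∈ A, n⁻¹ * x * n ∈ A)
    (hTI : ∀ x ∈ A, x ≠ 1 → ∀ g, g⁻¹ * x * g ∈ A → g ∈ N) :
    Nat.card {y : G // y ≠ 1 ∧ ∃ g : G, g⁻¹ * y * g ∈ A} * Nat.card N =
      Nat.card G * (Nat.card A - 1) := by
  classical
  let P := {p : G × G // p.2 ≠ 1 ∧ p.1⁻¹ * p.2 * p.1 ∈ A}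
  have h1 : Nat.card P = Nat.card G * (Nat.card A - 1) := by
    have e : P ≃ G × {x : A // x ≠ 1} :=
      { toFun := fun p => (p.1.1, ⟨⟨p.1.1⁻¹ * p.1.2 * p.1.1, p.2.2⟩, by
          intro h
          apply p.2.1
          have h' : p.1.1⁻¹ * p.1.2 * p.1.1 = 1 := congrArg Subtype.val h
          calc p.1.2 = p.1.1 * (p.1.1⁻¹ * p.1.2 * p.1.1) * p.1.1⁻¹ := by group
            _ = 1 := by rw [h']; group⟩)
        invFun := fun q => ⟨(q.1, q.1 * (q.2 : A) * q.1⁻¹), by
          constructor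
          · intro h
            apply q.2.2
            apply Subtype.ext
            have h' : q.1 * ((q.2 : A) : G) * q.1⁻¹ = 1 := h
            calc ((q.2 : A) : G) = q.1⁻¹ * (q.1 * ((q.2 : A) : G) * q.1⁻¹) * q.1 := by group
              _ = 1 := by rw [h']; group
          · have : q.1⁻¹ * (q.1 * ((q.2 : A) : G) * q.1⁻¹) * q.1 = ((q.2 : A) : G) := by group
            simp only
            rw [this]
            exact (q.2 : A).2⟩
        left_inv := by
          rintro ⟨⟨g, x⟩, h⟩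
          apply Subtype.ext
          simp only [Prod.mk.injEq, true_and]
          group
        right_inv := by
          rintro ⟨g, ⟨x, hx⟩⟩
          simp only [Prod.mk.injEq, true_and]
          apply Subtype.ext
          apply Subtype.ext
          simp only
          group }
    rw [Nat.card_congr e, Nat.card_prod]
    congr 1
    have h2 : Nat.card {x : A // x ≠ 1} = Nat.card A - 1 := by
      have := Fintype.ofFinite A
      rw [Nat.card_eq_fintype_card, Nat.card_eq_fintype_card, Fintype.card_subtype_compl]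
      simp
    exact h2
  have h2 : Nat.card P = Nat.card {y : G // y ≠ 1 ∧ ∃ g : G, g⁻¹ * y * g ∈ A} * Nat.card N := by
    have e : P ≃ Σ y : {y : G // y ≠ 1 ∧ ∃ g : G, g⁻¹ * y * g ∈ A}, {g : G // g⁻¹ * (y : G) * g ∈ A} :=
      { toFun := fun p => ⟨⟨p.1.2, p.2.1, p.1.1, p.2.2⟩, ⟨p.1.1, p.2.2⟩⟩
        invFun := fun s => ⟨(s.2.1, s.1.1), s.1.2.1, s.2.2⟩
        left_inv := fun p => rfl
        right_inv := fun s => rfl }
    rw [Nat.card_congr e]
    let hft := Fintype.ofFinite {y : G // y ≠ 1 ∧ ∃ g : G, g⁻¹ * y * g ∈ A}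
    rw [Nat.card_sigma]
    have this : ∀ y : {y : G // y ≠ 1 ∧ ∃ g : G, g⁻¹ * y * g ∈ A},
        Nat.card {g : G // g⁻¹ * (y : G) * g ∈ A} = Nat.card N := by
      rintro ⟨y, hy1, g₀, hg₀⟩
      apply Nat.card_congr
      have hne : g₀⁻¹ * y * g₀ ≠ 1 := by
        intro h
        apply hy1
        calc y = g₀ * (g₀⁻¹ * y * g₀) * g₀⁻¹ := by group
          _ = 1 := by rw [h]; group
      refine
        { toFun := fun g => ⟨g₀⁻¹ * g.1, ?_⟩
          invFun := fun n => ⟨g₀ * n.1, ?_⟩
          left_inv := ?_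
          right_inv := ?_ }
      · apply hTI _ hg₀ hne
        have : (g₀⁻¹ * g.1)⁻¹ * (g₀⁻¹ * y * g₀) * (g₀⁻¹ * g.1) = g.1⁻¹ * y * g.1 := by group
        rw [this]
        exact g.2
      · have : (g₀ * n.1)⁻¹ * y * (g₀ * n.1) = n.1⁻¹ * (g₀⁻¹ * y * g₀) * n.1 := by group
        simp only
        rw [this]
        exact hN _ n.2 _ hg₀
      · intro g
        apply Subtype.ext
        simp
      · intro g
        apply Subtype.ext
        simp
    rw [Finset.sum_congr rfl (fun y _ => this y), Finset.sum_const, smul_eq_mul, Finset.card_univ,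
      Fintype.card_eq_nat_card]
  rw [← h2, h1]

/-- counting the elements of even order when all elements of 2-power order are involutions, and all
involutions are conjugate -/
theorem card_even_mul [Finite G] {a : G} (ha : a ≠ 1) (ha2 : a * a = 1)
    (hconj : ∀ t : G, t ≠ 1 → t * t = 1 → ∃ g, g * a * g⁻¹ = t)
    (h4 : ∀ x : G, ¬ 4 ∣ orderOf x) :
    Nat.card {x : G // Even (orderOf x)} * Nat.card (centralizer {a}) =
      Nat.card G * Nat.card {y : G // y * a = a * y ∧ Odd (orderOf y)} := by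
  classical
  have haodd : ∀ k, Odd k → a ^ k = a := by
    rintro k ⟨l, rfl⟩
    rw [pow_succ, pow_mul, pow_two, ha2, one_pow, one_mul]
  let P := {p : G × G // Even (orderOf p.2) ∧ p.1 * a * p.1⁻¹ = p.2 ^ (orderOf p.2 / 2)}
  -- facts on elements of even order
  have hev : ∀ x : G, Even (orderOf x) → Odd (orderOf x / 2) ∧ orderOf x = 2 * (orderOf x / 2) := by
    intro x hx
    obtain ⟨k, hk⟩ := hx
    have h1 : orderOf x = 2 * k := by omega
    have h2 : orderOf x / 2 = k := by omega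
    rw [h2]
    refine ⟨?_, h1⟩
    by_contra h
    rw [Nat.not_odd_iff_even] at h
    obtain ⟨l, hl⟩ := h
    exact h4 x ⟨l, by omega⟩
  -- the map
  have hprod : ∀ y : G, y * a = a * y → Odd (orderOf y) →
      Even (orderOf (a * y)) ∧ (a * y) ^ (orderOf (a * y) / 2) = a ∧ y = (a * (a * y)) := by
    intro y hy hyo
    have hcomm : Commute a y := hy.symm
    have hoa : orderOf a = 2 := orderOf_eq_prime (by rw [pow_two, ha2]) ha
    have hord : orderOf (a * y) = 2 * orderOf y := by
      rw [hcomm.orderOf_mul_eq_mul_orderOf_of_coprime, hoa]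
      rw [hoa, Nat.coprime_two_left]
      exact hyo
    refine ⟨⟨orderOf y, by omega⟩, ?_, ?_⟩
    · have : orderOf (a * y) / 2 = orderOf y := by omega
      rw [this, hcomm.mul_pow, pow_orderOf_eq_one, mul_one, haodd _ hyo]
    · rw [← mul_assoc, ha2, one_mul]
  have h1 : Nat.card P = Nat.card G * Nat.card {y : G // y * a = a * y ∧ Odd (orderOf y)} := by
    have e : P ≃ G × {y : G // y * a = a * y ∧ Odd (orderOf y)} :=
      { toFun := fun p => (p.1.1, ⟨a * (p.1.1⁻¹ * p.1.2 * p.1.1), by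
          obtain ⟨⟨g, x⟩, hx, hg⟩ := p
          simp only at hx hg ⊢
          obtain ⟨ho, ho2⟩ := hev x hx
          -- `z = g⁻¹ x g`, `a = z ^ s`
          have hz : a = (g⁻¹ * x * g) ^ (orderOf x / 2) := by
            have : (g⁻¹ * x * g) ^ (orderOf x / 2) = g⁻¹ * x ^ (orderOf x / 2) * g := by
              have := conj_pow (i := orderOf x / 2) (a := g⁻¹) (b := x)
              rw [inv_inv] at this
              exact this
            rw [this, ← hg]; group
          have hoz : orderOf (g⁻¹ * x * g) = orderOf x := by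
            have := orderOf_injective (MulAut.conj g⁻¹).toMonoidHom (MulAut.conj g⁻¹).injective x
            simpa using this
          generalize g⁻¹ * x * g = z at hz hoz
          have hcz : Commute a z := by
            rw [hz]; exact (Commute.refl z).pow_left _
          refine ⟨?_, ?_⟩
          · rw [mul_assoc, ← hcz.eq]
          · -- `a * z = z ^ (s+1)` has order dividing `s`
            have h3 : (a * z) ^ (orderOf x / 2) = 1 := by
              rw [hcz.mul_pow, haodd _ ho, ← hz, ha2]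
            exact ho.of_dvd_nat (orderOf_dvd_of_pow_eq_one h3)⟩)
        invFun := fun q => ⟨(q.1, q.1 * (a * (q.2 : G)) * q.1⁻¹), by
          obtain ⟨g, ⟨y, hy, hyo⟩⟩ := q
          simp only
          obtain ⟨h1, h2, h3⟩ := hprod y hy hyo
          have hoz : orderOf (g * (a * y) * g⁻¹) = orderOf (a * y) := by
            have := orderOf_injective (MulAut.conj g).toMonoidHom (MulAut.conj g).injective (a * y)
            simpa using this
          rw [hoz]
          refine ⟨h1, ?_⟩
          rw [conj_pow, h2]⟩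
        left_inv := by
          rintro ⟨⟨g, x⟩, h⟩
          apply Subtype.ext
          simp only [Prod.mk.injEq, true_and]
          have : a * (a * (g⁻¹ * x * g)) = g⁻¹ * x * g := by rw [← mul_assoc, ha2, one_mul]
          rw [this]; group
        right_inv := by
          rintro ⟨g, ⟨y, hy⟩⟩
          simp only [Prod.mk.injEq, true_and]
          apply Subtype.ext
          simp only
          have : g⁻¹ * (g * (a * y) * g⁻¹) * g = a * y := by group
          rw [this, ← mul_assoc, ha2, one_mul] }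
    rw [Nat.card_congr e, Nat.card_prod]
  have h2 : Nat.card P = Nat.card {x : G // Even (orderOf x)} * Nat.card (centralizer {a}) := by
    have e : P ≃ Σ x : {x : G // Even (orderOf x)}, {g : G // g * a * g⁻¹ = (x : G) ^ (orderOf (x : G) / 2)} :=
      { toFun := fun p => ⟨⟨p.1.2, p.2.1⟩, ⟨p.1.1, p.2.2⟩⟩
        invFun := fun s => ⟨(s.2.1, s.1.1), s.1.2, s.2.2⟩
        left_inv := fun p => rfl
        right_inv := fun s => rfl }
    rw [Nat.card_congr e]
    let hft := Fintype.ofFinite {x : G // Even (orderOf x)}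
    rw [Nat.card_sigma]
    have this : ∀ x : {x : G // Even (orderOf x)},
        Nat.card {g : G // g * a * g⁻¹ = (x : G) ^ (orderOf (x : G) / 2)} =
          Nat.card (centralizer {a}) := by
      rintro ⟨x, hx⟩
      simp only
      obtain ⟨ho, ho2⟩ := hev x hx
      have hne : x ^ (orderOf x / 2) ≠ 1 := by
        intro h
        have h5 := orderOf_dvd_of_pow_eq_one h
        have h6 := Nat.le_of_dvd (Nat.pos_of_ne_zero (by rintro h0; rw [h0] at ho; simp at ho)) h5
        have h7 : 0 < orderOf x := orderOf_pos x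
        omega
      have hsq : x ^ (orderOf x / 2) * x ^ (orderOf x / 2) = 1 := by
        rw [← pow_two, ← pow_mul, mul_comm, ← ho2, pow_orderOf_eq_one]
      obtain ⟨g₀, hg₀⟩ := hconj _ hne hsq
      apply Nat.card_congr
      refine
        { toFun := fun g => ⟨g₀⁻¹ * g.1, ?_⟩
          invFun := fun c => ⟨g₀ * c.1, ?_⟩
          left_inv := ?_
          right_inv := ?_ }
      · rw [mem_centralizer_singleton_iff]
        have h8 : g.1 * a * g.1⁻¹ = g₀ * a * g₀⁻¹ := g.2.trans hg₀.symm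
        calc g₀⁻¹ * g.1 * a = g₀⁻¹ * (g.1 * a * g.1⁻¹) * g.1 := by group
          _ = g₀⁻¹ * (g₀ * a * g₀⁻¹) * g.1 := by rw [h8]
          _ = a * (g₀⁻¹ * g.1) := by group
      · have h8 := mem_centralizer_singleton_iff.1 c.2
        rw [← hg₀]
        calc g₀ * c.1 * a * (g₀ * c.1)⁻¹ = g₀ * (c.1 * a) * c.1⁻¹ * g₀⁻¹ := by group
          _ = g₀ * (a * c.1) * c.1⁻¹ * g₀⁻¹ := by rw [h8]
          _ = g₀ * a * g₀⁻¹ := by group
      · intro g
        apply Subtype.ext
        simp
      · intro g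
        apply Subtype.ext
        simp
    rw [Finset.sum_congr rfl (fun y _ => this y), Finset.sum_const, smul_eq_mul, Finset.card_univ,
      Fintype.card_eq_nat_card]
  rw [← h2, h1]

/-- even and odd order elements -/
theorem card_even_add_odd [Finite G] :
    Nat.card {x : G // Even (orderOf x)} + Nat.card {x : G // Odd (orderOf x)} = Nat.card G := by
  classical
  let hft := Fintype.ofFinite G
  rw [Nat.card_eq_fintype_card, Nat.card_eq_fintype_card, Nat.card_eq_fintype_card]
  have h := Fintype.card_subtype_compl (fun x : G => Even (orderOf x))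
  have h2 := Fintype.card_subtype_le (fun x : G => Even (orderOf x))
  have h3 : Fintype.card {x : G // Odd (orderOf x)} = Fintype.card {x : G // ¬ Even (orderOf x)} := by
    apply Fintype.card_congr
    exact Equiv.subtypeEquivRight (fun x => Nat.not_even_iff_odd.symm)
  rw [h3, h]
  omega

end conj

section coprime

variable {G : Type*} [Group G]

theorem pow_half_sq {z : G} (hz : Odd (orderOf z)) : (z ^ ((orderOf z + 1) / 2)) ^ 2 = z := by
  obtain ⟨k, hk⟩ := hz
  rw [← pow_mul]
  have : (orderOf z + 1) / 2 * 2 = orderOf z + 1 := by omega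
  rw [this, pow_succ, pow_orderOf_eq_one, one_mul]

/-- decomposition of an element of an odd order group with respect to an involution -/
theorem exists_decomp {M : Subgroup G} (hM : ∀ x ∈ M, Odd (orderOf x)) {e : G} (he : e * e = 1)
    (hn : ∀ x ∈ M, e * x * e ∈ M) {x : G} (hx : x ∈ M) :
    ∃ c z, c ∈ M ∧ z ∈ M ∧ e * c * e = c ∧ e * z * e = z⁻¹ ∧ x = c * z := by
  -- `d = x⁻¹ x^e`
  set d := x⁻¹ * (e * x * e) with hd
  have hdM : d ∈ M := M.mul_mem (M.inv_mem hx) (hn x hx)
  have hde : e * d * e = d⁻¹ := by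
    rw [hd]
    have h1 : e * (x⁻¹ * (e * x * e)) * e = (e * x⁻¹ * e) * x * (e * e) := by group
    have h2 : (x⁻¹ * (e * x * e))⁻¹ = e⁻¹ * x⁻¹ * e⁻¹ * x := by group
    have h3 : e⁻¹ = e := inv_eq_of_mul_eq_one_left he
    rw [h1, h2, h3, he, mul_one]
  have hepow : ∀ (y : G) (k : ℕ), e * y ^ k * e = (e * y * e) ^ k := by
    intro y k
    have h3 : e⁻¹ = e := inv_eq_of_mul_eq_one_left he
    have := conj_pow (i := k) (a := e) (b := y)
    rw [h3] at this
    exact this.symm
  set s := (orderOf d + 1) / 2 with hs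
  have hsq : (d ^ s) ^ 2 = d := pow_half_sq (hM d hdM)
  have hdsM : d ^ s ∈ M := M.pow_mem hdM s
  refine ⟨x * d ^ s, (d ^ s)⁻¹, M.mul_mem hx hdsM, M.inv_mem hdsM, ?_, ?_, by group⟩
  · have h4 : e * (x * d ^ s) * e = (e * x * e) * (e * d ^ s * e) := by
      calc e * (x * d ^ s) * e = e * x * 1 * d ^ s * e := by group
        _ = e * x * (e * e) * d ^ s * e := by rw [he]
        _ = _ := by group
    rw [h4, hepow, hde]
    have h5 : e * x * e = x * d := by rw [hd]; group
    rw [h5]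
    calc x * d * d⁻¹ ^ s = x * (d ^ s) ^ 2 * (d ^ s)⁻¹ := by rw [hsq, inv_pow]
      _ = x * d ^ s := by group
  · have h6 : e * (d ^ s)⁻¹ * e = (e * d ^ s * e)⁻¹ := by
      have h3 : e⁻¹ = e := inv_eq_of_mul_eq_one_left he
      rw [mul_inv_rev, mul_inv_rev, h3, mul_assoc]
    rw [h6, hepow, hde, inv_pow]

/-- An odd order group normalised by a four-group all of whose involutions have centralisers
inside a subgroup centralised by the four-group. -/
theorem le_of_four {M A : Subgroup G} (hM : ∀ x ∈ M, Odd (orderOf x)) {e₁ e₂ : G}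
    (he₁ : e₁ * e₁ = 1) (he₂ : e₂ * e₂ = 1) (hcomm : e₁ * e₂ = e₂ * e₁)
    (hn₁ : ∀ x ∈ M, e₁ * x * e₁ ∈ M) (hn₂ : ∀ x ∈ M, e₂ * x * e₂ ∈ M)
    (hA₁ : ∀ x ∈ A, e₁ * x * e₁ = x)
    (hc₁ : ∀ x ∈ M, e₁ * x * e₁ = x → x ∈ A) (hc₂ : ∀ x ∈ M, e₂ * x * e₂ = x → x ∈ A)
    (hc₃ : ∀ x ∈ M, (e₁ * e₂) * x * (e₁ * e₂) = x → x ∈ A) : M ≤ A := by
  have i₁ : e₁⁻¹ = e₁ := inv_eq_of_mul_eq_one_left he₁
  have i₂ : e₂⁻¹ = e₂ := inv_eq_of_mul_eq_one_left he₂
  -- conjugation homomorphisms
  have m₁ : ∀ x y, e₁ * (x * y) * e₁ = (e₁ * x * e₁) * (e₁ * y * e₁) := by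
    intro x y
    calc e₁ * (x * y) * e₁ = e₁ * x * 1 * y * e₁ := by group
      _ = e₁ * x * (e₁ * e₁) * y * e₁ := by rw [he₁]
      _ = _ := by group
  have m₂ : ∀ x y, e₂ * (x * y) * e₂ = (e₂ * x * e₂) * (e₂ * y * e₂) := by
    intro x y
    calc e₂ * (x * y) * e₂ = e₂ * x * 1 * y * e₂ := by group
      _ = e₂ * x * (e₂ * e₂) * y * e₂ := by rw [he₂]
      _ = _ := by group
  have v₁ : ∀ x, e₁ * x⁻¹ * e₁ = (e₁ * x * e₁)⁻¹ := by
    intro x
    rw [mul_inv_rev, mul_inv_rev, i₁, mul_assoc]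
  have v₂ : ∀ x, e₂ * x⁻¹ * e₂ = (e₂ * x * e₂)⁻¹ := by
    intro x
    rw [mul_inv_rev, mul_inv_rev, i₂, mul_assoc]
  have m₃ : ∀ x, (e₁ * e₂) * x * (e₁ * e₂) = e₂ * (e₁ * x * e₁) * e₂ := by
    intro x
    calc (e₁ * e₂) * x * (e₁ * e₂) = (e₂ * e₁) * x * (e₁ * e₂) := by rw [hcomm]
      _ = _ := by group
  have h12 : ∀ x, e₁ * (e₂ * x * e₂) * e₁ = e₂ * (e₁ * x * e₁) * e₂ := by
    intro x
    calc e₁ * (e₂ * x * e₂) * e₁ = (e₁ * e₂) * x * (e₂ * e₁) := by group
      _ = (e₂ * e₁) * x * (e₁ * e₂) := by rw [hcomm]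
      _ = _ := by group
  have odd_one : ∀ x ∈ M, x * x = 1 → x = 1 := by
    intro x hx h
    have h1 : orderOf x ∣ 2 := orderOf_dvd_of_pow_eq_one (by rw [pow_two, h])
    have h2 := hM x hx
    have h3 : orderOf x = 1 := by
      rcases (Nat.dvd_prime Nat.prime_two).1 h1 with h | h
      · exact h
      · rw [h] at h2; exact absurd h2 (by decide)
    exact orderOf_eq_one_iff.1 h3
  -- elements inverted by `e₁` are trivial
  have key : ∀ z ∈ M, e₁ * z * e₁ = z⁻¹ → z = 1 := by
    intro z hz hze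
    obtain ⟨c, w, hcM, hwM, hce, hwe, hzw⟩ := exists_decomp hM he₂ hn₂ hz
    have hcA : c ∈ A := hc₂ c hcM hce
    have hc1 := hA₁ c hcA
    have e1 : e₁ * w * e₁ = c⁻¹ * w⁻¹ * c⁻¹ := by
      rw [hzw, m₁, hc1, mul_inv_rev] at hze
      calc e₁ * w * e₁ = c⁻¹ * (c * (e₁ * w * e₁)) := by group
        _ = c⁻¹ * (w⁻¹ * c⁻¹) := by rw [hze]
        _ = _ := by group
    have e3 : e₂ * (e₁ * w * e₁) * e₂ = c⁻¹ * w * c⁻¹ := by
      rw [e1, m₂, m₂, v₂, v₂, hce, hwe, inv_inv]
    have e4 : w = c⁻¹ * (c⁻¹ * w * c⁻¹) * c⁻¹ := by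
      -- apply the third involution twice
      have h5 : e₂ * (e₁ * (e₂ * (e₁ * w * e₁) * e₂) * e₁) * e₂ = w := by
        rw [h12]
        calc e₂ * (e₂ * (e₁ * (e₁ * w * e₁) * e₁) * e₂) * e₂ =
            (e₂ * e₂) * ((e₁ * e₁) * w * (e₁ * e₁)) * (e₂ * e₂) := by group
          _ = w := by rw [he₁, he₂]; group
      rw [e3] at h5
      rw [m₁, m₁, v₁, hc1, m₂, m₂, v₂, hce, e3] at h5
      rw [h5]
    -- `c²` is inverted by `w`
    have h6 : w⁻¹ * (c * c) * w = (c * c)⁻¹ := by
      have : (c * c) * w * (c * c) = w := by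
        calc (c * c) * w * (c * c) = (c * c) * (c⁻¹ * (c⁻¹ * w * c⁻¹) * c⁻¹) * (c * c) := by rw [← e4]
          _ = w := by group
      calc w⁻¹ * (c * c) * w = w⁻¹ * ((c * c) * w * (c * c)) * (c * c)⁻¹ := by group
        _ = w⁻¹ * w * (c * c)⁻¹ := by rw [this]
        _ = _ := by group
    have h7 : Commute (w ^ 2) (c * c) := by
      have : (w ^ 2)⁻¹ * (c * c) * w ^ 2 = c * c := by
        calc (w ^ 2)⁻¹ * (c * c) * w ^ 2 = w⁻¹ * (w⁻¹ * (c * c) * w) * w := by rw [pow_two]; group
          _ = w⁻¹ * (c * c)⁻¹ * w := by rw [h6]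
          _ = (w⁻¹ * (c * c) * w)⁻¹ := by group
          _ = _ := by rw [h6, inv_inv]
      show w ^ 2 * (c * c) = (c * c) * w ^ 2
      calc w ^ 2 * (c * c) = w ^ 2 * ((w ^ 2)⁻¹ * (c * c) * w ^ 2) := by rw [this]
        _ = _ := by group
    have h8 : Commute w (c * c) := by
      have := pow_half_sq (hM w hwM)
      rw [← this, ← pow_mul, mul_comm, pow_mul]
      exact h7.pow_left _
    have h9 : c * c = (c * c)⁻¹ := by
      rw [← h6]
      calc c * c = w⁻¹ * (w * (c * c)) := by group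
        _ = w⁻¹ * ((c * c) * w) := by rw [h8.eq]
        _ = _ := by group
    have h10 : c * c = 1 := by
      apply odd_one _ (M.mul_mem hcM hcM)
      calc c * c * (c * c) = c * c * (c * c)⁻¹ := by rw [← h9]
        _ = 1 := by group
    have hc1' : c = 1 := odd_one c hcM h10
    rw [hc1', one_mul] at hzw
    subst hzw
    -- now `z` is inverted by both
    have hzA : z ∈ A := by
      apply hc₃ z hz
      rw [m₃, hze, v₂, hwe, inv_inv]
    apply odd_one z hz
    have := hA₁ z hzA
    rw [hze] at this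
    calc z * z = z * z⁻¹ := by rw [this]
      _ = 1 := by group
  intro x hx
  obtain ⟨c, z, hcM, hzM, hce, hze, hxz⟩ := exists_decomp hM he₁ hn₁ hx
  rw [key z hzM hze, mul_one] at hxz
  rw [hxz]
  exact hc₁ c hcM hce

end coprime

end Cfsg.Agent.LieRecognition.ReeGeneric
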