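import Mathlib
import Cfsg.Agent.LieRecognition.ReeInv
import Cfsg.Agent.LieRecognition.ReePSL
import Cfsg.Agent.LieRecognition.ReeGeneric

/-!
# The cyclic subgroups of order `(q+1)/4` of the small Ree groups
-/

set_option autoImplicit false
set_option linter.unusedSectionVars false

namespace Cfsg.Agent.LieRecognition.ReeTorusB

open Subgroup
open Cfsg.Agent.LieRecognition.ReeInv
open Cfsg.Agent.LieRecognition.ReePSL (TorusData)

/-- all the data -/
structure Setup (G : Type*) [Group G] (L : Type*) [Group L] (q : ℕ) (a : G) (f : L →* G)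
    (i j u t₀ : L) (T : Subgroup L) : Prop where
  hc : CentData G L a f
  hk : KleinData L i j u
  ht : TorusData L q i j T
  gen : zpowers t₀ = T
  conjG : ∀ t : G, t ≠ 1 → t * t = 1 → ∃ g, g * a * g⁻¹ = t
  conjL : ∀ t : L, t ≠ 1 → t * t = 1 → ∃ k, k * i * k⁻¹ = t
  q8 : q % 8 = 3
  q3 : 3 ∣ q
  two : ∀ P : Subgroup G, IsPGroup 2 P → ∀ x ∈ P, x * x = 1
  no3 : ∀ y : G, orderOf y = 3 → ∀ z : G, Odd (orderOf z) → ¬ 3 ∣ orderOf z → z ≠ 1 →
    y * z ≠ z * y

namespace Setup

variable {G : Type*} [Group G] {L : Type*} [Group L] {q : ℕ} {a : G} {f : L →* G}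
  {i j u t₀ : L} {T : Subgroup L}

/-- the cyclic group of order `(q+1)/4` -/
def A (_ : Setup G L q a f i j u t₀ T) : Subgroup G := zpowers (f t₀ ^ 2)

/-- the four-group as a subgroup -/
def V (S : Setup G L q a f i j u t₀ T) : Subgroup G where
  carrier := {x | x = 1 ∨ x = a ∨ x = f i ∨ x = a * f i}
  one_mem' := Or.inl rfl
  mul_mem' := by
    have h1 := S.hc.sq
    have h2 : f i * f i = 1 := by rw [← map_mul, S.hk.ii, map_one]
    have h3 := S.hc.comm i
    have h4 : f i * a = a * f i := h3.symm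
    have h5 : a * (a * f i) = f i := by rw [← mul_assoc, h1, one_mul]
    have h6 : f i * (a * f i) = a := by rw [← mul_assoc, h4, mul_assoc, h2, mul_one]
    have h7 : a * f i * a = f i := by rw [mul_assoc, h4, h5]
    have h8 : a * f i * f i = a := by rw [mul_assoc, h2, mul_one]
    have h9 : a * f i * (a * f i) = 1 := by rw [← mul_assoc, h7, h2]
    rintro x y (rfl | rfl | rfl | rfl) (rfl | rfl | rfl | rfl) <;>
      simp only [one_mul, mul_one, Set.mem_ofPred_eq, h1, h2, h4, h5, h6, h7, h8, h9, true_or,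
        or_true]
  inv_mem' := by
    have h1 := S.hc.sq
    have h2 : f i * f i = 1 := by rw [← map_mul, S.hk.ii, map_one]
    have h3 := S.hc.comm i
    have i1 : a⁻¹ = a := inv_eq_of_mul_eq_one_left h1
    have i2 : (f i)⁻¹ = f i := inv_eq_of_mul_eq_one_left h2
    rintro x (rfl | rfl | rfl | rfl)
    · simp
    · rw [i1]; right; left; rfl
    · rw [i2]; right; right; left; rfl
    · rw [mul_inv_rev, i1, i2, ← h3]; right; right; right; rfl

theorem mem_V (S : Setup G L q a f i j u t₀ T) {x : G} :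
    x ∈ S.V ↔ x = 1 ∨ x = a ∨ x = f i ∨ x = a * f i := Iff.rfl

theorem bb (S : Setup G L q a f i j u t₀ T) : f i * f i = 1 := by
  rw [← map_mul, S.hk.ii, map_one]

theorem b_ne (S : Setup G L q a f i j u t₀ T) : f i ≠ 1 := by
  intro h
  exact S.hk.i_ne (S.hc.inj (by rw [h, map_one]))

theorem b_ne_a (S : Setup G L q a f i j u t₀ T) : f i ≠ a := S.hc.not_mem i

theorem ab_ne_one (S : Setup G L q a f i j u t₀ T) : a * f i ≠ 1 := by
  intro h
  apply S.b_ne_a
  calc f i = a * (a * f i) := by rw [← mul_assoc, S.hc.sq, one_mul]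
    _ = a := by rw [h, mul_one]

theorem V_sq (S : Setup G L q a f i j u t₀ T) {x : G} (hx : x ∈ S.V) : x * x = 1 := by
  rcases S.mem_V.1 hx with rfl | rfl | rfl | rfl
  · simp
  · exact S.hc.sq
  · exact S.bb
  · calc a * f i * (a * f i) = a * (f i * a) * f i := by group
      _ = a * (a * f i) * f i := by rw [S.hc.comm]
      _ = (a * a) * (f i * f i) := by group
      _ = 1 := by rw [S.hc.sq, S.bb, one_mul]

theorem V_comm (S : Setup G L q a f i j u t₀ T) {x y : G} (hx : x ∈ S.V) (hy : y ∈ S.V) :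
    x * y = y * x := comm_of_sq S.V (fun _ h => S.V_sq h) hx hy

theorem a_mem (S : Setup G L q a f i j u t₀ T) : a ∈ S.V := Or.inr (Or.inl rfl)
theorem b_mem (S : Setup G L q a f i j u t₀ T) : f i ∈ S.V := Or.inr (Or.inr (Or.inl rfl))

theorem card_V (S : Setup G L q a f i j u t₀ T) : Nat.card S.V = 4 := by
  have h1 : (S.V : Set G) = ({1, a, f i, a * f i} : Set G) := by
    ext x
    simp only [SetLike.mem_coe, S.mem_V, Set.mem_insert_iff, Set.mem_singleton_iff]
  have h2 : Nat.card S.V = Set.ncard (S.V : Set G) := rfl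
  rw [h2, h1]
  have h3 : (1 : G) ∉ ({a, f i, a * f i} : Set G) := by
    simp only [Set.mem_insert_iff, Set.mem_singleton_iff, not_or]
    exact ⟨fun h => S.hc.ne_one h.symm, fun h => S.b_ne h.symm, fun h => S.ab_ne_one h.symm⟩
  have h4 : a ∉ ({f i, a * f i} : Set G) := by
    simp only [Set.mem_insert_iff, Set.mem_singleton_iff, not_or]
    refine ⟨fun h => S.b_ne_a h.symm, fun h => S.b_ne ?_⟩
    exact (mul_eq_left.1 h.symm)
  have h5 : f i ≠ a * f i := by
    intro h
    exact S.hc.ne_one (mul_eq_right.1 h.symm)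
  rw [Set.ncard_insert_of_notMem h3 (Set.toFinite _), Set.ncard_insert_of_notMem h4 (Set.toFinite _),
    Set.ncard_pair h5]

section torus

theorem t0_mem (S : Setup G L q a f i j u t₀ T) : t₀ ∈ T := by
  rw [← S.gen]; exact mem_zpowers t₀

theorem orderOf_t0 (S : Setup G L q a f i j u t₀ T) : 2 * orderOf t₀ = q + 1 := by
  rw [← Nat.card_zpowers, S.gen]; exact S.ht.card

/-- `s = (q+1)/4` -/
theorem s_odd (S : Setup G L q a f i j u t₀ T) : Odd ((q + 1) / 4) := by
  have := S.q8
  rw [Nat.odd_iff]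
  omega

theorem orderOf_t0' (S : Setup G L q a f i j u t₀ T) : orderOf t₀ = 2 * ((q + 1) / 4) := by
  have h1 := S.orderOf_t0
  have := S.q8
  omega

theorem i_eq (S : Setup G L q a f i j u t₀ T) : i = t₀ ^ ((q + 1) / 4) := by
  set s := (q + 1) / 4 with hs
  have ho := S.orderOf_t0'
  rw [← hs] at ho
  have hi : i ∈ zpowers t₀ := by rw [S.gen]; exact S.ht.i_mem
  obtain ⟨k, rfl⟩ := hi
  simp only at *
  have h1 := S.hk.ii
  have h2 := S.hk.i_ne
  have h3 : t₀ ^ (2 * k) = 1 := by rw [two_mul, zpow_add]; exact h1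
  have h4 : ((orderOf t₀ : ℕ) : ℤ) ∣ 2 * k := orderOf_dvd_iff_zpow_eq_one.2 h3
  rw [ho] at h4
  push_cast at h4
  have h5 : (s : ℤ) ∣ k := by
    exact Int.dvd_of_mul_dvd_mul_left (by norm_num) h4
  obtain ⟨c, rfl⟩ := h5
  have hsq : (t₀ ^ s) * (t₀ ^ s) = 1 := by
    rw [← pow_add, ← two_mul, ← ho, pow_orderOf_eq_one]
  rcases Int.even_or_odd c with hc | hc
  · exfalso
    apply h2
    obtain ⟨d, rfl⟩ := hc
    have : (s : ℤ) * (d + d) = (2 * s : ℕ) * d := by push_cast; ring
    rw [this, ← ho, zpow_mul, zpow_natCast, pow_orderOf_eq_one, one_zpow]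
  · obtain ⟨d, rfl⟩ := hc
    have : (s : ℤ) * (2 * d + 1) = (2 * s : ℕ) * d + s := by push_cast; ring
    rw [this, ← ho, zpow_add, zpow_mul, zpow_natCast, pow_orderOf_eq_one, one_zpow, one_mul,
      zpow_natCast]

/-- the squares in `T` -/
theorem mem_T_cases (S : Setup G L q a f i j u t₀ T) {t : L} (ht : t ∈ T) :
    ∃ r ∈ zpowers (t₀ ^ 2), t = r ∨ t = i * r := by
  set s := (q + 1) / 4 with hs
  rw [← S.gen] at ht
  obtain ⟨k, rfl⟩ := ht
  simp only
  rcases Int.even_or_odd k with hk | hk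
  · obtain ⟨d, rfl⟩ := hk
    refine ⟨(t₀ ^ 2) ^ d, ⟨d, rfl⟩, Or.inl ?_⟩
    rw [← two_mul, zpow_mul, zpow_ofNat]
  · obtain ⟨e, he⟩ := S.s_odd
    rw [← hs] at he
    obtain ⟨d, rfl⟩ := hk
    refine ⟨(t₀ ^ 2) ^ (d - (e : ℤ)), ⟨_, rfl⟩, Or.inr ?_⟩
    have h1 : (t₀ ^ 2) ^ (d - (e : ℤ)) = t₀ ^ (2 * (d - (e : ℤ))) := by
      rw [zpow_mul, zpow_ofNat]
    rw [h1, S.i_eq, ← hs, ← zpow_natCast, ← zpow_add]
    congr 1
    rw [he]; push_cast; ring

theorem pow_s (S : Setup G L q a f i j u t₀ T) {r : L} (hr : r ∈ zpowers (t₀ ^ 2)) :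
    r ^ ((q + 1) / 4) = 1 := by
  obtain ⟨k, rfl⟩ := hr
  simp only
  have : ((t₀ ^ 2) ^ ((q + 1) / 4)) = 1 := by
    rw [← pow_mul, ← S.orderOf_t0', pow_orderOf_eq_one]
  rw [← zpow_natCast, ← zpow_mul, mul_comm, zpow_mul, zpow_natCast, this, one_zpow]

theorem sq_mem_T (S : Setup G L q a f i j u t₀ T) {r : L} (hr : r ∈ zpowers (t₀ ^ 2)) : r ∈ T := by
  rw [← S.gen]
  obtain ⟨k, rfl⟩ := hr
  exact zpow_mem (pow_mem (mem_zpowers _) _) _

theorem odd_mem (S : Setup G L q a f i j u t₀ T) {t : L} (ht : t ∈ T) (ho : Odd (orderOf t)) :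
    t ∈ zpowers (t₀ ^ 2) := by
  rw [← S.gen] at ht
  obtain ⟨k, hk⟩ := ht
  simp only at hk
  have h1 := ReeGeneric.pow_half_sq ho
  rw [← h1, ← hk]
  refine ⟨k * ((orderOf (t₀ ^ k) + 1) / 2 : ℕ), ?_⟩
  simp only
  rw [← zpow_natCast t₀ 2, ← zpow_mul, ← zpow_natCast (t₀ ^ k), ← zpow_mul, ← zpow_natCast, ← zpow_mul]
  congr 1
  push_cast
  ring

theorem mem_A (S : Setup G L q a f i j u t₀ T) {x : G} :
    x ∈ S.A ↔ ∃ r ∈ zpowers (t₀ ^ 2), x = f r := by
  constructor
  · rintro ⟨k, rfl⟩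
    refine ⟨(t₀ ^ 2) ^ k, ⟨k, rfl⟩, ?_⟩
    simp
  · rintro ⟨r, ⟨k, rfl⟩, rfl⟩
    refine ⟨k, ?_⟩
    simp

theorem A_odd (S : Setup G L q a f i j u t₀ T) {x : G} (hx : x ∈ S.A) :
    orderOf x ∣ (q + 1) / 4 := by
  obtain ⟨r, hr, rfl⟩ := S.mem_A.1 hx
  apply orderOf_dvd_of_pow_eq_one
  rw [← map_pow, S.pow_s hr, map_one]

theorem card_A (S : Setup G L q a f i j u t₀ T) : Nat.card S.A = (q + 1) / 4 := by
  unfold A
  rw [Nat.card_zpowers, ← map_pow, orderOf_injective f S.hc.inj]
  have h1 := S.orderOf_t0'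
  have h2 := S.s_odd
  rw [orderOf_pow' _ (by norm_num), h1]
  have h3 : Nat.gcd (2 * ((q + 1) / 4)) 2 = 2 := by
    rw [Nat.gcd_comm]; exact Nat.gcd_eq_left (Dvd.intro _ rfl)
  rw [h3]; omega

theorem cyclic_A (S : Setup G L q a f i j u t₀ T) : IsCyclic S.A := by
  unfold A; infer_instance

/-- elements of the centraliser of the four-group -/
theorem cent_V (S : Setup G L q a f i j u t₀ T) {x : G} (h1 : x * a = a * x) (h2 : x * f i = f i * x) :
    ∃ l, (x = f l ∨ x = a * f l) ∧ (l ∈ T ∨ l * j ∈ T) := by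
  obtain ⟨l, hl, hcj⟩ := conj_f S.hc h1
  refine ⟨l, hl, S.ht.cent_i l ?_⟩
  have h3 := hcj i
  have h4 : x * f i * x⁻¹ = f i := by rw [h2]; group
  rw [h4] at h3
  have h5 := S.hc.inj h3
  calc l * i = (l * i * l⁻¹) * l := by group
    _ = i * l := by rw [← h5]

theorem odd_cent_V (S : Setup G L q a f i j u t₀ T) {x : G} (h1 : x * a = a * x)
    (h2 : x * f i = f i * x) (ho : Odd (orderOf x)) : x ∈ S.A := by
  obtain ⟨l, hl, hT⟩ := S.cent_V h1 h2
  have hx : x = f l := by
    rcases hl with h | h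
    · exact h
    · exfalso
      have h3 : x ^ orderOf x = 1 := pow_orderOf_eq_one x
      obtain ⟨k, hk⟩ := ho
      have h4 : Commute a (f l) := S.hc.comm l
      rw [h, h4.mul_pow, ← h, hk, pow_succ, pow_mul, pow_two, S.hc.sq, one_pow, one_mul,
        ← map_pow] at h3
      apply S.hc.not_mem (l ^ (2 * k + 1))⁻¹
      rw [map_inv]
      exact inv_eq_of_mul_eq_one_left h3
  subst hx
  rw [orderOf_injective f S.hc.inj] at ho
  have hlT : l ∈ T := by
    rcases hT with h | h
    · exact h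
    · have h3 : l * l = 1 := by
        set t := l * j with ht
        have h5 := S.ht.inv t h
        have hjj : j⁻¹ = j := inv_eq_of_mul_eq_one_left S.hk.jj
        have h6 : l = t * j := by rw [ht, mul_assoc, S.hk.jj, mul_one]
        rw [h6]
        rw [hjj] at h5
        calc t * j * (t * j) = t * (j * t * j) := by group
          _ = 1 := by rw [h5]; group
      have h4 : l = 1 := by
        have h5 : orderOf l ∣ 2 := orderOf_dvd_of_pow_eq_one (by rw [pow_two, h3])
        have h6 : orderOf l = 1 := by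
          rcases (Nat.dvd_prime Nat.prime_two).1 h5 with h | h
          · exact h
          · rw [h] at ho; exact absurd ho (by decide)
        exact orderOf_eq_one_iff.1 h6
      rw [h4]; exact T.one_mem
  exact S.mem_A.2 ⟨l, S.odd_mem hlT ho, rfl⟩

theorem T_comm (S : Setup G L q a f i j u t₀ T) {x y : L} (hx : x ∈ T) (hy : y ∈ T) :
    x * y = y * x := by
  rw [← S.gen] at hx hy
  obtain ⟨k, rfl⟩ := hx
  obtain ⟨l, rfl⟩ := hy
  exact (Commute.refl t₀).zpow_zpow k l

theorem A_comm (S : Setup G L q a f i j u t₀ T) {x y : G} (hx : x ∈ S.A) (hy : y ∈ S.A) :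
    x * y = y * x := by
  obtain ⟨r, hr, rfl⟩ := S.mem_A.1 hx
  obtain ⟨r', hr', rfl⟩ := S.mem_A.1 hy
  rw [← map_mul, ← map_mul, S.T_comm (S.sq_mem_T hr) (S.sq_mem_T hr')]

theorem A_comm_a (S : Setup G L q a f i j u t₀ T) {x : G} (hx : x ∈ S.A) : x * a = a * x := by
  obtain ⟨r, hr, rfl⟩ := S.mem_A.1 hx
  exact (S.hc.comm r).symm

theorem A_comm_b (S : Setup G L q a f i j u t₀ T) {x : G} (hx : x ∈ S.A) : x * f i = f i * x := by
  obtain ⟨r, hr, rfl⟩ := S.mem_A.1 hx
  rw [← map_mul, ← map_mul, S.T_comm (S.sq_mem_T hr) S.ht.i_mem]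

theorem A_comm_V (S : Setup G L q a f i j u t₀ T) {x e : G} (hx : x ∈ S.A) (he : e ∈ S.V) :
    x * e = e * x := by
  have h1 := S.A_comm_a hx
  have h2 := S.A_comm_b hx
  rcases S.mem_V.1 he with rfl | rfl | rfl | rfl
  · simp
  · exact h1
  · exact h2
  · calc x * (a * f i) = (x * a) * f i := by group
      _ = a * (x * f i) := by rw [h1]; group
      _ = a * f i * x := by rw [h2]; group

/-- `E · A` -/
def EA (S : Setup G L q a f i j u t₀ T) : Subgroup G where
  carrier := {x | ∃ e ∈ S.V, ∃ r ∈ S.A, x = e * r}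
  one_mem' := ⟨1, S.V.one_mem, 1, S.A.one_mem, by simp⟩
  mul_mem' := by
    rintro x y ⟨e, he, r, hr, rfl⟩ ⟨e', he', r', hr', rfl⟩
    refine ⟨e * e', S.V.mul_mem he he', r * r', S.A.mul_mem hr hr', ?_⟩
    calc e * r * (e' * r') = e * (r * e') * r' := by group
      _ = e * (e' * r) * r' := by rw [S.A_comm_V hr he']
      _ = _ := by group
  inv_mem' := by
    rintro x ⟨e, he, r, hr, rfl⟩
    refine ⟨e⁻¹, S.V.inv_mem he, r⁻¹, S.A.inv_mem hr, ?_⟩
    rw [← mul_inv_rev, S.A_comm_V hr he]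

theorem mem_EA (S : Setup G L q a f i j u t₀ T) {x : G} :
    x ∈ S.EA ↔ ∃ e ∈ S.V, ∃ r ∈ S.A, x = e * r := Iff.rfl

theorem EA_comm (S : Setup G L q a f i j u t₀ T) {x y : G} (hx : x ∈ S.EA) (hy : y ∈ S.EA) :
    x * y = y * x := by
  obtain ⟨e, he, r, hr, rfl⟩ := hx
  obtain ⟨e', he', r', hr', rfl⟩ := hy
  calc e * r * (e' * r') = e * (r * e') * r' := by group
      _ = e * (e' * r) * r' := by rw [S.A_comm_V hr he']
      _ = (e * e') * (r * r') := by group
      _ = (e' * e) * (r' * r) := by rw [S.V_comm he he', S.A_comm hr hr']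
      _ = e' * (e * r') * r := by group
      _ = e' * (r' * e) * r := by rw [S.A_comm_V hr' he]
      _ = _ := by group

theorem V_le_EA (S : Setup G L q a f i j u t₀ T) : S.V ≤ S.EA :=
  fun e he => ⟨e, he, 1, S.A.one_mem, by simp⟩

theorem A_le_EA (S : Setup G L q a f i j u t₀ T) : S.A ≤ S.EA :=
  fun r hr => ⟨1, S.V.one_mem, r, hr, by simp⟩

theorem odd_of_mem_A (S : Setup G L q a f i j u t₀ T) {x : G} (hx : x ∈ S.A) : Odd (orderOf x) :=
  S.s_odd.of_dvd_nat (S.A_odd hx)

/-- odd order elements of `E · A` -/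
theorem odd_EA (S : Setup G L q a f i j u t₀ T) {x : G} (hx : x ∈ S.EA) (ho : Odd (orderOf x)) :
    x ∈ S.A :=
  S.odd_cent_V (S.EA_comm hx (S.V_le_EA S.a_mem)) (S.EA_comm hx (S.V_le_EA S.b_mem)) ho

theorem ne_sq (S : Setup G L q a f i j u t₀ T) {x : G} (hx : x ∈ S.A) (h1 : x ≠ 1) : x * x ≠ 1 := by
  intro h
  have h5 : orderOf x ∣ 2 := orderOf_dvd_of_pow_eq_one (by rw [pow_two, h])
  have h6 : orderOf x = 1 := by
    rcases (Nat.dvd_prime Nat.prime_two).1 h5 with h | h
    · exact h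
    · have ho := S.odd_of_mem_A hx
      rw [h] at ho; exact absurd ho (by decide)
  exact h1 (orderOf_eq_one_iff.1 h6)

/-- involutions of `E · A` -/
theorem inv_EA (S : Setup G L q a f i j u t₀ T) {x : G} (hx : x ∈ S.EA) (h2 : x * x = 1) :
    x ∈ S.V := by
  obtain ⟨e, he, r, hr, rfl⟩ := hx
  have h3 : r * r = 1 := by
    calc r * r = (e * e) * (r * r) := by rw [S.V_sq he, one_mul]
      _ = e * (e * r) * r := by group
      _ = e * (r * e) * r := by rw [S.A_comm_V hr he]
      _ = (e * r) * (e * r) := by group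
      _ = 1 := h2
  have h4 : r = 1 := by
    by_contra h
    exact S.ne_sq hr h h3
  rw [h4, mul_one]; exact he

/-- centraliser of an element of `A#` in `C(a)` -/
theorem cent_a (S : Setup G L q a f i j u t₀ T) {x y : G} (hx : x ∈ S.A) (h1 : x ≠ 1)
    (hya : y * a = a * y) (hyx : y * x = x * y) : y ∈ S.EA := by
  have hsq := S.ne_sq hx h1
  obtain ⟨r, hr, rfl⟩ := S.mem_A.1 hx
  obtain ⟨l, hl, hcj⟩ := conj_f S.hc hya
  have h3 := hcj r
  have h4 : y * f r * y⁻¹ = f r := by rw [hyx]; group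
  rw [h4] at h3
  have h5 := S.hc.inj h3
  have h6 : l * r = r * l := by
    calc l * r = (l * r * l⁻¹) * l := by group
      _ = r * l := by rw [← h5]
  have hrr : r * r ≠ 1 := by
    intro h
    apply hsq
    rw [← map_mul, h, map_one]
  have h7 := S.ht.cent r (S.sq_mem_T hr) hrr l h6
  obtain ⟨r', hr', h8⟩ := S.mem_T_cases h7
  have h9 : f l ∈ S.EA := by
    rcases h8 with rfl | rfl
    · exact S.A_le_EA (S.mem_A.2 ⟨_, hr', rfl⟩)
    · rw [map_mul]
      exact S.EA.mul_mem (S.V_le_EA S.b_mem) (S.A_le_EA (S.mem_A.2 ⟨_, hr', rfl⟩))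
  rcases hl with rfl | rfl
  · exact h9
  · exact S.EA.mul_mem (S.V_le_EA S.a_mem) h9

end torus

section fusion

variable [Finite G]

/-- the normaliser of the four-group -/
def N (S : Setup G L q a f i j u t₀ T) : Subgroup G := normalizer (S.V : Set G)

theorem N_conj (S : Setup G L q a f i j u t₀ T) {n x : G} (hn : n ∈ S.N) (hx : x ∈ S.V) :
    n * x * n⁻¹ ∈ S.V := (mem_normalizer_iff.1 hn x).1 hx

theorem exists_swap (S : Setup G L q a f i j u t₀ T) {e : G} (he : e ∈ S.V) (h1 : e ≠ 1)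
    (hea : e ≠ a) : ∃ g ∈ S.N, g * a * g⁻¹ = e := by
  obtain ⟨g, hg⟩ := S.conjG e h1 (S.V_sq he)
  have hcomm : (g⁻¹ * a * g) * a = a * (g⁻¹ * a * g) := by
    have h2 : e * a = a * e := S.V_comm he S.a_mem
    calc (g⁻¹ * a * g) * a = g⁻¹ * (a * (g * a * g⁻¹)) * g := by group
      _ = g⁻¹ * ((g * a * g⁻¹) * a) * g := by rw [hg, h2]
      _ = a * (g⁻¹ * a * g) := by group
  obtain ⟨l, hl⟩ := S.hc.surj _ hcomm
  have hsq : (g⁻¹ * a * g) * (g⁻¹ * a * g) = 1 := by
    calc (g⁻¹ * a * g) * (g⁻¹ * a * g) = g⁻¹ * (a * a) * g := by group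
      _ = 1 := by rw [S.hc.sq]; group
  have hll : l * l = 1 := by
    apply S.hc.inj
    rw [map_mul, map_one]
    rcases hl with h | h
    · rw [← h, hsq]
    · rw [h] at hsq
      calc f l * f l = (a * a) * (f l * f l) := by rw [S.hc.sq, one_mul]
        _ = a * (a * f l) * f l := by group
        _ = a * (f l * a) * f l := by rw [S.hc.comm]
        _ = 1 := by rw [← hsq]; group
  have hl1 : l ≠ 1 := by
    rintro rfl
    rcases hl with h | h
    · apply S.hc.ne_one
      calc a = g * (g⁻¹ * a * g) * g⁻¹ := by group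
        _ = 1 := by rw [h]; simp
    · apply hea
      rw [map_one, mul_one] at h
      calc e = g * a * g⁻¹ := hg.symm
        _ = g * (g⁻¹ * a * g) * g⁻¹ := by rw [h]
        _ = a := by group
  obtain ⟨k, hk⟩ := S.conjL l hl1 hll
  have hga : (g * f k) * a * (g * f k)⁻¹ = e := by
    calc (g * f k) * a * (g * f k)⁻¹ = g * (f k * a) * (f k)⁻¹ * g⁻¹ := by group
      _ = g * (a * f k) * (f k)⁻¹ * g⁻¹ := by rw [S.hc.comm]
      _ = g * a * g⁻¹ := by group
      _ = e := hg
  have hgb : (g * f k) * f i * (g * f k)⁻¹ ∈ S.V := by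
    have h3 : (g * f k) * f i * (g * f k)⁻¹ = g * f l * g⁻¹ := by
      rw [← hk]; simp only [map_mul, map_inv]; group
    rw [h3]
    rcases hl with h | h
    · have : g * f l * g⁻¹ = a := by rw [← h]; group
      rw [this]; exact S.a_mem
    · have : g * f l * g⁻¹ = e * a := by
        have h4 : a = e * (g * f l * g⁻¹) := by
          calc a = g * (g⁻¹ * a * g) * g⁻¹ := by group
            _ = g * (a * f l) * g⁻¹ := by rw [h]
            _ = (g * a * g⁻¹) * (g * f l * g⁻¹) := by group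
            _ = _ := by rw [hg]
        calc g * f l * g⁻¹ = (e * e) * (g * f l * g⁻¹) := by rw [S.V_sq he, one_mul]
          _ = e * (e * (g * f l * g⁻¹)) := by group
          _ = e * a := by rw [← h4]
      rw [this]
      exact S.V.mul_mem he S.a_mem
  refine ⟨g * f k, mem_normalizer_of_forall ?_, hga⟩
  intro x hx
  rcases S.mem_V.1 hx with rfl | rfl | rfl | rfl
  · simp [S.V.one_mem]
  · rw [hga]; exact he
  · exact hgb
  · have : g * f k * (a * f i) * (g * f k)⁻¹ =
        ((g * f k) * a * (g * f k)⁻¹) * ((g * f k) * f i * (g * f k)⁻¹) := by group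
    rw [this, hga]
    exact S.V.mul_mem he hgb

theorem exists_swap' (S : Setup G L q a f i j u t₀ T) {e : G} (he : e ∈ S.V) (h1 : e ≠ 1) :
    ∃ g ∈ S.N, g * a * g⁻¹ = e := by
  by_cases h : e = a
  · exact ⟨1, one_mem _, by simp [h]⟩
  · exact S.exists_swap he h1 h

/-- `N(V)` normalises `A` -/
theorem N_norm_A (S : Setup G L q a f i j u t₀ T) {n x : G} (hn : n ∈ S.N) (hx : x ∈ S.A) :
    n⁻¹ * x * n ∈ S.A := by
  have key : ∀ e ∈ S.V, (n⁻¹ * x * n) * e = e * (n⁻¹ * x * n) := by
    intro e he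
    have h1 := S.A_comm_V hx (S.N_conj hn he)
    calc (n⁻¹ * x * n) * e = n⁻¹ * (x * (n * e * n⁻¹)) * n := by group
      _ = n⁻¹ * ((n * e * n⁻¹) * x) * n := by rw [h1]
      _ = _ := by group
  apply S.odd_cent_V (key a S.a_mem) (key _ S.b_mem)
  have hoz : orderOf (n⁻¹ * x * n) = orderOf x := by
    have := orderOf_injective (MulAut.conj n⁻¹).toMonoidHom (MulAut.conj n⁻¹).injective x
    simpa using this
  rw [hoz]
  exact S.odd_of_mem_A hx

theorem N_norm_EA (S : Setup G L q a f i j u t₀ T) {n x : G} (hn : n ∈ S.N) (hx : x ∈ S.EA) :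
    n⁻¹ * x * n ∈ S.EA := by
  obtain ⟨e, he, r, hr, rfl⟩ := hx
  have h1 : n⁻¹ * (e * r) * n = (n⁻¹ * e * n⁻¹⁻¹) * (n⁻¹ * r * n) := by group
  rw [h1]
  exact S.EA.mul_mem (S.V_le_EA (S.N_conj (S.N.inv_mem hn) he)) (S.A_le_EA (S.N_norm_A hn hr))

/-- centraliser of an element of `A#` in `C(e)` -/
theorem cent_e (S : Setup G L q a f i j u t₀ T) {x y e : G} (hx : x ∈ S.A) (h1 : x ≠ 1)
    (he : e ∈ S.V) (he1 : e ≠ 1) (hye : y * e = e * y) (hyx : y * x = x * y) : y ∈ S.EA := by
  obtain ⟨g, hg, hge⟩ := S.exists_swap' he he1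
  have h2 : g⁻¹ * y * g ∈ S.EA := by
    apply S.cent_a (S.N_norm_A hg hx)
    · intro h
      apply h1
      calc x = g * (g⁻¹ * x * g) * g⁻¹ := by group
        _ = 1 := by rw [h]; group
    · calc g⁻¹ * y * g * a = g⁻¹ * (y * (g * a * g⁻¹)) * g := by group
        _ = g⁻¹ * ((g * a * g⁻¹) * y) * g := by rw [hge, hye]
        _ = _ := by group
    · calc g⁻¹ * y * g * (g⁻¹ * x * g) = g⁻¹ * (y * x) * g := by group
        _ = g⁻¹ * (x * y) * g := by rw [hyx]
        _ = _ := by group
  have h3 := S.N_norm_EA (S.N.inv_mem hg) h2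
  have h4 : g⁻¹⁻¹ * (g⁻¹ * y * g) * g⁻¹ = y := by group
  rwa [h4] at h3

theorem coprime_three (S : Setup G L q a f i j u t₀ T) : ¬ 3 ∣ (q + 1) / 4 := by
  have h1 := S.q8
  have h2 := S.q3
  omega

theorem not_three_dvd (S : Setup G L q a f i j u t₀ T) {x : G} (hx : x ∈ S.A) :
    ¬ 3 ∣ orderOf x := fun h => S.coprime_three (h.trans (S.A_odd hx))

/-- elements of the centraliser of `x` normalising `V` centralise it -/
theorem norm_cent (S : Setup G L q a f i j u t₀ T) {x g : G} (hx : x ∈ S.A) (h1 : x ≠ 1)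
    (hgx : g * x = x * g) (hg : g ∈ S.N) : g ∈ S.EA := by
  by_contra hcon
  -- `g` has no fixed points
  have hfree : ∀ e ∈ S.V, e ≠ 1 → g * e * g⁻¹ ≠ e := by
    intro e he he1 h
    apply hcon
    apply S.cent_e hx h1 he he1 _ hgx
    calc g * e = (g * e * g⁻¹) * g := by group
      _ = e * g := by rw [h]
  have hinj : ∀ e e' : G, g * e * g⁻¹ = g * e' * g⁻¹ → e = e' := by
    intro e e' h
    simpa using h
  have hb := S.b_ne
  have hab := S.ab_ne_one
  have hbb := S.bb
  have haa := S.hc.sq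
  have hcm := S.hc.comm i
  have hmul : g * (a * f i) * g⁻¹ = (g * a * g⁻¹) * (g * f i * g⁻¹) := by group
  have hne1 : ∀ e : G, e ≠ 1 → g * e * g⁻¹ ≠ 1 := by
    intro e he h
    apply he
    apply hinj
    rw [h]; group
  have habm : a * f i ∈ S.V := Or.inr (Or.inr (Or.inr rfl))
  have hfa := hfree a S.a_mem S.hc.ne_one
  have hfb := hfree _ S.b_mem hb
  have hfab := hfree _ habm hab
  have hba : f i * a = a * f i := hcm.symm
  -- the cube of `g` commutes with `a`
  have hg3 : g * (g * (g * a * g⁻¹) * g⁻¹) * g⁻¹ = a := by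
    rcases S.mem_V.1 (S.N_conj hg S.a_mem) with h | h | h | h
    · exact absurd h (hne1 a S.hc.ne_one)
    · exact absurd h hfa
    · rcases S.mem_V.1 (S.N_conj hg S.b_mem) with h' | h' | h' | h'
      · exact absurd h' (hne1 _ hb)
      · exfalso
        apply hfab
        rw [hmul, h, h', hba]
      · exact absurd h' hfb
      · rw [h, h', hmul, h, h', ← mul_assoc, hba, mul_assoc, hbb, mul_one]
    · rcases S.mem_V.1 (S.N_conj hg S.b_mem) with h' | h' | h' | h'
      · exact absurd h' (hne1 _ hb)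
      · have h5 : g * (a * f i) * g⁻¹ = f i := by
          rw [hmul, h, h', mul_assoc, hba, ← mul_assoc, haa, one_mul]
        rw [h, h5, h']
      · exact absurd h' hfb
      · exfalso
        have := hinj _ _ (h.trans h'.symm)
        exact S.b_ne_a this.symm
  have hg3' : Commute (g ^ 3) a := by
    show g ^ 3 * a = a * g ^ 3
    calc g ^ 3 * a = (g * (g * (g * a * g⁻¹) * g⁻¹) * g⁻¹) * g ^ 3 := by
          rw [pow_succ, pow_two]; group
      _ = a * g ^ 3 := by rw [hg3]
  have hgx' : Commute g x := hgx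
  have hEA3 : g ^ 3 ∈ S.EA := S.cent_a hx h1 hg3'.eq (hgx'.pow_left 3).eq
  -- order of `g ^ 3`
  have hord : (g ^ 3) ^ (2 * ((q + 1) / 4)) = 1 := by
    obtain ⟨e, he, r, hr, h⟩ := hEA3
    have h2 : Commute e r := (S.A_comm_V hr he).symm
    rw [h, h2.mul_pow]
    have h3 : e ^ (2 * ((q + 1) / 4)) = 1 := by
      rw [pow_mul, pow_two, S.V_sq he, one_pow]
    have h4 : r ^ (2 * ((q + 1) / 4)) = 1 := by
      apply orderOf_dvd_iff_pow_eq_one.1
      exact (S.A_odd hr).trans (Dvd.intro_left _ rfl)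
    rw [h3, h4, one_mul]
  set n := 2 * ((q + 1) / 4) with hn
  have hn3 : ¬ 3 ∣ n := by
    rw [hn]
    have h1 := S.coprime_three
    omega
  by_cases hy : g ^ n = 1
  · -- then `g` commutes with `a`
    have h5 : Commute g a := by
      have h6 : Commute (g ^ n) a := by rw [hy]; exact Commute.one_left a
      have h7 : IsCoprime ((3 : ℕ) : ℤ) (n : ℤ) :=
        Nat.isCoprime_iff_coprime.2 ((Nat.Prime.coprime_iff_not_dvd Nat.prime_three).2 hn3)
      obtain ⟨v, w, hvw⟩ := h7
      have h8 : g = (g ^ 3) ^ v * (g ^ n) ^ w := by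
        rw [← zpow_natCast g 3, ← zpow_natCast g n, ← zpow_mul, ← zpow_mul, ← zpow_add]
        have : ((3 : ℕ) : ℤ) * v + n * w = 1 := by push_cast at hvw ⊢; linarith
        rw [this, zpow_one]
      rw [h8]
      exact (hg3'.zpow_left v).mul_left (h6.zpow_left w)
    apply hfa
    rw [h5.eq]; group
  · have hy3 : (g ^ n) ^ 3 = 1 := by
      rw [← pow_mul, mul_comm, pow_mul]; exact hord
    have ho3 : orderOf (g ^ n) = 3 := by
      have : Fact (Nat.Prime 3) := ⟨Nat.prime_three⟩
      exact orderOf_eq_prime hy3 hy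
    exact S.no3 _ ho3 x (S.odd_of_mem_A hx) (S.not_three_dvd hx) h1 (hgx'.pow_left n).eq

/-- the centraliser of an element of `A#` -/
theorem cent_x (S : Setup G L q a f i j u t₀ T) {x y : G} (hx : x ∈ S.A) (h1 : x ≠ 1)
    (hyx : y * x = x * y) : y ∈ S.EA := by
  classical
  have : Fact (Nat.Prime 2) := ⟨Nat.prime_two⟩
  let C : Subgroup G := centralizer {x}
  have hC : ∀ {z : G}, z ∈ C ↔ z * x = x * z := mem_centralizer_singleton_iff
  have hVC : S.V ≤ C := fun e he => hC.2 (S.A_comm_V hx he).symm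
  have hV2 : IsPGroup 2 (S.V.subgroupOf C) := by
    rintro ⟨⟨e, he⟩, he'⟩
    refine ⟨1, ?_⟩
    apply Subtype.ext
    apply Subtype.ext
    have h2 : e ∈ S.V := mem_subgroupOf.1 he'
    simp only [pow_one, SubmonoidClass.mk_pow, OneMemClass.coe_one]
    rw [pow_two]
    exact S.V_sq h2
  obtain ⟨P, hP⟩ := hV2.exists_le_sylow
  have hPG : IsPGroup 2 ((P : Subgroup C).map C.subtype) := P.2.map _
  have hPV : (P : Subgroup C) = S.V.subgroupOf C := by
    apply le_antisymm _ hP
    rintro ⟨z, hz⟩ hzP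
    rw [mem_subgroupOf]
    have hz' : z ∈ (P : Subgroup C).map C.subtype := ⟨⟨z, hz⟩, hzP, rfl⟩
    have ha' : a ∈ (P : Subgroup C).map C.subtype :=
      ⟨⟨a, hVC S.a_mem⟩, hP (mem_subgroupOf.2 S.a_mem), rfl⟩
    have hzz := S.two _ hPG z hz'
    have hza := comm_of_sq _ (S.two _ hPG) hz' ha'
    exact S.inv_EA (S.cent_a hx h1 hza (hC.1 hz)) hzz
  have hnorm : normalizer (P : Set C) ≤ centralizer (P : Set C) := by
    rintro ⟨g, hg⟩ hgn
    rw [mem_set_normalizer_iff] at hgn
    have hmemV : ∀ e : G, ∀ he : e ∈ C, (⟨e, he⟩ : C) ∈ (P : Set C) ↔ e ∈ S.V := by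
      intro e he
      have : (⟨e, he⟩ : C) ∈ (P : Set C) ↔ (⟨e, he⟩ : C) ∈ (P : Subgroup C) := Iff.rfl
      rw [this, hPV, mem_subgroupOf]
    have hgN : g ∈ S.N := by
      apply mem_normalizer_of_forall
      intro e he
      have h2 := (hgn ⟨e, hVC he⟩).1 ((hmemV e (hVC he)).2 he)
      exact (hmemV _ (C.mul_mem (C.mul_mem hg (hVC he)) (C.inv_mem hg))).1 h2
    have hgEA := S.norm_cent hx h1 (hC.1 hg) hgN
    rw [mem_centralizer_iff]
    rintro ⟨e, he⟩ heP
    apply Subtype.ext
    exact S.EA_comm (S.V_le_EA ((hmemV e he).1 heP)) hgEA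
  -- Burnside transfer
  have hcompl := MonoidHom.ker_transferSylow_isComplement' P hnorm
  have hdvd := MonoidHom.not_dvd_card_ker_transferSylow P hnorm
  set M' := (MonoidHom.transferSylow P hnorm).ker with hM'
  have hModd : ∀ z ∈ M'.map C.subtype, Odd (orderOf z) := by
    rintro _ ⟨z, hz, rfl⟩
    have h2 : orderOf (C.subtype z) = orderOf (⟨z, hz⟩ : M') := by
      have h3 := orderOf_injective C.subtype C.subtype_injective z
      have h4 := orderOf_injective M'.subtype M'.subtype_injective ⟨z, hz⟩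
      rw [h3, ← h4]; rfl
    rw [h2]
    rw [← Nat.not_even_iff_odd]
    intro h3
    apply hdvd
    exact (even_iff_two_dvd.1 h3).trans (orderOf_dvd_natCard _)
  have hMn : ∀ e ∈ S.V, ∀ z ∈ M'.map C.subtype, e * z * e ∈ M'.map C.subtype := by
    rintro e he _ ⟨z, hz, rfl⟩
    have h2 : M'.Normal := MonoidHom.normal_ker _
    have h3 := h2.conj_mem z hz ⟨e, hVC he⟩
    refine ⟨_, h3, ?_⟩
    simp only [subtype_apply, coe_mul, coe_inv]
    have h4 : e⁻¹ = e := inv_eq_of_mul_eq_one_left (S.V_sq he)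
    rw [h4]
  have hMc : ∀ e ∈ S.V, e ≠ 1 → ∀ z ∈ M'.map C.subtype, e * z * e = z → z ∈ S.A := by
    intro e he he1 z hz hez
    have hzC : z * x = x * z := by
      obtain ⟨z', hz', rfl⟩ := hz
      exact hC.1 z'.2
    have hze : z * e = e * z := by
      calc z * e = (e * z * e) * e := by rw [hez]
        _ = e * z * (e * e) := by group
        _ = e * z := by rw [S.V_sq he, mul_one]
    exact S.odd_EA (S.cent_e hx h1 he he1 hze hzC) (hModd z hz)
  have hMA : M'.map C.subtype ≤ S.A := by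
    apply ReeGeneric.le_of_four hModd S.hc.sq S.bb (S.hc.comm i) (hMn a S.a_mem)
      (hMn _ S.b_mem)
    · intro z hz
      have := S.A_comm_a hz
      calc a * z * a = a * (z * a) := by group
        _ = a * (a * z) := by rw [this]
        _ = (a * a) * z := by group
        _ = z := by rw [S.hc.sq, one_mul]
    · exact hMc a S.a_mem S.hc.ne_one
    · exact hMc _ S.b_mem S.b_ne
    · exact hMc _ (Or.inr (Or.inr (Or.inr rfl))) S.ab_ne_one
  -- conclusion
  have hsup := hcompl.sup_eq_top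
  have hyC : y ∈ C := hC.2 hyx
  have h5 : (M' ⊔ (P : Subgroup C)).map C.subtype ≤ S.EA := by
    rw [Subgroup.map_sup]
    apply sup_le
    · exact hMA.trans S.A_le_EA
    · rw [hPV]
      rintro _ ⟨z, hz, rfl⟩
      exact S.V_le_EA (mem_subgroupOf.1 hz)
  apply h5
  rw [hsup]
  exact ⟨⟨y, hyC⟩, mem_top _, rfl⟩

/-- elements conjugating an element of `A#` into `A` -/
theorem TI (S : Setup G L q a f i j u t₀ T) {x g : G} (hx : x ∈ S.A) (h1 : x ≠ 1)
    (hg : g⁻¹ * x * g ∈ S.A) : g ∈ S.N := by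
  apply mem_normalizer_of_forall
  intro e he
  have hy1 : g⁻¹ * x * g ≠ 1 := by
    intro h
    apply h1
    calc x = g * (g⁻¹ * x * g) * g⁻¹ := by group
      _ = 1 := by rw [h]; group
  have h2 := S.A_comm_V hg he
  have h3 : (g * e * g⁻¹) * x = x * (g * e * g⁻¹) := by
    calc (g * e * g⁻¹) * x = g * (e * (g⁻¹ * x * g)) * g⁻¹ := by group
      _ = g * ((g⁻¹ * x * g) * e) * g⁻¹ := by rw [h2]
      _ = _ := by group
  apply S.inv_EA (S.cent_x hx h1 h3)
  calc (g * e * g⁻¹) * (g * e * g⁻¹) = g * (e * e) * g⁻¹ := by group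
    _ = 1 := by rw [S.V_sq he]; group

/-- the normaliser of a non-trivial subgroup of `A` -/
theorem normalizer_eq (S : Setup G L q a f i j u t₀ T) {A₀ : Subgroup G} (hA : A₀ ≤ S.A)
    (h1 : A₀ ≠ ⊥) : normalizer (A₀ : Set G) = S.N := by
  obtain ⟨⟨x, hx⟩, hx1'⟩ := Subgroup.ne_bot_iff_exists_ne_one.1 h1
  have hx1 : x ≠ 1 := fun h => hx1' (Subtype.ext h)
  apply le_antisymm
  · intro g hg
    apply S.TI (hA hx) hx1
    have h2 := (mem_normalizer_iff.1 ((normalizer (A₀ : Set G)).inv_mem hg) x).1 hx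
    rw [inv_inv] at h2
    exact hA h2
  · intro g hg
    apply mem_normalizer_of_forall
    intro y hy
    -- conjugation by `g` is a power map on the cyclic group `A`
    have hc : f t₀ ^ 2 ∈ S.A := mem_zpowers _
    have h3 : g * (f t₀ ^ 2) * g⁻¹ ∈ S.A := by
      have := S.N_norm_A (S.N.inv_mem hg) hc
      simpa using this
    obtain ⟨k, hk⟩ := h3
    simp only at hk
    obtain ⟨l, hl⟩ := hA hy
    simp only at hl
    have h4 : g * y * g⁻¹ = y ^ k := by
      rw [← hl, ← conj_zpow, ← hk, ← zpow_mul, ← zpow_mul, mul_comm]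
    rw [h4]
    exact A₀.zpow_mem hy k

theorem j_not_mem (S : Setup G L q a f i j u t₀ T) : j ∉ T := by
  intro h
  obtain ⟨r, hr, h1 | h1⟩ := S.mem_T_cases h
  · have h2 : f r ∈ S.A := S.mem_A.2 ⟨r, hr, rfl⟩
    by_cases h3 : f r = 1
    · have : r = 1 := S.hc.inj (by rw [h3, map_one])
      exact S.hk.j_ne (h1.trans this)
    · apply S.ne_sq h2 h3
      rw [← map_mul, ← h1, S.hk.jj, map_one]
  · have h2 : f r ∈ S.A := S.mem_A.2 ⟨r, hr, rfl⟩
    have h4 : r * r = 1 := by
      have hir : i * r = r * i := S.T_comm S.ht.i_mem (S.sq_mem_T hr)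
      calc r * r = (i * i) * (r * r) := by rw [S.hk.ii, one_mul]
        _ = i * (i * r) * r := by group
        _ = i * (r * i) * r := by rw [hir]
        _ = (i * r) * (i * r) := by group
        _ = 1 := by rw [← h1, S.hk.jj]
    by_cases h3 : f r = 1
    · have : r = 1 := S.hc.inj (by rw [h3, map_one])
      rw [this, mul_one] at h1
      exact S.hk.ne h1.symm
    · apply S.ne_sq h2 h3
      rw [← map_mul, h4, map_one]

theorem cent_i_iff (S : Setup G L q a f i j u t₀ T) (x : L) :
    x * i = i * x ↔ x ∈ T ∨ x * j ∈ T := by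
  constructor
  · exact S.ht.cent_i x
  · have hcT : ∀ t ∈ T, t * i = i * t := fun t ht => S.T_comm ht S.ht.i_mem
    rintro (h | h)
    · exact hcT x h
    · have h2 := hcT _ h
      have hx : x = x * j * j := by rw [mul_assoc, S.hk.jj, mul_one]
      rw [hx]
      calc x * j * j * i = x * j * (i * j) := by rw [S.hk.ij]; group
        _ = (x * j * i) * j := by group
        _ = i * (x * j) * j := by rw [h2]
        _ = _ := by group

/-- the centraliser of `i` in `L` -/
theorem card_cent_i (S : Setup G L q a f i j u t₀ T) :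
    Nat.card {x : L // x * i = i * x} = q + 1 := by
  classical
  have hjj := S.hk.jj
  have e : T × Bool ≃ {x : L // x * i = i * x} :=
    Equiv.ofBijective (fun p => ⟨if p.2 then (p.1 : L) * j else p.1, by
      rw [S.cent_i_iff]
      cases p.2
      · left; exact p.1.2
      · right
        simp only [if_true]
        rw [mul_assoc, hjj, mul_one]
        exact p.1.2⟩) (by
      constructor
      · rintro ⟨⟨t, ht⟩, b⟩ ⟨⟨t', ht'⟩, b'⟩ h
        have h' := congrArg Subtype.val h
        simp only at h'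
        cases b <;> cases b' <;> simp only [if_true, Bool.false_eq_true, if_false] at h'
        · subst h'; rfl
        · exfalso
          apply S.j_not_mem
          have : j = t'⁻¹ * t := by rw [h']; group
          rw [this]
          exact T.mul_mem (T.inv_mem ht') ht
        · exfalso
          apply S.j_not_mem
          have : j = t⁻¹ * t' := by rw [← h']; group
          rw [this]
          exact T.mul_mem (T.inv_mem ht) ht'
        · have := mul_right_cancel h'
          subst this; rfl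
      · rintro ⟨x, hx⟩
        rcases (S.cent_i_iff x).1 hx with h | h
        · exact ⟨(⟨x, h⟩, false), rfl⟩
        · refine ⟨(⟨x * j, h⟩, true), ?_⟩
          apply Subtype.ext
          simp only [if_true]
          rw [mul_assoc, hjj, mul_one])
  rw [← Nat.card_congr e, Nat.card_prod, ← S.ht.card]
  simp [mul_comm]

/-- odd order elements in the centraliser of `i` in `L` -/
theorem card_cent_i_odd (S : Setup G L q a f i j u t₀ T) :
    Nat.card {x : L // x * i = i * x ∧ Odd (orderOf x)} = (q + 1) / 4 := by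
  rw [← S.card_A]
  apply Nat.card_congr
  refine Equiv.ofBijective (fun x => ⟨f x.1, ?_⟩) ⟨?_, ?_⟩
  · apply S.odd_cent_V (S.hc.comm _).symm
    · rw [← map_mul, x.2.1, map_mul]
    · rw [orderOf_injective f S.hc.inj]; exact x.2.2
  · rintro ⟨x, hx⟩ ⟨y, hy⟩ h
    apply Subtype.ext
    exact S.hc.inj (congrArg Subtype.val h)
  · rintro ⟨y, hy⟩
    obtain ⟨r, hr, rfl⟩ := S.mem_A.1 hy
    refine ⟨⟨r, S.T_comm (S.sq_mem_T hr) S.ht.i_mem, ?_⟩, rfl⟩
    rw [← orderOf_injective f S.hc.inj]
    exact S.odd_of_mem_A hy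

/-- counting in `C(a)` -/
theorem card_cent_a (S : Setup G L q a f i j u t₀ T) (p : L → Prop) :
    Nat.card {x : G // ∃ l, p l ∧ (x = f l ∨ x = a * f l)} = 2 * Nat.card {l : L // p l} := by
  classical
  have haa := S.hc.sq
  have e : {l : L // p l} × Bool ≃ {x : G // ∃ l, p l ∧ (x = f l ∨ x = a * f l)} :=
    Equiv.ofBijective (fun t => ⟨if t.2 then a * f t.1 else f t.1, by
      refine ⟨t.1, t.1.2, ?_⟩
      cases t.2
      · left; rfl
      · right; rfl⟩) (by
      have hne : ∀ l l' : L, f l ≠ a * f l' := by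
        intro l l' h
        apply S.hc.not_mem (l * l'⁻¹)
        rw [map_mul, h, map_inv]
        group
      constructor
      · rintro ⟨⟨l, hl⟩, b⟩ ⟨⟨l', hl'⟩, b'⟩ h
        have h' := congrArg Subtype.val h
        simp only at h'
        cases b <;> cases b' <;> simp only [if_true, Bool.false_eq_true, if_false] at h'
        · have := S.hc.inj h'
          subst this; rfl
        · exact absurd h' (hne _ _)
        · exact absurd h'.symm (hne _ _)
        · have := S.hc.inj (mul_left_cancel h')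
          subst this; rfl
      · rintro ⟨x, l, hl, h | h⟩
        · exact ⟨(⟨l, hl⟩, false), Subtype.ext h.symm⟩
        · exact ⟨(⟨l, hl⟩, true), Subtype.ext h.symm⟩)
  rw [← Nat.card_congr e, Nat.card_prod]
  simp [mul_comm]

theorem card_centralizer_a (S : Setup G L q a f i j u t₀ T) :
    Nat.card (centralizer {a} : Subgroup G) = 2 * Nat.card L := by
  have h := S.card_cent_a (fun _ => True)
  have h2 : Nat.card {l : L // True} = Nat.card L := Nat.card_congr (Equiv.subtypeUnivEquiv (fun _ => trivial))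
  rw [h2] at h
  rw [← h]
  apply Nat.card_congr
  apply Equiv.subtypeEquivRight
  intro x
  rw [mem_centralizer_singleton_iff]
  constructor
  · intro hx
    obtain ⟨l, hl⟩ := S.hc.surj x hx
    exact ⟨l, trivial, hl⟩
  · rintro ⟨l, -, rfl | rfl⟩
    · exact (S.hc.comm l).symm
    · calc a * f l * a = a * (f l * a) := by group
        _ = a * (a * f l) := by rw [S.hc.comm]

theorem N_inf (S : Setup G L q a f i j u t₀ T) :
    Nat.card (S.N ⊓ centralizer {a} : Subgroup G) = 2 * (q + 1) := by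
  rw [← S.card_cent_i, ← S.card_cent_a]
  apply Nat.card_congr
  apply Equiv.subtypeEquivRight
  intro x
  rw [mem_inf, mem_centralizer_singleton_iff]
  constructor
  · rintro ⟨hN, hx⟩
    obtain ⟨l, hl, hcj⟩ := conj_f S.hc hx
    refine ⟨l, ?_, hl⟩
    have h1 := S.N_conj hN S.b_mem
    rw [hcj] at h1
    have hne := S.hc.not_mem
    have h2 : l * i * l⁻¹ = i := by
      rcases S.mem_V.1 h1 with h | h | h | h
      · exfalso
        have h3 : l * i * l⁻¹ = 1 := S.hc.inj (by rw [h, map_one])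
        apply S.hk.i_ne
        calc i = l⁻¹ * (l * i * l⁻¹) * l := by group
          _ = 1 := by rw [h3]; group
      · exact absurd h (hne _)
      · exact S.hc.inj h
      · exfalso
        apply hne (l * i * l⁻¹ * i⁻¹)
        rw [map_mul, h, map_inv]; group
    calc l * i = (l * i * l⁻¹) * l := by group
      _ = i * l := by rw [h2]
  · rintro ⟨l, hl, hx⟩
    have hxa : x * a = a * x := by
      rcases hx with rfl | rfl
      · exact (S.hc.comm l).symm
      · calc a * f l * a = a * (f l * a) := by group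
          _ = a * (a * f l) := by rw [S.hc.comm]
    have hfl : f l * f i = f i * f l := by rw [← map_mul, hl, map_mul]
    have hxb : x * f i = f i * x := by
      rcases hx with rfl | rfl
      · exact hfl
      · calc a * f l * f i = a * (f l * f i) := by group
          _ = (a * f i) * f l := by rw [hfl]; group
          _ = (f i * a) * f l := by rw [S.hc.comm]
          _ = _ := by group
    refine ⟨?_, hxa⟩
    apply mem_normalizer_of_forall
    intro e he
    have h3 : x * e = e * x := by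
      rcases S.mem_V.1 he with rfl | rfl | rfl | rfl
      · simp
      · exact hxa
      · exact hxb
      · calc x * (a * f i) = (x * a) * f i := by group
          _ = a * (x * f i) := by rw [hxa]; group
          _ = a * f i * x := by rw [hxb]; group
    rw [h3]
    have : e * x * x⁻¹ = e := by group
    rw [this]; exact he

theorem card_N (S : Setup G L q a f i j u t₀ T) : Nat.card S.N = 6 * (q + 1) := by
  have o := card_orbit_conj S.N a
  rw [S.N_inf] at o
  have h3 : Nat.card {y : G // ∃ n ∈ S.N, n * a * n⁻¹ = y} = 3 := by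
    have h4 : {y : G | ∃ n ∈ S.N, n * a * n⁻¹ = y} = ({a, f i, a * f i} : Set G) := by
      ext y
      simp only [Set.mem_ofPred_eq, Set.mem_insert_iff, Set.mem_singleton_iff]
      constructor
      · rintro ⟨n, hn, rfl⟩
        rcases S.mem_V.1 (S.N_conj hn S.a_mem) with h | h | h | h
        · exfalso
          apply S.hc.ne_one
          calc a = n⁻¹ * (n * a * n⁻¹) * n := by group
            _ = 1 := by rw [h]; group
        · exact Or.inl h
        · exact Or.inr (Or.inl h)
        · exact Or.inr (Or.inr h)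
      · rintro (rfl | rfl | rfl)
        · exact ⟨1, one_mem _, by simp⟩
        · exact S.exists_swap' S.b_mem S.b_ne
        · exact S.exists_swap' (Or.inr (Or.inr (Or.inr rfl))) S.ab_ne_one
    have h5 : Nat.card {y : G // ∃ n ∈ S.N, n * a * n⁻¹ = y} =
        Set.ncard {y : G | ∃ n ∈ S.N, n * a * n⁻¹ = y} := rfl
    rw [h5, h4]
    have h6 : a ∉ ({f i, a * f i} : Set G) := by
      simp only [Set.mem_insert_iff, Set.mem_singleton_iff, not_or]
      refine ⟨fun h => S.b_ne_a h.symm, fun h => S.b_ne ?_⟩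
      exact (mul_eq_left.1 h.symm)
    have h7 : f i ≠ a * f i := by
      intro h
      exact S.hc.ne_one (mul_eq_right.1 h.symm)
    rw [Set.ncard_insert_of_notMem h6 (Set.toFinite _), Set.ncard_pair h7]
  rw [h3] at o
  rw [o]; ring

/-- the number of elements of even order -/
theorem card_even (S : Setup G L q a f i j u t₀ T) :
    8 * Nat.card {x : G // Even (orderOf x)} = 3 * Nat.card G := by
  have hLfin : Finite L := Finite.of_injective f S.hc.inj
  have h4G : ∀ x : G, ¬ 4 ∣ orderOf x := by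
    intro x hx
    have hpos : 0 < orderOf x := orderOf_pos x
    have ho : orderOf (x ^ (orderOf x / 4)) = 4 := by
      rw [orderOf_pow_of_dvd]
      · obtain ⟨k, hk⟩ := hx
        rw [hk] at hpos ⊢
        have hk0 : 0 < k := by omega
        have : 4 * k / 4 = k := by omega
        rw [this, Nat.mul_div_cancel _ hk0]
      · obtain ⟨k, hk⟩ := hx
        omega
      · exact Nat.div_dvd_of_dvd hx
    have h2 : IsPGroup 2 (zpowers (x ^ (orderOf x / 4))) := by
      apply IsPGroup.of_card (n := 2)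
      rw [Nat.card_zpowers, ho]; norm_num
    have h3 := S.two _ h2 _ (mem_zpowers _)
    rw [← pow_two] at h3
    have h5 := orderOf_dvd_of_pow_eq_one h3
    rw [ho] at h5
    exact absurd h5 (by norm_num)
  have h4L : ∀ x : L, ¬ 4 ∣ orderOf x := by
    intro x
    rw [← orderOf_injective f S.hc.inj]
    exact h4G _
  have e1 := ReeGeneric.card_even_mul S.hc.ne_one S.hc.sq S.conjG h4G
  have e2 := ReeGeneric.card_even_mul S.hk.i_ne S.hk.ii S.conjL h4L
  have e3 : Nat.card (centralizer {i} : Subgroup L) = q + 1 := by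
    rw [← S.card_cent_i]
    apply Nat.card_congr
    apply Equiv.subtypeEquivRight
    intro x
    rw [mem_centralizer_singleton_iff]
  rw [e3, S.card_cent_i_odd] at e2
  have e4 := ReeGeneric.card_even_add_odd (G := L)
  rw [S.card_centralizer_a] at e1
  have e5 : Nat.card {y : G // y * a = a * y ∧ Odd (orderOf y)} =
      Nat.card {l : L // Odd (orderOf l)} := by
    symm
    apply Nat.card_congr
    refine Equiv.ofBijective (fun l => ⟨f l.1, (S.hc.comm _).symm, ?_⟩) ⟨?_, ?_⟩
    · rw [orderOf_injective f S.hc.inj]; exact l.2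
    · rintro ⟨x, hx⟩ ⟨y, hy⟩ h
      apply Subtype.ext
      exact S.hc.inj (congrArg Subtype.val h)
    · rintro ⟨y, hy, hyo⟩
      obtain ⟨l, h | h⟩ := S.hc.surj y hy
      · refine ⟨⟨l, ?_⟩, Subtype.ext h.symm⟩
        rw [← orderOf_injective f S.hc.inj, ← h]; exact hyo
      · exfalso
        have h3 : y ^ orderOf y = 1 := pow_orderOf_eq_one y
        obtain ⟨k, hk⟩ := hyo
        have h4 : Commute a (f l) := S.hc.comm l
        rw [h, h4.mul_pow, ← h, hk, pow_succ, pow_mul, pow_two, S.hc.sq, one_pow, one_mul,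
          ← map_pow] at h3
        apply S.hc.not_mem (l ^ (2 * k + 1))⁻¹
        rw [map_inv]
        exact inv_eq_of_mul_eq_one_left h3
  rw [e5] at e1
  have h8 := S.q8
  have hL : 0 < Nat.card L := Nat.card_pos
  generalize Nat.card {l : L // Odd (orderOf l)} = o at *
  generalize Nat.card {l : L // Even (orderOf l)} = e at *
  generalize Nat.card {x : G // Even (orderOf x)} = E at *
  have hs : q + 1 = 4 * ((q + 1) / 4) := by omega
  have hspos : 0 < (q + 1) / 4 := by omega
  generalize (q + 1) / 4 = s at *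
  rw [hs] at e2
  have h6 : 4 * e = Nat.card L := by
    apply Nat.eq_of_mul_eq_mul_right hspos
    calc 4 * e * s = e * (4 * s) := by ring
      _ = _ := e2
  have h7 : 4 * o = 3 * Nat.card L := by omega
  apply Nat.eq_of_mul_eq_mul_right hL
  calc 8 * E * Nat.card L = 4 * (E * (2 * Nat.card L)) := by ring
    _ = 4 * (Nat.card G * o) := by rw [e1]
    _ = Nat.card G * (4 * o) := by ring
    _ = _ := by rw [h7]; ring

end fusion

end Setup


end Cfsg.Agent.LieRecognition.ReeTorusB
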