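import Mathlib
import Cfsg.Agent.LieRecognition.ReeTorusB

/-!
# Classification and count of the elements of the small Ree groups
-/

set_option autoImplicit false
set_option linter.unusedSectionVars false

namespace Cfsg.Agent.LieRecognition.ReeClass

open Subgroup
open Cfsg.Agent.LieRecognition.ReeInv
open Cfsg.Agent.LieRecognition.ReeTorusB

section arith

theorem q_mod_eight (m : ℕ) : 3 ^ (2 * m + 1) % 8 = 3 := by
  rw [pow_succ, pow_mul, Nat.mul_mod, Nat.pow_mod]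
  norm_num

theorem exists_k (m : ℕ) : ∃ k, 3 ^ (2 * m + 1) = 8 * k + 3 :=
  ⟨3 ^ (2 * m + 1) / 8, by have := q_mod_eight m; omega⟩

theorem three_dvd (m : ℕ) : 3 ∣ 3 ^ (2 * m + 1) := dvd_pow_self 3 (by omega)

theorem eq_three {m p : ℕ} (hp : p.Prime) (h : p ∣ 3 ^ (2 * m + 1)) : p = 3 :=
  (Nat.prime_dvd_prime_iff_eq hp Nat.prime_three).1 (hp.dvd_of_dvd_pow h)

/-- the arithmetic of `q` -/
structure Arith (q : ℕ) : Prop where
  q8 : q % 8 = 3
  three : 3 ∣ q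
  eq_three : ∀ p, p.Prime → p ∣ q → p = 3

theorem arith (m : ℕ) : Arith (3 ^ (2 * m + 1)) :=
  ⟨q_mod_eight m, three_dvd m, fun _ hp h => eq_three hp h⟩

variable {q : ℕ}

theorem Arith.sub_one (h : Arith q) : q - 1 + 1 = q := by have := h.q8; omega

theorem Arith.Q_eq (_ : Arith q) : q ^ 2 - q + 1 + q = q ^ 2 + 1 := by
  have : q ≤ q ^ 2 := by nlinarith [Nat.zero_le q, sq_nonneg (q : ℤ), Nat.le_self_pow two_ne_zero q]
  omega

theorem Arith.cube (h : Arith q) : q ^ 3 + 1 = (q + 1) * (q ^ 2 - q + 1) := by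
  have h1 := h.Q_eq
  generalize q ^ 2 - q + 1 = Q at *
  zify at *
  have : (Q : ℤ) = q ^ 2 + 1 - q := by linarith
  rw [this]; ring

theorem Arith.three_not (h : Arith q) : ¬ 3 ∣ q + 1 ∧ ¬ 3 ∣ q - 1 ∧ ¬ 3 ∣ q ^ 2 - q + 1 ∧ ¬ 3 ∣ q ^ 3 + 1 := by
  have h3 := h.three
  have h8 := h.q8
  have h1 := h.Q_eq
  have h4 : 3 ∣ q ^ 2 := dvd_pow h3 two_ne_zero
  have h5 : 3 ∣ q ^ 3 := dvd_pow h3 (by norm_num)
  refine ⟨by omega, by omega, by omega, by omega⟩

/-- a prime dividing `q² - q + 1` and one of the other factors -/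
theorem Arith.prime_Q (h : Arith q) {p : ℕ} (hp : p.Prime) (hQ : p ∣ q ^ 2 - q + 1) :
    p ≠ 2 ∧ p ≠ 3 ∧ ¬ p ∣ q ∧ ¬ p ∣ q - 1 ∧ ¬ p ∣ q + 1 := by
  have h1 := h.Q_eq
  have h3 := h.three_not.2.2.1
  have hne3 : p ≠ 3 := by rintro rfl; exact h3 hQ
  have hq : ¬ p ∣ q := fun hh => hne3 (h.eq_three p hp hh)
  have hsub := h.sub_one
  have e1 : q ^ 2 - q + 1 = (q - 1) * q + 1 := by
    generalize q ^ 2 - q + 1 = Q at *
    generalize q - 1 = s at *
    subst hsub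
    nlinarith
  have e2 : q ^ 2 - q + 1 = (q + 1) * (q - 2) + 3 := by
    have h8 := h.q8
    obtain ⟨s, rfl⟩ : ∃ s, q = s + 2 := ⟨q - 2, by omega⟩
    generalize (s + 2) ^ 2 - (s + 2) + 1 = Q at *
    simp only [Nat.add_sub_cancel]
    nlinarith
  refine ⟨?_, hne3, hq, ?_, ?_⟩
  · rintro rfl
    rw [e1] at hQ
    have h8 := h.q8
    have : 2 ∣ (q - 1) * q := Dvd.dvd.mul_right (by omega) _
    omega
  · intro hh
    rw [e1] at hQ
    have h5 : p ∣ 1 := (Nat.dvd_add_right (hh.mul_right q)).1 hQ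
    exact hp.one_lt.ne' (Nat.dvd_one.1 h5)
  · intro hh
    rw [e2] at hQ
    have h5 : p ∣ 3 := (Nat.dvd_add_right (hh.mul_right _)).1 hQ
    exact hne3 ((Nat.prime_dvd_prime_iff_eq hp Nat.prime_three).1 h5)

theorem Arith.coprime_Q (h : Arith q) {d : ℕ} (hd : d ∣ q ^ 2 - q + 1)
    (hd' : d ∣ 18 * (q * (q - 1) * (q + 1))) : d = 1 := by
  by_contra hne
  obtain ⟨p, hp, hpd⟩ := Nat.exists_prime_and_dvd hne
  obtain ⟨h2, h3, hq, hq1, hq2⟩ := h.prime_Q hp (hpd.trans hd)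
  have h4 := hpd.trans hd'
  rw [hp.dvd_mul, hp.dvd_mul, hp.dvd_mul] at h4
  rcases h4 with h5 | (h5 | h5) | h5
  · have : (18 : ℕ) = 2 * 3 ^ 2 := by norm_num
    rw [this, hp.dvd_mul] at h5
    rcases h5 with h6 | h6
    · exact h2 ((Nat.prime_dvd_prime_iff_eq hp Nat.prime_two).1 h6)
    · exact h3 ((Nat.prime_dvd_prime_iff_eq hp Nat.prime_three).1 (hp.dvd_of_dvd_pow h6))
  · exact hq h5
  · exact hq1 h5
  · exact hq2 h5

end arith

/-- local data -/
structure Local (G : Type*) [Group G] (q : ℕ) (U B H A N : Subgroup G) : Prop where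
  card_G : Nat.card G = q ^ 3 * (q - 1) * (q ^ 3 + 1)
  card_U : Nat.card U = q ^ 3
  card_B : Nat.card B = q ^ 3 * (q - 1)
  B_U : ∀ g ∈ B, ∀ x ∈ U, g⁻¹ * x * g ∈ U
  TI_U : ∀ x ∈ U, x ≠ 1 → ∀ g, g⁻¹ * x * g ∈ U → g ∈ B
  U_exp : ∀ v ∈ U, v ^ 9 = 1
  cent_U : ∀ x ∈ U, x ≠ 1 → ∀ y, y * x = x * y → y ^ 18 = 1 ∧ (Odd (orderOf y) → y ∈ U)
  card_H : Nat.card H = q - 1
  A_le : A ≤ H
  card_A : Nat.card A = (q - 1) / 2
  card_N : Nat.card N = 2 * (q - 1)
  odd_H : ∀ x ∈ H, Odd (orderOf x) → x ∈ A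
  cent_A : ∀ x ∈ A, x ≠ 1 → ∀ y, y * x = x * y → y ∈ H
  N_A : ∀ g ∈ N, ∀ x ∈ A, g⁻¹ * x * g ∈ A
  TI_A : ∀ x ∈ A, x ≠ 1 → ∀ g, g⁻¹ * x * g ∈ A → g ∈ N

section main

variable {G : Type*} [Group G] [Finite G] {q : ℕ} {U B H A N : Subgroup G}

theorem orderOf_conj (x g : G) : orderOf (g⁻¹ * x * g) = orderOf x := by
  have := orderOf_injective (MulAut.conj g⁻¹).toMonoidHom (MulAut.conj g⁻¹).injective x
  simpa using this

theorem conj_ne {x : G} (hx : x ≠ 1) (g : G) : g⁻¹ * x * g ≠ 1 := by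
  intro h
  apply hx
  calc x = g * (g⁻¹ * x * g) * g⁻¹ := by group
    _ = 1 := by rw [h]; group

theorem conj_comm {x y : G} (h : y * x = x * y) (g : G) :
    (g⁻¹ * y * g) * (g⁻¹ * x * g) = (g⁻¹ * x * g) * (g⁻¹ * y * g) := by
  calc (g⁻¹ * y * g) * (g⁻¹ * x * g) = g⁻¹ * (y * x) * g := by group
    _ = g⁻¹ * (x * y) * g := by rw [h]
    _ = _ := by group

theorem index_U (D : Local G q U B H A N) (a : Arith q) : ¬ 3 ∣ U.index := by
  have h1 := U.card_mul_index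
  rw [D.card_U, D.card_G, mul_assoc] at h1
  have hpos : 0 < q ^ 3 := by
    have := a.q8
    apply Nat.pow_pos; omega
  have h2 := Nat.eq_of_mul_eq_mul_left hpos h1
  rw [h2, Nat.prime_three.dvd_mul]
  rintro (h | h)
  · exact a.three_not.2.1 h
  · exact a.three_not.2.2.2 h

theorem index_A (D : Local G q U B H A N) (a : Arith q) (hA : 0 < (q - 1) / 2) {p : ℕ} (hp : p.Prime) (hp2 : p ≠ 2)
    (hpq : p ∣ q - 1) : ¬ p ∣ A.index := by
  have h8 := a.q8
  have h1 := A.card_mul_index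
  rw [D.card_A, D.card_G] at h1
  have h2 : q - 1 = 2 * ((q - 1) / 2) := by omega
  have h3 : A.index = 2 * (q ^ 3 * (q ^ 3 + 1)) := by
    apply Nat.eq_of_mul_eq_mul_left hA
    rw [h1]
    calc q ^ 3 * (q - 1) * (q ^ 3 + 1) = q ^ 3 * (2 * ((q - 1) / 2)) * (q ^ 3 + 1) := by rw [← h2]
      _ = _ := by ring
  have hp1 : ∀ h : p ∣ 1, False := fun h => hp.one_lt.ne' (Nat.dvd_one.1 h)
  have hp2' : ¬ p ∣ 2 := fun h => hp2 ((Nat.prime_dvd_prime_iff_eq hp Nat.prime_two).1 h)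
  have hq : ¬ p ∣ q := by
    intro h
    have h5 := (Nat.dvd_sub h hpq)
    have : q - (q - 1) = 1 := by omega
    rw [this] at h5
    exact hp1 h5
  rw [h3, hp.dvd_mul, hp.dvd_mul]
  rintro (h | h | h)
  · exact hp2' h
  · exact hq (hp.dvd_of_dvd_pow h)
  · rw [a.cube, hp.dvd_mul] at h
    rcases h with h | h
    · have h5 := (Nat.dvd_sub h hpq)
      have : q + 1 - (q - 1) = 2 := by omega
      rw [this] at h5
      exact hp2' h5
    · exact (a.prime_Q hp h).2.2.2.1 hpq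

variable {L : Type*} [Group L] {a : G} {f : L →* G} {i j u t₀ : L} {T : Subgroup L}

theorem no3 (D : Local G q U B H A N) (a : Arith q) (y : G) (hy : orderOf y = 3) (z : G)
    (hz : Odd (orderOf z)) (h3 : ¬ 3 ∣ orderOf z) (hz1 : z ≠ 1) : y * z ≠ z * y := by
  intro hyz
  have : Fact (Nat.Prime 3) := ⟨Nat.prime_three⟩
  obtain ⟨g, hg⟩ := ReeGeneric.exists_conj_mem_of_orderOf U (index_U D a) hy
  have hy1 : y ≠ 1 := by
    rintro rfl
    rw [orderOf_one] at hy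
    omega
  have h4 := (D.cent_U _ hg (conj_ne hy1 g) _ (conj_comm hyz.symm g)).2 (by rw [orderOf_conj]; exact hz)
  have h5 := D.U_exp _ h4
  have h6 := orderOf_dvd_of_pow_eq_one h5
  rw [orderOf_conj] at h6
  have h7 : orderOf z ∣ 3 ^ 2 := by norm_num; exact h6
  rw [Nat.dvd_prime_pow Nat.prime_three] at h7
  obtain ⟨k, hk, h8⟩ := h7
  cases k with
  | zero => exact hz1 (orderOf_eq_one_iff.1 (by simpa using h8))
  | succ k => exact h3 (by rw [h8]; exact dvd_pow_self 3 (by omega))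

theorem index_S (D : Local G q U B H A N) (ar : Arith q) (S : Setup G L q a f i j u t₀ T) {p : ℕ}
    (hp : p.Prime) (hp2 : p ≠ 2) (hpq : p ∣ q + 1) : ¬ p ∣ S.A.index := by
  have h8 := ar.q8
  have h1 := S.A.card_mul_index
  rw [S.card_A, D.card_G] at h1
  have h2 : q + 1 = 4 * ((q + 1) / 4) := by omega
  have h3 : S.A.index = 4 * (q ^ 3 * (q - 1) * (q ^ 2 - q + 1)) := by
    have hpos : 0 < (q + 1) / 4 := by omega
    apply Nat.eq_of_mul_eq_mul_left hpos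
    rw [h1, ar.cube]
    calc q ^ 3 * (q - 1) * ((q + 1) * (q ^ 2 - q + 1)) =
        q ^ 3 * (q - 1) * ((4 * ((q + 1) / 4)) * (q ^ 2 - q + 1)) := by rw [← h2]
      _ = _ := by ring
  have hp1 : ∀ h : p ∣ 1, False := fun h => hp.one_lt.ne' (Nat.dvd_one.1 h)
  have hp2' : ¬ p ∣ 2 := fun h => hp2 ((Nat.prime_dvd_prime_iff_eq hp Nat.prime_two).1 h)
  have hq : ¬ p ∣ q := by
    intro h
    exact hp1 ((Nat.dvd_add_right h).1 hpq)
  rw [h3, hp.dvd_mul, hp.dvd_mul, hp.dvd_mul]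
  rintro (h | (h | h) | h)
  · have : (4 : ℕ) = 2 ^ 2 := by norm_num
    rw [this] at h
    exact hp2' (hp.dvd_of_dvd_pow h)
  · exact hq (hp.dvd_of_dvd_pow h)
  · have h5 := (Nat.dvd_sub hpq h)
    have : q + 1 - (q - 1) = 2 := by omega
    rw [this] at h5
    exact hp2' h5
  · exact (ar.prime_Q hp h).2.2.2.2 hpq

/-- the order of `C(a)` -/
theorem card_centralizer (S : Setup G L q a f i j u t₀ T) :
    Nat.card (centralizer {a} : Subgroup G) = q * (q ^ 2 - 1) := by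
  rw [S.card_centralizer_a, mul_comm, S.ht.cardL]

/-- centralisers of elements of order dividing `q² - q + 1` -/
theorem card_centralizer_dvd (D : Local G q U B H A N) (ar : Arith q)
    (S : Setup G L q a f i j u t₀ T) {x : G} (hx : x ≠ 1) (hxQ : orderOf x ∣ q ^ 2 - q + 1) :
    Nat.card (centralizer {x} : Subgroup G) ∣ q ^ 2 - q + 1 := by
  have h8 := ar.q8
  have hcG : Nat.card (centralizer {x} : Subgroup G) ∣ Nat.card G := Subgroup.card_subgroup_dvd_card _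
  have hG : Nat.card G = (q ^ 3 * (q - 1) * (q + 1)) * (q ^ 2 - q + 1) := by
    rw [D.card_G, ar.cube]; ring
  rw [hG] at hcG
  have hox : ¬ orderOf x = 1 := fun h => hx (orderOf_eq_one_iff.1 h)
  apply Nat.Coprime.dvd_of_dvd_mul_left _ hcG
  rw [Nat.coprime_iff_isRelPrime] 
  rw [← Nat.coprime_iff_isRelPrime]
  apply Nat.Coprime.symm
  apply Nat.coprime_of_dvd
  intro r hr h1 h2
  have : Fact r.Prime := ⟨hr⟩
  obtain ⟨⟨z, hz⟩, hzo⟩ := exists_prime_orderOf_dvd_card' r h2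
  rw [Subgroup.orderOf_mk] at hzo
  rw [mem_centralizer_singleton_iff] at hz
  have hz1 : z ≠ 1 := by
    rintro rfl
    rw [orderOf_one] at hzo
    exact hr.one_lt.ne hzo
  by_cases hr2 : r = 2
  · subst hr2
    have hzz : z * z = 1 := by rw [← pow_two, ← hzo, pow_orderOf_eq_one]
    obtain ⟨g, hg⟩ := S.conjG z hz1 hzz
    have h3 : g⁻¹ * x * g ∈ centralizer {a} := by
      rw [mem_centralizer_singleton_iff]
      have h4 := conj_comm hz.symm g
      have h5 : g⁻¹ * z * g = a := by rw [← hg]; group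
      rw [h5] at h4
      exact h4
    have h4 : orderOf (g⁻¹ * x * g) ∣ q * (q ^ 2 - 1) := by
      rw [← card_centralizer S]
      have := orderOf_dvd_natCard (⟨_, h3⟩ : (centralizer {a} : Subgroup G))
      rwa [Subgroup.orderOf_mk] at this
    rw [orderOf_conj] at h4
    apply hox
    apply ar.coprime_Q hxQ
    refine h4.trans ?_
    have : q ^ 2 - 1 = (q - 1) * (q + 1) := by
      rw [mul_comm, ← Nat.sq_sub_sq]; 
    rw [this, ← mul_assoc]
    exact Dvd.intro_left _ rfl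
  · rw [hr.dvd_mul, hr.dvd_mul] at h1
    rcases h1 with (h1 | h1) | h1
    · have h3 : r = 3 := ar.eq_three r hr (hr.dvd_of_dvd_pow h1)
      subst h3
      obtain ⟨g, hg⟩ := ReeGeneric.exists_conj_mem_of_orderOf U (index_U D ar) hzo
      have h4 := (D.cent_U _ hg (conj_ne hz1 g) _ (conj_comm hz.symm g)).1
      have h5 := orderOf_dvd_of_pow_eq_one h4
      rw [orderOf_conj] at h5
      apply hox
      apply ar.coprime_Q hxQ
      exact h5.trans (Dvd.intro _ rfl)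
    · have hpos : 0 < (q - 1) / 2 := by
        by_contra h0
        have : q - 1 = 0 ∨ q - 1 = 1 := by omega
        omega
      obtain ⟨g, hg⟩ := ReeGeneric.exists_conj_mem_of_orderOf A (index_A D ar hpos hr hr2 h1) hzo
      have h4 := (D.cent_A _ hg (conj_ne hz1 g) _ (conj_comm hz.symm g))
      have h5 : orderOf (g⁻¹ * x * g) ∣ q - 1 := by
        rw [← D.card_H]
        have := orderOf_dvd_natCard (⟨_, h4⟩ : H)
        rwa [Subgroup.orderOf_mk] at this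
      rw [orderOf_conj] at h5
      apply hox
      apply ar.coprime_Q hxQ
      refine h5.trans ?_
      have : 18 * (q * (q - 1) * (q + 1)) = (q - 1) * (18 * q * (q + 1)) := by ring
      rw [this]
      exact Dvd.intro _ rfl
    · obtain ⟨g, hg⟩ := ReeGeneric.exists_conj_mem_of_orderOf S.A (index_S D ar S hr hr2 h1) hzo
      have h4 := (S.cent_x hg (conj_ne hz1 g) (conj_comm hz.symm g))
      have hodd : Odd (orderOf (g⁻¹ * x * g)) := by
        rw [orderOf_conj]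
        apply Odd.of_dvd_nat _ hxQ
        rw [← Nat.not_even_iff_odd, even_iff_two_dvd]
        intro h
        exact (ar.prime_Q Nat.prime_two h).1 rfl
      have h5 := S.A_odd (S.odd_EA h4 hodd)
      rw [orderOf_conj] at h5
      apply hox
      apply ar.coprime_Q hxQ
      refine h5.trans ?_
      have h6 : (q + 1) / 4 ∣ q + 1 := Nat.div_dvd_of_dvd (by omega)
      exact h6.trans (Dvd.intro_left _ (by ring : 18 * (q * (q - 1)) * (q + 1) = _))

/-- classification of the elements of odd order -/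
theorem classify (D : Local G q U B H A N) (ar : Arith q)
    (S : Setup G L q a f i j u t₀ T) {x : G} (hx : x ≠ 1) (ho : Odd (orderOf x)) :
    (∃ g, g⁻¹ * x * g ∈ U) ∨ (∃ g, g⁻¹ * x * g ∈ A) ∨ (∃ g, g⁻¹ * x * g ∈ S.A) ∨
      orderOf x ∣ q ^ 2 - q + 1 := by
  have h8 := ar.q8
  have hox : orderOf x ≠ 1 := fun h => hx (orderOf_eq_one_iff.1 h)
  obtain ⟨p, hp, hpx⟩ := Nat.exists_prime_and_dvd hox
  have : Fact p.Prime := ⟨hp⟩
  have hp2 : p ≠ 2 := by
    rintro rfl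
    rw [← Nat.not_even_iff_odd, even_iff_two_dvd] at ho
    exact ho hpx
  have hpos : 0 < orderOf x := orderOf_pos x
  have hy : orderOf (x ^ (orderOf x / p)) = p := by
    obtain ⟨k, hk⟩ := hpx
    have hk0 : 0 < k := by
      rcases Nat.eq_zero_or_pos k with h | h
      · rw [h, mul_zero] at hk; omega
      · exact h
    rw [orderOf_pow_of_dvd]
    · rw [hk, Nat.mul_div_cancel_left _ hp.pos, Nat.mul_div_cancel _ hk0]
    · rw [hk, Nat.mul_div_cancel_left _ hp.pos]; omega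
    · exact Nat.div_dvd_of_dvd ⟨k, hk⟩
  set y := x ^ (orderOf x / p) with hyx
  have hxy : x * y = y * x := ((Commute.refl x).pow_right _).eq
  have hy1 : y ≠ 1 := by
    intro h
    rw [h, orderOf_one] at hy
    exact hp.one_lt.ne hy
  have hpG : p ∣ q ^ 3 * (q - 1) * ((q + 1) * (q ^ 2 - q + 1)) := by
    rw [← ar.cube, ← D.card_G, ← hy]
    exact orderOf_dvd_natCard y
  rw [hp.dvd_mul, hp.dvd_mul, hp.dvd_mul] at hpG
  rcases hpG with (h1 | h1) | (h1 | h1)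
  · have h3 : p = 3 := ar.eq_three p hp (hp.dvd_of_dvd_pow h1)
    subst h3
    obtain ⟨g, hg⟩ := ReeGeneric.exists_conj_mem_of_orderOf U (index_U D ar) hy
    left
    exact ⟨g, (D.cent_U _ hg (conj_ne hy1 g) _ (conj_comm hxy g)).2 (by rw [orderOf_conj]; exact ho)⟩
  · have hpos : 0 < (q - 1) / 2 := by omega
    obtain ⟨g, hg⟩ := ReeGeneric.exists_conj_mem_of_orderOf A (index_A D ar hpos hp hp2 h1) hy
    right; left
    exact ⟨g, D.odd_H _ (D.cent_A _ hg (conj_ne hy1 g) _ (conj_comm hxy g))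
      (by rw [orderOf_conj]; exact ho)⟩
  · obtain ⟨g, hg⟩ := ReeGeneric.exists_conj_mem_of_orderOf S.A (index_S D ar S hp hp2 h1) hy
    right; right; left
    exact ⟨g, S.odd_EA (S.cent_x hg (conj_ne hy1 g) (conj_comm hxy g))
      (by rw [orderOf_conj]; exact ho)⟩
  · right; right; right
    have h2 := card_centralizer_dvd D ar S hy1 (by rw [hy]; exact h1)
    have h3 : x ∈ (centralizer {y} : Subgroup G) := mem_centralizer_singleton_iff.2 hxy
    have h4 := orderOf_dvd_natCard (⟨x, h3⟩ : (centralizer {y} : Subgroup G))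
    rw [Subgroup.orderOf_mk] at h4
    exact h4.trans h2

/-- disjointness from coprime exponents -/
theorem eq_one_of_pows {x : G} {m n : ℕ} (hm : orderOf x ∣ m) (hn : orderOf x ∣ n)
    (h : Nat.Coprime m n) : x = 1 := by
  have h1 : orderOf x ∣ Nat.gcd m n := Nat.dvd_gcd hm hn
  rw [h] at h1
  exact orderOf_eq_one_iff.1 (Nat.dvd_one.1 h1)

/-- counting: five disjoint sets -/
theorem count_aux (D : Local G q U B H A N) (ar : Arith q)
    (S : Setup G L q a f i j u t₀ T) :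
    Nat.card G = Nat.card {x : G // Even (orderOf x)} + 1 +
      Nat.card {y : G // y ≠ 1 ∧ ∃ g : G, g⁻¹ * y * g ∈ U} +
      Nat.card {y : G // y ≠ 1 ∧ ∃ g : G, g⁻¹ * y * g ∈ A} +
      Nat.card {y : G // y ≠ 1 ∧ ∃ g : G, g⁻¹ * y * g ∈ S.A} +
      Nat.card {x : G // x ≠ 1 ∧ orderOf x ∣ q ^ 2 - q + 1} := by
  classical
  have h8 := ar.q8
  -- the sets
  let s0 : Set G := {x | Even (orderOf x)}
  let s1 : Set G := {1}
  let s2 : Set G := {y | y ≠ 1 ∧ ∃ g : G, g⁻¹ * y * g ∈ U}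
  let s3 : Set G := {y | y ≠ 1 ∧ ∃ g : G, g⁻¹ * y * g ∈ A}
  let s4 : Set G := {y | y ≠ 1 ∧ ∃ g : G, g⁻¹ * y * g ∈ S.A}
  let s5 : Set G := {x | x ≠ 1 ∧ orderOf x ∣ q ^ 2 - q + 1}
  have o2 : ∀ x ∈ s2, orderOf x ∣ 9 := by
    rintro x ⟨-, g, hg⟩
    have := orderOf_dvd_of_pow_eq_one (D.U_exp _ hg)
    rwa [orderOf_conj] at this
  have o3 : ∀ x ∈ s3, orderOf x ∣ (q - 1) / 2 := by
    rintro x ⟨-, g, hg⟩
    have := orderOf_dvd_natCard (⟨_, hg⟩ : A)
    rwa [Subgroup.orderOf_mk, orderOf_conj, D.card_A] at this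
  have o4 : ∀ x ∈ s4, orderOf x ∣ (q + 1) / 4 := by
    rintro x ⟨-, g, hg⟩
    have := S.A_odd hg
    rwa [orderOf_conj] at this
  have o5 : ∀ x ∈ s5, orderOf x ∣ q ^ 2 - q + 1 := fun x hx => hx.2
  have d3 : (q - 1) / 2 ∣ q - 1 := Nat.div_dvd_of_dvd (by omega)
  have d4 : (q + 1) / 4 ∣ q + 1 := Nat.div_dvd_of_dvd (by omega)
  have odd9 : Odd 9 := by decide
  have odd3 : Odd ((q - 1) / 2) := by rw [Nat.odd_iff]; omega
  have odd4 : Odd ((q + 1) / 4) := S.s_odd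
  have odd5 : Odd (q ^ 2 - q + 1) := by
    rw [← Nat.not_even_iff_odd, even_iff_two_dvd]
    intro h
    exact (ar.prime_Q Nat.prime_two h).1 rfl
  have c2 : ∀ n, ¬ 3 ∣ n → Nat.Coprime 9 n := by
    intro n hn
    have : (9 : ℕ) = 3 ^ 2 := by norm_num
    rw [this]
    exact Nat.Coprime.pow_left 2 ((Nat.Prime.coprime_iff_not_dvd Nat.prime_three).2 hn)
  have c23 : Nat.Coprime 9 ((q - 1) / 2) := c2 _ (fun h => ar.three_not.2.1 (h.trans d3))
  have c24 : Nat.Coprime 9 ((q + 1) / 4) := c2 _ (fun h => ar.three_not.1 (h.trans d4))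
  have c25 : Nat.Coprime 9 (q ^ 2 - q + 1) := c2 _ ar.three_not.2.2.1
  have c34 : Nat.Coprime ((q - 1) / 2) ((q + 1) / 4) := by
    apply Nat.coprime_of_dvd
    intro p hp h1 h2
    have h3 := Nat.dvd_sub (h2.trans d4) (h1.trans d3)
    have h4 : q + 1 - (q - 1) = 2 := by omega
    rw [h4] at h3
    have h5 := (Nat.prime_dvd_prime_iff_eq hp Nat.prime_two).1 h3
    subst h5
    rw [Nat.odd_iff] at odd3
    omega
  have c35 : Nat.Coprime ((q - 1) / 2) (q ^ 2 - q + 1) := by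
    apply Nat.coprime_of_dvd
    intro p hp h1 h2
    exact (ar.prime_Q hp h2).2.2.2.1 (h1.trans d3)
  have c45 : Nat.Coprime ((q + 1) / 4) (q ^ 2 - q + 1) := by
    apply Nat.coprime_of_dvd
    intro p hp h1 h2
    exact (ar.prime_Q hp h2).2.2.2.2 (h1.trans d4)
  have hodd : ∀ x : G, ∀ n, Odd n → orderOf x ∣ n → x ∉ s0 := by
    intro x n hn hx h
    have h1 : Odd (orderOf x) := hn.of_dvd_nat hx
    exact (Nat.not_even_iff_odd.2 h1) h
  have e0 : ∀ s : Set G, Nat.card s = s.ncard := fun s => rfl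
  have hcov : (Set.univ : Set G) = s0 ∪ s1 ∪ s2 ∪ s3 ∪ s4 ∪ s5 := by
    apply Set.eq_of_subset_of_subset _ (Set.subset_univ _)
    intro x _
    simp only [Set.mem_union]
    by_cases hx : x = 1
    · exact Or.inl (Or.inl (Or.inl (Or.inl (Or.inr hx))))
    · by_cases he : Even (orderOf x)
      · exact Or.inl (Or.inl (Or.inl (Or.inl (Or.inl he))))
      · rw [Nat.not_even_iff_odd] at he
        rcases classify D ar S hx he with h | h | h | h
        · exact Or.inl (Or.inl (Or.inl (Or.inr ⟨hx, h⟩)))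
        · exact Or.inl (Or.inl (Or.inr ⟨hx, h⟩))
        · exact Or.inl (Or.inr ⟨hx, h⟩)
        · exact Or.inr ⟨hx, h⟩
  have key : ∀ x : G, x = 1 → x ∉ s2 ∧ x ∉ s3 ∧ x ∉ s4 ∧ x ∉ s5 :=
    fun x hx => ⟨fun h => h.1 hx, fun h => h.1 hx, fun h => h.1 hx, fun h => h.1 hx⟩
  have hG : Nat.card G = (Set.univ : Set G).ncard := by rw [Set.ncard_univ]
  have f0 : s0.ncard = Nat.card {x : G // Even (orderOf x)} := rfl
  have f2 : s2.ncard = Nat.card {y : G // y ≠ 1 ∧ ∃ g : G, g⁻¹ * y * g ∈ U} := rfl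
  have f3 : s3.ncard = Nat.card {y : G // y ≠ 1 ∧ ∃ g : G, g⁻¹ * y * g ∈ A} := rfl
  have f4 : s4.ncard = Nat.card {y : G // y ≠ 1 ∧ ∃ g : G, g⁻¹ * y * g ∈ S.A} := rfl
  have f5 : s5.ncard = Nat.card {x : G // x ≠ 1 ∧ orderOf x ∣ q ^ 2 - q + 1} := rfl
  rw [← f0, ← f2, ← f3, ← f4, ← f5, hG, hcov]
  have x0 : ∀ x ∈ s0, x ∉ s1 ∧ x ∉ s2 ∧ x ∉ s3 ∧ x ∉ s4 ∧ x ∉ s5 := by
    intro x hx
    refine ⟨?_, fun h => hodd x 9 odd9 (o2 x h) hx, fun h => hodd x _ odd3 (o3 x h) hx,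
      fun h => hodd x _ odd4 (o4 x h) hx, fun h => hodd x _ odd5 (o5 x h) hx⟩
    intro h
    have h' : x = 1 := h
    subst h'
    have hx' : Even (orderOf (1 : G)) := hx
    rw [orderOf_one] at hx'
    exact absurd hx' (by decide)
  rw [Set.ncard_union_eq, Set.ncard_union_eq, Set.ncard_union_eq, Set.ncard_union_eq,
    Set.ncard_union_eq, Set.ncard_singleton]
  · rw [Set.disjoint_left]
    intro x hx; exact (x0 x hx).1
  · rw [Set.disjoint_left]
    rintro x (hx | hx)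
    · exact (x0 x hx).2.1
    · exact (key x hx).1
  · rw [Set.disjoint_left]
    rintro x ((hx | hx) | hx) h
    · exact (x0 x hx).2.2.1 h
    · exact (key x hx).2.1 h
    · exact h.1 (eq_one_of_pows (o2 x hx) (o3 x h) c23)
  · rw [Set.disjoint_left]
    rintro x (((hx | hx) | hx) | hx) h
    · exact (x0 x hx).2.2.2.1 h
    · exact (key x hx).2.2.1 h
    · exact h.1 (eq_one_of_pows (o2 x hx) (o4 x h) c24)
    · exact h.1 (eq_one_of_pows (o3 x hx) (o4 x h) c34)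
  · rw [Set.disjoint_left]
    rintro x ((((hx | hx) | hx) | hx) | hx) h
    · exact (x0 x hx).2.2.2.2 h
    · exact (key x hx).2.2.2 h
    · exact h.1 (eq_one_of_pows (o2 x hx) (o5 x h) c25)
    · exact h.1 (eq_one_of_pows (o3 x hx) (o5 x h) c35)
    · exact h.1 (eq_one_of_pows (o4 x hx) (o5 x h) c45)

/-- the number of elements of order dividing `q² - q + 1` -/
theorem count (D : Local G q U B H A N) (ar : Arith q)
    (S : Setup G L q a f i j u t₀ T) :
    3 * Nat.card {x : G // x ≠ 1 ∧ orderOf x ∣ q ^ 2 - q + 1} = q ^ 4 * (q ^ 2 - 1) * (q - 2) := by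
  have h0 := count_aux D ar S
  have h8 := ar.q8
  have e0 := S.card_even
  have e2 := ReeGeneric.card_conj_mul U B D.B_U D.TI_U
  have e3 := ReeGeneric.card_conj_mul A N D.N_A D.TI_A
  have e4 := ReeGeneric.card_conj_mul S.A S.N (fun n hn x hx => S.N_norm_A hn hx)
    (fun x hx h1 g hg => S.TI hx h1 hg)
  rw [D.card_U, D.card_B] at e2
  rw [D.card_A, D.card_N] at e3
  rw [S.card_A, S.card_N] at e4
  rw [D.card_G] at h0 e0 e2 e3 e4
  generalize Nat.card {x : G // Even (orderOf x)} = E at *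
  generalize Nat.card {y : G // y ≠ 1 ∧ ∃ g : G, g⁻¹ * y * g ∈ U} = n2 at *
  generalize Nat.card {y : G // y ≠ 1 ∧ ∃ g : G, g⁻¹ * y * g ∈ A} = n3 at *
  generalize Nat.card {y : G // y ≠ 1 ∧ ∃ g : G, g⁻¹ * y * g ∈ S.A} = n4 at *
  generalize Nat.card {x : G // x ≠ 1 ∧ orderOf x ∣ q ^ 2 - q + 1} = n5 at *
  obtain ⟨k, rfl⟩ : ∃ k, q = 8 * k + 3 := ⟨q / 8, by omega⟩
  have hs1 : 8 * k + 3 - 1 = 8 * k + 2 := by omega
  have hs2 : (8 * k + 2) / 2 = 4 * k + 1 := by omega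
  have hs3 : (8 * k + 3 + 1) / 4 = 2 * k + 1 := by omega
  have hs4 : 8 * k + 3 - 2 = 8 * k + 1 := by omega
  have hs5 : 4 * k + 1 - 1 = 4 * k := by omega
  have hs6 : 2 * k + 1 - 1 = 2 * k := by omega
  have hs7 : (8 * k + 3) ^ 2 - 1 = (8 * k + 2) * (8 * k + 4) := by
    have : (8 * k + 3) ^ 2 = (8 * k + 2) * (8 * k + 4) + 1 := by ring
    omega
  have hs8 : (8 * k + 3) ^ 3 - 1 = (8 * k + 2) * ((8 * k + 3) ^ 2 + (8 * k + 3) + 1) := by
    have : (8 * k + 3) ^ 3 = (8 * k + 2) * ((8 * k + 3) ^ 2 + (8 * k + 3) + 1) + 1 := by ring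
    omega
  rw [hs1] at e0 e2 e3 e4 h0
  rw [hs2, hs5] at e3
  rw [hs3, hs6] at e4
  rw [hs8] at e2
  rw [hs7, hs4]
  -- solve for the counts
  have r2 : n2 = ((8 * k + 3) ^ 3 + 1) * ((8 * k + 2) * ((8 * k + 3) ^ 2 + (8 * k + 3) + 1)) := by
    have hpos : 0 < (8 * k + 3) ^ 3 * (8 * k + 2) := by positivity
    apply Nat.eq_of_mul_eq_mul_right hpos
    rw [e2]; ring
  have r3 : n3 = 2 * k * ((8 * k + 3) ^ 3 * ((8 * k + 3) ^ 3 + 1)) := by
    have hpos : 0 < 2 * (8 * k + 2) := by positivity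
    apply Nat.eq_of_mul_eq_mul_right hpos
    rw [e3]; ring
  have r4 : 12 * n4 = 4 * k * ((8 * k + 3) ^ 3 * (8 * k + 2) * ((8 * k + 3) ^ 2 - (8 * k + 3) + 1)) := by
    have hpos : 0 < (8 * k + 3 + 1) := by positivity
    apply Nat.eq_of_mul_eq_mul_right hpos
    have hc := ar.cube
    calc 12 * n4 * (8 * k + 3 + 1) = 2 * (n4 * (6 * (8 * k + 3 + 1))) := by ring
      _ = 2 * ((8 * k + 3) ^ 3 * (8 * k + 2) * ((8 * k + 3) ^ 3 + 1) * (2 * k)) := by rw [e4]
      _ = _ := by rw [hc]; ring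
  have hQ : (8 * k + 3) ^ 2 - (8 * k + 3) + 1 = (8 * k + 3) * (8 * k + 2) + 1 := by
    have : (8 * k + 3) ^ 2 = (8 * k + 3) * (8 * k + 2) + (8 * k + 3) := by ring
    omega
  rw [hQ] at r4
  subst r2 r3
  have h9 : 24 * (8 * n5) = 8 * 8 * ((8 * k + 3) ^ 4 * ((8 * k + 2) * (8 * k + 4)) * (8 * k + 1)) := by
    zify at *
    linear_combination (-24 * 8) * h0 - 24 * e0 - 16 * r4
  have h10 : 64 * (3 * n5) = 64 * ((8 * k + 3) ^ 4 * ((8 * k + 2) * (8 * k + 4)) * (8 * k + 1)) := by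
    calc 64 * (3 * n5) = 24 * (8 * n5) := by ring
      _ = _ := by rw [h9]
  exact Nat.eq_of_mul_eq_mul_left (by norm_num) h10

end main

end Cfsg.Agent.LieRecognition.ReeClass
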