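import Mathlib
import Cfsg.Agent.LieRecognition.ReeClass

/-!
# Element orders of the small Ree groups
-/

set_option autoImplicit false
set_option linter.unusedSectionVars false

namespace Cfsg.Agent.LieRecognition.ReeOrders

open Subgroup
open Cfsg.Agent.LieRecognition.ReeInv
open Cfsg.Agent.LieRecognition.ReeTorusB
open Cfsg.Agent.LieRecognition.ReeClass

/-- divisors of orders are orders -/
theorem exists_orderOf_of_dvd {G : Type*} [Group G] [Finite G] {g : G} {n d : ℕ} (hn : orderOf g = n)
    (h : d ∣ n) : ∃ g' : G, orderOf g' = d := by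
  obtain ⟨k, hk⟩ := h
  have hpos : 0 < orderOf g := orderOf_pos g
  have hk0 : 0 < k := by
    rcases Nat.eq_zero_or_pos k with h | h
    · rw [h, mul_zero] at hk; omega
    · exact h
  refine ⟨g ^ k, ?_⟩
  rw [orderOf_pow_of_dvd hk0.ne' (by rw [hn, hk]; exact Dvd.intro_left _ rfl), hn, hk,
    Nat.mul_div_cancel _ hk0]

/-- normalisers of non-trivial subgroups of a self-centralising cyclic group -/
theorem normalizer_sub {G : Type*} [Group G] [Finite G] {A A₀ : Subgroup G} (hA : IsCyclic A)
    (hc : ∀ x ∈ A, x ≠ 1 → centralizer {x} = A) (h0 : A₀ ≤ A) (h1 : A₀ ≠ ⊥) :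
    normalizer (A₀ : Set G) = normalizer (A : Set G) := by
  obtain ⟨⟨x, hx⟩, hx1'⟩ := Subgroup.ne_bot_iff_exists_ne_one.1 h1
  have hx1 : x ≠ 1 := fun h => hx1' (Subtype.ext h)
  apply le_antisymm
  · intro g hg
    have h2 : g * x * g⁻¹ ∈ A₀ := (mem_normalizer_iff.1 hg x).1 hx
    have h3 : g * x * g⁻¹ ≠ 1 := by
      intro h
      apply hx1
      calc x = g⁻¹ * (g * x * g⁻¹) * g := by group
        _ = 1 := by rw [h]; group
    apply mem_normalizer_of_forall
    intro y hy
    rw [← hc _ (h0 h2) h3, mem_centralizer_singleton_iff]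
    have h4 : y ∈ centralizer {x} := by rw [hc x (h0 hx) hx1]; exact hy
    rw [mem_centralizer_singleton_iff] at h4
    calc g * y * g⁻¹ * (g * x * g⁻¹) = g * (y * x) * g⁻¹ := by group
      _ = g * (x * y) * g⁻¹ := by rw [h4]
      _ = _ := by group
  · intro g hg
    apply mem_normalizer_of_forall
    intro y hy
    obtain ⟨c, hcgen⟩ := (Subgroup.isCyclic_iff_exists_zpowers_eq_top A).1 hA
    have hcA : c ∈ A := by rw [← hcgen]; exact mem_zpowers c
    have h3 : g * c * g⁻¹ ∈ A := (mem_normalizer_iff.1 hg c).1 hcA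
    rw [← hcgen] at h3
    obtain ⟨k, hk⟩ := h3
    simp only at hk
    have h4 : y ∈ zpowers c := by rw [hcgen]; exact h0 hy
    obtain ⟨l, hl⟩ := h4
    simp only at hl
    have h5 : g * y * g⁻¹ = y ^ k := by
      rw [← hl, ← conj_zpow, ← hk, ← zpow_mul, ← zpow_mul, mul_comm]
    rw [h5]
    exact A₀.zpow_mem hy k

section main

variable {G : Type*} [Group G] [Finite G] {q : ℕ} {U B H A N : Subgroup G}
variable {L : Type*} [Group L] {a : G} {f : L →* G} {i j u t₀ : L} {T : Subgroup L}

/-- elements of even order -/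
theorem even_case (S : Setup G L q a f i j u t₀ T) {g : G} (hg : Even (orderOf g)) :
    ∃ l : L, Odd (orderOf l) ∧ orderOf g = 2 * orderOf l := by
  have hpos : 0 < orderOf g := orderOf_pos g
  have h4 : ¬ 4 ∣ orderOf g := by
    intro hx
    obtain ⟨k, hk⟩ := hx
    have hk0 : 0 < k := by omega
    have ho : orderOf (g ^ k) = 4 := by
      rw [orderOf_pow_of_dvd hk0.ne' (by rw [hk]; exact Dvd.intro_left _ rfl), hk,
        Nat.mul_div_cancel _ hk0]
    have h2 : IsPGroup 2 (zpowers (g ^ k)) := by
      apply IsPGroup.of_card (n := 2)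
      rw [Nat.card_zpowers, ho]; norm_num
    have h3 := S.two _ h2 _ (mem_zpowers _)
    rw [← pow_two] at h3
    have h5 := orderOf_dvd_of_pow_eq_one h3
    rw [ho] at h5
    exact absurd h5 (by norm_num)
  obtain ⟨e, he⟩ := hg
  have he0 : 0 < e := by omega
  have heo : Odd e := by
    rw [← Nat.not_even_iff_odd]
    rintro ⟨c, hc⟩
    apply h4
    exact ⟨c, by omega⟩
  have he2 : orderOf g = 2 * e := by omega
  have hτ : orderOf (g ^ e) = 2 := by
    rw [orderOf_pow_of_dvd he0.ne' (by rw [he2]; exact Dvd.intro_left _ rfl), he2,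
      Nat.mul_div_cancel _ he0]
  have hy : orderOf (g ^ 2) = e := by
    rw [orderOf_pow_of_dvd two_ne_zero (by rw [he2]; exact Dvd.intro _ rfl), he2,
      Nat.mul_div_cancel_left _ (by norm_num)]
  have hτ1 : g ^ e ≠ 1 := by
    intro h
    rw [h, orderOf_one] at hτ
    omega
  have hττ : g ^ e * g ^ e = 1 := by rw [← pow_two, ← hτ, pow_orderOf_eq_one]
  obtain ⟨c, hc⟩ := S.conjG _ hτ1 hττ
  have hcomm : (g ^ 2) * (g ^ e) = (g ^ e) * (g ^ 2) := by
    rw [← pow_add, ← pow_add, add_comm]
  have h5 := conj_comm hcomm c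
  have h6 : c⁻¹ * g ^ e * c = a := by rw [← hc]; group
  rw [h6] at h5
  have h7 : orderOf (c⁻¹ * g ^ 2 * c) = e := by rw [orderOf_conj, hy]
  obtain ⟨l, h | h⟩ := S.hc.surj _ h5
  · refine ⟨l, ?_, ?_⟩
    · rw [← orderOf_injective f S.hc.inj, ← h, h7]; exact heo
    · rw [← orderOf_injective f S.hc.inj, ← h, h7]; exact he2
  · exfalso
    have h3 : (c⁻¹ * g ^ 2 * c) ^ e = 1 := by rw [← h7, pow_orderOf_eq_one]
    obtain ⟨k, hk⟩ := heo
    have h4 : Commute a (f l) := S.hc.comm l
    rw [h, h4.mul_pow, hk, pow_succ, pow_mul, pow_two, S.hc.sq, one_pow, one_mul,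
      ← map_pow] at h3
    apply S.hc.not_mem (l ^ (2 * k + 1))⁻¹
    rw [map_inv]
    exact inv_eq_of_mul_eq_one_left h3

theorem exists_orderOf_iff (D : Local G q U B H A N) (ar : Arith q)
    (S : Setup G L q a f i j u t₀ T) {A1 A2 : Subgroup G} (c1 : IsCyclic A1) (c2 : IsCyclic A2)
    (hcov : ∀ x : G, x ≠ 1 → orderOf x ∣ q ^ 2 - q + 1 → ∃ g : G, g * x * g⁻¹ ∈ A1 ∨ g * x * g⁻¹ ∈ A2)
    (h9 : ∃ g : G, orderOf g = 9) (hq1 : ∃ g : G, orderOf g = q - 1) (hu : orderOf u = 3) (d : ℕ) :
    (∃ g : G, orderOf g = d) ↔ (d ∣ 6 ∨ d ∣ 9 ∨ d ∣ q - 1 ∨ d ∣ (q + 1) / 2 ∨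
        d ∣ Nat.card A1 ∨ d ∣ Nat.card A2) := by
  have h8 := ar.q8
  constructor
  · rintro ⟨g, rfl⟩
    rcases Nat.even_or_odd (orderOf g) with he | ho
    · obtain ⟨l, hlo, hl⟩ := even_case S he
      rw [hl]
      by_cases hl1 : l = 1
      · rw [hl1, orderOf_one]; left; norm_num
      · have hfl : f l ≠ 1 := fun h => hl1 (S.hc.inj (by rw [h, map_one]))
        have hfo : orderOf (f l) = orderOf l := orderOf_injective f S.hc.inj l
        rcases classify D ar S hfl (by rw [hfo]; exact hlo) with ⟨g, h⟩ | ⟨g, h⟩ | ⟨g, h⟩ | h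
        · left
          have h1 := orderOf_dvd_of_pow_eq_one (D.U_exp _ h)
          rw [orderOf_conj, hfo] at h1
          have h2 := S.ht.three l (orderOf_dvd_iff_pow_eq_one.1 h1)
          have h3 := orderOf_dvd_of_pow_eq_one h2
          have : (6 : ℕ) = 2 * 3 := by norm_num
          rw [this]
          exact Nat.mul_dvd_mul_left 2 h3
        · right; right; left
          have h1 := orderOf_dvd_natCard (⟨_, h⟩ : A)
          rw [Subgroup.orderOf_mk, orderOf_conj, hfo, D.card_A] at h1
          have h2 : q - 1 = 2 * ((q - 1) / 2) := by omega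
          rw [h2]
          exact Nat.mul_dvd_mul_left 2 h1
        · right; right; right; left
          have h1 := S.A_odd h
          rw [orderOf_conj, hfo] at h1
          have h2 : (q + 1) / 2 = 2 * ((q + 1) / 4) := by omega
          rw [h2]
          exact Nat.mul_dvd_mul_left 2 h1
        · exfalso
          rw [hfo] at h
          have h1 : orderOf (f l) ∣ q * (q ^ 2 - 1) := by
            rw [← card_centralizer S]
            have h3 : f l ∈ (centralizer {a} : Subgroup G) :=
              mem_centralizer_singleton_iff.2 (S.hc.comm l).symm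
            have := orderOf_dvd_natCard (⟨f l, h3⟩ : (centralizer {a} : Subgroup G))
            rwa [Subgroup.orderOf_mk] at this
          rw [hfo] at h1
          have h4 : orderOf l = 1 := by
            apply ar.coprime_Q h
            refine h1.trans ?_
            have : q ^ 2 - 1 = (q - 1) * (q + 1) := by
              rw [mul_comm, ← Nat.sq_sub_sq]
            rw [this, ← mul_assoc]
            exact Dvd.intro_left _ rfl
          exact hl1 (orderOf_eq_one_iff.1 h4)
    · by_cases hg1 : g = 1
      · rw [hg1, orderOf_one]; left; norm_num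
      · rcases classify D ar S hg1 ho with ⟨c, h⟩ | ⟨c, h⟩ | ⟨c, h⟩ | h
        · right; left
          have h1 := orderOf_dvd_of_pow_eq_one (D.U_exp _ h)
          rwa [orderOf_conj] at h1
        · right; right; left
          have h1 := orderOf_dvd_natCard (⟨_, h⟩ : A)
          rw [Subgroup.orderOf_mk, orderOf_conj, D.card_A] at h1
          exact h1.trans (Nat.div_dvd_of_dvd (by omega))
        · right; right; right; left
          have h1 := S.A_odd h
          rw [orderOf_conj] at h1
          refine h1.trans ?_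
          have h2 : (q + 1) / 2 = 2 * ((q + 1) / 4) := by omega
          rw [h2]
          exact Dvd.intro_left _ rfl
        · right; right; right; right
          obtain ⟨c, hc⟩ := hcov g hg1 h
          have ho : orderOf (c * g * c⁻¹) = orderOf g := by
            have := orderOf_conj g c⁻¹
            rwa [inv_inv] at this
          rcases hc with hc | hc
          · left
            have h1 := orderOf_dvd_natCard (⟨_, hc⟩ : A1)
            rwa [Subgroup.orderOf_mk, ho] at h1
          · right
            have h1 := orderOf_dvd_natCard (⟨_, hc⟩ : A2)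
            rwa [Subgroup.orderOf_mk, ho] at h1
  · have hcyc : ∀ C : Subgroup G, IsCyclic C → d ∣ Nat.card C → ∃ g : G, orderOf g = d := by
      intro C hC hd
      obtain ⟨c, hc⟩ := (Subgroup.isCyclic_iff_exists_zpowers_eq_top C).1 hC
      apply exists_orderOf_of_dvd (g := c) (n := Nat.card C) _ hd
      rw [← Nat.card_zpowers, hc]
    rintro (h | h | h | h | h | h)
    · apply exists_orderOf_of_dvd (g := a * f u) (n := 6) _ h
      have hcm : Commute a (f u) := S.hc.comm u
      have hoa : orderOf a = 2 := orderOf_eq_prime (by rw [pow_two, S.hc.sq]) S.hc.ne_one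
      rw [hcm.orderOf_mul_eq_mul_orderOf_of_coprime, hoa, orderOf_injective f S.hc.inj, hu]
      rw [hoa, orderOf_injective f S.hc.inj, hu]
      decide
    · obtain ⟨g, hg⟩ := h9
      exact exists_orderOf_of_dvd hg h
    · obtain ⟨g, hg⟩ := hq1
      exact exists_orderOf_of_dvd hg h
    · apply exists_orderOf_of_dvd (g := f t₀) (n := (q + 1) / 2) _ h
      rw [orderOf_injective f S.hc.inj, S.orderOf_t0']
      omega
    · exact hcyc A1 c1 h
    · exact hcyc A2 c2 h

end main

end Cfsg.Agent.LieRecognition.ReeOrders
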