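import Cfsg.Agent.LieRecognition.ReeSylowThree
import Cfsg.Agent.LieRecognition.ReeTorus

/-!
# The Borel subgroup and the split torus of the small Ree groups

Over `D : ReeAbs.Data m U h n`: the Borel subgroup `bSub D = uSub D ⋊ hSub D`, centralisers of the elements of
`uSub D` and of `hSub D`, the subgroup `aSub D` of order `(q - 1) / 2` with its normaliser `nSub D` of order
`2 (q - 1)`, and elements of orders `q - 1`, `9` and `6`.
-/

set_option autoImplicit false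

namespace Cfsg.Agent.LieRecognition.ReeSplit

open Cfsg.Agent.LieRecognition.ReeAbs Cfsg.Agent.LieRecognition.ReeSylowThree

variable {K : Type*} [Field K] {G : Type*} [Group G]
variable {m : ℕ} {U : K → K → K → G} {h : Kˣ → G} {n : G}

/-! ### The Borel subgroup -/

/-- The Borel subgroup. -/
def bSub (D : Data m U h n) : Subgroup G where
  carrier := {g | ∃ t u v a, g = U t u v * h a}
  mul_mem' := by
    rintro _ _ ⟨t, u, v, a, rfl⟩ ⟨t', u', v', a', rfl⟩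
    obtain ⟨s, r, w, hs⟩ := (uSub D).mul_mem ⟨t, u, v, rfl⟩ (h_conj_mem D a ⟨t', u', v', rfl⟩)
    refine ⟨s, r, w, a * a', ?_⟩
    rw [← hs, D.h_mul]
    group
  one_mem' := ⟨0, 0, 0, 1, by rw [D.U_zero, D.h_one, one_mul]⟩
  inv_mem' := by
    rintro _ ⟨t, u, v, a, rfl⟩
    obtain ⟨t', u', v', he⟩ := U_inv D t u v
    obtain ⟨s, r, w, hs⟩ := h_conj_mem D a⁻¹ ⟨t', u', v', he⟩
    refine ⟨s, r, w, a⁻¹, ?_⟩
    rw [← hs, D.h_inv]
    group

theorem mem_bSub (D : Data m U h n) {g : G} : g ∈ bSub D ↔ ∃ t u v a, g = U t u v * h a := Iff.rfl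

theorem uSub_le_bSub (D : Data m U h n) : uSub D ≤ bSub D := by
  rintro _ ⟨t, u, v, rfl⟩
  exact ⟨t, u, v, 1, by rw [D.h_one, mul_one]⟩

theorem h_mem_bSub (D : Data m U h n) (a : Kˣ) : h a ∈ bSub D :=
  ⟨0, 0, 0, a, by rw [D.U_zero, one_mul]⟩

theorem card_bSub [Fintype K] (D : Data m U h n) :
    Nat.card (bSub D) = (Fintype.card K) ^ 3 * (Fintype.card K - 1) := by
  let f : (K × K × K) × Kˣ → bSub D := fun x => ⟨U x.1.1 x.1.2.1 x.1.2.2 * h x.2, x.1.1, x.1.2.1, x.1.2.2, x.2, rfl⟩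
  have hf : Function.Bijective f := by
    constructor
    · rintro ⟨⟨t, u, v⟩, a⟩ ⟨⟨t', u', v'⟩, a'⟩ he
      obtain ⟨rfl, rfl, rfl, rfl⟩ := D.inj₁ _ _ _ _ _ _ _ _ (congrArg Subtype.val he)
      rfl
    · rintro ⟨g, t, u, v, a, rfl⟩
      exact ⟨((t, u, v), a), rfl⟩
  rw [← Nat.card_congr (Equiv.ofBijective f hf)]
  simp only [Nat.card_prod, Nat.card_units, Nat.card_eq_fintype_card, Fintype.card_prod]
  ring

theorem conj_mem_uSub (D : Data m U h n) {g : G} (hg : g ∈ bSub D) {x : G} (hx : x ∈ uSub D) :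
    g * x * g⁻¹ ∈ uSub D := by
  obtain ⟨t, u, v, a, rfl⟩ := hg
  have h1 : U t u v * h a * x * (U t u v * h a)⁻¹ = U t u v * (h a * x * (h a)⁻¹) * (U t u v)⁻¹ := by group
  rw [h1]
  exact (uSub D).mul_mem ((uSub D).mul_mem ⟨_, _, _, rfl⟩ (h_conj_mem D a hx)) ((uSub D).inv_mem ⟨_, _, _, rfl⟩)

theorem inv_conj_mem_uSub (D : Data m U h n) {g : G} (hg : g ∈ bSub D) {x : G} (hx : x ∈ uSub D) :
    g⁻¹ * x * g ∈ uSub D := by
  have := conj_mem_uSub D ((bSub D).inv_mem hg) hx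
  rwa [inv_inv] at this

theorem mem_bSub_of_conj (D : Data m U h n) {g x y : G} (hx : x ∈ uSub D) (hy : y ∈ uSub D) (hx1 : x ≠ 1)
    (hg : x * g = g * y) : g ∈ bSub D := by
  rcases D.bruhat g with hb | ⟨t, u, v, a, t', u', v', rfl⟩
  · exact hb
  · exfalso
    obtain ⟨s₁, s₂, s₃, hs⟩ := (uSub D).mul_mem hx ⟨t, u, v, rfl⟩
    obtain ⟨r₁, r₂, r₃, hr⟩ := (uSub D).mul_mem ⟨t', u', v', rfl⟩ hy
    have h1 : U s₁ s₂ s₃ * h a * n * U t' u' v' = U t u v * h a * n * U r₁ r₂ r₃ := by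
      rw [← hs, ← hr]
      simpa [mul_assoc] using hg
    obtain ⟨rfl, rfl, rfl, -⟩ := D.inj₂ _ _ _ _ _ _ _ _ _ _ _ _ _ _ h1
    apply hx1
    exact mul_eq_right.1 hs

theorem mem_bSub_of_inv_conj_mem (D : Data m U h n) {g x : G} (hx : x ∈ uSub D) (hx1 : x ≠ 1)
    (hg : g⁻¹ * x * g ∈ uSub D) : g ∈ bSub D :=
  mem_bSub_of_conj D hx hg hx1 (by group)

/-- (C1) -/
theorem exists_borel [Fintype K] (D : Data m U h n) : ∃ B : Subgroup G,
    Nat.card B = (Fintype.card K) ^ 3 * (Fintype.card K - 1) ∧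
    (∀ g ∈ B, ∀ x ∈ uSub D, g⁻¹ * x * g ∈ uSub D) ∧
    (∀ x ∈ uSub D, x ≠ 1 → ∀ g, g⁻¹ * x * g ∈ uSub D → g ∈ B) :=
  ⟨bSub D, card_bSub D, fun _ hg _ hx => inv_conj_mem_uSub D hg hx,
    fun _ hx hx1 _ hg => mem_bSub_of_inv_conj_mem D hx hx1 hg⟩

/-! ### Field facts -/

section field

theorem eq_one_or_neg_one_of_sq {a : Kˣ} (ha : a ^ 2 = 1) : a = 1 ∨ a = -1 := by
  have h1 : (a : K) * a = 1 := by rw [← pow_two, ← Units.val_pow_eq_pow_val, ha, Units.val_one]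
  rcases mul_self_eq_one_iff.mp h1 with h2 | h2
  · exact Or.inl (Units.ext h2)
  · exact Or.inr (Units.ext (by rw [h2, Units.val_neg, Units.val_one]))

variable [Fintype K]

theorem sq_eq_one_of_pow_add_three (hK : Fintype.card K = 3 ^ (2 * m + 1)) (a : Kˣ)
    (h : a ^ (3 ^ (m + 1) + 3) = 1) : a ^ 2 = 1 := by
  have h1 : a ^ (3 ^ (m + 1)) = (a ^ 3)⁻¹ := by
    rw [pow_add] at h
    exact eq_inv_of_mul_eq_one_left h
  have h2 : a ^ (3 ^ (m + 1) * 3 ^ (m + 1)) = a ^ 3 := by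
    rw [← pow_add, show m + 1 + (m + 1) = (2 * m + 1) + 1 by ring, pow_succ, pow_mul,
      units_pow_card hK]
  have h3 : a ^ (3 ^ (m + 1) * 3 ^ (m + 1)) = a ^ 9 := by
    rw [pow_mul, h1, inv_pow, ← pow_mul, mul_comm 3, pow_mul, h1, inv_pow, inv_inv, ← pow_mul]
  have h4 : a ^ 6 = 1 := by
    have : a ^ 3 * a ^ 6 = a ^ 3 * 1 := by
      rw [← pow_add, mul_one, ← h2, h3]
    exact mul_left_cancel this
  apply eq_one_of_pow_three hK 1
  rw [pow_one, ← pow_mul, h4]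

theorem eq_one_of_mul_eq (hK : Fintype.card K = 3 ^ (2 * m + 1)) {a : Kˣ} {t : K}
    (h : (a : K) ^ 3 ^ (m + 1) * t = t) (ht : t ≠ 0) : a = 1 := by
  have h1 : (a : K) ^ 3 ^ (m + 1) = 1 := by
    have : (a : K) ^ 3 ^ (m + 1) * t = 1 * t := by rw [h, one_mul]
    exact mul_right_cancel₀ ht this
  exact eq_one_of_pow_three hK (m + 1) a (Units.ext (by rw [Units.val_pow_eq_pow_val, h1, Units.val_one]))

theorem sq_eq_one_of_mul_eq (hK : Fintype.card K = 3 ^ (2 * m + 1)) {a : Kˣ} {t : K}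
    (h : (a : K) ^ (3 ^ (m + 1) + 3) * t = t) (ht : t ≠ 0) : a ^ 2 = 1 := by
  have h1 : (a : K) ^ (3 ^ (m + 1) + 3) = 1 := by
    have : (a : K) ^ (3 ^ (m + 1) + 3) * t = 1 * t := by rw [h, one_mul]
    exact mul_right_cancel₀ ht this
  exact sq_eq_one_of_pow_add_three hK a (Units.ext (by rw [Units.val_pow_eq_pow_val, h1, Units.val_one]))

theorem eq_one_of_mul_eq' (hK : Fintype.card K = 3 ^ (2 * m + 1)) {a : Kˣ} {t : K}
    (h : (a : K) ^ (2 * 3 ^ (m + 1) + 3) * t = t) (ht : t ≠ 0) : a = 1 := by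
  have h1 : (a : K) ^ (2 * 3 ^ (m + 1) + 3) = 1 := by
    have : (a : K) ^ (2 * 3 ^ (m + 1) + 3) * t = 1 * t := by rw [h, one_mul]
    exact mul_right_cancel₀ ht this
  exact ReeTorus.eq_one_of_pow_two_mul_add_three hK a
    (Units.ext (by rw [Units.val_pow_eq_pow_val, h1, Units.val_one]))

theorem three_eq_zero (hK : Fintype.card K = 3 ^ (2 * m + 1)) : (3 : K) = 0 := by
  have := charP_three hK
  exact_mod_cast CharP.cast_eq_zero K 3

end field

/-! ### Cubes in `uSub` -/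

theorem zero_pow_three_pow (k : ℕ) : (0 : K) ^ (3 ^ k) = 0 := zero_pow (by positivity)

theorem U_cube [Fintype K] (D : Data m U h n) (hK : Fintype.card K = 3 ^ (2 * m + 1)) (t u v : K) :
    U t u v ^ 3 = U 0 0 (-(t ^ 2 * t ^ (3 ^ (m + 1)))) := by
  have h3 := three_eq_zero hK
  rw [pow_succ, pow_two, D.U_mul, D.U_mul]
  congr 1
  · linear_combination t * h3
  · linear_combination (u - t * t ^ 3 ^ (m + 1)) * h3
  · linear_combination (v - u * t) * h3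

theorem U_zero_zero_cube [Fintype K] (D : Data m U h n) (hK : Fintype.card K = 3 ^ (2 * m + 1)) (v : K) :
    U 0 0 v ^ 3 = 1 := by
  rw [U_cube D hK]
  simp [D.U_zero]

theorem pow_nine [Fintype K] (D : Data m U h n) (hK : Fintype.card K = 3 ^ (2 * m + 1)) {x : G}
    (hx : x ∈ uSub D) : x ^ 9 = 1 := by
  obtain ⟨t, u, v, rfl⟩ := hx
  rw [show 9 = 3 * 3 from rfl, pow_mul, U_cube D hK, U_zero_zero_cube D hK]

/-! ### Centralisers of the elements of `uSub` -/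

/-- (C2), first part -/
theorem mem_or_of_commute [Fintype K] (D : Data m U h n) (hK : Fintype.card K = 3 ^ (2 * m + 1)) {x y : G}
    (hx : x ∈ uSub D) (hx1 : x ≠ 1) (hc : y * x = x * y) : y ∈ uSub D ∨ ∃ v ∈ uSub D, y = v * h (-1) := by
  obtain ⟨t', u', v', a, rfl⟩ := mem_bSub_of_conj D hx hx hx1 hc.symm
  have key : a ^ 2 = 1 := by
    obtain ⟨t, u, v, rfl⟩ := hx
    rw [mul_assoc, D.h_U, ← mul_assoc, ← mul_assoc, D.U_mul, D.U_mul] at hc
    obtain ⟨h1, h2, h3, -⟩ := D.inj₁ _ _ _ _ _ _ _ _ hc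
    have h1' : (a : K) ^ 3 ^ (m + 1) * t = t := by linear_combination h1
    by_cases ht : t = 0
    · subst ht
      simp only [mul_zero, zero_pow_three_pow, zero_mul, sub_zero, add_zero, zero_pow two_ne_zero] at h2 h3
      have h2' : (a : K) ^ (3 ^ (m + 1) + 3) * u = u := by linear_combination h2
      by_cases hu : u = 0
      · subst hu
        have h3' : (a : K) ^ (2 * 3 ^ (m + 1) + 3) * v = v := by linear_combination h3
        by_cases hv : v = 0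
        · subst hv
          exact absurd D.U_zero hx1
        · rw [eq_one_of_mul_eq' hK h3' hv, one_pow]
      · exact sq_eq_one_of_mul_eq hK h2' hu
    · rw [eq_one_of_mul_eq hK h1' ht, one_pow]
  rcases eq_one_or_neg_one_of_sq key with rfl | rfl
  · left
    rw [D.h_one, mul_one]
    exact ⟨_, _, _, rfl⟩
  · right
    exact ⟨_, ⟨_, _, _, rfl⟩, rfl⟩

theorem sq_mem_of_mem_or (D : Data m U h n) {y : G} (hy : y ∈ uSub D ∨ ∃ v ∈ uSub D, y = v * h (-1)) :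
    y ^ 2 ∈ uSub D := by
  rcases hy with hy | ⟨v, hv, rfl⟩
  · exact (uSub D).pow_mem hy 2
  · have h1 : (v * h (-1)) ^ 2 = v * (h (-1) * v * (h (-1))⁻¹) * (h (-1) * h (-1)) := by
      rw [pow_two]
      group
    rw [h1, D.inv_sq, mul_one]
    exact (uSub D).mul_mem hv (h_conj_mem D _ hv)

/-- (C2), the exponent -/
theorem pow_eighteen_of_commute [Fintype K] (D : Data m U h n) (hK : Fintype.card K = 3 ^ (2 * m + 1)) {x y : G}
    (hx : x ∈ uSub D) (hx1 : x ≠ 1) (hc : y * x = x * y) : y ^ 18 = 1 := by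
  rw [show 18 = 2 * 9 from rfl, pow_mul]
  exact pow_nine D hK (sq_mem_of_mem_or D (mem_or_of_commute D hK hx hx1 hc))

/-- (C2), elements of odd order -/
theorem mem_uSub_of_commute_of_odd [Fintype K] (D : Data m U h n) (hK : Fintype.card K = 3 ^ (2 * m + 1)) {x y : G}
    (hx : x ∈ uSub D) (hx1 : x ≠ 1) (hc : y * x = x * y) (ho : Odd (orderOf y)) : y ∈ uSub D := by
  have h1 := sq_mem_of_mem_or D (mem_or_of_commute D hK hx hx1 hc)
  obtain ⟨k, hk⟩ := ho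
  have h2 : (y ^ 2) ^ (k + 1) = y := by
    rw [← pow_mul, show 2 * (k + 1) = (2 * k + 1) + 1 by ring, pow_succ, ← hk, pow_orderOf_eq_one, one_mul]
  rw [← h2]
  exact (uSub D).pow_mem h1 _

/-! ### The split torus -/

/-- The split torus. -/
def hSub (D : Data m U h n) : Subgroup G := (MonoidHom.mk' h D.h_mul).range

theorem mem_hSub (D : Data m U h n) {g : G} : g ∈ hSub D ↔ ∃ a, g = h a := by
  rw [hSub, MonoidHom.mem_range]
  constructor
  · rintro ⟨a, rfl⟩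
    exact ⟨a, rfl⟩
  · rintro ⟨a, rfl⟩
    exact ⟨a, rfl⟩

theorem h_injective (D : Data m U h n) : Function.Injective (MonoidHom.mk' h D.h_mul) := by
  intro x y hxy
  have : U 0 0 0 * h x = U 0 0 0 * h y := congrArg _ hxy
  exact (D.inj₁ _ _ _ _ _ _ _ _ this).2.2.2

theorem h_eq_iff (D : Data m U h n) {a b : Kˣ} : h a = h b ↔ a = b :=
  ⟨fun he => h_injective D he, fun he => by rw [he]⟩

theorem h_pow (D : Data m U h n) (a : Kˣ) (k : ℕ) : h (a ^ k) = h a ^ k :=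
  map_pow (MonoidHom.mk' h D.h_mul) a k

theorem isCyclic_hSub [Fintype K] (D : Data m U h n) : IsCyclic (hSub D) :=
  isCyclic_of_surjective (MonoidHom.mk' h D.h_mul).rangeRestrict (MonoidHom.rangeRestrict_surjective _)

theorem card_hSub [Fintype K] (D : Data m U h n) : Nat.card (hSub D) = Fintype.card K - 1 := by
  rw [hSub, ← Nat.card_congr (MonoidHom.ofInjective (h_injective D)).toEquiv, Nat.card_units,
    Nat.card_eq_fintype_card]

theorem U_h_eq (D : Data m U h n) (a b : Kˣ) (t u v : K) : h a * (U t u v * h b) =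
    U ((a : K) ^ (3 ^ (m + 1)) * t) ((a : K) ^ (3 ^ (m + 1) + 3) * u) ((a : K) ^ (2 * 3 ^ (m + 1) + 3) * v) *
      h (a * b) := by
  rw [← mul_assoc, D.h_U, mul_assoc, ← D.h_mul]

theorem U_h' (D : Data m U h n) (a : Kˣ) (t u v : K) : U t u v * h a =
    h a * U (((a⁻¹ : Kˣ) : K) ^ (3 ^ (m + 1)) * t) (((a⁻¹ : Kˣ) : K) ^ (3 ^ (m + 1) + 3) * u)
      (((a⁻¹ : Kˣ) : K) ^ (2 * 3 ^ (m + 1) + 3) * v) := by
  rw [D.h_U]
  congr 2 <;>
  · rw [← mul_assoc, ← mul_pow, Units.mul_inv, one_pow, one_mul]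

/-- if a non-trivial `h a` with `a ^ 2 ≠ 1` is conjugate under `g` to some `h b` then `g` is in `H ∪ H n` -/
theorem cases_of_conj [Fintype K] (D : Data m U h n) (hK : Fintype.card K = 3 ^ (2 * m + 1)) {a b : Kˣ} {g : G}
    (ha : a ^ 2 ≠ 1) (hg : h a * g = g * h b) :
    (a = b ∧ ∃ c, g = h c) ∨ (a = b⁻¹ ∧ ∃ c, g = h c * n) := by
  have ha1 : a ≠ 1 := by
    rintro rfl
    exact ha (one_pow 2)
  have hz : ∀ {c : Kˣ} {t u v : K}, c ^ 2 ≠ 1 → (c : K) ^ (3 ^ (m + 1)) * t = t →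
      (c : K) ^ (3 ^ (m + 1) + 3) * u = u → (c : K) ^ (2 * 3 ^ (m + 1) + 3) * v = v →
      t = 0 ∧ u = 0 ∧ v = 0 := by
    intro c t u v hc h1 h2 h3
    have hc1 : c ≠ 1 := by
      rintro rfl
      exact hc (one_pow 2)
    refine ⟨?_, ?_, ?_⟩
    · by_contra h0
      exact hc1 (eq_one_of_mul_eq hK h1 h0)
    · by_contra h0
      exact hc (sq_eq_one_of_mul_eq hK h2 h0)
    · by_contra h0
      exact hc1 (eq_one_of_mul_eq' hK h3 h0)
  rcases D.bruhat g with ⟨t, u, v, c, rfl⟩ | ⟨t, u, v, c, t', u', v', rfl⟩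
  · left
    rw [U_h_eq D, mul_assoc, ← D.h_mul] at hg
    obtain ⟨h1, h2, h3, h4⟩ := D.inj₁ _ _ _ _ _ _ _ _ hg
    obtain ⟨rfl, rfl, rfl⟩ := hz ha h1 h2 h3
    refine ⟨?_, c, by rw [D.U_zero, one_mul]⟩
    rw [mul_comm] at h4
    exact mul_left_cancel h4
  · right
    have e1 : h a * (U t u v * h c * n * U t' u' v') = U ((a : K) ^ (3 ^ (m + 1)) * t)
        ((a : K) ^ (3 ^ (m + 1) + 3) * u) ((a : K) ^ (2 * 3 ^ (m + 1) + 3) * v) * h (a * c) * n * U t' u' v' := by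
      rw [← mul_assoc, ← mul_assoc, U_h_eq D]
    have e2 : U t u v * h c * n * U t' u' v' * h b = U t u v * h (c * b⁻¹) * n *
        U (((b⁻¹ : Kˣ) : K) ^ (3 ^ (m + 1)) * t') (((b⁻¹ : Kˣ) : K) ^ (3 ^ (m + 1) + 3) * u')
        (((b⁻¹ : Kˣ) : K) ^ (2 * 3 ^ (m + 1) + 3) * v') := by
      rw [mul_assoc _ (U t' u' v'), U_h' D b t' u' v', ← mul_assoc _ (h b), mul_assoc _ n (h b), D.n_h, ← mul_assoc _ _ n,
        mul_assoc _ (h c), ← D.h_mul]
    rw [e1, e2] at hg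
    obtain ⟨h1, h2, h3, h4, h5, h6, h7⟩ := D.inj₂ _ _ _ _ _ _ _ _ _ _ _ _ _ _ hg
    obtain ⟨rfl, rfl, rfl⟩ := hz ha h1 h2 h3
    have hab : a = b⁻¹ := by
      rw [mul_comm] at h4
      exact mul_left_cancel h4
    rw [← hab] at h5 h6 h7
    obtain ⟨rfl, rfl, rfl⟩ := hz ha h5.symm h6.symm h7.symm
    exact ⟨hab, c, by rw [D.U_zero, one_mul, mul_one]⟩

/-- (C3) -/
theorem centralizer_h [Fintype K] (D : Data m U h n) (hK : Fintype.card K = 3 ^ (2 * m + 1)) {a : Kˣ}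
    (ha : a ^ 2 ≠ 1) : Subgroup.centralizer ({h a} : Set G) = hSub D := by
  ext g
  rw [Subgroup.mem_centralizer_singleton_iff, mem_hSub]
  constructor
  · intro hg
    rcases cases_of_conj D hK ha hg.symm with ⟨-, hc⟩ | ⟨h1, -⟩
    · exact hc
    · exfalso
      apply ha
      rw [pow_two]
      nth_rewrite 1 [h1]
      exact inv_mul_cancel a
  · rintro ⟨c, rfl⟩
    exact D.h_comm _ _

/-! ### The subgroup of order `(q - 1) / 2` and its normaliser -/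

/-- The subgroup of the elements of odd order of the split torus. -/
def aSub (D : Data m U h n) : Subgroup G :=
  (powMonoidHom ((3 ^ (2 * m + 1) - 1) / 2) : Kˣ →* Kˣ).ker.map (MonoidHom.mk' h D.h_mul)

theorem mem_aSub (D : Data m U h n) {g : G} :
    g ∈ aSub D ↔ ∃ a, a ^ ((3 ^ (2 * m + 1) - 1) / 2) = 1 ∧ g = h a := by
  rw [aSub, Subgroup.mem_map]
  constructor
  · rintro ⟨a, ha, rfl⟩
    exact ⟨a, ha, rfl⟩
  · rintro ⟨a, ha, rfl⟩
    exact ⟨a, ha, rfl⟩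

theorem mem_aSub_iff [Fintype K] (D : Data m U h n) (hK : Fintype.card K = 3 ^ (2 * m + 1)) {g : G} :
    g ∈ aSub D ↔ ∃ a, Odd (orderOf a) ∧ g = h a := by
  rw [mem_aSub]
  simp only [ReeTorus.odd_order_iff hK]

theorem aSub_le (D : Data m U h n) : aSub D ≤ hSub D := by
  intro g hg
  obtain ⟨a, -, rfl⟩ := (mem_aSub D).mp hg
  exact (mem_hSub D).mpr ⟨a, rfl⟩

theorem isCyclic_aSub [Fintype K] (D : Data m U h n) : IsCyclic (aSub D) := by
  have := isCyclic_hSub D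
  exact isCyclic_of_injective (Subgroup.inclusion (aSub_le D)) (Subgroup.inclusion_injective _)

theorem card_aSub [Fintype K] (D : Data m U h n) (hK : Fintype.card K = 3 ^ (2 * m + 1)) :
    Nat.card (aSub D) = (3 ^ (2 * m + 1) - 1) / 2 := by
  have h8 := three_pow_odd_mod m
  have h2 : 3 ^ (2 * m + 1) - 1 = 2 * ((3 ^ (2 * m + 1) - 1) / 2) := by omega
  rw [aSub, Subgroup.card_map_of_injective (h_injective D), IsCyclic.card_powMonoidHom_ker, Nat.card_units,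
    Nat.card_eq_fintype_card, hK, Nat.gcd_eq_right (Dvd.intro_left _ h2.symm)]

theorem mem_aSub_of_odd [Fintype K] (D : Data m U h n) (hK : Fintype.card K = 3 ^ (2 * m + 1)) {x : G}
    (hx : x ∈ hSub D) (ho : Odd (orderOf x)) : x ∈ aSub D := by
  obtain ⟨a, rfl⟩ := (mem_hSub D).mp hx
  rw [ReeTorus.orderOf_h D] at ho
  exact (mem_aSub_iff D hK).mpr ⟨a, ho, rfl⟩

theorem sq_ne_one_of_mem_aSub [Fintype K] (D : Data m U h n) (hK : Fintype.card K = 3 ^ (2 * m + 1)) {x : G}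
    (hx : x ∈ aSub D) (hx1 : x ≠ 1) : ∃ a : Kˣ, x = h a ∧ a ^ 2 ≠ 1 := by
  obtain ⟨a, ho, rfl⟩ := (mem_aSub_iff D hK).mp hx
  refine ⟨a, rfl, fun h2 => hx1 ?_⟩
  have h1 : orderOf a = 1 := by
    have := (Nat.dvd_prime Nat.prime_two).mp (orderOf_dvd_of_pow_eq_one h2)
    rcases this with h | h
    · exact h
    · rw [h] at ho
      exact absurd ho (by decide)
  rw [orderOf_eq_one_iff.mp h1, D.h_one]

/-- The normaliser of the split torus. -/
def nSub (D : Data m U h n) : Subgroup G where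
  carrier := {g | (∃ a, g = h a) ∨ ∃ a, g = h a * n}
  mul_mem' := by
    rintro _ _ (⟨a, rfl⟩ | ⟨a, rfl⟩) (⟨b, rfl⟩ | ⟨b, rfl⟩)
    · exact Or.inl ⟨a * b, (D.h_mul a b).symm⟩
    · exact Or.inr ⟨a * b, by rw [D.h_mul, mul_assoc]⟩
    · exact Or.inr ⟨a * b⁻¹, by rw [D.h_mul, mul_assoc, D.n_h, mul_assoc]⟩
    · exact Or.inl ⟨a * b⁻¹, by rw [D.h_mul, mul_assoc, ← mul_assoc n, D.n_h, mul_assoc _ n n, D.n_n, mul_one]⟩
  one_mem' := Or.inl ⟨1, D.h_one.symm⟩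
  inv_mem' := by
    rintro _ (⟨a, rfl⟩ | ⟨a, rfl⟩)
    · exact Or.inl ⟨a⁻¹, (D.h_inv a).symm⟩
    · exact Or.inr ⟨a, by rw [mul_inv_rev, D.n_inv, ← D.h_inv, D.n_h, inv_inv]⟩

theorem mem_nSub (D : Data m U h n) {g : G} : g ∈ nSub D ↔ (∃ a, g = h a) ∨ ∃ a, g = h a * n := Iff.rfl

theorem hSub_le_nSub (D : Data m U h n) : hSub D ≤ nSub D := fun _ hg => Or.inl ((mem_hSub D).mp hg)

theorem h_ne_h_n (D : Data m U h n) (a b : Kˣ) : h a ≠ h b * n := by
  intro he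
  apply D.ne 0 0 0 a 0 0 0 b 0 0 0
  rw [D.U_zero, one_mul, one_mul, mul_one, he]

theorem card_nSub [Fintype K] (D : Data m U h n) : Nat.card (nSub D) = 2 * (Fintype.card K - 1) := by
  let f : Kˣ ⊕ Kˣ → nSub D := fun x => match x with
    | Sum.inl a => ⟨h a, Or.inl ⟨a, rfl⟩⟩
    | Sum.inr a => ⟨h a * n, Or.inr ⟨a, rfl⟩⟩
  have hf : Function.Bijective f := by
    constructor
    · rintro (a | a) (b | b) he
      · exact congrArg _ ((h_eq_iff D).mp (congrArg Subtype.val he))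
      · exact absurd (congrArg Subtype.val he) (h_ne_h_n D a b)
      · exact absurd (congrArg Subtype.val he).symm (h_ne_h_n D b a)
      · exact congrArg _ ((h_eq_iff D).mp (mul_right_cancel (congrArg Subtype.val he)))
    · rintro ⟨g, ⟨a, rfl⟩ | ⟨a, rfl⟩⟩
      · exact ⟨Sum.inl a, rfl⟩
      · exact ⟨Sum.inr a, rfl⟩
  rw [← Nat.card_congr (Equiv.ofBijective f hf), Nat.card_sum]
  simp only [Nat.card_units, Nat.card_eq_fintype_card]
  ring

/-- the elements of `nSub` centralise or invert the torus -/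
theorem conj_h_of_mem_nSub (D : Data m U h n) {g : G} (hg : g ∈ nSub D) (a : Kˣ) :
    g * h a * g⁻¹ = h a ∨ g * h a * g⁻¹ = h a⁻¹ := by
  rcases hg with ⟨c, rfl⟩ | ⟨c, rfl⟩
  · left
    rw [D.h_comm, mul_inv_cancel_right]
  · right
    rw [mul_inv_eq_iff_eq_mul, mul_assoc, D.n_h, ← mul_assoc, ← mul_assoc, D.h_comm]

theorem conj_mem_of_mem_nSub (D : Data m U h n) {A₀ : Subgroup G} (hA : A₀ ≤ hSub D) {g : G} (hg : g ∈ nSub D)
    {x : G} (hx : x ∈ A₀) : g * x * g⁻¹ ∈ A₀ := by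
  obtain ⟨a, rfl⟩ := (mem_hSub D).mp (hA hx)
  rcases conj_h_of_mem_nSub D hg a with he | he
  · rw [he]
    exact hx
  · rw [he, D.h_inv]
    exact A₀.inv_mem hx

theorem inv_conj_mem_of_mem_nSub (D : Data m U h n) {A₀ : Subgroup G} (hA : A₀ ≤ hSub D) {g : G} (hg : g ∈ nSub D)
    {x : G} (hx : x ∈ A₀) : g⁻¹ * x * g ∈ A₀ := by
  have := conj_mem_of_mem_nSub D hA ((nSub D).inv_mem hg) hx
  rwa [inv_inv] at this

theorem mem_nSub_of_conj [Fintype K] (D : Data m U h n) (hK : Fintype.card K = 3 ^ (2 * m + 1)) {a b : Kˣ} {g : G}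
    (ha : a ^ 2 ≠ 1) (hg : h a * g = g * h b) : g ∈ nSub D := by
  rcases cases_of_conj D hK ha hg with ⟨-, hc⟩ | ⟨-, hc⟩
  · exact Or.inl hc
  · exact Or.inr hc

theorem mem_nSub_of_inv_conj_mem [Fintype K] (D : Data m U h n) (hK : Fintype.card K = 3 ^ (2 * m + 1)) {x g : G}
    (hx : x ∈ aSub D) (hx1 : x ≠ 1) (hg : g⁻¹ * x * g ∈ hSub D) : g ∈ nSub D := by
  obtain ⟨a, rfl, ha⟩ := sq_ne_one_of_mem_aSub D hK hx hx1
  obtain ⟨b, hb⟩ := (mem_hSub D).mp hg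
  apply mem_nSub_of_conj D hK ha (b := b)
  rw [← hb]
  group

theorem normalizer_eq [Fintype K] (D : Data m U h n) (hK : Fintype.card K = 3 ^ (2 * m + 1)) {A₀ : Subgroup G}
    (hA : A₀ ≤ aSub D) (h0 : A₀ ≠ ⊥) : Subgroup.normalizer (A₀ : Set G) = nSub D := by
  have hH : A₀ ≤ hSub D := hA.trans (aSub_le D)
  ext g
  constructor
  · intro hg
    obtain ⟨⟨x, hx⟩, hx1⟩ := Subgroup.ne_bot_iff_exists_ne_one.mp h0
    have hx1' : x ≠ 1 := fun he => hx1 (Subtype.ext he)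
    exact mem_nSub_of_inv_conj_mem D hK (hA hx) hx1' (hH ((Subgroup.mem_normalizer_iff''.mp hg x).mp hx))
  · intro hg
    rw [Subgroup.mem_normalizer_iff]
    intro x
    refine ⟨fun hx => conj_mem_of_mem_nSub D hH hg hx, fun hx => ?_⟩
    have h1 := inv_conj_mem_of_mem_nSub D hH hg hx
    have h2 : g⁻¹ * (g * x * g⁻¹) * g = x := by group
    rwa [h2] at h1

/-- (C4) -/
theorem exists_split [Fintype K] (D : Data m U h n) (hK : Fintype.card K = 3 ^ (2 * m + 1)) :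
    ∃ H A N : Subgroup G, IsCyclic H ∧ Nat.card H = Fintype.card K - 1 ∧ (∀ g, g ∈ H ↔ ∃ a, g = h a) ∧
      (∀ a : Kˣ, a ^ 2 ≠ 1 → Subgroup.centralizer ({h a} : Set G) = H) ∧
      A ≤ H ∧ IsCyclic A ∧ Nat.card A = (3 ^ (2 * m + 1) - 1) / 2 ∧ (∀ x ∈ H, Odd (orderOf x) → x ∈ A) ∧
      H ≤ N ∧ Nat.card N = 2 * (Fintype.card K - 1) ∧ (∀ g ∈ N, ∀ x ∈ A, g⁻¹ * x * g ∈ A) ∧
      (∀ x ∈ A, x ≠ 1 → ∀ g, g⁻¹ * x * g ∈ A → g ∈ N) ∧
      (∀ A₀ : Subgroup G, A₀ ≤ A → A₀ ≠ ⊥ → Subgroup.normalizer (A₀ : Set G) = N) :=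
  ⟨hSub D, aSub D, nSub D, isCyclic_hSub D, card_hSub D, fun _ => mem_hSub D, fun _ ha => centralizer_h D hK ha,
    aSub_le D, isCyclic_aSub D, card_aSub D hK, fun _ hx ho => mem_aSub_of_odd D hK hx ho,
    hSub_le_nSub D, card_nSub D, fun _ hg _ hx => inv_conj_mem_of_mem_nSub D (aSub_le D) hg hx,
    fun _ hx hx1 _ hg => mem_nSub_of_inv_conj_mem D hK hx hx1 (aSub_le D hg),
    fun _ hA h0 => normalizer_eq D hK hA h0⟩

/-! ### Elements of given orders -/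

theorem exists_orderOf_eq [Fintype K] (D : Data m U h n) : ∃ g : G, orderOf g = Fintype.card K - 1 := by
  obtain ⟨a, ha⟩ := IsCyclic.exists_generator (α := Kˣ)
  refine ⟨h a, ?_⟩
  rw [ReeTorus.orderOf_h D, orderOf_eq_card_of_forall_mem_zpowers ha, Nat.card_units, Nat.card_eq_fintype_card]

theorem orderOf_U_one [Fintype K] (D : Data m U h n) (hK : Fintype.card K = 3 ^ (2 * m + 1)) :
    orderOf (U 1 0 0) = 9 := by
  have h1 : U 1 0 0 ^ 3 = U 0 0 (-1) := by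
    rw [U_cube D hK]
    simp
  rw [show 9 = 3 ^ (1 + 1) by norm_num]
  have : Fact (Nat.Prime 3) := ⟨Nat.prime_three⟩
  apply orderOf_eq_prime_pow
  · rw [pow_one, h1, ← D.U_zero]
    intro he
    have := (U_injective D he).2.2
    exact one_ne_zero (neg_eq_zero.mp this)
  · rw [pow_add, pow_mul, pow_one, h1, U_zero_zero_cube D hK]

theorem orderOf_U_zero_one [Fintype K] (D : Data m U h n) (hK : Fintype.card K = 3 ^ (2 * m + 1)) :
    orderOf (U 0 1 0) = 3 := by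
  have : Fact (Nat.Prime 3) := ⟨Nat.prime_three⟩
  apply orderOf_eq_prime
  · rw [U_cube D hK]
    simp [D.U_zero]
  · rw [← D.U_zero]
    intro he
    exact one_ne_zero (U_injective D he).2.1

theorem orderOf_neg_one [Fintype K] (D : Data m U h n) (hK : Fintype.card K = 3 ^ (2 * m + 1)) :
    orderOf (h (-1)) = 2 := by
  have : Fact (Nat.Prime 2) := ⟨Nat.prime_two⟩
  apply orderOf_eq_prime
  · rw [pow_two, D.inv_sq]
  · exact D.inv_ne_one hK

theorem exists_orderOf_eq_six [Fintype K] (D : Data m U h n) (hK : Fintype.card K = 3 ^ (2 * m + 1)) :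
    orderOf (h (-1) * U 0 1 0) = 6 := by
  have hc : Commute (h (-1)) (U 0 1 0) := by
    change h (-1) * U 0 1 0 = U 0 1 0 * h (-1)
    rw [D.inv_mul_U, neg_zero]
  rw [hc.orderOf_mul_eq_mul_orderOf_of_coprime (by rw [orderOf_neg_one D hK, orderOf_U_zero_one D hK]; decide),
    orderOf_neg_one D hK, orderOf_U_zero_one D hK]

end Cfsg.Agent.LieRecognition.ReeSplit
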