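import Mathlib
import Cfsg.Agent.LieRecognition.ReeClass
import Cfsg.Agent.LieRecognition.ReeCent
import Cfsg.Agent.LieRecognition.ReeAbs
import Cfsg.Agent.LieRecognition.ReeSplit
import Cfsg.Agent.LieRecognition.ReeCount
import Cfsg.Agent.LieRecognition.ReeOrders

/-!
# Hall subgroups and element orders of groups with the Bruhat normal form of the small Ree groups
-/

set_option autoImplicit false
set_option linter.unusedSectionVars false

namespace Cfsg.Agent.LieRecognition.ReeSetup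

open Subgroup
open Cfsg.Agent.LieRecognition.ReeInv
open Cfsg.Agent.LieRecognition.ReeTorusB
open Cfsg.Agent.LieRecognition.ReeClass
open Cfsg.Agent.LieRecognition.ReePSL (pr J klein torus)
open Cfsg.Agent.ClassicalGeometry.SLTwoFour (w)

theorem orderOf_prU {K : Type*} [Field K] [CharP K 3] : orderOf (ReePSL.pr K (ReePSL.U K)) = 3 := by
  have : Fact (Nat.Prime 3) := ⟨Nat.prime_three⟩
  apply orderOf_eq_prime
  · rw [← map_pow, ReePSL.pow_three_of_trace, map_one]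
    have h3 := ReePSL.three (K := K)
    rw [ReePSL.U00, ReePSL.U11]
    linear_combination h3
  · intro h
    have h1 := (ReePSL.klein (K := K)).uiu
    rw [h] at h1
    apply (ReePSL.klein (K := K)).ne
    rw [← h1]; group

variable {K : Type*} [Field K] [Fintype K] {G : Type*} [Group G] [Finite G] {m : ℕ}
  {U : K → K → K → G} {h : Kˣ → G} {n : G}

theorem exists_setup [CharP K 3] (D : ReeAbs.Data m U h n) (hK : Fintype.card K = 3 ^ (2 * m + 1))
    (hG : commutator G = ⊤) {U' B H A N : Subgroup G}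
    (Dl : Local G (3 ^ (2 * m + 1)) U' B H A N) :
    ∃ (f : ReePSL.L K →* G) (t₀ : ReePSL.L K), Setup G (ReePSL.L K) (3 ^ (2 * m + 1)) (h (-1)) f
      (pr K w) (pr K (J K)) (pr K (ReePSL.U K)) t₀ (ReePSL.T K) := by
  classical
  obtain ⟨e⟩ := D.centralizer_iso hK
  have ar := ReeClass.arith m
  have hq4 : Fintype.card K % 4 = 3 := by
    have := ar.q8
    rw [hK]; omega
  have hc := ReeCent.centData (D.inv_ne_one hK) D.inv_sq e ReePSL.klein
  have ht := ReePSL.torus (K := K) hq4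
  rw [hK] at ht
  have hS8 : ∀ S : Sylow 2 G, Nat.card S = 8 ∧ ∀ x ∈ S, x * x = 1 :=
    fun S => D.sylow_two hK Dl.card_G S
  obtain ⟨t₀, ht₀⟩ := (Subgroup.isCyclic_iff_exists_zpowers_eq_top (ReePSL.T K)).1 ht.cyc
  refine ⟨ReeCent.emb e, t₀, ⟨hc, ReePSL.klein, ht, ht₀, ?_, ?_, ar.q8, ar.three, ?_, ?_⟩⟩
  · intro t h1 h2
    exact isConj_involution hc ReePSL.klein hG hS8 h1 h2
  · intro t h1 h2
    have hodd : Odd (Fintype.card K) := by rw [Nat.odd_iff]; omega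
    have hi : orderOf (pr K w) = 2 :=
      orderOf_eq_prime (by rw [pow_two]; exact ReePSL.klein.ii) ReePSL.klein.i_ne
    have ht2 : orderOf t = 2 := orderOf_eq_prime (by rw [pow_two, h2]) h1
    have := Cfsg.Agent.ClassicalGeometry.SLTwoFour.psl_isConj hodd _ t hi ht2
    rw [isConj_iff] at this
    exact this
  · intro P hP x hx
    obtain ⟨S, hS⟩ := hP.exists_le_sylow
    exact (hS8 S).2 x (hS hx)
  · exact fun y hy z hz h3 hz1 => no3 Dl ar y hy z hz h3 hz1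

/-- the local data of a group with the Bruhat normal form of a small Ree group -/
theorem local_of_data (D : ReeAbs.Data m U h n) (hK : Fintype.card K = 3 ^ (2 * m + 1)) :
    Local G (3 ^ (2 * m + 1)) (ReeSylowThree.uSub D) (ReeSplit.bSub D) (ReeSplit.hSub D)
      (ReeSplit.aSub D) (ReeSplit.nSub D) where
  card_G := by rw [ReeSylowThree.card_eq D, hK]
  card_U := by rw [ReeSylowThree.card_uSub D, hK]
  card_B := by rw [ReeSplit.card_bSub D, hK]
  B_U := fun _ hg _ hx => ReeSplit.inv_conj_mem_uSub D hg hx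
  TI_U := fun _ hx hx1 _ hg => ReeSplit.mem_bSub_of_inv_conj_mem D hx hx1 hg
  U_exp := fun _ hx => ReeSplit.pow_nine D hK hx
  cent_U := fun _ hx hx1 _ hc => ⟨ReeSplit.pow_eighteen_of_commute D hK hx hx1 hc,
    fun ho => ReeSplit.mem_uSub_of_commute_of_odd D hK hx hx1 hc ho⟩
  card_H := by rw [ReeSplit.card_hSub D, hK]
  A_le := ReeSplit.aSub_le D
  card_A := ReeSplit.card_aSub D hK
  card_N := by rw [ReeSplit.card_nSub D, hK]
  odd_H := fun _ hx ho => ReeSplit.mem_aSub_of_odd D hK hx ho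
  cent_A := by
    intro x hx hx1 y hc
    obtain ⟨a, rfl, ha⟩ := ReeSplit.sq_ne_one_of_mem_aSub D hK hx hx1
    rw [← ReeSplit.centralizer_h D hK ha, mem_centralizer_singleton_iff]
    exact hc
  N_A := fun _ hg _ hx => ReeSplit.inv_conj_mem_of_mem_nSub D (ReeSplit.aSub_le D) hg hx
  TI_A := fun _ hx hx1 _ hg => ReeSplit.mem_nSub_of_inv_conj_mem D hK hx hx1 (ReeSplit.aSub_le D hg)

/-- the tori of order dividing `q² - q + 1` -/
theorem exists_tori (D : ReeAbs.Data m U h n) (hm : 1 ≤ m) (hK : Fintype.card K = 3 ^ (2 * m + 1))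
    (hG : commutator G = ⊤)
    (hcyc : ∀ x : G, x ≠ 1 → orderOf x ∣ (3 ^ (2 * m + 1)) ^ 2 - 3 ^ (2 * m + 1) + 1 →
      IsCyclic (centralizer {x}) ∧
        Nat.card (normalizer (centralizer {x} : Set G)) ∣ 6 * Nat.card (centralizer {x})) :
    ∃ A B : Subgroup G, IsCyclic A ∧ IsCyclic B ∧ Nat.card A = 3 ^ (2 * m + 1) - 3 ^ (m + 1) + 1 ∧
      Nat.card B = 3 ^ (2 * m + 1) + 3 ^ (m + 1) + 1 ∧
      Nat.card (normalizer (A : Set G)) = 6 * (3 ^ (2 * m + 1) - 3 ^ (m + 1) + 1) ∧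
      Nat.card (normalizer (B : Set G)) = 6 * (3 ^ (2 * m + 1) + 3 ^ (m + 1) + 1) ∧
      (∀ x ∈ A, x ≠ 1 → centralizer {x} = A) ∧ (∀ x ∈ B, x ≠ 1 → centralizer {x} = B) ∧
      ∀ x : G, x ≠ 1 → orderOf x ∣ (3 ^ (2 * m + 1)) ^ 2 - 3 ^ (2 * m + 1) + 1 →
        ∃ g : G, g * x * g⁻¹ ∈ A ∨ g * x * g⁻¹ ∈ B := by
  have : CharP K 3 := ReeAbs.charP_three hK
  have Dl := local_of_data D hK
  obtain ⟨f, t₀, S⟩ := exists_setup D hK hG Dl
  have ar := ReeClass.arith m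
  exact ReeCount.exists_tori hm Dl.card_G (fun x hx hx1 => (hcyc x hx hx1).1)
    (fun x hx hx1 => card_centralizer_dvd Dl ar S hx hx1) (fun x hx hx1 => (hcyc x hx hx1).2)
    (count Dl ar S)

/-- S1158 -/
theorem hall (D : ReeAbs.Data m U h n) (hm : 1 ≤ m) (hK : Fintype.card K = 3 ^ (2 * m + 1))
    (hG : commutator G = ⊤)
    (hcyc : ∀ x : G, x ≠ 1 → orderOf x ∣ (3 ^ (2 * m + 1)) ^ 2 - 3 ^ (2 * m + 1) + 1 →
      IsCyclic (centralizer {x}) ∧
        Nat.card (normalizer (centralizer {x} : Set G)) ∣ 6 * Nat.card (centralizer {x})) :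
    ∀ kn ∈ ({((3 ^ (2 * m + 1) - 1) / 2, 2 * (3 ^ (2 * m + 1) - 1)), ((3 ^ (2 * m + 1) + 1) / 4, 6 * (3 ^ (2 * m + 1) + 1)),
        (3 ^ (2 * m + 1) - 3 ^ (m + 1) + 1, 6 * (3 ^ (2 * m + 1) - 3 ^ (m + 1) + 1)),
        (3 ^ (2 * m + 1) + 3 ^ (m + 1) + 1, 6 * (3 ^ (2 * m + 1) + 3 ^ (m + 1) + 1))} : Set (ℕ × ℕ)),
      ∃ A : Subgroup G, IsCyclic A ∧ Nat.card A = kn.1 ∧
        Nat.card (Subgroup.normalizer (A : Set G)) = kn.2 ∧
        ∀ A₀ : Subgroup G, A₀ ≤ A → A₀ ≠ ⊥ →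
          Subgroup.normalizer (A₀ : Set G) = Subgroup.normalizer (A : Set G) := by
  have : CharP K 3 := ReeAbs.charP_three hK
  have Dl := local_of_data D hK
  obtain ⟨f, t₀, S⟩ := exists_setup D hK hG Dl
  obtain ⟨A1, A2, c1, c2, k1, k2, n1, n2, z1, z2, -⟩ := exists_tori D hm hK hG hcyc
  have hq27 : 27 ≤ 3 ^ (2 * m + 1) := by
    calc 27 = 3 ^ 3 := by norm_num
      _ ≤ 3 ^ (2 * m + 1) := Nat.pow_le_pow_right (by norm_num) (by omega)
  intro kn hkn
  simp only [Set.mem_insert_iff, Set.mem_singleton_iff] at hkn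
  rcases hkn with rfl | rfl | rfl | rfl
  · have hA : ReeSplit.aSub D ≠ ⊥ := by
      intro hb
      have h1 := ReeSplit.card_aSub D hK
      rw [hb, Subgroup.card_bot] at h1
      omega
    refine ⟨ReeSplit.aSub D, ReeSplit.isCyclic_aSub D, ReeSplit.card_aSub D hK, ?_, ?_⟩
    · rw [ReeSplit.normalizer_eq D hK le_rfl hA, ReeSplit.card_nSub D, hK]
    · intro A₀ h0 h1
      rw [ReeSplit.normalizer_eq D hK le_rfl hA, ReeSplit.normalizer_eq D hK h0 h1]
  · have hA : S.A ≠ ⊥ := by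
      intro hb
      have h1 := S.card_A
      rw [hb, Subgroup.card_bot] at h1
      omega
    refine ⟨S.A, S.cyclic_A, S.card_A, ?_, ?_⟩
    · rw [S.normalizer_eq le_rfl hA, S.card_N]
    · intro A₀ h0 h1
      rw [S.normalizer_eq le_rfl hA, S.normalizer_eq h0 h1]
  · exact ⟨A1, c1, k1, n1, fun A₀ h0 h1 => ReeOrders.normalizer_sub c1 z1 h0 h1⟩
  · exact ⟨A2, c2, k2, n2, fun A₀ h0 h1 => ReeOrders.normalizer_sub c2 z2 h0 h1⟩

/-- S1159 -/
theorem orders (D : ReeAbs.Data m U h n) (hm : 1 ≤ m) (hK : Fintype.card K = 3 ^ (2 * m + 1))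
    (hG : commutator G = ⊤)
    (hcyc : ∀ x : G, x ≠ 1 → orderOf x ∣ (3 ^ (2 * m + 1)) ^ 2 - 3 ^ (2 * m + 1) + 1 →
      IsCyclic (centralizer {x}) ∧
        Nat.card (normalizer (centralizer {x} : Set G)) ∣ 6 * Nat.card (centralizer {x})) (d : ℕ) :
    (∃ g : G, orderOf g = d) ↔
      (d ∣ 6 ∨ d ∣ 9 ∨ d ∣ 3 ^ (2 * m + 1) - 1 ∨ d ∣ (3 ^ (2 * m + 1) + 1) / 2 ∨
        d ∣ 3 ^ (2 * m + 1) - 3 ^ (m + 1) + 1 ∨ d ∣ 3 ^ (2 * m + 1) + 3 ^ (m + 1) + 1) := by
  have : CharP K 3 := ReeAbs.charP_three hK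
  have Dl := local_of_data D hK
  obtain ⟨f, t₀, S⟩ := exists_setup D hK hG Dl
  have ar := ReeClass.arith m
  obtain ⟨A1, A2, c1, c2, k1, k2, n1, n2, z1, z2, hcov⟩ := exists_tori D hm hK hG hcyc
  have h1 : ∃ g : G, orderOf g = 3 ^ (2 * m + 1) - 1 := by
    rw [← hK]; exact ReeSplit.exists_orderOf_eq D
  rw [← k1, ← k2]
  exact ReeOrders.exists_orderOf_iff Dl ar S c1 c2 hcov ⟨_, ReeSplit.orderOf_U_one D hK⟩ h1
    orderOf_prU d

end Cfsg.Agent.LieRecognition.ReeSetup
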