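import Mathlib

/-!
Central extensions of an elementary abelian 2-group by an elementary abelian 2-group are determined by
their squaring map: if `P → V`, `P' → V` are surjective with kernels central copies of `A` and the squares
of any two elements with the same image in `V` are the same element of `A`, then `P ≃* P'`.
-/

set_option autoImplicit false

namespace Cfsg.Agent.LieRecognition.CentralExtIso

variable {P P' A V : Type*} [Group P] [Group P'] [Group A] [Group V]

/-- Two finite central extensions with the same squaring map are isomorphic, compatibly with the maps to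
`V` and from `A`. -/
theorem exists_mulEquiv [Finite P] [Finite P'] (f : P →* V) (f' : P' →* V) (i : A →* P) (i' : A →* P')
    (hf : Function.Surjective f) (hf' : Function.Surjective f')
    (hi : Function.Injective i) (hi' : Function.Injective i')
    (hker : ∀ x : P, f x = 1 ↔ x ∈ i.range) (hker' : ∀ x : P', f' x = 1 ↔ x ∈ i'.range)
    (hcen : ∀ (a : A) (x : P), i a * x = x * i a) (hcen' : ∀ (a : A) (x : P'), i' a * x = x * i' a)
    (hsq : ∀ (x : P) (x' : P'), f x = f' x' → ∃ a : A, x * x = i a ∧ x' * x' = i' a) :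
    ∃ e : P ≃* P', (∀ x, f' (e x) = f x) ∧ (∀ a, e (i a) = i' a) := by
  classical
  -- the fibre product
  let E : Subgroup (P × P') := (f.comp (MonoidHom.fst P P')).eqLocus (f'.comp (MonoidHom.snd P P'))
  have hE : ∀ p : P × P', p ∈ E ↔ f p.1 = f' p.2 := fun p => Iff.rfl
  let D : Subgroup (P × P') := (i.prod i').range
  have hD : ∀ p : P × P', p ∈ D ↔ ∃ a, (i a, i' a) = p := fun p => Iff.rfl
  have hfi : ∀ a, f (i a) = 1 := fun a => (hker _).2 ⟨a, rfl⟩
  have hfi' : ∀ a, f' (i' a) = 1 := fun a => (hker' _).2 ⟨a, rfl⟩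
  have hDE : D ≤ E := by
    rintro p ⟨a, rfl⟩
    show f (i a) = f' (i' a)
    rw [hfi, hfi']
  -- a maximal subgroup meeting the kernel in `D`
  let S : Set (Subgroup (P × P')) := {C | D ≤ C ∧ C ≤ E ∧ ∀ a b, (i a, i' b) ∈ C → a = b}
  have hDS : D ∈ S := by
    refine ⟨le_rfl, hDE, ?_⟩
    rintro a b ⟨c, hc⟩
    have h1 := congrArg Prod.fst hc
    have h2 := congrArg Prod.snd hc
    have h3 : c = a := hi h1
    have h4 : c = b := hi' h2
    exact h3.symm.trans h4
  obtain ⟨C, hDC, hCmax⟩ := (Set.toFinite S).exists_le_maximal hDS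
  obtain ⟨⟨hDC', hCE, hCint⟩, hmax⟩ := hCmax
  -- every element of `E` has its square in `D`
  have hsqD : ∀ p ∈ E, p * p ∈ D := by
    intro p hp
    obtain ⟨a, ha, ha'⟩ := hsq p.1 p.2 ((hE p).1 hp)
    exact ⟨a, Prod.ext ha.symm ha'.symm⟩
  have hDcen : ∀ d ∈ D, ∀ p : P × P', d * p = p * d := by
    rintro d ⟨a, rfl⟩ p
    exact Prod.ext (hcen a p.1) (hcen' a p.2)
  -- `C` is normalised by `E`
  have hnorm : ∀ c ∈ C, ∀ p ∈ E, p * c * p⁻¹ ∈ C := by
    intro c hc p hp
    have h1 := hsqD _ (E.mul_mem hp (hCE hc))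
    have h2 := hsqD p hp
    have h3 : p * c * p⁻¹ = (p * c * (p * c)) * c⁻¹ * ((p * p)⁻¹) := by
      have h4 : (p * c * (p * c)) * c⁻¹ * ((p * p)⁻¹) = p * c * p⁻¹ := by group
      exact h4.symm
    rw [h3]
    exact C.mul_mem (C.mul_mem (hDC' h1) (C.inv_mem hc)) (hDC' (D.inv_mem h2))
  have key : ∀ p ∈ E, ∃ a b, p * (i a, i' b) ∈ C := by
    intro p hp
    by_contra hcon
    push Not at hcon
    have hnorm' : ∀ c ∈ C, p⁻¹ * c * p ∈ C := by
      intro c hc
      have := hnorm c hc p⁻¹ (E.inv_mem hp)
      rwa [inv_inv] at this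
    -- the subgroup `C ∪ C p`
    let C' : Subgroup (P × P') :=
      { carrier := {r | r ∈ C ∨ r * p ∈ C}
        one_mem' := Or.inl C.one_mem
        mul_mem' := by
          rintro r s (hr | hr) (hs | hs)
          · exact Or.inl (C.mul_mem hr hs)
          · right
            rw [mul_assoc]
            exact C.mul_mem hr hs
          · right
            have h1 : r * s * p = (r * p) * (p⁻¹ * s * p) := by group
            rw [h1]
            exact C.mul_mem hr (hnorm' s hs)
          · left
            have h1 : r * s = (r * p) * (p⁻¹ * (s * p) * p) * (p * p)⁻¹ := by group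
            rw [h1]
            exact C.mul_mem (C.mul_mem hr (hnorm' _ hs)) (C.inv_mem (hDC' (hsqD p hp)))
        inv_mem' := by
          rintro r (hr | hr)
          · exact Or.inl (C.inv_mem hr)
          · right
            have h1 : r⁻¹ * p = p * (r * p)⁻¹ * p⁻¹ * (p * p) := by group
            rw [h1]
            exact C.mul_mem (hnorm _ (C.inv_mem hr) p hp) (hDC' (hsqD p hp)) }
    have hC'S : C' ∈ S := by
      refine ⟨fun d hd => Or.inl (hDC' hd), ?_, ?_⟩
      · rintro r (hr | hr)
        · exact hCE hr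
        · have := E.mul_mem (hCE hr) (E.inv_mem hp)
          simpa using this
      · rintro a b (hab | hab)
        · exact hCint a b hab
        · exfalso
          apply hcon a b
          have : p * (i a, i' b) = (i a, i' b) * p :=
            Prod.ext (hcen a p.1).symm (hcen' b p.2).symm
          rwa [this]
    have hle : C' ≤ C := hmax hC'S (fun r hr => Or.inl hr)
    have hpC : p ∈ C := by
      apply hle
      exact Or.inr (hDC' (hsqD p hp))
    apply hcon 1 1
    rw [map_one, map_one]
    exact (mul_one p).symm ▸ hpC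
  -- the projections of `C` are isomorphisms
  let g : C →* P := (MonoidHom.fst P P').comp C.subtype
  let g' : C →* P' := (MonoidHom.snd P P').comp C.subtype
  have hg : ∀ c : C, g c = (c : P × P').1 := fun c => rfl
  have hg' : ∀ c : C, g' c = (c : P × P').2 := fun c => rfl
  have hginj : Function.Injective g := by
    rw [injective_iff_map_eq_one]
    intro c hc
    have h1 : (c : P × P').1 = 1 := hc
    have h2 : f' (c : P × P').2 = 1 := by
      have := (hE _).1 (hCE c.2)
      rw [← this, h1, map_one]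
    obtain ⟨b, hb⟩ := (hker' _).1 h2
    have h3 : ((c : P × P')) = (i 1, i' b) := Prod.ext (by rw [h1, map_one]) hb.symm
    have h4 := hCint 1 b (h3 ▸ c.2)
    apply Subtype.ext
    rw [h3, ← h4, map_one, map_one]
    rfl
  have hg'inj : Function.Injective g' := by
    rw [injective_iff_map_eq_one]
    intro c hc
    have h1 : (c : P × P').2 = 1 := hc
    have h2 : f (c : P × P').1 = 1 := by
      have := (hE _).1 (hCE c.2)
      rw [this, h1, map_one]
    obtain ⟨b, hb⟩ := (hker _).1 h2
    have h3 : ((c : P × P')) = (i b, i' 1) := Prod.ext hb.symm (by rw [h1, map_one])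
    have h4 := hCint b 1 (h3 ▸ c.2)
    apply Subtype.ext
    rw [h3, h4, map_one, map_one]
    rfl
  have hgsurj : Function.Surjective g := by
    intro x
    obtain ⟨x', hx'⟩ := hf' (f x)
    obtain ⟨a, b, hab⟩ := key (x, x') hx'.symm
    have h1 : ((x, x') * (i a, i' b)) * (i a, i' a)⁻¹ ∈ C :=
      C.mul_mem hab (C.inv_mem (hDC' ⟨a, rfl⟩))
    refine ⟨⟨_, h1⟩, ?_⟩
    show x * i a * (i a)⁻¹ = x
    group
  have hg'surj : Function.Surjective g' := by
    intro x'
    obtain ⟨x, hx⟩ := hf (f' x')
    obtain ⟨a, b, hab⟩ := key (x, x') hx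
    have h1 : ((x, x') * (i a, i' b)) * (i b, i' b)⁻¹ ∈ C :=
      C.mul_mem hab (C.inv_mem (hDC' ⟨b, rfl⟩))
    refine ⟨⟨_, h1⟩, ?_⟩
    show x' * i' b * (i' b)⁻¹ = x'
    group
  let e1 : C ≃* P := MulEquiv.ofBijective g ⟨hginj, hgsurj⟩
  let e2 : C ≃* P' := MulEquiv.ofBijective g' ⟨hg'inj, hg'surj⟩
  have he1 : ∀ c : C, e1 c = (c : P × P').1 := fun c => rfl
  have he2 : ∀ c : C, e2 c = (c : P × P').2 := fun c => rfl
  refine ⟨e1.symm.trans e2, fun x => ?_, fun a => ?_⟩
  · obtain ⟨c, rfl⟩ := e1.surjective x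
    rw [MulEquiv.trans_apply, MulEquiv.symm_apply_apply, he2, he1]
    exact ((hE _).1 (hCE c.2)).symm
  · have h1 : e1 ⟨(i a, i' a), hDC' ⟨a, rfl⟩⟩ = i a := rfl
    rw [← h1, MulEquiv.trans_apply, MulEquiv.symm_apply_apply]
    rfl

end Cfsg.Agent.LieRecognition.CentralExtIso
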