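import Cfsg.Agent.LieRecognition.ReeAbs

/-!
# Groups with the Bruhat normal form of the small Ree groups: order, Sylow 3-subgroups
-/

set_option autoImplicit false
set_option linter.style.haveILetI false

namespace Cfsg.Agent.LieRecognition.ReeSylowThree

open Cfsg.Agent.LieRecognition.ReeAbs
open scoped Pointwise

variable {K : Type*} [Field K] {G : Type*} [Group G]
variable {m : ℕ} {U : K → K → K → G} {h : Kˣ → G} {n : G}

/-- The parametrisation of the group by the two Bruhat cells. -/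
def param (U : K → K → K → G) (h : Kˣ → G) (n : G) : (K × K × K) × Kˣ ⊕ (K × K × K) × Kˣ × (K × K × K) → G
  | Sum.inl x => U x.1.1 x.1.2.1 x.1.2.2 * h x.2
  | Sum.inr x => U x.1.1 x.1.2.1 x.1.2.2 * h x.2.1 * n * U x.2.2.1 x.2.2.2.1 x.2.2.2.2

theorem param_bijective (D : Data m U h n) : Function.Bijective (param U h n) := by
  constructor
  · rintro (⟨⟨t, u, v⟩, a⟩ | ⟨⟨t, u, v⟩, a, ⟨t', u', v'⟩⟩) (⟨⟨t₁, u₁, v₁⟩, a₁⟩ | ⟨⟨t₁, u₁, v₁⟩, a₁, ⟨t₁', u₁', v₁'⟩⟩) he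
    · obtain ⟨rfl, rfl, rfl, rfl⟩ := D.inj₁ _ _ _ _ _ _ _ _ he
      rfl
    · exact absurd he (D.ne _ _ _ _ _ _ _ _ _ _ _)
    · exact absurd he.symm (D.ne _ _ _ _ _ _ _ _ _ _ _)
    · obtain ⟨rfl, rfl, rfl, rfl, rfl, rfl, rfl⟩ := D.inj₂ _ _ _ _ _ _ _ _ _ _ _ _ _ _ he
      rfl
  · intro g
    rcases D.bruhat g with ⟨t, u, v, a, rfl⟩ | ⟨t, u, v, a, t', u', v', rfl⟩
    · exact ⟨Sum.inl ((t, u, v), a), rfl⟩
    · exact ⟨Sum.inr ((t, u, v), a, (t', u', v')), rfl⟩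

/-- The order of the group. -/
theorem card_eq [Fintype K] (D : Data m U h n) :
    Nat.card G = (Fintype.card K) ^ 3 * (Fintype.card K - 1) * ((Fintype.card K) ^ 3 + 1) := by
  rw [← Nat.card_congr (Equiv.ofBijective _ (param_bijective D)), Nat.card_sum]
  simp only [Nat.card_prod, Nat.card_units, Nat.card_eq_fintype_card, Fintype.card_prod]
  ring

theorem finite [Finite K] (D : Data m U h n) : Finite G :=
  Finite.of_equiv _ (Equiv.ofBijective _ (param_bijective D))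

theorem U_inv (D : Data m U h n) (t u v : K) : ∃ t' u' v', (U t u v)⁻¹ = U t' u' v' := by
  -- solve `U t u v * U (-t) u' v' = U 0 0 0 = 1`
  refine ⟨-t, t * (-t) ^ (3 ^ (m + 1)) - u,
    -(v - u * (-t) - t ^ 2 * (-t) ^ (3 ^ (m + 1)) + t * (-t) * (-t) ^ (3 ^ (m + 1))), ?_⟩
  rw [inv_eq_iff_mul_eq_one, D.U_mul, ← D.U_zero]
  congr 1 <;> ring

/-- The subgroup of the elements `U t u v`. -/
def uSub (D : Data m U h n) : Subgroup G where
  carrier := {g | ∃ t u v, g = U t u v}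
  mul_mem' := by
    rintro _ _ ⟨t, u, v, rfl⟩ ⟨t', u', v', rfl⟩
    exact ⟨_, _, _, D.U_mul _ _ _ _ _ _⟩
  one_mem' := ⟨0, 0, 0, D.U_zero.symm⟩
  inv_mem' := by
    rintro _ ⟨t, u, v, rfl⟩
    exact U_inv D t u v

theorem mem_uSub (D : Data m U h n) {g : G} : g ∈ uSub D ↔ ∃ t u v, g = U t u v := Iff.rfl

theorem U_injective (D : Data m U h n) {t u v t' u' v' : K} (he : U t u v = U t' u' v') :
    t = t' ∧ u = u' ∧ v = v' := by
  obtain ⟨h1, h2, h3, -⟩ := D.inj₁ t u v 1 t' u' v' 1 (by rw [he])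
  exact ⟨h1, h2, h3⟩

theorem card_uSub [Fintype K] (D : Data m U h n) : Nat.card (uSub D) = (Fintype.card K) ^ 3 := by
  let f : K × K × K → uSub D := fun x => ⟨U x.1 x.2.1 x.2.2, x.1, x.2.1, x.2.2, rfl⟩
  have hf : Function.Bijective f := by
    constructor
    · rintro ⟨t, u, v⟩ ⟨t', u', v'⟩ he
      obtain ⟨rfl, rfl, rfl⟩ := U_injective D (congrArg Subtype.val he)
      rfl
    · rintro ⟨g, t, u, v, rfl⟩
      exact ⟨(t, u, v), rfl⟩
  rw [← Nat.card_congr (Equiv.ofBijective f hf), Nat.card_prod, Nat.card_prod, Nat.card_eq_fintype_card]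
  ring

/-- `h a` normalises the subgroup `uSub`. -/
theorem h_conj_mem (D : Data m U h n) (a : Kˣ) {x : G} (hx : x ∈ uSub D) : h a * x * (h a)⁻¹ ∈ uSub D := by
  obtain ⟨t, u, v, rfl⟩ := hx
  rw [D.h_U, mul_inv_cancel_right]
  exact ⟨_, _, _, rfl⟩

/-- If a nontrivial element of `uSub` is conjugated into `uSub` by `g`, then `g` normalises `uSub`. -/
theorem conj_mem_of (D : Data m U h n) {g x y : G} (hx : x ∈ uSub D) (hy : y ∈ uSub D) (hx1 : x ≠ 1)
    (hg : x * g = g * y) : ∀ z, z ∈ uSub D → g * z * g⁻¹ ∈ uSub D := by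
  rcases D.bruhat g with ⟨t, u, v, a, rfl⟩ | ⟨t, u, v, a, t', u', v', rfl⟩
  · intro z hz
    have h1 : U t u v * h a * z * (U t u v * h a)⁻¹ = U t u v * (h a * z * (h a)⁻¹) * (U t u v)⁻¹ := by group
    rw [h1]
    exact (uSub D).mul_mem ((uSub D).mul_mem ⟨_, _, _, rfl⟩ (h_conj_mem D a hz)) ((uSub D).inv_mem ⟨_, _, _, rfl⟩)
  · exfalso
    obtain ⟨s₁, s₂, s₃, hs⟩ := (uSub D).mul_mem hx ⟨t, u, v, rfl⟩
    obtain ⟨r₁, r₂, r₃, hr⟩ := (uSub D).mul_mem ⟨t', u', v', rfl⟩ hy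
    have h1 : U s₁ s₂ s₃ * h a * n * U t' u' v' = U t u v * h a * n * U r₁ r₂ r₃ := by
      rw [← hs, ← hr]
      simpa [mul_assoc] using hg
    obtain ⟨rfl, rfl, rfl, -⟩ := D.inj₂ _ _ _ _ _ _ _ _ _ _ _ _ _ _ h1
    apply hx1
    exact mul_eq_right.1 hs

/-- Distinct Sylow 3-subgroups intersect trivially. -/
theorem sylow_three_inf [Fintype K] (hK : Fintype.card K = 3 ^ (2 * m + 1)) (D : Data m U h n)
    (P Q : Sylow 3 G) (hPQ : P ≠ Q) : (P : Subgroup G) ⊓ (Q : Subgroup G) = ⊥ := by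
  haveI : Finite G := finite D
  haveI : Fact (Nat.Prime 3) := ⟨Nat.prime_three⟩
  -- `uSub` is a Sylow subgroup
  have hcardU : Nat.card (uSub D) = 3 ^ (3 * (2 * m + 1)) := by
    rw [card_uSub, hK, ← pow_mul, mul_comm]
  have hfac : (Nat.card G).factorization 3 = 3 * (2 * m + 1) := by
    rw [card_eq D, hK]
    set q := 3 ^ (2 * m + 1) with hq
    have hq3 : 3 ∣ q := dvd_pow_self 3 (by omega)
    have hq0 : 0 < q := by positivity
    have h1 : ¬ 3 ∣ (q - 1) * (q ^ 3 + 1) := by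
      rw [Nat.prime_three.dvd_mul]
      have h3 : 3 ∣ q ^ 3 := dvd_pow hq3 (by norm_num)
      rintro (h | h) <;> omega
    rw [mul_assoc, Nat.factorization_mul (by positivity) (by intro h0; rw [h0] at h1; exact h1 (dvd_zero 3)),
      Finsupp.add_apply, Nat.factorization_eq_zero_of_not_dvd h1, hq, ← pow_mul,
      Nat.Prime.factorization_pow Nat.prime_three, Finsupp.single_apply, if_pos rfl, add_zero, mul_comm]
  let S : Sylow 3 G := Sylow.ofCard (uSub D) (by rw [hcardU, hfac])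
  have hS : (S : Subgroup G) = uSub D := rfl
  obtain ⟨g₁, rfl⟩ := MulAction.exists_smul_eq G S P
  obtain ⟨g₂, rfl⟩ := MulAction.exists_smul_eq G S Q
  rw [Subgroup.eq_bot_iff_forall]
  intro z hz
  by_contra hz1
  apply hPQ
  obtain ⟨hz₁, hz₂⟩ := Subgroup.mem_inf.1 hz
  obtain ⟨x, hx, hxz⟩ : ∃ x ∈ uSub D, g₁ * x * g₁⁻¹ = z := by
    have : z ∈ (MulAut.conj g₁ • (S : Subgroup G)) := hz₁
    rw [Subgroup.mem_smul_pointwise_iff_exists] at this
    obtain ⟨x, hx, hxz⟩ := this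
    exact ⟨x, hx, by simpa [MulAut.smul_def] using hxz⟩
  obtain ⟨y, hy, hyz⟩ : ∃ y ∈ uSub D, g₂ * y * g₂⁻¹ = z := by
    have : z ∈ (MulAut.conj g₂ • (S : Subgroup G)) := hz₂
    rw [Subgroup.mem_smul_pointwise_iff_exists] at this
    obtain ⟨x, hx, hxz⟩ := this
    exact ⟨x, hx, by simpa [MulAut.smul_def] using hxz⟩
  have hx1 : x ≠ 1 := by
    rintro rfl
    apply hz1
    rw [← hxz]; simp
  have hg : x * (g₁⁻¹ * g₂) = (g₁⁻¹ * g₂) * y := by
    have h1 : x = g₁⁻¹ * z * g₁ := by rw [← hxz]; group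
    have h2 : y = g₂⁻¹ * z * g₂ := by rw [← hyz]; group
    rw [h1, h2]; group
  have hn := conj_mem_of D hx hy hx1 hg
  have hle : (MulAut.conj (g₁⁻¹ * g₂) • (S : Subgroup G)) ≤ (S : Subgroup G) := by
    intro w hw
    rw [Subgroup.mem_smul_pointwise_iff_exists] at hw
    obtain ⟨s, hs, rfl⟩ := hw
    exact hn s hs
  have heq : (g₁⁻¹ * g₂) • S = S := by
    apply Sylow.ext
    rw [Sylow.smul_def]
    apply Subgroup.eq_of_le_of_card_ge hle
    exact (Nat.card_congr (Subgroup.equivSMul (MulAut.conj (g₁⁻¹ * g₂)) (S : Subgroup G)).toEquiv).le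
  have : g₂ • S = g₁ • (g₁⁻¹ * g₂) • S := by
    rw [smul_smul]; simp
  rw [this, heq]

end Cfsg.Agent.LieRecognition.ReeSylowThree
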