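import Cfsg.Prelude.Def_CurtisTits
import Cfsg.Agent.ChevalleyStructure.RootVec
import Cfsg.Agent.ChevalleyStructure.StBasic

/-!
Curtis-Tits groups (helper605), part 1: the relations of `D.CurtisTitsGroup K` as identities, homomorphisms out of
it, and the combinatorics of the standard rank two subsystems (closed under negation, reflections and the
commutator formula).
-/

set_option autoImplicit false

namespace Cfsg.Agent.LieRecognition.CTBase

open Cfsg.Lie Cfsg.Agent.ChevalleyStructure.RootVec Cfsg.Agent.ChevalleyStructure.RootVecTab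
  Cfsg.Agent.ChevalleyStructure.StBasic

/-! ### Standard rank two subsystems -/

/-- the root lies in some standard rank two subsystem -/
def Base (D : ChevalleyDatum) (r : ℕ) : Prop := ∃ i j : ℕ, D.InRankTwoSub i j r

section comb

variable {D : ChevalleyDatum}

theorem inRankTwo_iff (h : Checked D) {i j r : ℕ} : D.InRankTwoSub i j r ↔
    r < D.nroots ∧ i < D.rank ∧ j < D.rank ∧ ∀ k, k ≠ i → k ≠ j → rt D r k = 0 := by
  constructor
  · rintro ⟨hr, hi, hj, h1⟩
    refine ⟨hr, hi, hj, fun k hki hkj => ?_⟩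
    by_cases hk : k < D.rank
    · exact (co_eq_zero_iff h hr hk).1 (h1 k hk hki hkj)
    · exact rt_of_rank_le (not_lt.1 hk)
  · rintro ⟨hr, hi, hj, h1⟩
    exact ⟨hr, hi, hj, fun k hk hki hkj => (co_eq_zero_iff h hr hk).2 (h1 k hki hkj)⟩

theorem inRankTwo_symm {i j r : ℕ} (hr : D.InRankTwoSub i j r) : D.InRankTwoSub j i r :=
  ⟨hr.1, hr.2.2.1, hr.2.1, fun k hk h1 h2 => hr.2.2.2 k hk h2 h1⟩

/-- A root whose coefficient vector is a combination of those of two roots of a subsystem is in the subsystem. -/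
theorem inRankTwo_of_rt (h : Checked D) {i j r s u : ℕ} (hr : D.InRankTwoSub i j r) (hs : D.InRankTwoSub i j s)
    (hu : u < D.nroots) (a b : ℤ) (huv : ∀ k, rt D u k = a * rt D r k + b * rt D s k) : D.InRankTwoSub i j u := by
  rw [inRankTwo_iff h] at hr hs ⊢
  exact ⟨hu, hr.2.1, hr.2.2.1, fun k h1 h2 => by rw [huv, hr.2.2.2 k h1 h2, hs.2.2.2 k h1 h2]; ring⟩

theorem inRankTwo_commTerms (h : Checked D) {i j r s : ℕ} (hr : D.InRankTwoSub i j r) (hs : D.InRankTwoSub i j s)
    {c : ℕ × ℤ × ℕ × ℕ} (hc : c ∈ D.commTerms r s) : D.InRankTwoSub i j c.1 := by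
  obtain ⟨u, C, m, n⟩ := c
  obtain ⟨h1, -, -, -, -, h2⟩ := commTerms_rt h hc
  exact inRankTwo_of_rt h hr hs h1 m n h2

theorem inRankTwo_commWord (h : Checked D) {K : Type*} [Field K] {i j r s : ℕ} (hr : D.InRankTwoSub i j r)
    (hs : D.InRankTwoSub i j s) {t u : K} {p : ℕ × K} (hp : p ∈ D.commWord K r s t u) :
    D.InRankTwoSub i j p.1 := by
  have hp' : p ∈ (D.commTerms r s).map fun c => (c.1, (c.2.1 : K) * (-t) ^ c.2.2.1 * u ^ c.2.2.2) := hp
  rw [List.mem_map] at hp'
  obtain ⟨c, hc, rfl⟩ := hp'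
  exact inRankTwo_commTerms h hr hs hc

theorem inRankTwo_neg (h : Checked D) {i j r : ℕ} (hr : D.InRankTwoSub i j r) : D.InRankTwoSub i j (D.neg r) :=
  inRankTwo_of_rt h hr hr (neg_lt h hr.1) (-1) 0 fun k => by rw [rt_neg h hr.1]; ring

theorem inRankTwo_simple_left (h : Checked D) {i j : ℕ} (hi : i < D.rank) (hj : j < D.rank) :
    D.InRankTwoSub i j (D.simple i) := by
  rw [inRankTwo_iff h]
  exact ⟨simple_lt h hi, hi, hj, fun k h1 _ => by rw [rt_simple h hi, if_neg h1]⟩

theorem inRankTwo_simple_right (h : Checked D) {i j : ℕ} (hi : i < D.rank) (hj : j < D.rank) :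
    D.InRankTwoSub i j (D.simple j) :=
  inRankTwo_symm (inRankTwo_simple_left h hj hi)

theorem inRankTwo_reflect_left (h : Checked D) {i j r : ℕ} (hr : D.InRankTwoSub i j r) :
    D.InRankTwoSub i j (D.reflectRoot i r) := by
  have h1 := reflectRoot_rt h hr.2.1 hr.1
  refine inRankTwo_of_rt h hr (inRankTwo_simple_left h hr.2.1 hr.2.2.1) h1.1 1 (-D.cartan i r) fun k => ?_
  rw [h1.2, rt_simple h hr.2.1]
  ring

theorem inRankTwo_reflect_right (h : Checked D) {i j r : ℕ} (hr : D.InRankTwoSub i j r) :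
    D.InRankTwoSub i j (D.reflectRoot j r) :=
  inRankTwo_symm (inRankTwo_reflect_left h (inRankTwo_symm hr))

theorem base_neg (h : Checked D) {r : ℕ} (hr : Base D r) : Base D (D.neg r) := by
  obtain ⟨i, j, hr⟩ := hr
  exact ⟨i, j, inRankTwo_neg h hr⟩

theorem base_simple (h : Checked D) {i : ℕ} (hi : i < D.rank) : Base D (D.simple i) :=
  ⟨i, i, inRankTwo_simple_left h hi hi⟩

end comb

/-! ### Relations -/

variable {K : Type*} [Field K] (D : ChevalleyDatum)

/-- `x̄_r(t)` in the Curtis-Tits group -/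
def g (K : Type*) [Field K] (r : ℕ) (t : K) : D.CurtisTitsGroup K := PresentedGroup.mk (D.curtisTitsRels K) (D.stX r t)

theorem g_def (r : ℕ) (t : K) : g D K r t = PresentedGroup.mk (D.curtisTitsRels K) (D.stX r t) := rfl

/-- The class of a word in the Curtis-Tits group. -/
def wd (w : List (ℕ × K)) : D.CurtisTitsGroup K := PresentedGroup.mk (D.curtisTitsRels K) (D.stWord w)

theorem g_of_lt {r : ℕ} (h : r < D.nroots) (t : K) : g D K r t = PresentedGroup.of (⟨r, h⟩, t) := by
  show PresentedGroup.mk (D.curtisTitsRels K) (D.stX r t) = _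
  rw [stX_of_lt D h]; rfl

theorem g_of_not_lt {r : ℕ} (h : ¬ r < D.nroots) (t : K) : g D K r t = 1 := by
  show PresentedGroup.mk (D.curtisTitsRels K) (D.stX r t) = _
  rw [stX_of_not_lt D h, map_one]

theorem g_of_not_base {r : ℕ} (h : ¬ Base D r) (t : K) : g D K r t = 1 := by
  by_cases hr : r < D.nroots
  · have hmem : D.stX r t ∈ D.curtisTitsRels K :=
      Or.inl (Or.inl (Or.inl ⟨r, t, hr, fun i j hij => h ⟨i, j, hij⟩, rfl⟩))
    exact PresentedGroup.mk_eq_one_iff.2 (Subgroup.subset_normalClosure hmem)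
  · exact g_of_not_lt D hr t

theorem g_mul (r : ℕ) (t₁ t₂ : K) : g D K r t₁ * g D K r t₂ = g D K r (t₁ + t₂) := by
  by_cases h : Base D r
  · obtain ⟨i, j, h⟩ := h
    have hmem : D.stX r t₁ * D.stX r t₂ * (D.stX r (t₁ + t₂))⁻¹ ∈ D.curtisTitsRels K :=
      Or.inl (Or.inl (Or.inr ⟨i, j, r, t₁, t₂, h, rfl⟩))
    have := PresentedGroup.mk_eq_mk_of_mul_inv_mem hmem
    rw [map_mul] at this
    exact this
  · rw [g_of_not_base D h, g_of_not_base D h, g_of_not_base D h, one_mul]

theorem g_zero (r : ℕ) : g D K r (0 : K) = 1 := by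
  have h := g_mul D r (0 : K) 0
  rw [add_zero] at h
  exact mul_eq_left.mp h

theorem g_neg (r : ℕ) (t : K) : g D K r (-t) = (g D K r t)⁻¹ := by
  rw [eq_inv_iff_mul_eq_one, g_mul, neg_add_cancel, g_zero]

theorem wd_nil : wd D ([] : List (ℕ × K)) = 1 := by
  show PresentedGroup.mk (D.curtisTitsRels K) (List.prod []) = 1
  rw [List.prod_nil, map_one]

theorem wd_cons (p : ℕ × K) (w : List (ℕ × K)) : wd D (p :: w) = g D K p.1 p.2 * wd D w := by
  show PresentedGroup.mk (D.curtisTitsRels K) (List.prod (List.map _ (p :: w))) = _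
  rw [List.map_cons, List.prod_cons, map_mul]; rfl

theorem wd_append (v w : List (ℕ × K)) : wd D (v ++ w) = wd D v * wd D w := by
  induction v with
  | nil => rw [List.nil_append, wd_nil, one_mul]
  | cons p v ih => rw [List.cons_append, wd_cons, wd_cons, ih, mul_assoc]

theorem wd_singleton (p : ℕ × K) : wd D [p] = g D K p.1 p.2 := by
  rw [wd_cons, wd_nil, mul_one]

/-- The commutator relation. -/
theorem g_comm {i j r s : ℕ} (hr : D.InRankTwoSub i j r) (hs : D.InRankTwoSub i j s) (hne : s ≠ r)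
    (hneg : s ≠ D.neg r) (t u : K) :
    (g D K s u)⁻¹ * (g D K r t)⁻¹ * g D K s u * g D K r t = wd D (D.commWord K r s t u) := by
  have hmem : (D.stX s u)⁻¹ * (D.stX r t)⁻¹ * D.stX s u * D.stX r t * (D.stWord (D.commWord K r s t u))⁻¹
      ∈ D.curtisTitsRels K :=
    Or.inl (Or.inr ⟨i, j, r, s, t, u, hr, hs, hne, hneg, rfl⟩)
  have := PresentedGroup.mk_eq_mk_of_mul_inv_mem hmem
  rw [map_mul, map_mul, map_mul, map_inv, map_inv] at this
  exact this

/-- `n̄_r(t)` in the Curtis-Tits group. -/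
def n (K : Type*) [Field K] (r : ℕ) (t : K) : D.CurtisTitsGroup K := wd D (D.nWord r t)

/-- `h̄_r(t)` in the Curtis-Tits group. -/
def h (K : Type*) [Field K] (r : ℕ) (t : K) : D.CurtisTitsGroup K := wd D (D.hWord r t)

theorem n_eq (r : ℕ) (t : K) : n D K r t = g D K r t * g D K (D.neg r) (-t⁻¹) * g D K r t := by
  show wd D [(r, t), (D.neg r, -t⁻¹), (r, t)] = _
  rw [wd_cons, wd_cons, wd_cons, wd_nil, mul_one, mul_assoc]

theorem n_neg (r : ℕ) (t : K) : n D K r (-t) = (n D K r t)⁻¹ := by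
  rw [n_eq, n_eq, g_neg, inv_neg, _root_.neg_neg, mul_inv_rev, mul_inv_rev, ← g_neg D (D.neg r), _root_.neg_neg,
    mul_assoc]

theorem h_eq (r : ℕ) (t : K) : h D K r t = n D K r t * (n D K r 1)⁻¹ := by
  rw [← n_neg]
  show wd D (D.nWord r t ++ D.nWord r (-1)) = _
  rw [wd_append]; rfl

theorem h_mul {r : ℕ} (hr : Base D r) {t₁ t₂ : K} (h₁ : t₁ ≠ 0) (h₂ : t₂ ≠ 0) :
    h D K r t₁ * h D K r t₂ = h D K r (t₁ * t₂) := by
  obtain ⟨i, j, hr⟩ := hr
  have hmem : D.stH r t₁ * D.stH r t₂ * (D.stH r (t₁ * t₂))⁻¹ ∈ D.curtisTitsRels K :=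
    Or.inr ⟨i, j, r, t₁, t₂, hr, h₁, h₂, rfl⟩
  have := PresentedGroup.mk_eq_mk_of_mul_inv_mem hmem
  rw [map_mul] at this
  exact this

/-- The group is generated by the elements `x̄_r(t)`, `r` in a standard rank two subsystem. -/
theorem closure_g :
    Subgroup.closure {x : D.CurtisTitsGroup K | ∃ (r : ℕ) (t : K), Base D r ∧ x = g D K r t} = ⊤ := by
  rw [eq_top_iff, ← PresentedGroup.closure_range_of, Subgroup.closure_le]
  rintro _ ⟨⟨⟨r, hr⟩, t⟩, rfl⟩
  by_cases hb : Base D r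
  · exact Subgroup.subset_closure ⟨r, t, hb, (g_of_lt D hr t).symm⟩
  · have h1 := g_of_not_base D hb t
    rw [g_of_lt D hr] at h1
    rw [h1]
    exact one_mem _

/-- homomorphisms agreeing on the `x̄_r(t)`, `r` in a standard rank two subsystem, are equal -/
theorem hom_ext {G : Type*} [Group G] {φ ψ : D.CurtisTitsGroup K →* G}
    (h : ∀ r t, Base D r → φ (g D K r t) = ψ (g D K r t)) : φ = ψ := by
  apply MonoidHom.eq_of_eqOn_dense (closure_g D)
  rintro _ ⟨r, t, hr, rfl⟩
  exact h r t hr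

section Lift

variable {G : Type*} [Group G]

open Classical in
/-- A homomorphism out of the Curtis-Tits group, given by elements satisfying the relations. -/
noncomputable def lift (f : ℕ → K → G)
    (h1 : ∀ (r : ℕ) (t₁ t₂ : K), Base D r → f r t₁ * f r t₂ = f r (t₁ + t₂))
    (h2 : ∀ (i j r s : ℕ) (t u : K), D.InRankTwoSub i j r → D.InRankTwoSub i j s → s ≠ r → s ≠ D.neg r →
      (f s u)⁻¹ * (f r t)⁻¹ * f s u * f r t = ((D.commWord K r s t u).map fun p => f p.1 p.2).prod)
    (h3 : ∀ (r : ℕ) (t₁ t₂ : K), Base D r → t₁ ≠ 0 → t₂ ≠ 0 →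
      ((D.hWord r t₁).map fun p => f p.1 p.2).prod * ((D.hWord r t₂).map fun p => f p.1 p.2).prod =
        ((D.hWord r (t₁ * t₂)).map fun p => f p.1 p.2).prod) (hC : Checked D) :
    D.CurtisTitsGroup K →* G :=
  PresentedGroup.toGroup (f := fun p : Fin D.nroots × K => if Base D p.1 then f p.1 p.2 else 1)
    (rels := D.curtisTitsRels K) (by
    have hX : ∀ (r : ℕ) (t : K), Base D r →
        FreeGroup.lift (fun p : Fin D.nroots × K => if Base D p.1 then f p.1 p.2 else 1) (D.stX r t) = f r t := by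
      intro r t hb
      have h : r < D.nroots := by obtain ⟨i, j, hb⟩ := hb; exact hb.1
      rw [stX_of_lt D h, FreeGroup.lift_apply_of]
      exact if_pos hb
    have hW : ∀ w : List (ℕ × K), (∀ p ∈ w, Base D p.1) →
        FreeGroup.lift (fun p : Fin D.nroots × K => if Base D p.1 then f p.1 p.2 else 1) (D.stWord w)
        = (w.map fun p => f p.1 p.2).prod := by
      intro w hw
      show FreeGroup.lift _ (List.prod (List.map _ w)) = _
      rw [map_list_prod, List.map_map]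
      congr 1
      apply List.map_congr_left
      intro p hp
      exact hX p.1 p.2 (hw p hp)
    have hH : ∀ (r : ℕ) (t : K), Base D r → ∀ p ∈ D.hWord r t, Base D p.1 := by
      intro r t hb p hp
      have hp' : p ∈ [(r, t), (D.neg r, -t⁻¹), (r, t)] ++ [(r, -1), (D.neg r, -(-1)⁻¹), (r, -1)] := hp
      simp only [List.cons_append, List.nil_append, List.mem_cons, List.not_mem_nil, or_false] at hp'
      rcases hp' with rfl | rfl | rfl | rfl | rfl | rfl
      exacts [hb, base_neg hC hb, hb, hb, base_neg hC hb, hb]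
    rintro x (((⟨r, t, hr, hb, rfl⟩ | ⟨i, j, r, t₁, t₂, hr, rfl⟩) | ⟨i, j, r, s, t, u, hr, hs, hne, hneg, rfl⟩) |
      ⟨i, j, r, t₁, t₂, hr, ht₁, ht₂, rfl⟩)
    · rw [stX_of_lt D hr, FreeGroup.lift_apply_of]
      exact if_neg fun ⟨i, j, h⟩ => hb i j h
    · have hb : Base D r := ⟨i, j, hr⟩
      rw [map_mul, map_mul, map_inv, hX _ _ hb, hX _ _ hb, hX _ _ hb, h1 r t₁ t₂ hb, mul_inv_cancel]
    · rw [map_mul, map_mul, map_mul, map_mul, map_inv, map_inv, map_inv, hX _ _ ⟨i, j, hr⟩, hX _ _ ⟨i, j, hs⟩,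
        hW _ (fun p hp => ⟨i, j, inRankTwo_commWord hC hr hs hp⟩), h2 i j r s t u hr hs hne hneg, mul_inv_cancel]
    · have hb : Base D r := ⟨i, j, hr⟩
      rw [map_mul, map_mul, map_inv]
      show FreeGroup.lift _ (D.stWord (D.hWord r t₁)) * FreeGroup.lift _ (D.stWord (D.hWord r t₂)) *
        (FreeGroup.lift _ (D.stWord (D.hWord r (t₁ * t₂))))⁻¹ = 1
      rw [hW _ (hH r _ hb), hW _ (hH r _ hb), hW _ (hH r _ hb), h3 r t₁ t₂ hb ht₁ ht₂, mul_inv_cancel])

theorem lift_g (f : ℕ → K → G) (h1) (h2) (h3) (hC : Checked D) {r : ℕ} (hr : Base D r) (t : K) :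
    lift D f h1 h2 h3 hC (g D K r t) = f r t := by
  have h : r < D.nroots := by obtain ⟨i, j, hr⟩ := hr; exact hr.1
  rw [g_of_lt D h]
  refine (PresentedGroup.toGroup.of _).trans ?_
  exact if_pos hr

/-- The image of a word under a homomorphism. -/
theorem map_wd (φ : D.CurtisTitsGroup K →* G) (w : List (ℕ × K)) :
    φ (wd D w) = (w.map fun p => φ (g D K p.1 p.2)).prod := by
  induction w with
  | nil => rw [wd_nil, map_one, List.map_nil, List.prod_nil]
  | cons p w ih => rw [wd_cons, map_mul, ih, List.map_cons, List.prod_cons]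

end Lift

/-- The homomorphism from the Curtis-Tits group to the group presented by Steinberg's relations. -/
theorem exists_toSt (K : Type*) [Field K] (hC : Checked D) : ∃ φ : D.CurtisTitsGroup K →* D.SteinbergGroup K,
    ∀ r t, Base D r → φ (g D K r t) = D.stGen K r t := by
  refine ⟨lift D (fun r t => D.stGen K r t) ?_ ?_ ?_ hC, fun r t hr => lift_g D _ _ _ _ hC hr t⟩
  · intro r t₁ t₂ _
    exact stGen_mul D r t₁ t₂
  · intro i j r s t u hr hs hne hneg
    rw [stGen_comm D hr.1 hs.1 hne hneg]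
    exact (Cfsg.Agent.ChevalleyStructure.StBasic.map_wd D (MonoidHom.id _) _)
  · intro r t₁ t₂ hr h₁ h₂
    have h : r < D.nroots := by obtain ⟨i, j, hr⟩ := hr; exact hr.1
    have h3 := sth_mul D h h₁ h₂
    have h4 : ∀ t : K, sth D r t = ((D.hWord r t).map fun p => D.stGen K p.1 p.2).prod :=
      fun t => Cfsg.Agent.ChevalleyStructure.StBasic.map_wd D (MonoidHom.id _) _
    rw [h4, h4, h4] at h3
    exact h3

end Cfsg.Agent.LieRecognition.CTBase
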