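import Cfsg.Prelude.Def_CurtisTits
import Cfsg.Agent.ChevalleyStructure.RootVec

/-!
# Closure properties of the standard rank two subsystems
-/

set_option autoImplicit false

namespace Cfsg.Agent.LieRecognition.CTClosed

open Cfsg.Lie Cfsg.Agent.ChevalleyStructure Cfsg.Agent.ChevalleyStructure.RootVec
  Cfsg.Agent.ChevalleyStructure.RootVecTab

variable {D : ChevalleyDatum} (hD : D ∈ [chevG2, chevB2, chevD4, chevF4, chevE6, chevE7, chevE8])

theorem inTwo_symm {i j r : ℕ} (h : D.InRankTwoSub i j r) : D.InRankTwoSub j i r :=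
  ⟨h.1, h.2.2.1, h.2.1, fun k hk h1 h2 => h.2.2.2 k hk h2 h1⟩

include hD

theorem inTwo_iff {i j r : ℕ} : D.InRankTwoSub i j r ↔
    r < D.nroots ∧ i < D.rank ∧ j < D.rank ∧ ∀ k < D.rank, k ≠ i → k ≠ j → rt D r k = 0 := by
  have h := inRootSub_iff (checked_of_mem hD) {k | k = i ∨ k = j} r
  have e1 : D.InRankTwoSub i j r ↔ i < D.rank ∧ j < D.rank ∧ D.InRootSub {k | k = i ∨ k = j} r := by
    constructor
    · rintro ⟨a, b, c, d⟩
      exact ⟨b, c, a, fun k hk hkJ => d k hk (fun e => hkJ (Or.inl e)) (fun e => hkJ (Or.inr e))⟩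
    · rintro ⟨b, c, a, d⟩
      exact ⟨a, b, c, fun k hk h1 h2 => d k hk (fun e => e.elim h1 h2)⟩
  rw [e1, h]
  constructor
  · rintro ⟨b, c, a, d⟩
    exact ⟨a, b, c, fun k hk h1 h2 => d k hk (fun e => e.elim h1 h2)⟩
  · rintro ⟨a, b, c, d⟩
    exact ⟨b, c, a, fun k hk hkJ => d k hk (fun e => hkJ (Or.inl e)) (fun e => hkJ (Or.inr e))⟩

theorem inTwo_neg {i j r : ℕ} (h : D.InRankTwoSub i j r) : D.InRankTwoSub i j (D.neg r) := by
  have hc := checked_of_mem hD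
  rw [inTwo_iff hD] at h ⊢
  refine ⟨neg_lt hc h.1, h.2.1, h.2.2.1, fun k hk h1 h2 => ?_⟩
  rw [rt_neg hc h.1, h.2.2.2 k hk h1 h2, neg_zero]

theorem inTwo_commTerms {i j r s : ℕ} (hr : D.InRankTwoSub i j r) (hs : D.InRankTwoSub i j s)
    {c : ℕ × ℤ × ℕ × ℕ} (hc : c ∈ D.commTerms r s) : D.InRankTwoSub i j c.1 := by
  rw [inTwo_iff hD] at hr hs ⊢
  obtain ⟨u, C, a, b⟩ := c
  obtain ⟨h1, -, -, -, -, h2⟩ := commTerms_rt (checked_of_mem hD) hc
  refine ⟨h1, hr.2.1, hr.2.2.1, fun k hk k1 k2 => ?_⟩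
  rw [h2, hr.2.2.2 k hk k1 k2, hs.2.2.2 k hk k1 k2, mul_zero, mul_zero, add_zero]

theorem commTerms_lt {r s : ℕ} {c : ℕ × ℤ × ℕ × ℕ} (hc : c ∈ D.commTerms r s) : c.1 < D.nroots := by
  obtain ⟨u, C, a, b⟩ := c
  exact (commTerms_rt (checked_of_mem hD) hc).1

theorem inTwo_reflect {i k r : ℕ} (h : D.InRankTwoSub i k r) : D.InRankTwoSub i k (D.reflectRoot k r) := by
  have hc := checked_of_mem hD
  rw [inTwo_iff hD] at h ⊢
  obtain ⟨h1, h2⟩ := reflectRoot_rt hc h.2.2.1 h.1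
  refine ⟨h1, h.2.1, h.2.2.1, fun l hl l1 l2 => ?_⟩
  rw [h2, h.2.2.2 l hl l1 l2, if_neg l2]
  ring

theorem inTwo_simple {i j : ℕ} (hi : i < D.rank) (hj : j < D.rank) : D.InRankTwoSub i j (D.simple i) := by
  have hc := checked_of_mem hD
  rw [inTwo_iff hD]
  refine ⟨simple_lt hc hi, hi, hj, fun l hl l1 l2 => ?_⟩
  rw [rt_simple hc hi, if_neg]
  exact l1

end Cfsg.Agent.LieRecognition.CTClosed
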