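import Cfsg.Agent.LieRecognition.CTInduct

/-!
The table facts used for the Curtis-Tits presentation, and their consequences in any group with root
elements satisfying Steinberg's relations in the rank-two subsystems.
-/

set_option autoImplicit false
set_option linter.unusedVariables false

namespace Cfsg.Agent.LieRecognition.CTGood

open Cfsg.Lie Cfsg.Agent.LieRecognition.CTString Cfsg.Agent.LieRecognition.CTInduct

/-- `P = a + b` decomposition inside `Φ_{kj}` together with its image under the reflection `k`. -/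
def A2dec (D : ChevalleyDatum) (rf : ℕ → ℕ → ℕ) (eta : ℕ → ℕ → ℤ) (k j P : ℕ) : Prop :=
  ∃ (a b : ℕ) (c c₂ : ℤ), D.InRankTwoSub k j a ∧ D.InRankTwoSub k j b ∧ NP D (D.simple k) a ∧
    NP D (D.simple k) b ∧ NP D a b ∧ NP D (rf k a) (rf k b) ∧
    D.commTerms a b = [(P, c, 1, 1)] ∧ D.commTerms (rf k a) (rf k b) = [(rf k P, c₂, 1, 1)] ∧
    c * c = 1 ∧ c₂ * eta k a * eta k b = -c

/-- Pairs of roots that can be moved by simple reflections into a common rank-two subsystem. -/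
inductive Reach (D : ChevalleyDatum) (rf : ℕ → ℕ → ℕ) : ℕ → ℕ → Prop
  | base (i j r s : ℕ) (h1 : D.InRankTwoSub i j r) (h2 : D.InRankTwoSub i j s) : Reach D rf r s
  | step (k r s : ℕ) (hk : k < D.rank) (h : Reach D rf (rf k r) (rf k s)) : Reach D rf r s

/-- All table facts. -/
structure Good (D : ChevalleyDatum) (rf : ℕ → ℕ → ℕ) (eta : ℕ → ℕ → ℤ) (mu : ℕ → ℕ) (ds : ℕ → ℕ)
    (m : ℕ → ℕ → ℕ) : Prop where
  comb : Comb D.rank D.nroots rf eta mu ds D.simple D.neg D.InRankTwoSub m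
  neg_neg : ∀ r < D.nroots, D.neg (D.neg r) = r
  rf_neg : ∀ k < D.rank, ∀ r < D.nroots, rf k (D.neg r) = D.neg (rf k r)
  eta_neg : ∀ k < D.rank, ∀ r < D.nroots, eta k (D.neg r) = eta k r
  rf_sim : ∀ k < D.rank, rf k (D.simple k) = D.neg (D.simple k)
  eta_sim : ∀ k < D.rank, eta k (D.simple k) = -1
  string : ∀ k < D.rank, ∀ r < D.nroots, NP D (D.simple k) r →
    StringOK D (D.simple k) (D.neg (D.simple k)) r (rf k r) (eta k r)
  clos : ∀ k < D.rank, ∀ r < D.nroots, NP D (D.simple k) r →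
    (∀ c ∈ D.commTerms (D.simple k) r, c.1 < D.nroots) ∧
    (∀ c ∈ D.commTerms (D.neg (D.simple k)) r, c.1 < D.nroots)
  dec : ∀ k < D.rank, ∃ j < D.rank, A2dec D rf eta k j (D.simple k) ∧ A2dec D rf eta k j (D.neg (D.simple k))
  st_clos : ∀ i < D.rank, ∀ j < D.rank, ∀ r s, D.InRankTwoSub i j r → D.InRankTwoSub i j s → NP D r s →
    ∀ c ∈ D.commTerms r s, D.InRankTwoSub i j c.1
  st_neg : ∀ i j r, D.InRankTwoSub i j r → D.InRankTwoSub i j (D.neg r)
  br2 : ∀ i < D.rank, ∀ k < D.rank, i ≠ k → m i k = 2 → rf i (D.simple k) = D.simple k ∧ eta i (D.simple k) = 1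
  br3 : ∀ i < D.rank, ∀ k < D.rank, i ≠ k → m i k = 3 → rf i (rf k (D.simple i)) = D.simple k ∧
    eta i (rf k (D.simple i)) * eta k (D.simple i) = 1
  br4 : ∀ i < D.rank, ∀ k < D.rank, i ≠ k → m i k = 4 → rf i (rf k (rf i (D.simple k))) = D.simple k ∧
    eta i (rf k (rf i (D.simple k))) * eta k (rf i (D.simple k)) * eta i (D.simple k) = 1
  comm_rf : ∀ k < D.rank, ∀ r < D.nroots, ∀ s < D.nroots, NP D r s →
    D.commTerms (rf k r) (rf k s) = (D.commTerms r s).map fun c =>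
      (rf k c.1, eta k r ^ c.2.2.1 * eta k s ^ c.2.2.2 * eta k c.1 * c.2.1, c.2.2.1, c.2.2.2)
  comm_lt : ∀ r < D.nroots, ∀ s < D.nroots, NP D r s → ∀ c ∈ D.commTerms r s, c.1 < D.nroots
  reach : ∀ r < D.nroots, ∀ s < D.nroots, NP D r s → Reach D rf r s

section

variable {K : Type*} [Field K] {Γ : Type*} [Group Γ] {D : ChevalleyDatum} {rf : ℕ → ℕ → ℕ} {eta : ℕ → ℕ → ℤ}
  {mu : ℕ → ℕ} {ds : ℕ → ℕ} {m : ℕ → ℕ → ℕ}

/-- `n_k` -/
def nk (D : ChevalleyDatum) (x : ℕ → K → Γ) (k : ℕ) : Γ := nn x (D.simple k) (D.neg (D.simple k))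

theorem Good.eta_sq (C : Good D rf eta mu ds m) {k r : ℕ} (hk : k < D.rank) (hr : r < D.nroots) :
    (eta k r : K) * eta k r = 1 := by
  exact_mod_cast congrArg (Int.cast : ℤ → K) (C.comb.eta_sq k hk r hr)

theorem Good.np_symm (C : Good D rf eta mu ds m) {r s : ℕ} (hr : r < D.nroots) (hs : s < D.nroots)
    (h : NP D r s) : NP D s r := by
  refine ⟨fun e => h.1 e.symm, fun e => h.2 ?_⟩
  rw [e, C.neg_neg s hs]

theorem Good.np_neg (C : Good D rf eta mu ds m) {r s : ℕ} (hr : r < D.nroots)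
    (h : NP D r s) : NP D (D.neg r) s := by
  refine ⟨h.2, fun e => h.1 ?_⟩
  rw [e, C.neg_neg r hr]

theorem Good.np_rf (C : Good D rf eta mu ds m) {k r s : ℕ} (hk : k < D.rank) (hr : r < D.nroots)
    (hs : s < D.nroots) (h : NP D r s) : NP D (rf k r) (rf k s) := by
  refine ⟨fun e => h.1 ?_, fun e => h.2 ?_⟩
  · rw [← C.comb.rf_rf k hk s hs, e, C.comb.rf_rf k hk r hr]
  · rw [← C.rf_neg k hk r hr] at e
    rw [← C.comb.rf_rf k hk s hs, e, C.comb.rf_rf k hk _ (C.comb.neg_lt r hr)]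

/-- Relations in every rank-two subsystem. -/
def RankTwoSys (D : ChevalleyDatum) (x : ℕ → K → Γ) : Prop :=
  ∀ i < D.rank, ∀ j < D.rank, RelSys D x (D.InRankTwoSub i j)

theorem Good.PP_string (C : Good D rf eta mu ds m) {x : ℕ → K → Γ} {S : ℕ → Prop} (h : RelSys D x S)
    {k r : ℕ} (hk : k < D.rank) (hr : r < D.nroots) (hnp : NP D (D.simple k) r)
    (hp : S (D.simple k)) (hp' : S (D.neg (D.simple k))) (hSr : S r)
    (clp : ∀ c ∈ D.commTerms (D.simple k) r, S c.1)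
    (clp' : ∀ c ∈ D.commTerms (D.neg (D.simple k)) r, S c.1) :
    PP rf eta (nk D x) x k r := fun t =>
  h.string hp hp' hSr hnp (C.np_neg (C.comb.sim_lt k hk) hnp) clp clp' (C.string k hk r hr hnp) t

theorem Good.PP_rank2_np (C : Good D rf eta mu ds m) {x : ℕ → K → Γ} (h : RankTwoSys D x)
    {k j r : ℕ} (hk : k < D.rank) (hj : j < D.rank) (hr : r < D.nroots) (hnp : NP D (D.simple k) r)
    (hst : D.InRankTwoSub k j r) : PP rf eta (nk D x) x k r := by
  have h1 := C.comb.st_sim k hk j hj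
  exact C.PP_string (h k hk j hj) hk hr hnp h1.1 h1.2 hst
    (C.st_clos k hk j hj _ _ h1.1 hst hnp)
    (C.st_clos k hk j hj _ _ h1.2 hst (C.np_neg (C.comb.sim_lt k hk) hnp))

theorem Good.PP_dec (C : Good D rf eta mu ds m) {x : ℕ → K → Γ} (h : RankTwoSys D x)
    {k j P : ℕ} (hk : k < D.rank) (hj : j < D.rank) (hd : A2dec D rf eta k j P) (t : K) :
    nk D x k * x P t * (nk D x k)⁻¹ = x (rf k P) (-t) := by
  obtain ⟨a, b, c, c₂, ha, hb, npa, npb, nab, nab', h1, h2, h3, h4⟩ := hd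
  refine (h k hk j hj).decomp (P := P) (P' := rf k P) ha hb nab (C.comb.st_rf k hk j hj a ha.1 ha)
    (C.comb.st_rf k hk j hj b hb.1 hb) nab' h1 h2 h3 h4
    (C.PP_rank2_np h hk hj ha.1 npa ha) (C.PP_rank2_np h hk hj hb.1 npb hb) t

theorem Good.PP_rank2 (C : Good D rf eta mu ds m) {x : ℕ → K → Γ} (h : RankTwoSys D x) :
    ∀ k < D.rank, ∀ j < D.rank, ∀ r < D.nroots, D.InRankTwoSub k j r → PP rf eta (nk D x) x k r := by
  intro k hk j hj r hr hst
  by_cases hnp : NP D (D.simple k) r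
  · exact C.PP_rank2_np h hk hj hr hnp hst
  · obtain ⟨j', hj', d1, d2⟩ := C.dec k hk
    have hs := C.comb.sim_lt k hk
    have : r = D.simple k ∨ r = D.neg (D.simple k) := by
      by_contra hcon
      push Not at hcon
      exact hnp hcon
    rcases this with rfl | rfl
    · intro t
      rw [C.PP_dec h hk hj' d1, C.eta_sim k hk, Int.cast_neg, Int.cast_one, neg_mul, one_mul]
    · intro t
      rw [C.PP_dec h hk hj' d2, C.eta_neg k hk _ hs, C.eta_sim k hk, Int.cast_neg, Int.cast_one, neg_mul,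
        one_mul]

/-- conjugation of `n_p`. -/
theorem conj_nn_pos {x : ℕ → K → Γ} {g : Γ} {p p' q q' : ℕ} (h : ∀ t, g * x p t * g⁻¹ = x q t)
    (h' : ∀ t, g * x p' t * g⁻¹ = x q' t) : g * nn x p p' * g⁻¹ = nn x q q' := by
  show g * (x p 1 * x p' (-1) * x p 1) * g⁻¹ = x q 1 * x q' (-1) * x q 1
  rw [← h, ← h']; group

theorem conj_nn_neg {x : ℕ → K → Γ} {g : Γ} {p p' q q' : ℕ} (hq : CTString.Add (x q))
    (hq' : CTString.Add (x q')) (h : ∀ t, g * x p t * g⁻¹ = x q (-t))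
    (h' : ∀ t, g * x p' t * g⁻¹ = x q' (-t)) : g * nn x p p' * g⁻¹ = (nn x q q')⁻¹ := by
  show g * (x p 1 * x p' (-1) * x p 1) * g⁻¹ = (x q 1 * x q' (-1) * x q 1)⁻¹
  rw [mul_inv_rev, mul_inv_rev, ← hq.neg, ← hq'.neg, ← h, ← h']; group

theorem Good.PPneg (C : Good D rf eta mu ds m) {x : ℕ → K → Γ} {k r : ℕ} (hk : k < D.rank)
    (hr : r < D.nroots) (h : PP rf eta (nk D x) x k (D.neg r)) (t : K) :
    nk D x k * x (D.neg r) t * (nk D x k)⁻¹ = x (D.neg (rf k r)) ((eta k r : K) * t) := by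
  rw [h, C.rf_neg k hk r hr, C.eta_neg k hk r hr]

theorem Good.brd2 (C : Good D rf eta mu ds m) {x : ℕ → K → Γ} (h : RankTwoSys D x) {i k : ℕ}
    (hi : i < D.rank) (hk : k < D.rank) (hik : i ≠ k) (hm : m i k = 2) :
    nk D x i * nk D x k = nk D x k * nk D x i := by
  have s := C.comb.sim_lt k hk
  have s' := C.comb.neg_lt _ s
  obtain ⟨e1, e2⟩ := C.br2 i hi k hk hik hm
  have st := C.comb.st_sim k hk i hi
  have P1 := C.PP_rank2 h i hi k hk _ s (C.comb.st_symm _ _ _ st.1)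
  have P2 := C.PP_rank2 h i hi k hk _ s' (C.comb.st_symm _ _ _ st.2)
  have key : nk D x i * nn x (D.simple k) (D.neg (D.simple k)) * (nk D x i)⁻¹ =
      nn x (D.simple k) (D.neg (D.simple k)) := by
    refine conj_nn_pos (fun t => ?_) (fun t => ?_)
    · rw [P1, e1, e2, Int.cast_one, one_mul]
    · rw [C.PPneg hi s P2, e1, e2, Int.cast_one, one_mul]
  exact mul_inv_eq_iff_eq_mul.1 key

theorem Good.brd3 (C : Good D rf eta mu ds m) {x : ℕ → K → Γ} (h : RankTwoSys D x) {i k : ℕ}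
    (hi : i < D.rank) (hk : k < D.rank) (hik : i ≠ k) (hm : m i k = 3) :
    nk D x i * nk D x k * nk D x i = nk D x k * nk D x i * nk D x k := by
  have s := C.comb.sim_lt i hi
  have s' := C.comb.neg_lt _ s
  obtain ⟨e1, e2⟩ := C.br3 i hi k hk hik hm
  have e2K : (eta i (rf k (D.simple i)) : K) * eta k (D.simple i) = 1 := by
    exact_mod_cast congrArg (Int.cast : ℤ → K) e2
  have st := C.comb.st_sim i hi k hk
  have t1 := C.comb.st_symm _ _ _ st.1
  have t2 := C.comb.st_symm _ _ _ st.2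
  have q1 := C.comb.st_rf k hk i hi _ s t1
  have q2 := C.comb.st_rf k hk i hi _ s' t2
  have P1 := C.PP_rank2 h k hk i hi _ s t1
  have P2 := C.PP_rank2 h k hk i hi _ s' t2
  have r1 := C.comb.rf_lt k hk _ s
  have r2 := C.comb.rf_lt k hk _ s'
  have P3 := C.PP_rank2 h i hi k hk _ r1 (C.comb.st_symm _ _ _ q1)
  have P4 := C.PP_rank2 h i hi k hk _ r2 (C.comb.st_symm _ _ _ q2)
  rw [C.rf_neg k hk _ s] at P4
  have key : (nk D x i * nk D x k) * nn x (D.simple i) (D.neg (D.simple i)) * (nk D x i * nk D x k)⁻¹ =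
      nn x (D.simple k) (D.neg (D.simple k)) := by
    refine conj_nn_pos (fun t => ?_) (fun t => ?_)
    · rw [conj_comp, P1, P3, ← mul_assoc, e2K, one_mul, e1]
    · rw [conj_comp, C.PPneg hk s P2, C.PPneg hi r1 P4, ← mul_assoc, e2K, one_mul, e1]
  have e : nk D x i * nk D x k * nk D x i = nk D x k * (nk D x i * nk D x k) := mul_inv_eq_iff_eq_mul.1 key
  rw [e, mul_assoc]

theorem Good.brd4 (C : Good D rf eta mu ds m) {x : ℕ → K → Γ} (h : RankTwoSys D x) {i k : ℕ}
    (hi : i < D.rank) (hk : k < D.rank) (hik : i ≠ k) (hm : m i k = 4) :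
    nk D x i * nk D x k * nk D x i * nk D x k = nk D x k * nk D x i * nk D x k * nk D x i := by
  have s := C.comb.sim_lt k hk
  have s' := C.comb.neg_lt _ s
  obtain ⟨e1, e2⟩ := C.br4 i hi k hk hik hm
  have e2K : (eta i (rf k (rf i (D.simple k))) : K) * eta k (rf i (D.simple k)) * eta i (D.simple k) = 1 := by
    exact_mod_cast congrArg (Int.cast : ℤ → K) e2
  have st := C.comb.st_sim k hk i hi
  have t1 := C.comb.st_symm _ _ _ st.1
  have t2 := C.comb.st_symm _ _ _ st.2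
  have q1 := C.comb.st_rf i hi k hk _ s t1
  have q2 := C.comb.st_rf i hi k hk _ s' t2
  have r1 := C.comb.rf_lt i hi _ s
  have r2 := C.comb.rf_lt i hi _ s'
  have u1 := C.comb.st_rf k hk i hi _ r1 (C.comb.st_symm _ _ _ q1)
  have u2 := C.comb.st_rf k hk i hi _ r2 (C.comb.st_symm _ _ _ q2)
  have v1 := C.comb.rf_lt k hk _ r1
  have v2 := C.comb.rf_lt k hk _ r2
  have P1 := C.PP_rank2 h i hi k hk _ s t1
  have P2 := C.PP_rank2 h i hi k hk _ s' t2
  have P3 := C.PP_rank2 h k hk i hi _ r1 (C.comb.st_symm _ _ _ q1)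
  have P4 := C.PP_rank2 h k hk i hi _ r2 (C.comb.st_symm _ _ _ q2)
  have P5 := C.PP_rank2 h i hi k hk _ v1 (C.comb.st_symm _ _ _ u1)
  have P6 := C.PP_rank2 h i hi k hk _ v2 (C.comb.st_symm _ _ _ u2)
  rw [C.rf_neg i hi _ s] at P4 P6
  rw [C.rf_neg k hk _ r1] at P6
  have key : (nk D x i * nk D x k * nk D x i) * nn x (D.simple k) (D.neg (D.simple k)) *
      (nk D x i * nk D x k * nk D x i)⁻¹ = nn x (D.simple k) (D.neg (D.simple k)) := by
    have hh : ∀ t : K, (eta i (rf k (rf i (D.simple k))) : K) * ((eta k (rf i (D.simple k)) : K) *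
        ((eta i (D.simple k) : K) * t)) = t := by
      intro t
      rw [← mul_assoc, ← mul_assoc, e2K, one_mul]
    refine conj_nn_pos (fun t => ?_) (fun t => ?_)
    · rw [conj_comp, conj_comp, P1, P3, P5, hh, e1]
    · rw [conj_comp, conj_comp, C.PPneg hi s P2, C.PPneg hk r1 P4, C.PPneg hi v1 P6, hh, e1]
  have e : nk D x i * nk D x k * nk D x i * nk D x k = nk D x k * (nk D x i * nk D x k * nk D x i) :=
    mul_inv_eq_iff_eq_mul.1 key
  rw [e]
  simp only [mul_assoc]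

theorem Good.torus (C : Good D rf eta mu ds m) {x : ℕ → K → Γ} (h : RankTwoSys D x) :
    ∀ k < D.rank, ∀ i < D.rank, nk D x k * nk D x k * nk D x i * (nk D x k * nk D x k)⁻¹ =
      if eta k (D.simple i) * eta k (rf k (D.simple i)) = 1 then nk D x i else (nk D x i)⁻¹ := by
  intro k hk i hi
  have s := C.comb.sim_lt i hi
  have s' := C.comb.neg_lt _ s
  have st := C.comb.st_sim i hi k hk
  have t1 := C.comb.st_symm _ _ _ st.1
  have t2 := C.comb.st_symm _ _ _ st.2
  have q1 := C.comb.st_rf k hk i hi _ s t1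
  have q2 := C.comb.st_rf k hk i hi _ s' t2
  have r1 := C.comb.rf_lt k hk _ s
  have r2 := C.comb.rf_lt k hk _ s'
  have P1 := C.PP_rank2 h k hk i hi _ s t1
  have P2 := C.PP_rank2 h k hk i hi _ s' t2
  have P3 := C.PP_rank2 h k hk i hi _ r1 q1
  have P4 := C.PP_rank2 h k hk i hi _ r2 q2
  have Q1 := QQ_of_PP C.comb hk s P1 P3
  have Q2 := QQ_of_PP C.comb hk s' P2 P4
  have a1 : CTString.Add (x (D.simple i)) := (h k hk i hi).Add t1
  have a2 : CTString.Add (x (D.neg (D.simple i))) := (h k hk i hi).Add t2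
  have hneg : eta k (D.neg (D.simple i)) * eta k (rf k (D.neg (D.simple i))) =
      eta k (D.simple i) * eta k (rf k (D.simple i)) := by
    rw [C.rf_neg k hk _ s, C.eta_neg k hk _ s, C.eta_neg k hk _ r1]
  split_ifs with h1
  · refine conj_nn_pos (fun t => ?_) (fun t => ?_)
    · rw [Q1, h1, Int.cast_one, one_mul]
    · rw [Q2, hneg, h1, Int.cast_one, one_mul]
  · have h2 : eta k (D.simple i) * eta k (rf k (D.simple i)) = -1 := by
      have h3 : (eta k (D.simple i) * eta k (rf k (D.simple i))) *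
          (eta k (D.simple i) * eta k (rf k (D.simple i))) = 1 := by
        calc (eta k (D.simple i) * eta k (rf k (D.simple i))) *
          (eta k (D.simple i) * eta k (rf k (D.simple i)))
            = (eta k (D.simple i) * eta k (D.simple i)) *
              (eta k (rf k (D.simple i)) * eta k (rf k (D.simple i))) := by ring
          _ = 1 := by rw [C.comb.eta_sq k hk _ s, C.comb.eta_sq k hk _ r1, one_mul]
      rcases mul_self_eq_one_iff.1 h3 with h4 | h4
      · exact absurd h4 h1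
      · exact h4
    refine conj_nn_neg a1 a2 (fun t => ?_) (fun t => ?_)
    · rw [Q1, h2, Int.cast_neg, Int.cast_one, neg_mul, one_mul]
    · rw [Q2, hneg, h2, Int.cast_neg, Int.cast_one, neg_mul, one_mul]

end

end Cfsg.Agent.LieRecognition.CTGood
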