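import Cfsg.Agent.LieRecognition.CTString

/-!
Abstract induction: in a group `Γ` with elements `n_k` satisfying braid relations and a family `y_r(t)`
defined by descent from "rank-two roots", conjugation by every `n_k` permutes all the `y_r(t)` with the
tabulated signs.
-/

set_option autoImplicit false

namespace Cfsg.Agent.LieRecognition.CTInduct

open Cfsg.Lie Cfsg.Agent.LieRecognition.CTString

/-- Combinatorial facts on reflections `rf`, signs `eta`, measure `mu`, descent `ds`, rank-two roots `R2`,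
`std k r`: "`r` lies in a rank-two subsystem with `k` as one of its nodes". `st i k r` : `r ∈ Φ_{ik}`. -/
structure Comb (l n : ℕ) (rf : ℕ → ℕ → ℕ) (eta : ℕ → ℕ → ℤ) (mu : ℕ → ℕ) (ds : ℕ → ℕ)
    (sim neg : ℕ → ℕ) (st : ℕ → ℕ → ℕ → Prop) (m : ℕ → ℕ → ℕ) : Prop where
  sim_lt : ∀ k < l, sim k < n
  neg_lt : ∀ r < n, neg r < n
  rf_lt : ∀ k < l, ∀ r < n, rf k r < n
  rf_rf : ∀ k < l, ∀ r < n, rf k (rf k r) = r
  eta_sq : ∀ k < l, ∀ r < n, eta k r * eta k r = 1
  -- braid relations on signed roots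
  braid2 : ∀ i < l, ∀ k < l, i ≠ k → m i k = 2 → ∀ r < n, rf i (rf k r) = rf k (rf i r) ∧
    eta k r * eta i (rf k r) = eta i r * eta k (rf i r)
  braid3 : ∀ i < l, ∀ k < l, i ≠ k → m i k = 3 → ∀ r < n, rf i (rf k (rf i r)) = rf k (rf i (rf k r)) ∧
    eta i r * eta k (rf i r) * eta i (rf k (rf i r)) = eta k r * eta i (rf k r) * eta k (rf i (rf k r))
  braid4 : ∀ i < l, ∀ k < l, i ≠ k → m i k = 4 → ∀ r < n,
    rf k (rf i (rf k (rf i r))) = rf i (rf k (rf i (rf k r))) ∧
    eta i r * eta k (rf i r) * eta i (rf k (rf i r)) * eta k (rf i (rf k (rf i r))) =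
      eta k r * eta i (rf k r) * eta k (rf i (rf k r)) * eta i (rf k (rf i (rf k r)))
  -- parity of the torus part
  par_neg : ∀ k < l, ∀ j < l, eta k (neg (sim j)) * eta k (rf k (neg (sim j))) =
    eta k (sim j) * eta k (rf k (sim j))
  par : ∀ k < l, ∀ j < l, ∀ q < n, eta k (rf j q) * eta k (rf k (rf j q)) =
    eta k q * eta k (rf k q) *
      (if eta k (sim j) * eta k (rf k (sim j)) = 1 then 1 else eta j q * eta j (rf j q))
  m_cases : ∀ i < l, ∀ k < l, i ≠ k → m i k = 2 ∨ m i k = 3 ∨ m i k = 4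
  st_rf : ∀ i < l, ∀ k < l, ∀ r < n, st i k r → st i k (rf i r)
  st_symm : ∀ i k r, st i k r → st k i r
  st_sim : ∀ i < l, ∀ k < l, st i k (sim i) ∧ st i k (neg (sim i))
  -- descent
  desc : ∀ r < n, (∃ j < l, r = sim j ∨ r = neg (sim j)) ∨
    (ds r < l ∧ mu (rf (ds r) r) < mu r ∧ ((∃ i j, st i j r) → ∃ j < l, st (ds r) j r) ∧
      ∀ k < l, k ≠ ds r → mu r < mu (rf k r) ∨ st (ds r) k r ∨
        ((rf k r = r ∨ mu (rf k r) < mu r) ∧
          (m (ds r) k = 2 → mu (rf k (rf (ds r) r)) < mu r) ∧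
          (m (ds r) k = 3 → mu (rf k (rf (ds r) r)) < mu r ∧ mu (rf (ds r) (rf k (rf (ds r) r))) < mu r ∧
            mu (rf (ds r) (rf k r)) < mu r) ∧
          (m (ds r) k = 4 → mu (rf k (rf (ds r) r)) < mu r ∧ mu (rf (ds r) (rf k (rf (ds r) r))) < mu r ∧
            mu (rf k (rf (ds r) (rf k (rf (ds r) r)))) < mu r ∧
            mu (rf (ds r) (rf k r)) < mu r ∧ mu (rf k (rf (ds r) (rf k r))) < mu r)))

section

variable {K : Type*} [Field K] {Γ : Type*} [Group Γ] {l n : ℕ} {rf : ℕ → ℕ → ℕ} {eta : ℕ → ℕ → ℤ}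
  {mu : ℕ → ℕ} {ds : ℕ → ℕ} {sim neg : ℕ → ℕ} {st : ℕ → ℕ → ℕ → Prop} {m : ℕ → ℕ → ℕ}

/-- `n_k y_r(t) n_k⁻¹ = y_{w_k r}(η_k(r) t)`. -/
def PP (rf : ℕ → ℕ → ℕ) (eta : ℕ → ℕ → ℤ) (nk : ℕ → Γ) (y : ℕ → K → Γ) (k r : ℕ) : Prop :=
  ∀ t, nk k * y r t * (nk k)⁻¹ = y (rf k r) ((eta k r : K) * t)

/-- `n_k² y_r(t) n_k⁻² = y_r(± t)`. -/
def QQ (rf : ℕ → ℕ → ℕ) (eta : ℕ → ℕ → ℤ) (nk : ℕ → Γ) (y : ℕ → K → Γ) (k r : ℕ) : Prop :=
  ∀ t, nk k * nk k * y r t * (nk k * nk k)⁻¹ = y r (((eta k r * eta k (rf k r) : ℤ) : K) * t)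

theorem QQ_of_PP (C : Comb l n rf eta mu ds sim neg st m) {nk : ℕ → Γ} {y : ℕ → K → Γ} {k r : ℕ}
    (hk : k < l) (hr : r < n) (h1 : PP rf eta nk y k r) (h2 : PP rf eta nk y k (rf k r)) :
    QQ rf eta nk y k r := by
  intro t
  have e : nk k * nk k * y r t * (nk k * nk k)⁻¹ = nk k * (nk k * y r t * (nk k)⁻¹) * (nk k)⁻¹ := by group
  rw [e, h1, h2, C.rf_rf k hk r hr, Int.cast_mul]
  congr 1
  ring

theorem PP_of_QQ (C : Comb l n rf eta mu ds sim neg st m) {nk : ℕ → Γ} {y : ℕ → K → Γ} {k r : ℕ}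
    (hk : k < l) (hr : r < n) (h1 : PP rf eta nk y k r) (h2 : QQ rf eta nk y k r) :
    PP rf eta nk y k (rf k r) := by
  intro t
  have hsq : (eta k r : K) * eta k r = 1 := by exact_mod_cast congrArg (Int.cast : ℤ → K) (C.eta_sq k hk r hr)
  have e : y (rf k r) t = nk k * y r ((eta k r : K) * t) * (nk k)⁻¹ := by
    rw [h1, ← mul_assoc, hsq, one_mul]
  have e2 : nk k * y (rf k r) t * (nk k)⁻¹ = nk k * nk k * y r ((eta k r : K) * t) * (nk k * nk k)⁻¹ := by
    rw [e]; group
  rw [e2, h2, C.rf_rf k hk r hr, Int.cast_mul]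
  congr 1
  calc (eta k r : K) * (eta k (rf k r) : K) * ((eta k r : K) * t)
      = ((eta k r : K) * eta k r) * (eta k (rf k r) * t) := by ring
    _ = _ := by rw [hsq, one_mul]

theorem sq_cancel {a : K} (h : a * a = 1) (t : K) : a * (a * t) = t := by
  rw [← mul_assoc, h, one_mul]

theorem conj_comp (a b g : Γ) : (a * b) * g * (a * b)⁻¹ = a * (b * g * b⁻¹) * a⁻¹ := by group

/-- The torus step along a descent edge. -/
theorem QQ_step (C : Comb l n rf eta mu ds sim neg st m) {nk : ℕ → Γ} {y : ℕ → K → Γ} {k i q : ℕ}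
    (hk : k < l) (hi : i < l) (hq : q < n)
    (hP : PP rf eta nk y i q) (hQk : QQ rf eta nk y k q) (hQi : QQ rf eta nk y i q)
    (hc : nk k * nk k * nk i * (nk k * nk k)⁻¹ =
      if eta k (sim i) * eta k (rf k (sim i)) = 1 then nk i else (nk i)⁻¹) :
    QQ rf eta nk y k (rf i q) := by
  intro t
  have hsq : (eta i q : K) * eta i q = 1 := by
    exact_mod_cast congrArg (Int.cast : ℤ → K) (C.eta_sq i hi q hq)
  have e : ∀ t, y (rf i q) t = nk i * y q ((eta i q : K) * t) * (nk i)⁻¹ := by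
    intro t
    rw [hP, ← mul_assoc, hsq, one_mul]
  have e1 : nk k * nk k * y (rf i q) t * (nk k * nk k)⁻¹ =
      (nk k * nk k * nk i * (nk k * nk k)⁻¹) * (nk k * nk k * y q ((eta i q : K) * t) * (nk k * nk k)⁻¹) *
        (nk k * nk k * nk i * (nk k * nk k)⁻¹)⁻¹ := by
    rw [e]; group
  rw [e1, hc, hQk, C.par k hk i hi q hq]
  split_ifs with h
  · rw [hP]
    congr 1
    push_cast
    calc (eta i q : K) * ((eta k q : K) * (eta k (rf k q)) * ((eta i q : K) * t))
        = ((eta i q : K) * (eta i q)) * ((eta k q : K) * (eta k (rf k q)) * t) := by ring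
      _ = _ := by rw [hsq]; ring
  · have hs : ((eta i q * eta i (rf i q) : ℤ) : K) * ((eta i q * eta i (rf i q) : ℤ) : K) = 1 := by
      have h1 := C.eta_sq i hi _ (C.rf_lt i hi q hq)
      have : ((eta i q * eta i (rf i q)) * (eta i q * eta i (rf i q)) : ℤ) = 1 := by
        calc ((eta i q * eta i (rf i q)) * (eta i q * eta i (rf i q)) : ℤ)
            = (eta i q * eta i q) * (eta i (rf i q) * eta i (rf i q)) := by ring
          _ = 1 := by rw [C.eta_sq i hi q hq, h1, one_mul]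
      exact_mod_cast congrArg (Int.cast : ℤ → K) this
    have e2 : ∀ u, (nk i)⁻¹ * y q u * (nk i)⁻¹⁻¹ =
        nk i * y q (((eta i q * eta i (rf i q) : ℤ) : K) * u) * (nk i)⁻¹ := by
      intro u
      have h2 := hQi (((eta i q * eta i (rf i q) : ℤ) : K) * u)
      rw [← mul_assoc, hs, one_mul] at h2
      rw [← h2]
      group
    rw [e2, hP]
    congr 1
    push_cast
    calc (eta i q : K) * ((eta i q : K) * (eta i (rf i q)) * ((eta k q : K) * (eta k (rf k q)) * ((eta i q : K) * t)))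
        = ((eta i q : K) * (eta i q)) * ((eta k q : K) * (eta k (rf k q)) * ((eta i q : K) * (eta i (rf i q))) * t) := by
          ring
      _ = _ := by rw [hsq]; ring

theorem braid2_step (C : Comb l n rf eta mu ds sim neg st m) {nk : ℕ → Γ} {y : ℕ → K → Γ} {k i r : ℕ}
    (hk : k < l) (hi : i < l) (hik : i ≠ k) (hm : m i k = 2) (hr : r < n)
    (hb : nk i * nk k = nk k * nk i)
    (P1 : PP rf eta nk y i (rf i r)) (P2 : PP rf eta nk y k (rf k (rf i r)))
    (P3 : PP rf eta nk y i (rf i (rf k r))) : PP rf eta nk y k (rf k r) := by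
  have r1 := C.rf_lt i hi r hr
  have s1 := C.rf_lt k hk r hr
  obtain ⟨hq, -⟩ := C.braid2 i hi k hk hik hm r hr
  have hq0 := C.rf_lt i hi _ s1
  obtain ⟨-, hsg⟩ := C.braid2 i hi k hk hik hm _ hq0
  intro t
  rw [hq] at P3
  have a1 : rf k (rf k (rf i r)) = rf i r := C.rf_rf k hk _ r1
  have a2 : rf i (rf i r) = r := C.rf_rf i hi r hr
  have a3 : rf i (rf k (rf i r)) = rf k r := by rw [← hq, C.rf_rf i hi _ s1]
  have a4 : rf k (rf k r) = r := C.rf_rf k hk r hr
  rw [hq, a1, a3] at hsg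
  have hsq : (eta i (rf k (rf i r)) : K) * eta i (rf k (rf i r)) = 1 := by
    rw [hq] at hq0
    exact_mod_cast congrArg (Int.cast : ℤ → K) (C.eta_sq i hi _ hq0)
  have e : y (rf k r) t = nk i * y (rf k (rf i r)) ((eta i (rf k (rf i r)) : K) * t) * (nk i)⁻¹ := by
    rw [P3, ← mul_assoc, hsq, one_mul, a3]
  rw [e, ← conj_comp, ← hb, conj_comp, P2, a1, P1, a2, a4]
  congr 1
  have hsg' : (eta k (rf k (rf i r)) : K) * eta i (rf i r) = eta i (rf k (rf i r)) * eta k (rf k r) := by
    exact_mod_cast congrArg (Int.cast : ℤ → K) hsg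
  calc (eta i (rf i r) : K) * ((eta k (rf k (rf i r)) : K) * ((eta i (rf k (rf i r)) : K) * t))
      = ((eta k (rf k (rf i r)) : K) * eta i (rf i r)) * ((eta i (rf k (rf i r)) : K) * t) := by ring
    _ = ((eta i (rf k (rf i r)) : K) * (eta i (rf k (rf i r)))) * (eta k (rf k r) * t) := by rw [hsg']; ring
    _ = _ := by rw [hsq, one_mul]

theorem braid3_step (C : Comb l n rf eta mu ds sim neg st m) {nk : ℕ → Γ} {y : ℕ → K → Γ} {k i r : ℕ}
    (hk : k < l) (hi : i < l) (hik : i ≠ k) (hm : m i k = 3) (hr : r < n)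
    (hb : nk i * nk k * nk i = nk k * nk i * nk k)
    (P1 : PP rf eta nk y i (rf i r)) (P2 : PP rf eta nk y k (rf k (rf i r)))
    (P3 : PP rf eta nk y i (rf i (rf k (rf i r))))
    (P4 : PP rf eta nk y i (rf i (rf k r)))
    (P5 : PP rf eta nk y k (rf k (rf i (rf k r)))) : PP rf eta nk y k (rf k r) := by
  have r1 := C.rf_lt i hi r hr
  have r2 := C.rf_lt k hk _ r1
  have r3 := C.rf_lt i hi _ r2
  have s1 := C.rf_lt k hk r hr
  have s2 := C.rf_lt i hi _ s1
  have s3 := C.rf_lt k hk _ s2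
  obtain ⟨hq, -⟩ := C.braid3 i hi k hk hik hm r hr
  obtain ⟨-, hsg⟩ := C.braid3 i hi k hk hik hm _ r3
  have a1 : rf i (rf i (rf k (rf i r))) = rf k (rf i r) := C.rf_rf i hi _ r2
  have a2 : rf k (rf k (rf i r)) = rf i r := C.rf_rf k hk _ r1
  have a3 : rf i (rf i r) = r := C.rf_rf i hi r hr
  have b1 : rf k (rf i (rf k (rf i r))) = rf i (rf k r) := by rw [hq, C.rf_rf k hk _ s2]
  have b2 : rf i (rf i (rf k r)) = rf k r := C.rf_rf i hi _ s1
  have b3 : rf k (rf k r) = r := C.rf_rf k hk r hr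
  rw [a1, a2, b1, b2] at hsg
  rw [← hq] at P5
  have hsq1 : (eta k (rf i (rf k (rf i r))) : K) * eta k (rf i (rf k (rf i r))) = 1 := by
    exact_mod_cast congrArg (Int.cast : ℤ → K) (C.eta_sq k hk _ r3)
  have hsq2 : (eta i (rf i (rf k r)) : K) * eta i (rf i (rf k r)) = 1 := by
    exact_mod_cast congrArg (Int.cast : ℤ → K) (C.eta_sq i hi _ s2)
  intro t
  have e : y (rf k r) t = (nk i * nk k) * y (rf i (rf k (rf i r)))
      ((eta k (rf i (rf k (rf i r))) : K) * ((eta i (rf i (rf k r)) : K) * t)) * (nk i * nk k)⁻¹ := by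
    rw [conj_comp, P5, ← mul_assoc, hsq1, one_mul, b1, P4, ← mul_assoc, hsq2, one_mul, b2]
  rw [e, ← conj_comp, ← mul_assoc, ← hb, conj_comp, conj_comp, P3, a1, P2, a2, P1, a3, b3]
  congr 1
  have hsg' : (eta i (rf i (rf k (rf i r))) : K) * eta k (rf k (rf i r)) * eta i (rf i r) =
      eta k (rf i (rf k (rf i r))) * eta i (rf i (rf k r)) * eta k (rf k r) := by
    exact_mod_cast congrArg (Int.cast : ℤ → K) hsg
  calc (eta i (rf i r) : K) * ((eta k (rf k (rf i r)) : K) * ((eta i (rf i (rf k (rf i r))) : K) *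
        ((eta k (rf i (rf k (rf i r))) : K) * ((eta i (rf i (rf k r)) : K) * t))))
      = ((eta i (rf i (rf k (rf i r))) : K) * eta k (rf k (rf i r)) * eta i (rf i r)) *
        ((eta k (rf i (rf k (rf i r))) : K) * ((eta i (rf i (rf k r)) : K) * t)) := by ring
    _ = ((eta k (rf i (rf k (rf i r))) : K) * eta k (rf i (rf k (rf i r)))) *
        ((eta i (rf i (rf k r)) : K) * eta i (rf i (rf k r))) * (eta k (rf k r) * t) := by rw [hsg']; ring
    _ = _ := by rw [hsq1, hsq2, one_mul, one_mul]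

theorem braid4_step (C : Comb l n rf eta mu ds sim neg st m) {nk : ℕ → Γ} {y : ℕ → K → Γ} {k i r : ℕ}
    (hk : k < l) (hi : i < l) (hik : i ≠ k) (hm : m i k = 4) (hr : r < n)
    (hb : nk i * nk k * nk i * nk k = nk k * nk i * nk k * nk i)
    (P1 : PP rf eta nk y i (rf i r)) (P2 : PP rf eta nk y k (rf k (rf i r)))
    (P3 : PP rf eta nk y i (rf i (rf k (rf i r)))) (P3' : PP rf eta nk y k (rf k (rf i (rf k (rf i r)))))
    (P4 : PP rf eta nk y i (rf i (rf k r)))
    (P5 : PP rf eta nk y k (rf k (rf i (rf k r))))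
    (P6 : PP rf eta nk y i (rf i (rf k (rf i (rf k r))))) : PP rf eta nk y k (rf k r) := by
  have r1 := C.rf_lt i hi r hr
  have r2 := C.rf_lt k hk _ r1
  have r3 := C.rf_lt i hi _ r2
  have r4 := C.rf_lt k hk _ r3
  have s1 := C.rf_lt k hk r hr
  have s2 := C.rf_lt i hi _ s1
  have s3 := C.rf_lt k hk _ s2
  have s4 := C.rf_lt i hi _ s3
  obtain ⟨hq, -⟩ := C.braid4 i hi k hk hik hm r hr
  obtain ⟨-, hsg⟩ := C.braid4 i hi k hk hik hm _ r4
  have a0 : rf k (rf k (rf i (rf k (rf i r)))) = rf i (rf k (rf i r)) := C.rf_rf k hk _ r3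
  have a1 : rf i (rf i (rf k (rf i r))) = rf k (rf i r) := C.rf_rf i hi _ r2
  have a2 : rf k (rf k (rf i r)) = rf i r := C.rf_rf k hk _ r1
  have a3 : rf i (rf i r) = r := C.rf_rf i hi r hr
  have b0 : rf i (rf k (rf i (rf k (rf i r)))) = rf k (rf i (rf k r)) := by rw [hq, C.rf_rf i hi _ s3]
  have b1 : rf k (rf k (rf i (rf k r))) = rf i (rf k r) := C.rf_rf k hk _ s2
  have b2 : rf i (rf i (rf k r)) = rf k r := C.rf_rf i hi _ s1
  have b3 : rf k (rf k r) = r := C.rf_rf k hk r hr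
  rw [a0, a1, a2, b0, b1, b2] at hsg
  rw [← hq] at P6
  have hsq0 : (eta i (rf k (rf i (rf k (rf i r)))) : K) * eta i (rf k (rf i (rf k (rf i r)))) = 1 := by
    exact_mod_cast congrArg (Int.cast : ℤ → K) (C.eta_sq i hi _ r4)
  have hsq1 : (eta k (rf k (rf i (rf k r))) : K) * eta k (rf k (rf i (rf k r))) = 1 := by
    exact_mod_cast congrArg (Int.cast : ℤ → K) (C.eta_sq k hk _ s3)
  have hsq2 : (eta i (rf i (rf k r)) : K) * eta i (rf i (rf k r)) = 1 := by
    exact_mod_cast congrArg (Int.cast : ℤ → K) (C.eta_sq i hi _ s2)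
  intro t
  have e : y (rf k r) t = (nk i * nk k * nk i) * y (rf k (rf i (rf k (rf i r))))
      ((eta i (rf k (rf i (rf k (rf i r)))) : K) * ((eta k (rf k (rf i (rf k r))) : K) *
        ((eta i (rf i (rf k r)) : K) * t))) * (nk i * nk k * nk i)⁻¹ := by
    rw [conj_comp, conj_comp, P6, sq_cancel hsq0, b0, P5, sq_cancel hsq1, b1, P4, sq_cancel hsq2, b2]
  rw [e, ← conj_comp, ← mul_assoc, ← mul_assoc, ← hb, conj_comp, conj_comp, conj_comp, P3', a0, P3, a1, P2, a2,
    P1, a3, b3]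
  congr 1
  have hsg' : (eta k (rf k (rf i (rf k (rf i r)))) : K) * eta i (rf i (rf k (rf i r))) *
      eta k (rf k (rf i r)) * eta i (rf i r) =
      eta i (rf k (rf i (rf k (rf i r)))) * eta k (rf k (rf i (rf k r))) * eta i (rf i (rf k r)) *
        eta k (rf k r) := by
    have hsg2 : eta k (rf k (rf i (rf k (rf i r)))) * eta i (rf i (rf k (rf i r))) *
      eta k (rf k (rf i r)) * eta i (rf i r) =
      eta i (rf k (rf i (rf k (rf i r)))) * eta k (rf k (rf i (rf k r))) * eta i (rf i (rf k r)) *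
        eta k (rf k r) := hsg.symm
    exact_mod_cast congrArg (Int.cast : ℤ → K) hsg2
  calc (eta i (rf i r) : K) * ((eta k (rf k (rf i r)) : K) * ((eta i (rf i (rf k (rf i r))) : K) *
        ((eta k (rf k (rf i (rf k (rf i r)))) : K) *
        ((eta i (rf k (rf i (rf k (rf i r)))) : K) * ((eta k (rf k (rf i (rf k r))) : K) *
          ((eta i (rf i (rf k r)) : K) * t))))))
      = ((eta k (rf k (rf i (rf k (rf i r)))) : K) * eta i (rf i (rf k (rf i r))) *
          eta k (rf k (rf i r)) * eta i (rf i r)) *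
        ((eta i (rf k (rf i (rf k (rf i r)))) : K) * ((eta k (rf k (rf i (rf k r))) : K) *
          ((eta i (rf i (rf k r)) : K) * t))) := by ring
    _ = ((eta i (rf k (rf i (rf k (rf i r)))) : K) * eta i (rf k (rf i (rf k (rf i r))))) *
        ((eta k (rf k (rf i (rf k r))) : K) * eta k (rf k (rf i (rf k r)))) *
        ((eta i (rf i (rf k r)) : K) * eta i (rf i (rf k r))) * (eta k (rf k r) * t) := by rw [hsg']; ring
    _ = _ := by rw [hsq0, hsq1, hsq2, one_mul, one_mul, one_mul]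

/-- Main induction. -/
theorem main (C : Comb l n rf eta mu ds sim neg st m) {nk : ℕ → Γ} {y : ℕ → K → Γ}
    (h1 : ∀ k < l, ∀ j < l, ∀ r < n, st k j r → PP rf eta nk y k r)
    (h2 : ∀ r < n, (¬ ∃ i j, st i j r) → mu (rf (ds r) r) < mu r → PP rf eta nk y (ds r) (rf (ds r) r))
    (b2 : ∀ i < l, ∀ k < l, i ≠ k → m i k = 2 → nk i * nk k = nk k * nk i)
    (b3 : ∀ i < l, ∀ k < l, i ≠ k → m i k = 3 → nk i * nk k * nk i = nk k * nk i * nk k)
    (b4 : ∀ i < l, ∀ k < l, i ≠ k → m i k = 4 → nk i * nk k * nk i * nk k = nk k * nk i * nk k * nk i)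
    (ht : ∀ k < l, ∀ i < l, nk k * nk k * nk i * (nk k * nk k)⁻¹ =
      if eta k (sim i) * eta k (rf k (sim i)) = 1 then nk i else (nk i)⁻¹) :
    ∀ k < l, ∀ r < n, PP rf eta nk y k r := by
  have claim : ∀ M : ℕ, ∀ r < n, mu r < M →
      (∀ k < l, QQ rf eta nk y k r) ∧ (∀ k < l, mu (rf k r) < M → PP rf eta nk y k r) := by
    intro M
    induction M with
    | zero => intro r _ h; exact absurd h (Nat.not_lt_zero _)
    | succ M IH =>
      -- the upper end of an edge
      have U : ∀ r < n, mu r = M → (∀ k < l, QQ rf eta nk y k r) ∧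
          ∀ k < l, mu (rf k r) ≤ M → PP rf eta nk y k r ∧ PP rf eta nk y k (rf k r) := by
        intro r hr hM
        rcases C.desc r hr with ⟨j, hj, hs⟩ | ⟨hi, hmu, hst, hk⟩
        · have hstd : ∀ k < l, st k j r := by
            intro k hk
            have := C.st_sim j hj k hk
            rcases hs with rfl | rfl
            · exact C.st_symm _ _ _ this.1
            · exact C.st_symm _ _ _ this.2
          have hP : ∀ k < l, PP rf eta nk y k r ∧ PP rf eta nk y k (rf k r) := by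
            intro k hk
            exact ⟨h1 k hk j hj r hr (hstd k hk), h1 k hk j hj _ (C.rf_lt k hk r hr)
              (C.st_rf k hk j hj r hr (hstd k hk))⟩
          exact ⟨fun k hk => QQ_of_PP C hk hr (hP k hk).1 (hP k hk).2, fun k hk _ => hP k hk⟩
        · have hr1 := C.rf_lt _ hi r hr
          have hmu' : mu (rf (ds r) r) < M := hM ▸ hmu
          have P1 : PP rf eta nk y (ds r) (rf (ds r) r) := by
            by_cases hR : ∃ i j, st i j r
            · obtain ⟨j, hj, hs⟩ := hst hR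
              exact h1 _ hi j hj _ hr1 (C.st_rf _ hi j hj r hr hs)
            · exact h2 r hr hR hmu
          have Q : ∀ k < l, QQ rf eta nk y k r := by
            intro k hk
            have := QQ_step C hk hi hr1 P1 ((IH _ hr1 hmu').1 k hk) ((IH _ hr1 hmu').1 _ hi) (ht k hk _ hi)
            rwa [C.rf_rf _ hi r hr] at this
          have Pi : PP rf eta nk y (ds r) r := by
            have := PP_of_QQ C hi hr1 P1 ((IH _ hr1 hmu').1 _ hi)
            rwa [C.rf_rf _ hi r hr] at this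
          refine ⟨Q, fun k hkl hmk => ?_⟩
          by_cases hki : k = ds r
          · subst hki; exact ⟨Pi, P1⟩
          have hs1 := C.rf_lt k hkl r hr
          -- an edge with both ends below, or the defining edge
          have low : ∀ q < n, ∀ j < l, mu q < M → mu (rf j q) < M → PP rf eta nk y j q :=
            fun q hq j hj h3 h4 => (IH q hq h3).2 j hj h4
          have fin : PP rf eta nk y k (rf k r) → (rf k r = r ∨ mu (rf k r) < mu r) →
              PP rf eta nk y k r ∧ PP rf eta nk y k (rf k r) := by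
            intro h3 h4
            refine ⟨?_, h3⟩
            have hQ : QQ rf eta nk y k (rf k r) := by
              rcases h4 with h4 | h4
              · rw [h4]; exact Q k hkl
              · exact (IH _ hs1 (hM ▸ h4)).1 k hkl
            have := PP_of_QQ C hkl hs1 h3 hQ
            rwa [C.rf_rf k hkl r hr] at this
          rcases hk k hkl hki with h3 | h3 | ⟨h3, c2, c3, c4⟩
          · omega
          · exact ⟨h1 k hkl _ hi r hr (C.st_symm _ _ _ h3),
              h1 k hkl _ hi _ hs1 (C.st_rf k hkl _ hi r hr (C.st_symm _ _ _ h3))⟩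
          · refine fin ?_ h3
            -- the edge `s₂ → s₁`
            have hs2 := C.rf_lt _ hi _ hs1
            have P4 : mu (rf (ds r) (rf k r)) < M → PP rf eta nk y (ds r) (rf (ds r) (rf k r)) := by
              intro h4
              rcases h3 with h3 | h3
              · rw [h3]; exact P1
              · exact low _ hs2 _ hi h4 (by rw [C.rf_rf _ hi _ hs1]; omega)
            have hr2 := C.rf_lt k hkl _ hr1
            rcases C.m_cases _ hi k hkl (Ne.symm hki) with hm | hm | hm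
            · have c2' := c2 hm
              rw [hM] at c2'
              have e := (C.braid2 _ hi k hkl (Ne.symm hki) hm r hr).1
              refine braid2_step C hkl hi (Ne.symm hki) hm hr (b2 _ hi k hkl (Ne.symm hki) hm) P1
                (low _ hr2 k hkl c2' (by rw [C.rf_rf k hkl _ hr1]; exact hmu')) (P4 (by rw [e]; exact c2'))
            · obtain ⟨d1, d2, d3⟩ := c3 hm
              rw [hM] at d1 d2 d3
              have e := (C.braid3 _ hi k hkl (Ne.symm hki) hm r hr).1
              refine braid3_step C hkl hi (Ne.symm hki) hm hr (b3 _ hi k hkl (Ne.symm hki) hm) P1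
                (low _ hr2 k hkl d1 (by rw [C.rf_rf k hkl _ hr1]; exact hmu'))
                (low _ (C.rf_lt _ hi _ hr2) _ hi d2 (by rw [C.rf_rf _ hi _ hr2]; exact d1))
                (P4 d3)
                (low _ (C.rf_lt k hkl _ hs2) k hkl (by rw [← e]; exact d2)
                  (by rw [C.rf_rf k hkl _ hs2]; exact d3))
            · obtain ⟨d1, d2, d3, d4, d5⟩ := c4 hm
              rw [hM] at d1 d2 d3 d4 d5
              have e := (C.braid4 _ hi k hkl (Ne.symm hki) hm r hr).1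
              refine braid4_step C hkl hi (Ne.symm hki) hm hr (b4 _ hi k hkl (Ne.symm hki) hm) P1
                (low _ hr2 k hkl d1 (by rw [C.rf_rf k hkl _ hr1]; exact hmu'))
                (low _ (C.rf_lt _ hi _ hr2) _ hi d2 (by rw [C.rf_rf _ hi _ hr2]; exact d1))
                (low _ (C.rf_lt k hkl _ (C.rf_lt _ hi _ hr2)) k hkl d3
                  (by rw [C.rf_rf k hkl _ (C.rf_lt _ hi _ hr2)]; exact d2))
                (P4 d4)
                (low _ (C.rf_lt k hkl _ hs2) k hkl d5 (by rw [C.rf_rf k hkl _ hs2]; exact d4))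
                (low _ (C.rf_lt _ hi _ (C.rf_lt k hkl _ hs2)) _ hi (by rw [← e]; exact d3)
                  (by rw [C.rf_rf _ hi _ (C.rf_lt k hkl _ hs2)]; exact d5))
      intro r hr hrM
      refine ⟨fun k hk => ?_, fun k hk hkM => ?_⟩
      · rcases Nat.lt_succ_iff_lt_or_eq.1 hrM with h3 | h3
        · exact (IH r hr h3).1 k hk
        · exact (U r hr h3).1 k hk
      · rcases Nat.lt_succ_iff_lt_or_eq.1 hrM with h3 | h3
        · rcases Nat.lt_succ_iff_lt_or_eq.1 hkM with h4 | h4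
          · exact (IH r hr h3).2 k hk h4
          · have := ((U _ (C.rf_lt k hk r hr) h4).2 k hk (by rw [C.rf_rf k hk r hr]; omega)).2
            rwa [C.rf_rf k hk r hr] at this
        · exact ((U r hr h3).2 k hk (by omega)).1
  intro k hk r hr
  exact (claim (max (mu r) (mu (rf k r)) + 1) r hr (by omega)).2 k hk (by omega)

end

end Cfsg.Agent.LieRecognition.CTInduct
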