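import Cfsg.Agent.LieRecognition.CTGood

/-!
The Curtis-Tits presentation: from the table facts `Good` to the isomorphism.
-/

set_option autoImplicit false
set_option linter.unusedSectionVars false
set_option linter.unusedVariables false

namespace Cfsg.Agent.LieRecognition.CTMain

open Cfsg.Lie Cfsg.Agent.LieRecognition.CTString Cfsg.Agent.LieRecognition.CTInduct
  Cfsg.Agent.LieRecognition.CTGood

section

variable {K : Type*} [Field K] {D : ChevalleyDatum} {rf : ℕ → ℕ → ℕ} {eta : ℕ → ℕ → ℤ}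
  {mu : ℕ → ℕ} {ds : ℕ → ℕ} {m : ℕ → ℕ → ℕ}

/-! ### Steinberg's group -/

omit [Field K] in
variable (D) in
theorem stX_lt {r : ℕ} (h : r < D.nroots) (t : K) : D.stX r t = FreeGroup.of (⟨r, h⟩, t) := dif_pos h

omit [Field K] in
variable (D) in
theorem stX_ge {r : ℕ} (h : ¬ r < D.nroots) (t : K) : D.stX r t = 1 := dif_neg h

/-- Lift of a family to the free group. -/
def fl (D : ChevalleyDatum) {Γ : Type*} [Group Γ] (y : ℕ → K → Γ) : FreeGroup (Fin D.nroots × K) →* Γ :=
  FreeGroup.lift fun p => y p.1 p.2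

theorem fl_stX {Γ : Type*} [Group Γ] (y : ℕ → K → Γ) (h0 : ∀ r t, ¬ r < D.nroots → y r t = 1) (r : ℕ) (t : K) :
    fl D y (D.stX r t) = y r t := by
  by_cases h : r < D.nroots
  · rw [stX_lt D h]
    exact FreeGroup.lift_apply_of
  · rw [stX_ge D h, map_one, h0 r t h]

theorem fl_stWord {Γ : Type*} [Group Γ] (y : ℕ → K → Γ) (h0 : ∀ r t, ¬ r < D.nroots → y r t = 1)
    (w : List (ℕ × K)) : fl D y (D.stWord w) = wprod y w := by
  show fl D y (List.prod (List.map _ w)) = _
  rw [map_list_prod, List.map_map]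
  congr 1
  refine List.map_congr_left fun p _ => ?_
  exact fl_stX y h0 p.1 p.2

omit [Field K] in
theorem mk_stWord {rels : Set (FreeGroup (Fin D.nroots × K))} (w : List (ℕ × K)) :
    PresentedGroup.mk rels (D.stWord w) = wprod (fun r t => PresentedGroup.mk rels (D.stX r t)) w := by
  show PresentedGroup.mk rels (List.prod (List.map _ w)) = _
  rw [map_list_prod, List.map_map]
  rfl

/-- `h_r(t)` as a product of root elements. -/
def hh {Γ : Type*} [Group Γ] (D : ChevalleyDatum) (x : ℕ → K → Γ) (r : ℕ) (t : K) : Γ :=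
  wprod x (D.hWord r t)

/-- `n_r(t)` as a product of root elements. -/
def nt {Γ : Type*} [Group Γ] (D : ChevalleyDatum) (x : ℕ → K → Γ) (r : ℕ) (t : K) : Γ :=
  x r t * x (D.neg r) (-t⁻¹) * x r t

theorem hh_eq {Γ : Type*} [Group Γ] (x : ℕ → K → Γ) (r : ℕ) (t : K) :
    hh D x r t = nt D x r t * nt D x r (-1) := by
  show x r t * (x (D.neg r) (-t⁻¹) * (x r t * (x r (-1) * (x (D.neg r) (-(-1)⁻¹) * (x r (-1) * 1))))) = _
  rw [mul_one]
  simp only [nt, mul_assoc]

omit [Field K] in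
theorem wprod_append {Γ : Type*} [Group Γ] (x : ℕ → K → Γ) (v w : List (ℕ × K)) :
    wprod x (v ++ w) = wprod x v * wprod x w := by
  show (List.map _ _).prod = _
  rw [List.map_append, List.prod_append]; rfl

/-- The root elements of Steinberg's group. -/
def xS (D : ChevalleyDatum) (K : Type*) [Field K] : ℕ → K → D.SteinbergGroup K :=
  fun r t => PresentedGroup.mk (D.steinbergRels K) (D.stX r t)

theorem xS_sys (D : ChevalleyDatum) (K : Type*) [Field K] : RelSys D (xS D K) (· < D.nroots) where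
  add := by
    intro r hr t u
    have hmem : D.stX r t * D.stX r u * (D.stX r (t + u))⁻¹ ∈ D.steinbergRels K :=
      Or.inl (Or.inl ⟨r, t, u, hr, rfl⟩)
    have := PresentedGroup.mk_eq_mk_of_mul_inv_mem hmem
    rw [map_mul] at this
    exact this
  comm := by
    intro r s hr hs h1 h2 t u
    have hmem : (D.stX s u)⁻¹ * (D.stX r t)⁻¹ * D.stX s u * D.stX r t * (D.stWord (D.commWord K r s t u))⁻¹
      ∈ D.steinbergRels K := Or.inl (Or.inr ⟨r, s, t, u, hr, hs, h1, h2, rfl⟩)
    have := PresentedGroup.mk_eq_mk_of_mul_inv_mem hmem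
    rw [map_mul, map_mul, map_mul, map_inv, map_inv, mk_stWord, wprod_commWord] at this
    exact this

theorem xS_hh (D : ChevalleyDatum) {r : ℕ} (hr : r < D.nroots) {t u : K} (ht : t ≠ 0) (hu : u ≠ 0) :
    hh D (xS D K) r t * hh D (xS D K) r u = hh D (xS D K) r (t * u) := by
  have hmem : D.stH r t * D.stH r u * (D.stH r (t * u))⁻¹ ∈ D.steinbergRels K :=
    Or.inr ⟨r, t, u, hr, ht, hu, rfl⟩
  have := PresentedGroup.mk_eq_mk_of_mul_inv_mem hmem
  rw [map_mul] at this
  have e : ∀ t : K, PresentedGroup.mk (D.steinbergRels K) (D.stH r t) = hh D (xS D K) r t :=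
    fun t => mk_stWord _
  rw [e, e, e] at this
  exact this

theorem xS_rank2 (D : ChevalleyDatum) (K : Type*) [Field K] : RankTwoSys D (xS D K) := fun _ _ _ _ =>
  { add := fun r hr => (xS_sys D K).add r hr.1
    comm := fun r s hr hs => (xS_sys D K).comm r s hr.1 hs.1 }

theorem xS_PP (C : Good D rf eta mu ds m) (K : Type*) [Field K] :
    ∀ k < D.rank, ∀ r < D.nroots, PP rf eta (nk D (xS D K)) (xS D K) k r := by
  intro k hk r hr
  by_cases hnp : NP D (D.simple k) r
  · obtain ⟨c1, c2⟩ := C.clos k hk r hr hnp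
    exact C.PP_string (xS_sys D K) hk hr hnp (C.comb.sim_lt k hk) (C.comb.neg_lt _ (C.comb.sim_lt k hk)) hr c1 c2
  · have h1 := C.comb.st_sim k hk k hk
    have : r = D.simple k ∨ r = D.neg (D.simple k) := by
      by_contra hcon
      push Not at hcon
      exact hnp hcon
    rcases this with rfl | rfl
    · exact C.PP_rank2 (xS_rank2 D K) k hk k hk _ hr h1.1
    · exact C.PP_rank2 (xS_rank2 D K) k hk k hk _ hr h1.2

/-! ### The Curtis-Tits group -/

/-- The root elements of the Curtis-Tits group. -/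
def xC (D : ChevalleyDatum) (K : Type*) [Field K] : ℕ → K → D.CurtisTitsGroup K :=
  fun r t => PresentedGroup.mk (D.curtisTitsRels K) (D.stX r t)

theorem xC_rank2 (D : ChevalleyDatum) (K : Type*) [Field K] : RankTwoSys D (xC D K) := fun i _ j _ =>
  { add := by
      intro r hr t u
      have hmem : D.stX r t * D.stX r u * (D.stX r (t + u))⁻¹ ∈ D.curtisTitsRels K :=
        Or.inl (Or.inl (Or.inr ⟨i, j, r, t, u, hr, rfl⟩))
      have := PresentedGroup.mk_eq_mk_of_mul_inv_mem hmem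
      rw [map_mul] at this
      exact this
    comm := by
      intro r s hr hs h1 h2 t u
      have hmem : (D.stX s u)⁻¹ * (D.stX r t)⁻¹ * D.stX s u * D.stX r t * (D.stWord (D.commWord K r s t u))⁻¹
        ∈ D.curtisTitsRels K := Or.inl (Or.inr ⟨i, j, r, s, t, u, hr, hs, h1, h2, rfl⟩)
      have := PresentedGroup.mk_eq_mk_of_mul_inv_mem hmem
      rw [map_mul, map_mul, map_mul, map_inv, map_inv, mk_stWord, wprod_commWord] at this
      exact this }

theorem xC_hh (D : ChevalleyDatum) {i j r : ℕ} (hr : D.InRankTwoSub i j r) {t u : K} (ht : t ≠ 0) (hu : u ≠ 0) :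
    hh D (xC D K) r t * hh D (xC D K) r u = hh D (xC D K) r (t * u) := by
  have hmem : D.stH r t * D.stH r u * (D.stH r (t * u))⁻¹ ∈ D.curtisTitsRels K :=
    Or.inr ⟨i, j, r, t, u, hr, ht, hu, rfl⟩
  have := PresentedGroup.mk_eq_mk_of_mul_inv_mem hmem
  rw [map_mul] at this
  have e : ∀ t : K, PresentedGroup.mk (D.curtisTitsRels K) (D.stH r t) = hh D (xC D K) r t :=
    fun t => mk_stWord _
  rw [e, e, e] at this
  exact this

theorem xC_one (D : ChevalleyDatum) {r : ℕ} (hr : ∀ i j, ¬ D.InRankTwoSub i j r) (t : K) :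
    xC D K r t = 1 := by
  by_cases h : r < D.nroots
  · have hmem : D.stX r t ∈ D.curtisTitsRels K := Or.inl (Or.inl (Or.inl ⟨r, t, h, hr, rfl⟩))
    exact PresentedGroup.one_of_mem hmem
  · show PresentedGroup.mk _ (D.stX r t) = 1
    rw [stX_ge D h, map_one]

/-! ### The family `y` -/

open Classical in
/-- `y_r(t)`: the root elements of the Curtis-Tits group for all roots. -/
noncomputable def yC (D : ChevalleyDatum) (rf : ℕ → ℕ → ℕ) (eta : ℕ → ℕ → ℤ) (mu : ℕ → ℕ) (ds : ℕ → ℕ)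
    (K : Type*) [Field K] (r : ℕ) (t : K) : D.CurtisTitsGroup K :=
  if h : r < D.nroots ∧ (¬ ∃ i j, D.InRankTwoSub i j r) ∧ mu (rf (ds r) r) < mu r then
    nk D (xC D K) (ds r) *
      yC D rf eta mu ds K (rf (ds r) r) ((eta (ds r) (rf (ds r) r) : K) * t) * (nk D (xC D K) (ds r))⁻¹
  else xC D K r t
termination_by mu r
decreasing_by exact h.2.2

theorem yC_pos {r : ℕ} (h : r < D.nroots ∧ (¬ ∃ i j, D.InRankTwoSub i j r) ∧ mu (rf (ds r) r) < mu r) (t : K) :
    yC D rf eta mu ds K r t = nk D (xC D K) (ds r) *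
      yC D rf eta mu ds K (rf (ds r) r) ((eta (ds r) (rf (ds r) r) : K) * t) * (nk D (xC D K) (ds r))⁻¹ := by
  rw [yC, dif_pos h]

theorem yC_neg {r : ℕ} (h : ¬ (r < D.nroots ∧ (¬ ∃ i j, D.InRankTwoSub i j r) ∧ mu (rf (ds r) r) < mu r)) (t : K) :
    yC D rf eta mu ds K r t = xC D K r t := by
  rw [yC, dif_neg h]

theorem yC_R2 {r i j : ℕ} (h : D.InRankTwoSub i j r) : yC D rf eta mu ds K r = xC D K r := by
  funext t
  exact yC_neg (fun h' => h'.2.1 ⟨i, j, h⟩) t

theorem yC_ge {r : ℕ} (h : ¬ r < D.nroots) (t : K) : yC D rf eta mu ds K r t = 1 := by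
  rw [yC_neg (fun h' => h h'.1) t]
  show PresentedGroup.mk _ (D.stX r t) = 1
  rw [stX_ge D h, map_one]

theorem nk_yC (C : Good D rf eta mu ds m) {k : ℕ} (hk : k < D.rank) :
    nk D (yC D rf eta mu ds K) k = nk D (xC D K) k := by
  have h := C.comb.st_sim k hk k hk
  show yC D rf eta mu ds K _ _ * yC D rf eta mu ds K _ _ * yC D rf eta mu ds K _ _ = xC D K _ _ * xC D K _ _ * xC D K _ _
  rw [yC_R2 h.1, yC_R2 h.2]

theorem yC_PP (C : Good D rf eta mu ds m) (K : Type*) [Field K] :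
    ∀ k < D.rank, ∀ r < D.nroots, PP rf eta (nk D (xC D K)) (yC D rf eta mu ds K) k r := by
  have hR := xC_rank2 D K
  refine main C.comb ?_ ?_ ?_ ?_ ?_ ?_
  · intro k hk j hj r hr hst t
    rw [yC_R2 hst, yC_R2 (C.comb.st_rf k hk j hj r hr hst)]
    exact C.PP_rank2 hR k hk j hj r hr hst t
  · intro r hr hn hmu t
    have hcase := C.comb.desc r hr
    rcases hcase with ⟨j, hj, hs⟩ | ⟨hi, -, -, -⟩
    · exfalso
      apply hn
      have := C.comb.st_sim j hj j hj
      rcases hs with rfl | rfl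
      · exact ⟨j, j, this.1⟩
      · exact ⟨j, j, this.2⟩
    · have hsq := C.eta_sq (K := K) hi (C.comb.rf_lt _ hi r hr)
      rw [C.comb.rf_rf _ hi r hr, yC_pos ⟨hr, hn, hmu⟩, ← mul_assoc (eta (ds r) (rf (ds r) r) : K), hsq, one_mul]
  · intro i hi k hk hik hm; exact C.brd2 hR hi hk hik hm
  · intro i hi k hk hik hm; exact C.brd3 hR hi hk hik hm
  · intro i hi k hk hik hm; exact C.brd4 hR hi hk hik hm
  · exact C.torus hR

/-- Induction principle along descents. -/
theorem desc_induction (C : Good D rf eta mu ds m) (p : ℕ → Prop)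
    (h0 : ∀ r i j, D.InRankTwoSub i j r → p r)
    (h1 : ∀ k < D.rank, ∀ r < D.nroots, p r → p (rf k r)) : ∀ r < D.nroots, p r := by
  have : ∀ M : ℕ, ∀ r < D.nroots, mu r < M → p r := by
    intro M
    induction M with
    | zero => intro r _ h; exact absurd h (Nat.not_lt_zero _)
    | succ M IH =>
      intro r hr hM
      rcases C.comb.desc r hr with ⟨j, hj, hs⟩ | ⟨hi, hmu, -, -⟩
      · have := C.comb.st_sim j hj j hj
        rcases hs with rfl | rfl
        · exact h0 _ _ _ this.1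
        · exact h0 _ _ _ this.2
      · have h2 := IH _ (C.comb.rf_lt _ hi r hr) (by omega)
        have h3 := h1 _ hi _ (C.comb.rf_lt _ hi r hr) h2
        rwa [C.comb.rf_rf _ hi r hr] at h3
  exact fun r hr => this (mu r + 1) r hr (by omega)

section Gen

variable {Γ : Type*} [Group Γ] {y : ℕ → K → Γ} {nn' : ℕ → Γ}

/-- `y_{w r}(t) = n y_r(η t) n⁻¹` -/
theorem PP.eq (C : Good D rf eta mu ds m) {k r : ℕ} (hk : k < D.rank) (hr : r < D.nroots)
    (h : PP rf eta nn' y k r) (t : K) : y (rf k r) t = nn' k * y r ((eta k r : K) * t) * (nn' k)⁻¹ := by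
  rw [h, ← mul_assoc, C.eta_sq hk hr, one_mul]

theorem y_add (C : Good D rf eta mu ds m) (hP : ∀ k < D.rank, ∀ r < D.nroots, PP rf eta nn' y k r)
    (h0 : ∀ r i j, D.InRankTwoSub i j r → CTString.Add (y r)) : ∀ r < D.nroots, CTString.Add (y r) := by
  refine desc_induction C _ h0 ?_
  intro k hk r hr h t u
  rw [PP.eq C hk hr (hP k hk r hr), PP.eq C hk hr (hP k hk r hr), PP.eq C hk hr (hP k hk r hr), mul_add, ← h]
  group

/-- the commutator relation for a pair. -/
def CR (D : ChevalleyDatum) (y : ℕ → K → Γ) (r s : ℕ) : Prop := ∀ t u,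
  (y s u)⁻¹ * (y r t)⁻¹ * y s u * y r t = tprod y (D.commTerms r s) (-t) u

theorem conj_tprod (g : Γ) (l : Terms) (t u : K) (y : ℕ → K → Γ) :
    g * tprod y l t u * g⁻¹ = (l.map fun c => g * y c.1 ((c.2.1 : K) * t ^ c.2.2.1 * u ^ c.2.2.2) * g⁻¹).prod := by
  show MulAut.conj g (List.prod _) = _
  rw [map_list_prod, List.map_map]
  rfl

theorem CR_step (C : Good D rf eta mu ds m) (hP : ∀ k < D.rank, ∀ r < D.nroots, PP rf eta nn' y k r)
    {k r s : ℕ} (hk : k < D.rank) (hr : r < D.nroots) (hs : s < D.nroots) (hnp : NP D r s)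
    (h : CR D y (rf k r) (rf k s)) : CR D y r s := by
  intro t u
  have h1 := h ((eta k r : K) * t) ((eta k s : K) * u)
  rw [← hP k hk r hr, ← hP k hk s hs, C.comm_rf k hk r hr s hs hnp] at h1
  have h2 : tprod y ((D.commTerms r s).map fun c =>
      (rf k c.1, eta k r ^ c.2.2.1 * eta k s ^ c.2.2.2 * eta k c.1 * c.2.1, c.2.2.1, c.2.2.2))
      (-((eta k r : K) * t)) ((eta k s : K) * u) = nn' k * tprod y (D.commTerms r s) (-t) u * (nn' k)⁻¹ := by
    rw [conj_tprod]
    show (List.map _ (List.map _ _)).prod = _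
    rw [List.map_map]
    congr 1
    refine List.map_congr_left fun c hc => ?_
    rw [hP k hk c.1 (C.comm_lt r hr s hs hnp c hc)]
    show y (rf k c.1) _ = y (rf k c.1) _
    congr 1
    push_cast
    have e1 : (eta k r : K) ^ c.2.2.1 * (-((eta k r : K) * t)) ^ c.2.2.1 = (-t) ^ c.2.2.1 := by
      rw [← mul_pow]
      congr 1
      calc (eta k r : K) * (-((eta k r : K) * t)) = -(((eta k r : K) * eta k r) * t) := by ring
        _ = -t := by rw [C.eta_sq hk hr, one_mul]
    have e2 : (eta k s : K) ^ c.2.2.2 * ((eta k s : K) * u) ^ c.2.2.2 = u ^ c.2.2.2 := by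
      rw [← mul_pow]
      congr 1
      rw [← mul_assoc, C.eta_sq hk hs, one_mul]
    calc (eta k r : K) ^ c.2.2.1 * (eta k s : K) ^ c.2.2.2 * (eta k c.1 : K) * (c.2.1 : K) *
          (-((eta k r : K) * t)) ^ c.2.2.1 * ((eta k s : K) * u) ^ c.2.2.2
        = (eta k c.1 : K) * ((c.2.1 : K) * ((eta k r : K) ^ c.2.2.1 * (-((eta k r : K) * t)) ^ c.2.2.1) *
          ((eta k s : K) ^ c.2.2.2 * ((eta k s : K) * u) ^ c.2.2.2)) := by ring
      _ = _ := by rw [e1, e2]
  rw [h2] at h1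
  have h3 : nn' k * ((y s u)⁻¹ * (y r t)⁻¹ * y s u * y r t) * (nn' k)⁻¹ =
      nn' k * tprod y (D.commTerms r s) (-t) u * (nn' k)⁻¹ := by
    rw [← h1]; group
  exact mul_left_cancel (mul_right_cancel h3)

theorem CR_all (C : Good D rf eta mu ds m) (hP : ∀ k < D.rank, ∀ r < D.nroots, PP rf eta nn' y k r)
    (h0 : ∀ i j r s, D.InRankTwoSub i j r → D.InRankTwoSub i j s → NP D r s → CR D y r s) :
    ∀ r < D.nroots, ∀ s < D.nroots, NP D r s → CR D y r s := by
  intro r hr s hs hnp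
  have hre := C.reach r hr s hs hnp
  induction hre with
  | base i j r s h1 h2 => exact h0 i j r s h1 h2 hnp
  | step k r s hk h ih =>
    exact CR_step C hP hk hr hs hnp (ih (C.comb.rf_lt k hk r hr) (C.comb.rf_lt k hk s hs) (C.np_rf hk hr hs hnp))

/-- (R3) for a root. -/
def HR (D : ChevalleyDatum) (y : ℕ → K → Γ) (r : ℕ) : Prop := ∀ t u, t ≠ 0 → u ≠ 0 →
  hh D y r t * hh D y r u = hh D y r (t * u)

theorem nt_neg {r : ℕ} (h1 : CTString.Add (y r)) (h2 : CTString.Add (y (D.neg r))) (t : K) :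
    nt D y r (-t) = (nt D y r t)⁻¹ := by
  show y r (-t) * y (D.neg r) (-(-t)⁻¹) * y r (-t) = (y r t * y (D.neg r) (-t⁻¹) * y r t)⁻¹
  rw [mul_inv_rev, mul_inv_rev, ← h1.neg, ← h2.neg, inv_neg, mul_assoc]

theorem conj_nt (C : Good D rf eta mu ds m) (hP : ∀ k < D.rank, ∀ r < D.nroots, PP rf eta nn' y k r)
    {k r : ℕ} (hk : k < D.rank) (hr : r < D.nroots) (t : K) :
    nn' k * nt D y r t * (nn' k)⁻¹ = nt D y (rf k r) ((eta k r : K) * t) := by
  have hn := C.comb.neg_lt r hr
  show nn' k * (y r t * y (D.neg r) (-t⁻¹) * y r t) * (nn' k)⁻¹ =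
    y (rf k r) ((eta k r : K) * t) * y (D.neg (rf k r)) (-((eta k r : K) * t)⁻¹) * y (rf k r) ((eta k r : K) * t)
  have e1 : (eta k r : K)⁻¹ = eta k r := inv_eq_of_mul_eq_one_right (C.eta_sq hk hr)
  have e2 : y (D.neg (rf k r)) (-((eta k r : K) * t)⁻¹) = nn' k * y (D.neg r) (-t⁻¹) * (nn' k)⁻¹ := by
    rw [hP k hk _ hn, C.rf_neg k hk r hr, C.eta_neg k hk r hr, mul_inv, e1, mul_neg]
  rw [e2, ← hP k hk r hr]
  group

theorem HR_step (C : Good D rf eta mu ds m) (hP : ∀ k < D.rank, ∀ r < D.nroots, PP rf eta nn' y k r)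
    (hA : ∀ r < D.nroots, CTString.Add (y r)) {k r : ℕ} (hk : k < D.rank) (hr : r < D.nroots)
    (h : HR D y r) : HR D y (rf k r) := by
  have hr1 := C.comb.rf_lt k hk r hr
  have A1 := hA _ hr1
  have A2 := hA _ (C.comb.neg_lt _ hr1)
  -- φ(t) = n h_r(t) n⁻¹
  have φ : ∀ t, nn' k * hh D y r t * (nn' k)⁻¹ =
      nt D y (rf k r) ((eta k r : K) * t) * nt D y (rf k r) ((eta k r : K) * -1) := by
    intro t
    rw [hh_eq, ← conj_nt C hP hk hr, ← conj_nt C hP hk hr]
    group
  have hmulφ : ∀ t u : K, t ≠ 0 → u ≠ 0 → (nn' k * hh D y r t * (nn' k)⁻¹) * (nn' k * hh D y r u * (nn' k)⁻¹) =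
      nn' k * hh D y r (t * u) * (nn' k)⁻¹ := by
    intro t u ht hu
    rw [← h t u ht hu]; group
  have key : ∀ t, t ≠ 0 → hh D y (rf k r) t = nn' k * hh D y r t * (nn' k)⁻¹ := by
    rcases mul_self_eq_one_iff.1 (C.comb.eta_sq k hk r hr) with he | he
    · intro t _
      rw [φ, he, Int.cast_one, one_mul, one_mul, hh_eq]
    · have hN1 : nt D y (rf k r) (-1) = (nt D y (rf k r) 1)⁻¹ := nt_neg A1 A2 1
      have φ' : ∀ t, nn' k * hh D y r t * (nn' k)⁻¹ = hh D y (rf k r) (-t) * (hh D y (rf k r) (-1))⁻¹ := by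
        intro t
        rw [φ, he, hh_eq, hh_eq, hN1]
        simp only [Int.cast_neg, Int.cast_one, neg_mul, one_mul, neg_neg]
        group
      have h1 : hh D y (rf k r) 1 = 1 := by rw [hh_eq, hN1, mul_inv_cancel]
      have hne : (-1 : K) ≠ 0 := neg_ne_zero.2 one_ne_zero
      have φm1 := φ' (-1)
      rw [neg_neg, h1, one_mul] at φm1
      -- φ(-1) = h(-1)⁻¹
      have φ1 : nn' k * hh D y r 1 * (nn' k)⁻¹ = 1 := by
        have := hmulφ 1 1 one_ne_zero one_ne_zero
        rw [mul_one] at this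
        exact mul_eq_left.1 this
      have φsq : (hh D y (rf k r) (-1))⁻¹ * (hh D y (rf k r) (-1))⁻¹ = 1 := by
        rw [← φm1, hmulφ _ _ hne hne, neg_mul_neg, one_mul, φ1]
      have hinv : (hh D y (rf k r) (-1))⁻¹ = hh D y (rf k r) (-1) := by
        have := eq_inv_of_mul_eq_one_left φsq
        rw [inv_inv] at this
        exact this
      intro t ht
      have e1 := φ' (-t)
      rw [neg_neg, hinv] at e1
      have e2 : hh D y (rf k r) t = (nn' k * hh D y r (-t) * (nn' k)⁻¹) * (hh D y (rf k r) (-1))⁻¹ := by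
        rw [e1, mul_inv_cancel_right]
      rw [e2, ← φm1, hmulφ _ _ (neg_ne_zero.2 ht) hne, neg_mul_neg, mul_one]
  intro t u ht hu
  rw [key t ht, key u hu, key _ (mul_ne_zero ht hu), hmulφ t u ht hu]

end Gen

/-! ### The isomorphism -/

open Classical in
/-- images of the generators of the Curtis-Tits group -/
noncomputable def zS (D : ChevalleyDatum) (K : Type*) [Field K] (r : ℕ) (t : K) : D.SteinbergGroup K :=
  if ∃ i j, D.InRankTwoSub i j r then xS D K r t else 1

theorem zS_pos {r i j : ℕ} (h : D.InRankTwoSub i j r) (t : K) : zS D K r t = xS D K r t := if_pos ⟨i, j, h⟩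

theorem zS_neg {r : ℕ} (h : ∀ i j, ¬ D.InRankTwoSub i j r) (t : K) : zS D K r t = 1 :=
  if_neg (fun ⟨i, j, h'⟩ => h i j h')

theorem zS_ge {r : ℕ} (h : ¬ r < D.nroots) (t : K) : zS D K r t = 1 := zS_neg (fun _ _ h' => h h'.1) t

theorem wprod_congr {Γ : Type*} [Group Γ] {x y : ℕ → K → Γ} {w : List (ℕ × K)}
    (h : ∀ p ∈ w, x p.1 p.2 = y p.1 p.2) : wprod x w = wprod y w := by
  show (List.map _ _).prod = (List.map _ _).prod
  rw [List.map_congr_left h]

theorem wprod_hWord_congr {Γ : Type*} [Group Γ] {x y : ℕ → K → Γ} {r : ℕ} {t : K}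
    (h : ∀ t, x r t = y r t) (h' : ∀ t, x (D.neg r) t = y (D.neg r) t) :
    wprod x (D.hWord r t) = wprod y (D.hWord r t) := by
  refine wprod_congr fun p hp => ?_
  have hp' : p ∈ ([(r, t), (D.neg r, -t⁻¹), (r, t)] ++ [(r, -1), (D.neg r, -(-1)⁻¹), (r, -1)] : List (ℕ × K)) := hp
  simp only [List.mem_append, List.mem_cons, List.not_mem_nil, or_false] at hp'
  rcases hp' with (rfl | rfl | rfl) | (rfl | rfl | rfl)
  · exact h _
  · exact h' _
  · exact h _
  · exact h _
  · exact h' _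
  · exact h _

theorem wprod_comm_congr {Γ : Type*} [Group Γ] {x y : ℕ → K → Γ} {r s : ℕ} {t u : K}
    (h : ∀ c ∈ D.commTerms r s, ∀ t, x c.1 t = y c.1 t) :
    wprod x (D.commWord K r s t u) = wprod y (D.commWord K r s t u) := by
  refine wprod_congr fun p hp => ?_
  have hp' : p ∈ (D.commTerms r s).map fun c => (c.1, (c.2.1 : K) * (-t) ^ c.2.2.1 * u ^ c.2.2.2) := hp
  obtain ⟨c, hc, rfl⟩ := List.mem_map.1 hp'
  exact h c hc _

/-- The homomorphism from the Curtis-Tits group onto Steinberg's group. -/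
noncomputable def fCS (C : Good D rf eta mu ds m) (K : Type*) [Field K] :
    D.CurtisTitsGroup K →* D.SteinbergGroup K :=
  PresentedGroup.toGroup (f := fun p : Fin D.nroots × K => zS D K p.1 p.2) (rels := D.curtisTitsRels K) (by
    have hX : ∀ (r : ℕ) (t : K), FreeGroup.lift (fun p : Fin D.nroots × K => zS D K p.1 p.2) (D.stX r t) =
      zS D K r t := fl_stX (zS D K) (fun r t h => zS_ge h t)
    have hW : ∀ (w : List (ℕ × K)), FreeGroup.lift (fun p : Fin D.nroots × K => zS D K p.1 p.2) (D.stWord w) =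
      wprod (zS D K) w := fl_stWord (zS D K) (fun r t h => zS_ge h t)
    rintro g (((⟨r, t, hr, h, rfl⟩ | ⟨i, j, r, t, u, h, rfl⟩) | ⟨i, j, r, s, t, u, hr, hs, h1, h2, rfl⟩) |
      ⟨i, j, r, t, u, h, ht, hu, rfl⟩)
    · rw [hX, zS_neg h]
    · rw [map_mul, map_mul, map_inv, hX, hX, hX, zS_pos h, zS_pos h, zS_pos h, (xS_sys D K).add r h.1,
        mul_inv_cancel]
    · rw [map_mul, map_mul, map_mul, map_mul, map_inv, map_inv, map_inv, hX, hX, hW, zS_pos hr, zS_pos hs,
        (xS_sys D K).comm r s hr.1 hs.1 h1 h2, ← wprod_commWord, wprod_comm_congr (x := zS D K) (y := xS D K),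
        mul_inv_cancel]
      intro c hc t
      exact zS_pos (C.st_clos i hr.2.1 j hr.2.2.1 r s hr hs ⟨h1, h2⟩ c hc) t
    · have e : ∀ t, FreeGroup.lift (fun p : Fin D.nroots × K => zS D K p.1 p.2) (D.stH r t) =
          hh D (xS D K) r t := by
        intro t
        show FreeGroup.lift (fun p : Fin D.nroots × K => zS D K p.1 p.2) (D.stWord (D.hWord r t)) = _
        rw [hW]
        exact wprod_hWord_congr (fun t => zS_pos h t) (fun t => zS_pos (C.st_neg _ _ _ h) t)
      rw [map_mul, map_mul, map_inv, e, e, e, xS_hh D h.1 ht hu, mul_inv_cancel])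

/-- The homomorphism from Steinberg's group to the Curtis-Tits group. -/
noncomputable def gSC (C : Good D rf eta mu ds m) (K : Type*) [Field K] :
    D.SteinbergGroup K →* D.CurtisTitsGroup K :=
  PresentedGroup.toGroup (f := fun p : Fin D.nroots × K => yC D rf eta mu ds K p.1 p.2)
      (rels := D.steinbergRels K) (by
    have hX : ∀ (r : ℕ) (t : K), FreeGroup.lift (fun p : Fin D.nroots × K => yC D rf eta mu ds K p.1 p.2)
      (D.stX r t) = yC D rf eta mu ds K r t := fl_stX (yC D rf eta mu ds K) (fun r t h => yC_ge h t)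
    have hW : ∀ (w : List (ℕ × K)), FreeGroup.lift (fun p : Fin D.nroots × K => yC D rf eta mu ds K p.1 p.2)
      (D.stWord w) = wprod (yC D rf eta mu ds K) w := fl_stWord (yC D rf eta mu ds K) (fun r t h => yC_ge h t)
    have hP := yC_PP C K
    have hA : ∀ r < D.nroots, CTString.Add (yC D rf eta mu ds K r) := by
      refine y_add C hP ?_
      intro r i j h
      rw [yC_R2 h]
      exact (xC_rank2 D K i h.2.1 j h.2.2.1).Add h
    have hC : ∀ r < D.nroots, ∀ s < D.nroots, NP D r s → CR D (yC D rf eta mu ds K) r s := by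
      refine CR_all C hP ?_
      intro i j r s hr hs hnp t u
      rw [yC_R2 hr, yC_R2 hs, (xC_rank2 D K i hr.2.1 j hr.2.2.1).comm r s hr hs hnp.1 hnp.2, ← wprod_commWord,
        ← wprod_commWord]
      refine wprod_comm_congr fun c hc t => ?_
      rw [yC_R2 (C.st_clos i hr.2.1 j hr.2.2.1 r s hr hs hnp c hc)]
    have hH : ∀ r < D.nroots, HR D (yC D rf eta mu ds K) r := by
      refine desc_induction C _ ?_ (fun k hk r hr h => HR_step C hP hA hk hr h)
      intro r i j h
      have e : ∀ t, hh D (yC D rf eta mu ds K) r t = hh D (xC D K) r t := by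
        intro t
        refine wprod_hWord_congr (fun t => ?_) (fun t => ?_)
        · rw [yC_R2 h]
        · rw [yC_R2 (C.st_neg _ _ _ h)]
      intro t u ht hu
      rw [e, e, e]
      exact xC_hh D h ht hu
    rintro g ((⟨r, t, u, hr, rfl⟩ | ⟨r, s, t, u, hr, hs, h1, h2, rfl⟩) | ⟨r, t, u, hr, ht, hu, rfl⟩)
    · rw [map_mul, map_mul, map_inv, hX, hX, hX, hA r hr, mul_inv_cancel]
    · rw [map_mul, map_mul, map_mul, map_mul, map_inv, map_inv, map_inv, hX, hX, hW,
        hC r hr s hs ⟨h1, h2⟩, wprod_commWord, mul_inv_cancel]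
    · have e : ∀ t, FreeGroup.lift (fun p : Fin D.nroots × K => yC D rf eta mu ds K p.1 p.2) (D.stH r t) =
          hh D (yC D rf eta mu ds K) r t := fun t => hW _
      rw [map_mul, map_mul, map_inv, e, e, e, hH r hr t u ht hu, mul_inv_cancel])

theorem fCS_x (C : Good D rf eta mu ds m) (r : ℕ) (t : K) : fCS C K (xC D K r t) = zS D K r t :=
  fl_stX (zS D K) (fun r t h => zS_ge h t) r t

theorem gSC_x (C : Good D rf eta mu ds m) (r : ℕ) (t : K) :
    gSC C K (xS D K r t) = yC D rf eta mu ds K r t :=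
  fl_stX (yC D rf eta mu ds K) (fun r t h => yC_ge h t) r t

theorem fCS_y (C : Good D rf eta mu ds m) : ∀ r < D.nroots, ∀ t : K,
    fCS C K (yC D rf eta mu ds K r t) = xS D K r t := by
  refine desc_induction C _ ?_ ?_
  · intro r i j h t
    rw [yC_R2 h, fCS_x, zS_pos h]
  · intro k hk r hr h t
    rw [PP.eq C hk hr (yC_PP C K k hk r hr), map_mul, map_mul, map_inv, h,
      PP.eq C hk hr (xS_PP C K k hk r hr)]
    have h1 := C.comb.st_sim k hk k hk
    have e : fCS C K (nk D (xC D K) k) = nk D (xS D K) k := by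
      show fCS C K (xC D K _ _ * xC D K _ _ * xC D K _ _) = xS D K _ _ * xS D K _ _ * xS D K _ _
      rw [map_mul, map_mul, fCS_x, fCS_x, zS_pos h1.1, zS_pos h1.2]
    rw [e]

/-- The Curtis-Tits isomorphism from the table facts. -/
theorem exists_iso (C : Good D rf eta mu ds m) (K : Type*) [Field K] :
    ∃ e : D.CurtisTitsGroup K ≃* D.SteinbergGroup K,
      ∀ (i j r : ℕ) (t : K), D.InRankTwoSub i j r →
        e (PresentedGroup.mk (D.curtisTitsRels K) (D.stX r t)) = D.stGen K r t := by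
  have h1 : (gSC C K).comp (fCS C K) = MonoidHom.id _ := by
    refine PresentedGroup.ext fun p => ?_
    obtain ⟨⟨r, hr⟩, t⟩ := p
    have e : (PresentedGroup.of (⟨r, hr⟩, t) : D.CurtisTitsGroup K) = xC D K r t := by
      show _ = PresentedGroup.mk _ (D.stX r t)
      rw [stX_lt D hr]; rfl
    rw [MonoidHom.comp_apply, MonoidHom.id_apply, e, fCS_x]
    by_cases h : ∃ i j, D.InRankTwoSub i j r
    · obtain ⟨i, j, h⟩ := h
      rw [zS_pos h, gSC_x, yC_R2 h]
    · have h' : ∀ i j, ¬ D.InRankTwoSub i j r := fun i j h2 => h ⟨i, j, h2⟩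
      rw [zS_neg h', map_one, xC_one D h']
  have h2 : (fCS C K).comp (gSC C K) = MonoidHom.id _ := by
    refine PresentedGroup.ext fun p => ?_
    obtain ⟨⟨r, hr⟩, t⟩ := p
    have e : (PresentedGroup.of (⟨r, hr⟩, t) : D.SteinbergGroup K) = xS D K r t := by
      show _ = PresentedGroup.mk _ (D.stX r t)
      rw [stX_lt D hr]; rfl
    rw [MonoidHom.comp_apply, MonoidHom.id_apply, e, gSC_x, fCS_y C r hr]
  refine ⟨(fCS C K).toMulEquiv (gSC C K) h1 h2, ?_⟩
  intro i j r t h
  show fCS C K (xC D K r t) = xS D K r t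
  rw [fCS_x, zS_pos h]

end

end Cfsg.Agent.LieRecognition.CTMain
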