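import Mathlib

/-!
Root strings in an arbitrary group: from the commutator relations between `x_{±p}` and the root elements of a
`p`-string one gets the conjugation action of `n_p(t) = x_p(t) x_{-p}(-t⁻¹) x_p(t)` on the string.
-/

set_option autoImplicit false

namespace Cfsg.Agent.LieRecognition.CTStringAbs

variable {Γ K : Type*} [Group Γ] [Field K]

/-- `n(t) = a(t) b(-t⁻¹) a(t)` -/
def nn (a b : K → Γ) (t : K) : Γ := a t * b (-t⁻¹) * a t

theorem nn_def (a b : K → Γ) (t : K) : nn a b t = a t * b (-t⁻¹) * a t := rfl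

theorem nn_conj (a b : K → Γ) (t : K) (y : Γ) :
    nn a b t * y * (nn a b t)⁻¹ = a t * (b (-t⁻¹) * (a t * y * (a t)⁻¹) * (b (-t⁻¹))⁻¹) * (a t)⁻¹ := by
  rw [nn_def]; group

theorem conj_mul' (g y z : Γ) : g * (y * z) * g⁻¹ = (g * y * g⁻¹) * (g * z * g⁻¹) := by group

theorem x_zero {x : K → Γ} (hx : ∀ t u, x (t + u) = x t * x u) : x 0 = 1 := by
  have h := hx 0 0
  rw [add_zero] at h
  exact left_eq_mul.1 h

theorem x_neg {x : K → Γ} (hx : ∀ t u, x (t + u) = x t * x u) (t : K) : x (-t) = (x t)⁻¹ := by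
  rw [eq_inv_iff_mul_eq_one, ← hx, neg_add_cancel, x_zero hx]

/-- conjugating an element commuting with both root groups -/
theorem str0 {a b xs : K → Γ} (h1 : ∀ t u, a t * xs u * (a t)⁻¹ = xs u)
    (h2 : ∀ t u, b t * xs u * (b t)⁻¹ = xs u) (t u : K) :
    nn a b t * xs u * (nn a b t)⁻¹ = xs u := by
  rw [nn_conj, h1, h2, h1]

section A

variable {a b xs xq : K → Γ} {c : K} (hc : c * c = 1)
  (as : ∀ t u, xs (t + u) = xs t * xs u) (aq : ∀ t u, xq (t + u) = xq t * xq u)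
  (h1 : ∀ t u, a t * xs u * (a t)⁻¹ = xs u * xq (c * t * u))
  (h2 : ∀ t u, a t * xq u * (a t)⁻¹ = xq u)
  (h3 : ∀ t u, b t * xs u * (b t)⁻¹ = xs u)
  (h4 : ∀ t u, b t * xq u * (b t)⁻¹ = xq u * xs (c * t * u))
  (h5 : ∀ t u, xs t * xq u = xq u * xs t)


include hc as h1 h2 h3 h4 h5 in
theorem strA_bot {t : K} (ht : t ≠ 0) (u : K) :
    nn a b t * xs u * (nn a b t)⁻¹ = xq (c * t * u) := by
  rw [nn_conj, h1, conj_mul' (b (-t⁻¹)), h3, h4]
  have e1 : c * -t⁻¹ * (c * t * u) = -u := by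
    have : c * -t⁻¹ * (c * t * u) = -((c * c) * (t⁻¹ * t) * u) := by ring
    rw [this, hc, inv_mul_cancel₀ ht]; ring
  rw [e1, ← h5, ← mul_assoc (xs u), ← as, add_neg_cancel, x_zero as, one_mul, h2]

include hc aq h1 h2 h4 h5 in
theorem strA_top {t : K} (ht : t ≠ 0) (u : K) :
    nn a b t * xq u * (nn a b t)⁻¹ = xs (-c * t⁻¹ * u) := by
  rw [nn_conj, h2, h4, conj_mul', h2, h1]
  have e1 : c * t * (c * -t⁻¹ * u) = -u := by
    have : c * t * (c * -t⁻¹ * u) = -((c * c) * (t * t⁻¹) * u) := by ring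
    rw [this, hc, mul_inv_cancel₀ ht]; ring
  rw [e1, h5, ← mul_assoc, ← aq, add_neg_cancel, x_zero aq, one_mul]
  congr 1; ring

end A

section B

/-- a string `s, m, q` of length three in an abelian group -/
theorem strB {a b xs xm xq : K → Γ} {c1 c2 c3 d1 d2 d3 : K}
    (as : ∀ t u, xs (t + u) = xs t * xs u) (am : ∀ t u, xm (t + u) = xm t * xm u)
    (aq : ∀ t u, xq (t + u) = xq t * xq u)
    (h1 : ∀ t u, a t * xs u * (a t)⁻¹ = xs u * (xm (c1 * t * u) * xq (c2 * t ^ 2 * u)))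
    (h2 : ∀ t u, a t * xm u * (a t)⁻¹ = xm u * xq (c3 * t * u))
    (h3 : ∀ t u, a t * xq u * (a t)⁻¹ = xq u)
    (h4 : ∀ t u, b t * xq u * (b t)⁻¹ = xq u * (xm (d1 * t * u) * xs (d2 * t ^ 2 * u)))
    (h5 : ∀ t u, b t * xm u * (b t)⁻¹ = xm u * xs (d3 * t * u))
    (h6 : ∀ t u, b t * xs u * (b t)⁻¹ = xs u)
    (h7 : ∀ t u, xs t * xm u = xm u * xs t) (h8 : ∀ t u, xs t * xq u = xq u * xs t)
    (h9 : ∀ t u, xm t * xq u = xq u * xm t)
    (e1 : c1 * d3 = 2) (e2 : c1 = c2 * d1) (e3 : d3 = d2 * c3) (e4 : d1 * c3 = 2)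
    (e5 : d1 = d2 * c1) (e6 : c2 * d2 = 1)
    {t : K} (ht : t ≠ 0) (u : K) :
    nn a b t * xs u * (nn a b t)⁻¹ = xq (c2 * t ^ 2 * u) ∧
    nn a b t * xm u * (nn a b t)⁻¹ = xm (-u) ∧
    nn a b t * xq u * (nn a b t)⁻¹ = xs (d2 * t⁻¹ ^ 2 * u) := by
  -- general element
  let e : K → K → K → Γ := fun u v w => xs u * xm v * xq w
  have he : ∀ u v w, e u v w = xs u * xm v * xq w := fun _ _ _ => rfl
  have ee : ∀ {u v w u' v' w'}, u = u' → v = v' → w = w' → e u v w = e u' v' w' := by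
    rintro _ _ _ _ _ _ rfl rfl rfl; rfl
  have emul : ∀ u v w u' v' w', e u v w * e u' v' w' = e (u + u') (v + v') (w + w') := by
    intro u v w u' v' w'
    have z1 : Commute (xm v) (xs u') := (h7 u' v).symm
    have z2 : Commute (xq w) (xs u') := (h8 u' w).symm
    have z3 : Commute (xq w) (xm v') := (h9 v' w).symm
    rw [he, he, he, as, am, aq]
    calc xs u * xm v * xq w * (xs u' * xm v' * xq w')
        = xs u * xm v * (xq w * (xs u' * xm v')) * xq w' := by simp only [mul_assoc]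
      _ = xs u * (xm v * xs u') * xm v' * xq w * xq w' := by
          rw [(z2.mul_right z3).eq]; simp only [mul_assoc]
      _ = _ := by rw [z1.eq]; simp only [mul_assoc]
  have es : ∀ u, xs u = e u 0 0 := fun u => by rw [he, x_zero am, x_zero aq, mul_one, mul_one]
  have em : ∀ u, xm u = e 0 u 0 := fun u => by rw [he, x_zero as, x_zero aq, mul_one, one_mul]
  have eq : ∀ u, xq u = e 0 0 u := fun u => by rw [he, x_zero as, x_zero am, one_mul, one_mul]
  have ca : ∀ t u v w : K, a t * e u v w * (a t)⁻¹ =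
      e u (v + c1 * t * u) (w + c3 * t * v + c2 * t ^ 2 * u) := by
    intro t u v w
    rw [he, conj_mul', conj_mul', h1, h2, h3, es, em (c1 * t * u), eq (c2 * t ^ 2 * u), em v,
      eq (c3 * t * v), eq w, emul, emul, emul, emul, emul]
    refine ee ?_ ?_ ?_ <;> ring
  have cb : ∀ t u v w : K, b t * e u v w * (b t)⁻¹ =
      e (u + d3 * t * v + d2 * t ^ 2 * w) (v + d1 * t * w) w := by
    intro t u v w
    rw [he, conj_mul', conj_mul', h4, h5, h6, es, em v, es (d3 * t * v), eq w, em (d1 * t * w),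
      es (d2 * t ^ 2 * w), emul, emul, emul, emul, emul]
    refine ee ?_ ?_ ?_ <;> ring
  have hi : t⁻¹ * t = 1 := inv_mul_cancel₀ ht
  have hi2 : t⁻¹ ^ 2 * t ^ 2 = 1 := by rw [← mul_pow, hi, one_pow]
  refine ⟨?_, ?_, ?_⟩
  · rw [nn_conj, es, ca, cb]
    have f1 : u + d3 * -t⁻¹ * (0 + c1 * t * u) + d2 * (-t⁻¹) ^ 2 * (0 + c3 * t * 0 + c2 * t ^ 2 * u) = 0 := by
      linear_combination (-d3 * c1 * u) * hi + (d2 * c2 * u) * hi2 - u * e1 + u * e6
    have f2 : 0 + c1 * t * u + d1 * -t⁻¹ * (0 + c3 * t * 0 + c2 * t ^ 2 * u) = 0 := by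
      linear_combination (-d1 * c2 * t * u) * hi + (t * u) * e2
    rw [f1, f2, ca, eq]
    refine ee ?_ ?_ ?_ <;> ring
  · rw [nn_conj, em, ca, cb]
    have f1 : 0 + d3 * -t⁻¹ * (u + c1 * t * 0) + d2 * (-t⁻¹) ^ 2 * (0 + c3 * t * u + c2 * t ^ 2 * 0) = 0 := by
      linear_combination (d2 * c3 * t⁻¹ * u) * hi - (t⁻¹ * u) * e3
    have f2 : u + c1 * t * 0 + d1 * -t⁻¹ * (0 + c3 * t * u + c2 * t ^ 2 * 0) = -u := by
      linear_combination (-d1 * c3 * u) * hi - u * e4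
    have f3 : 0 + c3 * t * u + c2 * t ^ 2 * 0 = c3 * t * u := by ring
    rw [f1, f2, f3, ca, em (-u)]
    refine ee ?_ ?_ ?_ <;> ring
  · rw [nn_conj, eq, ca, cb]
    have f1 : (0 : K) + d3 * -t⁻¹ * (0 + c1 * t * 0) + d2 * (-t⁻¹) ^ 2 * (u + c3 * t * 0 + c2 * t ^ 2 * 0) =
        d2 * t⁻¹ ^ 2 * u := by ring
    have f2 : (0 : K) + c1 * t * 0 + d1 * -t⁻¹ * (u + c3 * t * 0 + c2 * t ^ 2 * 0) = -(d1 * t⁻¹ * u) := by ring
    have f3 : u + c3 * t * 0 + c2 * t ^ 2 * 0 = u := by ring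
    rw [f1, f2, f3, ca, es]
    refine ee rfl ?_ ?_
    · linear_combination (c1 * d2 * t⁻¹ * u) * hi - (t⁻¹ * u) * e5
    · linear_combination (-c3 * d1 * u) * hi + (c2 * d2 * u) * hi2 - u * e4 + u * e6

end B

section C

/-- a string `s, m` with `s + m = q` a root; `a`, `b` centralise `xq` -/
theorem strC {a b xs xm xq : K → Γ} {c1 c2 d2 e : K} (hc : c1 * c1 = 1)
    (as : ∀ t u, xs (t + u) = xs t * xs u) (am : ∀ t u, xm (t + u) = xm t * xm u)
    (aq : ∀ t u, xq (t + u) = xq t * xq u)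
    (h1 : ∀ t u, a t * xs u * (a t)⁻¹ = xs u * (xm (c1 * t * u) * xq (c2 * t * u ^ 2)))
    (h2 : ∀ t u, a t * xm u * (a t)⁻¹ = xm u)
    (h3 : ∀ t u, a t * xq u * (a t)⁻¹ = xq u)
    (h4 : ∀ t u, b t * xm u * (b t)⁻¹ = xm u * (xs (c1 * t * u) * xq (d2 * t * u ^ 2)))
    (h5 : ∀ t u, b t * xs u * (b t)⁻¹ = xs u)
    (h6 : ∀ t u, b t * xq u * (b t)⁻¹ = xq u)
    (h7 : ∀ t u, xs t * xm u * (xs t)⁻¹ = xm u * xq (e * t * u))
    (h8 : ∀ t u, xs t * xq u = xq u * xs t) (h9 : ∀ t u, xm t * xq u = xq u * xm t)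
    (e1 : e * c1 + c2 - d2 = 0)
    {t : K} (ht : t ≠ 0) (u : K) :
    nn a b t * xs u * (nn a b t)⁻¹ = xm (c1 * t * u) ∧
    nn a b t * xm u * (nn a b t)⁻¹ = xs (-c1 * t⁻¹ * u) := by
  have hi : t⁻¹ * t = 1 := inv_mul_cancel₀ ht
  let g : K → K → K → Γ := fun u v w => xs u * xm v * xq w
  have hg : ∀ u v w, g u v w = xs u * xm v * xq w := fun _ _ _ => rfl
  have ge : ∀ {u v w u' v' w'}, u = u' → v = v' → w = w' → g u v w = g u' v' w' := by
    rintro _ _ _ _ _ _ rfl rfl rfl; rfl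
  have z1 : ∀ t u, xm u * xs t = xs t * xm u * xq (-(e * t * u)) := by
    intro t u
    have z := h7 (-t) u
    rw [x_neg as, inv_inv] at z
    have : xm u * xs t = xs t * ((xs t)⁻¹ * xm u * xs t) := by group
    rw [this, z, show e * -t * u = -(e * t * u) by ring, ← mul_assoc]
  have gmul : ∀ u v w u' v' w', g u v w * g u' v' w' = g (u + u') (v + v') (w + w' - e * v * u') := by
    intro u v w u' v' w'
    rw [hg, hg, hg, as, am, sub_eq_add_neg, aq, aq]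
    have y2 : ∀ w, Commute (xq w) (xs u') := fun w => (h8 u' w).symm
    have y3 : ∀ w, Commute (xq w) (xm v') := fun w => (h9 v' w).symm
    have y4 : ∀ w w', Commute (xq w) (xq w') := fun w w' => by
      show xq w * xq w' = xq w' * xq w
      rw [← aq, ← aq, add_comm]
    calc xs u * xm v * xq w * (xs u' * xm v' * xq w')
        = xs u * xm v * (xq w * (xs u' * xm v')) * xq w' := by simp only [mul_assoc]
      _ = xs u * (xm v * xs u') * xm v' * xq w * xq w' := by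
          rw [((y2 w).mul_right (y3 w)).eq]; simp only [mul_assoc]
      _ = xs u * xs u' * xm v * (xq (-(e * u' * v)) * xm v') * xq w * xq w' := by
          rw [z1]; simp only [mul_assoc]
      _ = xs u * xs u' * xm v * xm v' * (xq (-(e * u' * v)) * (xq w * xq w')) := by
          rw [(y3 _).eq]; simp only [mul_assoc]
      _ = _ := by
          rw [((y4 _ w).mul_right (y4 _ w')).eq, show e * u' * v = e * v * u' by ring]
          simp only [mul_assoc]
  have es : ∀ u, xs u = g u 0 0 := fun u => by rw [hg, x_zero am, x_zero aq, mul_one, mul_one]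
  have em : ∀ u, xm u = g 0 u 0 := fun u => by rw [hg, x_zero as, x_zero aq, mul_one, one_mul]
  have eq : ∀ u, xq u = g 0 0 u := fun u => by rw [hg, x_zero as, x_zero am, one_mul, one_mul]
  have ca : ∀ t u v w : K, a t * g u v w * (a t)⁻¹ =
      g u (v + c1 * t * u) (w + c2 * t * u ^ 2) := by
    intro t u v w
    rw [hg, conj_mul', conj_mul', h1, h2, h3, es, em (c1 * t * u), eq (c2 * t * u ^ 2), em v,
      eq w, gmul, gmul, gmul, gmul]
    refine ge ?_ ?_ ?_ <;> ring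
  have cb : ∀ t u v w : K, b t * g u v w * (b t)⁻¹ =
      g (u + c1 * t * v) v (w + d2 * t * v ^ 2 - e * v * (c1 * t * v)) := by
    intro t u v w
    rw [hg, conj_mul', conj_mul', h4, h5, h6, es, em v, es (c1 * t * v), eq w,
      eq (d2 * t * v ^ 2), gmul, gmul, gmul, gmul]
    refine ge ?_ ?_ ?_ <;> ring
  refine ⟨?_, ?_⟩
  · rw [nn_conj, es, ca, cb]
    have f1 : u + c1 * -t⁻¹ * (0 + c1 * t * u) = 0 := by
      linear_combination (-c1 * c1 * u) * hi - u * hc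
    have f3 : 0 + c2 * t * u ^ 2 + d2 * -t⁻¹ * (0 + c1 * t * u) ^ 2 -
        e * (0 + c1 * t * u) * (c1 * -t⁻¹ * (0 + c1 * t * u)) = 0 := by
      linear_combination (-d2 * c1 * c1 * t * u ^ 2 + e * c1 ^ 3 * t * u ^ 2) * hi +
        (-d2 * t * u ^ 2 + e * c1 * t * u ^ 2) * hc + (t * u ^ 2) * e1
    rw [f1, f3, ca, em]
    refine ge ?_ ?_ ?_ <;> ring
  · rw [nn_conj, em, ca, cb]
    have f1 : (0 : K) + c1 * -t⁻¹ * (u + c1 * t * 0) = -c1 * t⁻¹ * u := by ring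
    have f2 : u + c1 * t * 0 = u := by ring
    have f3 : 0 + c2 * t * 0 ^ 2 + d2 * -t⁻¹ * u ^ 2 - e * u * (c1 * -t⁻¹ * u) =
        (e * c1 - d2) * t⁻¹ * u ^ 2 := by ring
    rw [f1, f2, f3, ca, es]
    refine ge rfl ?_ ?_
    · linear_combination (-c1 * c1 * u) * hi - u * hc
    · linear_combination (c2 * c1 * c1 * t⁻¹ * u ^ 2) * hi + (c2 * t⁻¹ * u ^ 2) * hc +
        (t⁻¹ * u ^ 2) * e1

end C

/-- the action of `n(t)` on its own root group, from a decomposition `p = q + (-r)` of type `A₂` -/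
theorem strP {a b xr xnr xq xnq : K → Γ} {c d f1 f2 g1 g2 : K}
    (hc : c * c = 1) (hd : d * d = 1)
    -- `[x_{-r}, x_q]` gives `x_p`
    (h1 : ∀ t u, xnr t * xq u * (xnr t)⁻¹ = xq u * a (c * t * u))
    -- `[x_{-q}, x_r]` gives `x_{-p}`
    (h2 : ∀ t u, xnq t * xr u * (xnq t)⁻¹ = xr u * b (d * t * u))
    {t : K}
    (k1 : ∀ u, nn a b t * xq u * (nn a b t)⁻¹ = xr (f1 * t⁻¹ * u))
    (k2 : ∀ u, nn a b t * xnr u * (nn a b t)⁻¹ = xnq (f2 * t⁻¹ * u))
    (k3 : ∀ u, nn a b t * xr u * (nn a b t)⁻¹ = xq (g1 * t * u))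
    (k4 : ∀ u, nn a b t * xnq u * (nn a b t)⁻¹ = xnr (g2 * t * u))
    (e1 : d * f1 * f2 * c = -1) (e2 : c * g1 * g2 * d = -1) (u : K) :
    nn a b t * a u * (nn a b t)⁻¹ = b (-t⁻¹ ^ 2 * u) ∧
    nn a b t * b u * (nn a b t)⁻¹ = a (-t ^ 2 * u) := by
  have inv_conj : ∀ g y z : Γ, g * y * g⁻¹ = z → g * y⁻¹ * g⁻¹ = z⁻¹ := by
    intro g y z h
    rw [← h]; group
  constructor
  · have z1 : a u = (xq (c * u))⁻¹ * (xnr 1 * xq (c * u) * (xnr 1)⁻¹) := by
      rw [h1, inv_mul_cancel_left, show c * 1 * (c * u) = u by linear_combination u * hc]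
    rw [z1, conj_mul', conj_mul' _ (xnr 1 * xq (c * u)), conj_mul', inv_conj _ _ _ (k1 _), k1,
      inv_conj _ _ _ (k2 _), k2, h2, inv_mul_cancel_left]
    congr 1
    linear_combination (t⁻¹ ^ 2 * u) * e1
  · have z1 : b u = (xr (d * u))⁻¹ * (xnq 1 * xr (d * u) * (xnq 1)⁻¹) := by
      rw [h2, inv_mul_cancel_left, show d * 1 * (d * u) = u by linear_combination u * hd]
    rw [z1, conj_mul', conj_mul' _ (xnq 1 * xr (d * u)), conj_mul', inv_conj _ _ _ (k3 _), k3,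
      inv_conj _ _ _ (k4 _), k4, h1, inv_mul_cancel_left]
    congr 1
    linear_combination (t ^ 2 * u) * e2

end Cfsg.Agent.LieRecognition.CTStringAbs
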