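import Cfsg.Agent.LieRecognition.CTTables
import Cfsg.Agent.LieRecognition.CTStringAbs

/-!
The Curtis-Tits group: conjugation by `n_{p_k}(t)` of the root elements of the subsystems spanned by two fundamental
roots, the torus and the braid relations.
-/

set_option autoImplicit false

namespace Cfsg.Agent.LieRecognition.CTRankTwo

open Cfsg.Lie Cfsg.Agent.ChevalleyStructure.NSimple
open Cfsg.Agent.ChevalleyStructure.DepthCert Cfsg.Agent.ChevalleyStructure.DepthTransport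
open Cfsg.Agent.LieRecognition.CTTables Cfsg.Agent.LieRecognition.CTStringAbs

variable {K : Type*} [Field K] (D : ChevalleyDatum)

/-- the generator `x̄_r(t)` in the Curtis-Tits group -/
def xs (r : ℕ) (t : K) : D.CurtisTitsGroup K := PresentedGroup.mk (D.curtisTitsRels K) (D.stX r t)

/-- the class of a word -/
def wd (w : List (ℕ × K)) : D.CurtisTitsGroup K := PresentedGroup.mk (D.curtisTitsRels K) (D.stWord w)

def nk (k : ℕ) (t : K) : D.CurtisTitsGroup K := wd D (D.nWord (D.simple k) t)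
def hk (k : ℕ) (t : K) : D.CurtisTitsGroup K := wd D (D.hWord (D.simple k) t)

theorem wd_nil : wd D ([] : List (ℕ × K)) = 1 := by
  show PresentedGroup.mk (D.curtisTitsRels K) (List.prod []) = 1
  rw [List.prod_nil, map_one]

theorem wd_cons (p : ℕ × K) (w : List (ℕ × K)) : wd D (p :: w) = xs D p.1 p.2 * wd D w := by
  show PresentedGroup.mk (D.curtisTitsRels K) (List.prod (List.map _ (p :: w))) = _
  rw [List.map_cons, List.prod_cons, map_mul]; rfl

theorem wd_append (v w : List (ℕ × K)) : wd D (v ++ w) = wd D v * wd D w := by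
  induction v with
  | nil => rw [List.nil_append, wd_nil, one_mul]
  | cons p v ih => rw [List.cons_append, wd_cons, wd_cons, ih, mul_assoc]

theorem xs_of_not_sub {r : ℕ} (h : ∀ i j : ℕ, ¬ D.InRankTwoSub i j r) (t : K) : xs D r t = 1 := by
  by_cases hr : r < D.nroots
  · have hmem : D.stX r t ∈ D.curtisTitsRels K := Or.inl (Or.inl (Or.inl ⟨r, t, hr, h, rfl⟩))
    exact PresentedGroup.one_of_mem hmem
  · have : (D.stX r t : FreeGroup (Fin D.nroots × K)) = 1 := dif_neg hr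
    show PresentedGroup.mk (D.curtisTitsRels K) (D.stX r t) = 1
    rw [this, map_one]

theorem xs_add {i j r : ℕ} (h : D.InRankTwoSub i j r) (t u : K) : xs D r (t + u) = xs D r t * xs D r u := by
  have hmem : D.stX r t * D.stX r u * (D.stX r (t + u))⁻¹ ∈ D.curtisTitsRels K :=
    Or.inl (Or.inl (Or.inr ⟨i, j, r, t, u, h, rfl⟩))
  have := PresentedGroup.mk_eq_mk_of_mul_inv_mem hmem
  rw [map_mul] at this
  exact this.symm

theorem xs_zero {i j r : ℕ} (h : D.InRankTwoSub i j r) : xs D r (0 : K) = 1 := x_zero (xs_add D h)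
theorem xs_neg {i j r : ℕ} (h : D.InRankTwoSub i j r) (t : K) : xs D r (-t) = (xs D r t)⁻¹ := x_neg (xs_add D h) t

theorem xs_comm {i j r s : ℕ} (hr : D.InRankTwoSub i j r) (hs : D.InRankTwoSub i j s) (h1 : s ≠ r)
    (h2 : s ≠ D.neg r) (t u : K) :
    (xs D s u)⁻¹ * (xs D r t)⁻¹ * xs D s u * xs D r t = wd D (D.commWord K r s t u) := by
  have hmem : (D.stX s u)⁻¹ * (D.stX r t)⁻¹ * D.stX s u * D.stX r t * (D.stWord (D.commWord K r s t u))⁻¹
      ∈ D.curtisTitsRels K :=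
    Or.inl (Or.inr ⟨i, j, r, s, t, u, hr, hs, h1, h2, rfl⟩)
  have := PresentedGroup.mk_eq_mk_of_mul_inv_mem hmem
  rw [map_mul, map_mul, map_mul, map_inv, map_inv] at this
  exact this

theorem nk_eq (k : ℕ) (t : K) :
    nk D k t = xs D (D.simple k) t * xs D (D.neg (D.simple k)) (-t⁻¹) * xs D (D.simple k) t := by
  show wd D [(D.simple k, t), (D.neg (D.simple k), -t⁻¹), (D.simple k, t)] = _
  rw [wd_cons, wd_cons, wd_cons, wd_nil, mul_one, mul_assoc]

theorem nk_eq' (k : ℕ) (t : K) : nk D k t = nn (xs D (D.simple k)) (xs D (D.neg (D.simple k))) t := by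
  rw [nk_eq, nn_def]

theorem hk_eq' (k : ℕ) (t : K) : hk D k t = nk D k t * nk D k (-1) := by
  show wd D (D.nWord (D.simple k) t ++ D.nWord (D.simple k) (-1)) = _
  rw [wd_append]; rfl

theorem hk_mul {i j k : ℕ} (h : D.InRankTwoSub i j (D.simple k)) {t₁ t₂ : K} (h₁ : t₁ ≠ 0) (h₂ : t₂ ≠ 0) :
    hk D k t₁ * hk D k t₂ = hk D k (t₁ * t₂) := by
  have hmem : D.stH (D.simple k) t₁ * D.stH (D.simple k) t₂ * (D.stH (D.simple k) (t₁ * t₂))⁻¹
      ∈ D.curtisTitsRels K :=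
    Or.inr ⟨i, j, D.simple k, t₁, t₂, h, h₁, h₂, rfl⟩
  have := PresentedGroup.mk_eq_mk_of_mul_inv_mem hmem
  rw [map_mul] at this
  exact this

/-- conjugation form of the commutator relation -/
theorem xs_conj {i j r s : ℕ} (hr : D.InRankTwoSub i j r) (hs : D.InRankTwoSub i j s) (h1 : s ≠ r)
    (h2 : s ≠ D.neg r) (t u : K) :
    xs D r t * xs D s u * (xs D r t)⁻¹ =
      xs D s u * wd D ((D.commTerms r s).map fun c => (c.1, (c.2.1 : K) * t ^ c.2.2.1 * u ^ c.2.2.2)) := by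
  have h := xs_comm D hr hs h1 h2 (-t) u
  have h3 : D.commWord K r s (-t) u =
      (D.commTerms r s).map fun c => (c.1, (c.2.1 : K) * t ^ c.2.2.1 * u ^ c.2.2.2) := by
    show (D.commTerms r s).map (fun c => (c.1, (c.2.1 : K) * (-(-t)) ^ c.2.2.1 * u ^ c.2.2.2)) = _
    rw [_root_.neg_neg]
  rw [h3, xs_neg D hr] at h
  rw [← h]
  group

/-- the data: packed supports and the checks -/
structure Tab (D : ChevalleyDatum) (B : ℕ) : Prop where
  supp : suppOK D B = true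
  small : smallOK B D.nroots D.rank = true
  all : ∀ k < D.rank, allOK D B k = true

theorem exists_tab {D : ChevalleyDatum} (hD : D ∈ [chevD4, chevF4, chevE6, chevE7, chevE8]) : ∃ B, Tab D B := by
  simp only [List.mem_cons, List.not_mem_nil, or_false] at hD
  rcases hD with h | h | h | h | h <;> rw [h]
  · exact ⟨_, suppD4, smallD4, allD4⟩
  · exact ⟨_, suppF4, smallF4, allF4⟩
  · exact ⟨_, suppE6, smallE6, allE6⟩
  · exact ⟨_, suppE7, smallE7, allE7⟩
  · exact ⟨_, suppE8, smallE8, allE8⟩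

theorem beqF {a b : ℕ} : Nat.beq a b = false ↔ a ≠ b := by
  rw [← Bool.not_eq_true, Nat.beq_eq]

section tab

variable {D} {B : ℕ} (T : Tab D B) {k j : ℕ} (hk : k < D.rank) (hj : j < D.rank)

include T hk hj

theorem ok_sub {r s : ℕ} {L : List (ℕ × ℤ × ℕ × ℕ)} (h : ok D B k j r s L = true) :
    D.InRankTwoSub k j r ∧ D.InRankTwoSub k j s ∧ s ≠ r ∧ s ≠ D.neg r ∧ D.commTerms r s = L := by
  unfold ok at h
  simp only [Bool.and_eq_true, Nat.blt_eq, Bool.not_eq_true', decide_eq_true_eq, beqF] at h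
  obtain ⟨⟨⟨⟨⟨⟨h1, h2⟩, h3⟩, h4⟩, h5⟩, h6⟩, h7⟩ := h
  exact ⟨(inRankTwoSub_iff T.supp T.small h3 hk hj).2 h1, (inRankTwoSub_iff T.supp T.small h4 hk hj).2 h2,
    h5, h6, h7⟩

theorem ok_nil {r s : ℕ} (h : ok D B k j r s [] = true) (t u : K) :
    xs D r t * xs D s u * (xs D r t)⁻¹ = xs D s u := by
  obtain ⟨h1, h2, h3, h4, h5⟩ := ok_sub T hk hj h
  rw [xs_conj D h1 h2 h3 h4, h5, List.map_nil, wd_nil, mul_one]

theorem ok_comm {r s : ℕ} (h : ok D B k j r s [] = true) (t u : K) :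
    xs D r t * xs D s u = xs D s u * xs D r t := by
  have := ok_nil (K := K) T hk hj h t u
  rw [mul_inv_eq_iff_eq_mul] at this
  exact this

theorem ok_one {r s q : ℕ} {c : ℤ} (h : ok D B k j r s [(q, c, 1, 1)] = true) (t u : K) :
    xs D r t * xs D s u * (xs D r t)⁻¹ = xs D s u * xs D q ((c : K) * t * u) := by
  obtain ⟨h1, h2, h3, h4, h5⟩ := ok_sub T hk hj h
  rw [xs_conj D h1 h2 h3 h4, h5, List.map_cons, List.map_nil, wd_cons, wd_nil, mul_one]
  simp only [pow_one]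

theorem ok_two {r s m q : ℕ} {c d : ℤ} (h : ok D B k j r s [(m, c, 1, 1), (q, d, 2, 1)] = true) (t u : K) :
    xs D r t * xs D s u * (xs D r t)⁻¹ = xs D s u * (xs D m ((c : K) * t * u) * xs D q ((d : K) * t ^ 2 * u)) := by
  obtain ⟨h1, h2, h3, h4, h5⟩ := ok_sub T hk hj h
  rw [xs_conj D h1 h2 h3 h4, h5, List.map_cons, List.map_cons, List.map_nil, wd_cons, wd_cons, wd_nil, mul_one]
  simp only [pow_one]

theorem ok_two' {r s m q : ℕ} {c d : ℤ} (h : ok D B k j r s [(m, c, 1, 1), (q, d, 1, 2)] = true) (t u : K) :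
    xs D r t * xs D s u * (xs D r t)⁻¹ = xs D s u * (xs D m ((c : K) * t * u) * xs D q ((d : K) * t * u ^ 2)) := by
  obtain ⟨h1, h2, h3, h4, h5⟩ := ok_sub T hk hj h
  rw [xs_conj D h1 h2 h3 h4, h5, List.map_cons, List.map_cons, List.map_nil, wd_cons, wd_cons, wd_nil, mul_one]
  simp only [pow_one]

/-- two-element strings -/
theorem chkA_spec {p np s q : ℕ} {c : ℤ} (h : chkA D B k j p np s q c = true) {t : K} (ht : t ≠ 0) (u : K) :
    nn (xs D p) (xs D np) t * xs D s u * (nn (xs D p) (xs D np) t)⁻¹ = xs D q ((c : K) * t * u) ∧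
    nn (xs D p) (xs D np) t * xs D q u * (nn (xs D p) (xs D np) t)⁻¹ = xs D s (-(c : K) * t⁻¹ * u) := by
  unfold chkA at h
  simp only [Bool.and_eq_true, decide_eq_true_eq] at h
  obtain ⟨⟨⟨⟨⟨h1, h2⟩, h3⟩, h4⟩, h5⟩, h6⟩ := h
  have hc : (c : K) * c = 1 := by exact_mod_cast congrArg (Int.cast : ℤ → K) h6
  have z := ok_sub T hk hj h5
  refine ⟨strA_bot hc (xs_add D z.1) (fun t u => ok_one T hk hj h1 t u) (fun t u => ok_nil T hk hj h2 t u)
    (fun t u => ok_nil T hk hj h3 t u) (fun t u => ok_one T hk hj h4 t u) (fun t u => ok_comm T hk hj h5 t u) ht u,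
    strA_top hc (xs_add D z.2.1) (fun t u => ok_one T hk hj h1 t u) (fun t u => ok_nil T hk hj h2 t u)
    (fun t u => ok_one T hk hj h4 t u) (fun t u => ok_comm T hk hj h5 t u) ht u⟩

/-- three-element strings -/
theorem chkB_spec {p np s m q : ℕ} (h : chkB' D B k j p np s m q = true) {t : K} (ht : t ≠ 0) (u : K) :
    nn (xs D p) (xs D np) t * xs D s u * (nn (xs D p) (xs D np) t)⁻¹ = xs D q ((D.chainM p s 2 : K) * t ^ 2 * u) ∧
    nn (xs D p) (xs D np) t * xs D m u * (nn (xs D p) (xs D np) t)⁻¹ = xs D m (-u) ∧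
    nn (xs D p) (xs D np) t * xs D q u * (nn (xs D p) (xs D np) t)⁻¹ =
      xs D s ((D.chainM np q 2 : K) * t⁻¹ ^ 2 * u) := by
  unfold chkB' chkB at h
  simp only [Bool.and_eq_true, decide_eq_true_eq] at h
  obtain ⟨⟨⟨⟨⟨⟨⟨⟨⟨⟨⟨⟨⟨⟨h1, h2⟩, h3⟩, h4⟩, h5⟩, h6⟩, h7⟩, h8⟩, h9⟩, e1⟩, e2⟩, e3⟩, e4⟩, e5⟩, e6⟩ := h
  have z := ok_sub T hk hj h7
  have z' := ok_sub T hk hj h8
  exact strB (xs_add D z.1) (xs_add D z.2.1) (xs_add D z'.2.1) (fun t u => ok_two T hk hj h1 t u)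
    (fun t u => ok_one T hk hj h2 t u) (fun t u => ok_nil T hk hj h3 t u) (fun t u => ok_two T hk hj h4 t u)
    (fun t u => ok_one T hk hj h5 t u) (fun t u => ok_nil T hk hj h6 t u) (fun t u => ok_comm T hk hj h7 t u)
    (fun t u => ok_comm T hk hj h8 t u) (fun t u => ok_comm T hk hj h9 t u)
    (by exact_mod_cast congrArg (Int.cast : ℤ → K) e1) (by exact_mod_cast congrArg (Int.cast : ℤ → K) e2)
    (by exact_mod_cast congrArg (Int.cast : ℤ → K) e3) (by exact_mod_cast congrArg (Int.cast : ℤ → K) e4)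
    (by exact_mod_cast congrArg (Int.cast : ℤ → K) e5) (by exact_mod_cast congrArg (Int.cast : ℤ → K) e6) ht u

/-- two-element strings with a root as sum -/
theorem chkC_spec {p np s m q : ℕ} (h : chkC' D B k j p np s m q = true) {t : K} (ht : t ≠ 0) (u : K) :
    nn (xs D p) (xs D np) t * xs D s u * (nn (xs D p) (xs D np) t)⁻¹ = xs D m ((D.chainM p s 1 : K) * t * u) ∧
    nn (xs D p) (xs D np) t * xs D m u * (nn (xs D p) (xs D np) t)⁻¹ =
      xs D s (-(D.chainM p s 1 : K) * t⁻¹ * u) := by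
  unfold chkC' chkC at h
  simp only [Bool.and_eq_true, decide_eq_true_eq] at h
  obtain ⟨⟨⟨⟨⟨⟨⟨⟨⟨⟨h1, h2⟩, h3⟩, h4⟩, h5⟩, h6⟩, h7⟩, h8⟩, h9⟩, e1⟩, e2⟩ := h
  have z := ok_sub T hk hj h7
  have z' := ok_sub T hk hj h8
  exact strC (by exact_mod_cast congrArg (Int.cast : ℤ → K) e1) (xs_add D z.1) (xs_add D z.2.1) (xs_add D z'.2.1)
    (fun t u => ok_two' T hk hj h1 t u)
    (fun t u => ok_nil T hk hj h2 t u) (fun t u => ok_nil T hk hj h3 t u) (fun t u => ok_two' T hk hj h4 t u)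
    (fun t u => ok_nil T hk hj h5 t u) (fun t u => ok_nil T hk hj h6 t u) (fun t u => ok_one T hk hj h7 t u)
    (fun t u => ok_comm T hk hj h8 t u) (fun t u => ok_comm T hk hj h9 t u)
    (by exact_mod_cast congrArg (Int.cast : ℤ → K) e2) ht u

omit T hk hj in
theorem rs_spec {s q : ℕ} {c z : ℤ} (h : rs D k s q c z = true) :
    D.reflectRoot k s = q ∧ eta D k s = c ∧ D.cartan k s = z := by
  unfold rs at h
  simp only [Bool.and_eq_true, decide_eq_true_eq, Nat.beq_eq] at h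
  exact ⟨h.1.1, h.1.2, h.2⟩

/-- the conjugation by `n_k(t)` of a root element outside `±p_k` -/
theorem shape_spec {s : ℕ} (h : shape D B k j (D.simple k) (D.neg (D.simple k)) s = true) {t : K} (ht : t ≠ 0)
    (u : K) :
    nk D k t * xs D s u * (nk D k t)⁻¹ =
      xs D (D.reflectRoot k s) ((eta D k s : K) * t ^ (-(D.cartan k s)) * u) := by
  rw [nk_eq']
  unfold shape at h
  simp only [Bool.or_eq_true, List.any_eq_true, Bool.and_eq_true] at h
  rcases h with ((((((⟨⟨h1, h2⟩, h3⟩ | ⟨x, -, h1, h2⟩) | ⟨x, -, h1, h2⟩) | ⟨x, -, y, -, h1, h2⟩) |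
    ⟨x, -, y, -, h1, h2⟩) | ⟨x, -, y, -, h1, h2⟩) | ⟨x, -, y, -, h1, h2⟩) | ⟨x, -, y, -, h1, h2⟩
  · obtain ⟨e1, e2, e3⟩ := rs_spec h3
    rw [e1, e2, e3, str0 (fun t u => ok_nil T hk hj h1 t u) (fun t u => ok_nil T hk hj h2 t u)]
    congr 1
    simp
  · obtain ⟨e1, e2, e3⟩ := rs_spec h2
    rw [e1, e2, e3, (chkA_spec T hk hj h1 ht u).1]
    congr 1
    simp
  · obtain ⟨e1, e2, e3⟩ := rs_spec h2
    rw [e1, e2, e3, (chkA_spec T hk hj h1 ht u).2]
    congr 1
    simp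
  · obtain ⟨e1, e2, e3⟩ := rs_spec h2
    rw [e1, e2, e3, (chkB_spec T hk hj h1 ht u).1]
    congr 1
    simp
  · obtain ⟨e1, e2, e3⟩ := rs_spec h2
    rw [e1, e2, e3, (chkB_spec T hk hj h1 ht u).2.1]
    congr 1
    simp
  · obtain ⟨e1, e2, e3⟩ := rs_spec h2
    rw [e1, e2, e3, (chkB_spec T hk hj h1 ht u).2.2]
    congr 1
    simp
  · obtain ⟨e1, e2, e3⟩ := rs_spec h2
    rw [e1, e2, e3, (chkC_spec T hk hj h1 ht u).1]
    congr 1
    simp
  · obtain ⟨e1, e2, e3⟩ := rs_spec h2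
    rw [e1, e2, e3, (chkC_spec T hk hj h1 ht u).2]
    congr 1
    simp

end tab

theorem sub_symm {D : ChevalleyDatum} {i j r : ℕ} (h : D.InRankTwoSub i j r) : D.InRankTwoSub j i r :=
  ⟨h.1, h.2.2.1, h.2.1, fun k hk h1 h2 => h.2.2.2 k hk h2 h1⟩

section facts

variable {D} {B : ℕ} (T : Tab D B) {k j : ℕ} (hk : k < D.rank) (hj : j < D.rank)

include T hk

theorem comps : basicOK D B k = true ∧ a2OK D B k = true ∧ genOK D B k = true ∧ braidOK D k = true ∧
    strings D B k = true ∧ cnOK D k = true := by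
  have h := T.all k hk
  unfold allOK at h
  simp only [Bool.and_eq_true] at h
  exact ⟨h.1.1.1.1.1, h.1.1.1.1.2, h.1.1.1.2, h.1.1.2, h.1.2, h.2⟩

theorem basic : D.simple k < D.nroots ∧ D.neg (D.simple k) < D.nroots ∧ D.neg (D.neg (D.simple k)) = D.simple k ∧
    D.neg (D.simple k) ≠ D.simple k ∧ D.cartan k (D.simple k) = 2 ∧ D.cartan k (D.neg (D.simple k)) = -2 := by
  have h := (comps T hk).1
  unfold basicOK at h
  simp only [Bool.and_eq_true, Nat.blt_eq, Nat.beq_eq, Bool.not_eq_true', beqF, decide_eq_true_eq] at h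
  obtain ⟨⟨⟨⟨⟨⟨⟨h1, h2⟩, h3⟩, h4⟩, h5⟩, h6⟩, -⟩, -⟩ := h
  exact ⟨h1, h2, h3, h4, h5, h6⟩

theorem rank_one {r : ℕ} (h : D.InRankTwoSub k k r) : r = D.simple k ∨ r = D.neg (D.simple k) := by
  have h0 := (comps T hk).1
  unfold basicOK at h0
  simp only [Bool.and_eq_true, List.all_eq_true, List.mem_range, Bool.or_eq_true, Bool.not_eq_true',
    Nat.beq_eq] at h0
  obtain ⟨⟨-, h1⟩, -⟩ := h0
  rcases h1 r h.1 with (h2 | h2) | h2
  · rw [(inRankTwoSub_iff T.supp T.small h.1 hk hk).1 h] at h2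
    exact absurd h2 (by simp)
  · exact Or.inl h2
  · exact Or.inr h2

include hj in
theorem sub_p : D.InRankTwoSub k j (D.simple k) ∧ D.InRankTwoSub k j (D.neg (D.simple k)) := by
  have h0 := (comps T hk).1
  unfold basicOK at h0
  simp only [Bool.and_eq_true, List.all_eq_true, List.mem_range] at h0
  obtain ⟨-, h1⟩ := h0
  have b := basic T hk
  exact ⟨(inRankTwoSub_iff T.supp T.small b.1 hk hj).2 (h1 j hj).1.1,
    (inRankTwoSub_iff T.supp T.small b.2.1 hk hj).2 (h1 j hj).1.2⟩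

theorem refl_spec {s : ℕ} (h : D.InRankTwoSub k j s) :
    D.InRankTwoSub k j (D.reflectRoot k s) ∧ D.reflectRoot k (D.reflectRoot k s) = s ∧
    eta D k s * eta D k s = 1 ∧ D.cartan k (D.reflectRoot k s) = -D.cartan k s := by
  have h0 := (comps T hk).1
  unfold basicOK at h0
  simp only [Bool.and_eq_true, List.all_eq_true, List.mem_range, Bool.or_eq_true, Bool.not_eq_true',
    Nat.beq_eq, Nat.blt_eq, decide_eq_true_eq] at h0
  obtain ⟨-, h1⟩ := h0
  have hj := h.2.2.1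
  rcases (h1 j hj).2 s h.1 with h2 | h2
  · rw [(inRankTwoSub_iff T.supp T.small h.1 hk hj).1 h] at h2
    exact absurd h2 (by simp)
  · obtain ⟨⟨⟨⟨h3, h4⟩, h5⟩, h6⟩, h7⟩ := h2
    exact ⟨(inRankTwoSub_iff T.supp T.small h4 hk hj).2 h3, h5, h6, h7⟩

theorem strings_spec {s : ℕ} (hkj : k ≠ j) (h : D.InRankTwoSub k j s) (h1 : s ≠ D.simple k)
    (h2 : s ≠ D.neg (D.simple k)) : shape D B k j (D.simple k) (D.neg (D.simple k)) s = true := by
  have h0 := (comps T hk).2.2.2.2.1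
  unfold strings at h0
  simp only [List.all_eq_true, List.mem_range, Bool.or_eq_true, Bool.not_eq_true',
    Nat.beq_eq] at h0
  have hj := h.2.2.1
  rcases h0 j hj with h3 | h3
  · exact absurd h3 hkj
  rcases h3 s h.1 with ((h4 | h4) | h4) | h4
  · rw [(inRankTwoSub_iff T.supp T.small h.1 hk hj).1 h] at h4
    exact absurd h4 (by simp)
  · exact absurd h4 h1
  · exact absurd h4 h2
  · exact h4

/-- conjugation by `n_k(t)` of the root elements for `±p_k` -/
theorem nk_conj_pm {t : K} (ht : t ≠ 0) (u : K) :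
    nk D k t * xs D (D.simple k) u * (nk D k t)⁻¹ = xs D (D.neg (D.simple k)) (-t⁻¹ ^ 2 * u) ∧
    nk D k t * xs D (D.neg (D.simple k)) u * (nk D k t)⁻¹ = xs D (D.simple k) (-t ^ 2 * u) := by
  have h := (comps T hk).2.1
  unfold a2OK at h
  simp only [List.any_eq_true, Bool.and_eq_true, List.mem_range, Bool.not_eq_true', beqF,
    decide_eq_true_eq] at h
  obtain ⟨j, hj, hkj, ⟨⟨⟨⟨⟨⟨⟨⟨⟨hc, hd⟩, o1⟩, o2⟩, r1⟩, r2⟩, r3⟩, r4⟩, e1⟩, e2⟩⟩ := h
  have s1 := ok_sub T hk hj o1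
  have s2 := ok_sub T hk hj o2
  have r1 := rs_spec r1
  have r2 := rs_spec r2
  have r3 := rs_spec r3
  have r4 := rs_spec r4
  -- the shapes
  have hp := (basic T hk)
  have key : ∀ {s : ℕ}, D.InRankTwoSub k j s → D.cartan k s ≠ 2 → D.cartan k s ≠ -2 →
      ∀ u : K, nk D k t * xs D s u * (nk D k t)⁻¹ =
        xs D (D.reflectRoot k s) ((eta D k s : K) * t ^ (-(D.cartan k s)) * u) := by
    intro s hs h1 h2 u
    refine shape_spec T hk hj (strings_spec T hk hkj hs ?_ ?_) ht u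
    · rintro rfl; exact h1 hp.2.2.2.2.1
    · rintro rfl; exact h2 hp.2.2.2.2.2
  have k1 : ∀ u : K, nk D k t * xs D (D.reflectRoot k (D.simple j)) u * (nk D k t)⁻¹ =
      xs D (D.simple j) ((eta D k (D.reflectRoot k (D.simple j)) : K) * t⁻¹ * u) := by
    intro u
    rw [key s1.2.1 (by rw [r1.2.2]; decide) (by rw [r1.2.2]; decide), r1.1, r1.2.2, zpow_neg_one]
  have k2 : ∀ u : K, nk D k t * xs D (D.neg (D.simple j)) u * (nk D k t)⁻¹ =
      xs D (D.neg (D.reflectRoot k (D.simple j))) ((eta D k (D.neg (D.simple j)) : K) * t⁻¹ * u) := by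
    intro u
    rw [key s1.1 (by rw [r2.2.2]; decide) (by rw [r2.2.2]; decide), r2.1, r2.2.2, zpow_neg_one]
  have k3 : ∀ u : K, nk D k t * xs D (D.simple j) u * (nk D k t)⁻¹ =
      xs D (D.reflectRoot k (D.simple j)) ((eta D k (D.simple j) : K) * t * u) := by
    intro u
    rw [key s2.2.1 (by rw [r3.2.2]; decide) (by rw [r3.2.2]; decide), r3.2.2, _root_.neg_neg, zpow_one]
  have k4 : ∀ u : K, nk D k t * xs D (D.neg (D.reflectRoot k (D.simple j))) u * (nk D k t)⁻¹ =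
      xs D (D.neg (D.simple j)) ((eta D k (D.neg (D.reflectRoot k (D.simple j))) : K) * t * u) := by
    intro u
    rw [key s2.1 (by rw [r4.2.2]; decide) (by rw [r4.2.2]; decide), r4.1, r4.2.2, _root_.neg_neg, zpow_one]
  rw [nk_eq'] at k1 k2 k3 k4 ⊢
  exact strP (by exact_mod_cast congrArg (Int.cast : ℤ → K) hc) (by exact_mod_cast congrArg (Int.cast : ℤ → K) hd)
    (fun t u => ok_one T hk hj o1 t u) (fun t u => ok_one T hk hj o2 t u) k1 k2 k3 k4
    (by exact_mod_cast congrArg (Int.cast : ℤ → K) e1) (by exact_mod_cast congrArg (Int.cast : ℤ → K) e2) u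

omit hk in
/-- conjugation by `n_k(t)` -/
theorem nk_conj {i k r : ℕ} (h : D.InRankTwoSub i k r) {t : K} (ht : t ≠ 0) (u : K) :
    nk D k t * xs D r u * (nk D k t)⁻¹ =
      xs D (D.reflectRoot k r) ((eta D k r : K) * t ^ (-(D.cartan k r)) * u) := by
  have hk := h.2.2.1
  have hb := basic T hk
  have hp : ∀ u : K, nk D k t * xs D (D.simple k) u * (nk D k t)⁻¹ =
      xs D (D.reflectRoot k (D.simple k)) ((eta D k (D.simple k) : K) * t ^ (-(D.cartan k (D.simple k))) * u) := by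
    intro u
    rw [(nk_conj_pm T hk ht u).1, hb.2.2.2.2.1, eta_simple]
    have : D.reflectRoot k (D.simple k) = D.neg (D.simple k) := if_pos rfl
    rw [this]
    congr 1
    simp
  have hn : ∀ u : K, nk D k t * xs D (D.neg (D.simple k)) u * (nk D k t)⁻¹ =
      xs D (D.reflectRoot k (D.neg (D.simple k)))
        ((eta D k (D.neg (D.simple k)) : K) * t ^ (-(D.cartan k (D.neg (D.simple k)))) * u) := by
    intro u
    rw [(nk_conj_pm T hk ht u).2, hb.2.2.2.2.2, eta_neg_simple]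
    have : D.reflectRoot k (D.neg (D.simple k)) = D.simple k := by
      unfold ChevalleyDatum.reflectRoot
      rw [if_neg hb.2.2.2.1, if_pos rfl]
    rw [this]
    congr 1
    simp
  by_cases h1 : r = D.simple k
  · rw [h1]; exact hp u
  by_cases h2 : r = D.neg (D.simple k)
  · rw [h2]; exact hn u
  by_cases hik : k = i
  · subst hik
    rcases rank_one T hk h with h3 | h3
    · exact absurd h3 h1
    · exact absurd h3 h2
  · exact shape_spec T hk h.2.1 (strings_spec T hk hik (sub_symm h) h1 h2) ht u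

end facts

theorem nk_neg {B : ℕ} (T : Tab D B) {k : ℕ} (hk : k < D.rank) (t : K) : nk D k (-t) = (nk D k t)⁻¹ := by
  have h := sub_p T hk hk
  rw [nk_eq, nk_eq, xs_neg D h.1, inv_neg, _root_.neg_neg, mul_inv_rev, mul_inv_rev, ← xs_neg D h.2,
    _root_.neg_neg, mul_assoc]

section torus

variable {D} {B : ℕ} (T : Tab D B)

include T

theorem hk_eq {k : ℕ} (kl : k < D.rank) (t : K) : hk D k t = nk D k t * (nk D k 1)⁻¹ := by
  rw [hk_eq', nk_neg D T kl]

theorem eta_sq {i k r : ℕ} (h : D.InRankTwoSub i k r) : (eta D k r : K) * eta D k r = 1 := by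
  have := (refl_spec T h.2.2.1 (sub_symm h)).2.2.1
  exact_mod_cast congrArg (Int.cast : ℤ → K) this

theorem nk_one_conj {i k r : ℕ} (h : D.InRankTwoSub i k r) (u : K) :
    nk D k 1 * xs D r u * (nk D k 1)⁻¹ = xs D (D.reflectRoot k r) ((eta D k r : K) * u) := by
  rw [nk_conj T h one_ne_zero, one_zpow, mul_one]

theorem nk_one_inv_conj {i k r : ℕ} (h : D.InRankTwoSub i k r) (u : K) :
    (nk D k 1)⁻¹ * xs D r u * nk D k 1 =
      xs D (D.reflectRoot k r) ((eta D k (D.reflectRoot k r) : K) * u) := by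
  have h1 := refl_spec T h.2.2.1 (sub_symm h)
  have h2 := nk_one_conj (K := K) T (sub_symm h1.1) ((eta D k (D.reflectRoot k r) : K) * u)
  rw [h1.2.1, ← mul_assoc, eta_sq T (sub_symm h1.1), one_mul] at h2
  rw [← h2]
  group

theorem hk_conj {i k r : ℕ} (h : D.InRankTwoSub i k r) {t : K} (ht : t ≠ 0) (u : K) :
    hk D k t * xs D r u * (hk D k t)⁻¹ = xs D r (t ^ (D.cartan k r) * u) := by
  have h1 := refl_spec T h.2.2.1 (sub_symm h)
  have h2 : hk D k t * xs D r u * (hk D k t)⁻¹ =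
      nk D k t * ((nk D k 1)⁻¹ * xs D r u * nk D k 1) * (nk D k t)⁻¹ := by
    rw [hk_eq T h.2.2.1]; group
  rw [h2, nk_one_inv_conj T h, nk_conj T (sub_symm h1.1) ht, h1.2.1, h1.2.2.2, _root_.neg_neg]
  congr 1
  have := eta_sq (K := K) T (sub_symm h1.1)
  linear_combination (t ^ (D.cartan k r) * u) * this

theorem cartan_neg {k j : ℕ} (kl : k < D.rank) (hj : j < D.rank) :
    D.cartan k (D.neg (D.simple j)) = -D.cartan k (D.simple j) := by
  have h := (comps T kl).2.2.2.2.2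
  unfold cnOK at h
  simp only [List.all_eq_true, List.mem_range, decide_eq_true_eq] at h
  exact h j hj

/-- the torus acts on the `n_j(u)` -/
theorem hk_nk {k j : ℕ} (kl : k < D.rank) (hj : j < D.rank) {t : K} (ht : t ≠ 0) (u : K) :
    hk D k t * nk D j u * (hk D k t)⁻¹ = nk D j (t ^ (D.cartan k (D.simple j)) * u) := by
  have h1 := sub_p T hj kl
  rw [nk_eq, conj_mul', conj_mul', hk_conj T h1.1 ht, hk_conj T h1.2 ht, nk_eq, cartan_neg T kl hj, mul_inv,
    ← zpow_neg]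
  congr 3
  ring

theorem hk_nk' {k j : ℕ} (kl : k < D.rank) (hj : j < D.rank) {t : K} (ht : t ≠ 0) (u : K) :
    (hk D k t)⁻¹ * nk D j u * hk D k t = nk D j (t ^ (-(D.cartan k (D.simple j))) * u) := by
  have h := hk_nk T kl hj ht (t ^ (-(D.cartan k (D.simple j))) * u)
  rw [← mul_assoc, ← zpow_add₀ ht, add_neg_cancel, zpow_zero, one_mul] at h
  rw [← h]; group

theorem nk_nk {k : ℕ} (kl : k < D.rank) {t : K} (ht : t ≠ 0) :
    nk D k t = xs D (D.neg (D.simple k)) (-t⁻¹) * xs D (D.simple k) t * xs D (D.neg (D.simple k)) (-t⁻¹) := by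
  have h1 : nk D k t = nk D k t * nk D k t * (nk D k t)⁻¹ := by group
  conv_lhs => rw [h1]
  conv_lhs => enter [1, 2]; rw [nk_eq]
  rw [conj_mul', conj_mul', (nk_conj_pm T kl ht _).1, (nk_conj_pm T kl ht _).2]
  have e1 : -t⁻¹ ^ 2 * t = -t⁻¹ := by field_simp
  have e2 : -t ^ 2 * -t⁻¹ = t := by field_simp
  rw [e1, e2]

/-- `n_k(1) n_k(t) n_k(1)⁻¹ = n_k(t⁻¹)` -/
theorem nk_one_nk {k : ℕ} (kl : k < D.rank) {t : K} (ht : t ≠ 0) :
    nk D k 1 * nk D k t * (nk D k 1)⁻¹ = nk D k t⁻¹ := by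
  rw [nk_nk T kl (inv_ne_zero ht), nk_eq D k t, conj_mul', conj_mul', (nk_conj_pm T kl one_ne_zero _).1,
    (nk_conj_pm T kl one_ne_zero _).2, inv_inv]
  have e1 : -(1 : K)⁻¹ ^ 2 * t = -t := by simp
  have e2 : -(1 : K) ^ 2 * -t⁻¹ = t⁻¹ := by simp
  rw [e1, e2]

/-- `n_k(1) h_k(t) n_k(1)⁻¹ = h_k(t⁻¹)` -/
theorem nk_hk_self {k : ℕ} (kl : k < D.rank) {t : K} (ht : t ≠ 0) :
    nk D k 1 * hk D k t * (nk D k 1)⁻¹ = hk D k t⁻¹ := by
  rw [hk_eq T kl, hk_eq T kl, ← nk_one_nk T kl ht]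
  group

/-- `n_j(1) h_k(t) n_j(1)⁻¹ = h_k(t) h_j(t^{-A})` -/
theorem nk_hk {k j : ℕ} (kl : k < D.rank) (hj : j < D.rank) {t : K} (ht : t ≠ 0) :
    nk D j 1 * hk D k t * (nk D j 1)⁻¹ = hk D k t * hk D j (t ^ (-(D.cartan k (D.simple j)))) := by
  have h := hk_nk' T kl hj ht (1 : K)
  rw [mul_one] at h
  rw [hk_eq T hj, ← h]
  group

theorem nk_hk_inv {k j : ℕ} (kl : k < D.rank) (hj : j < D.rank) {t : K} (ht : t ≠ 0) :
    (nk D j 1)⁻¹ * hk D k t * nk D j 1 = hk D j (t ^ (-(D.cartan k (D.simple j)))) * hk D k t := by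
  have h := hk_nk T kl hj ht (1 : K)
  rw [mul_one] at h
  have hz : t ^ (D.cartan k (D.simple j)) ≠ 0 := zpow_ne_zero _ ht
  have h2 := nk_one_nk T hj (inv_ne_zero hz)
  rw [inv_inv, ← h] at h2
  rw [zpow_neg, hk_eq T hj]
  have h3 : nk D j (t ^ (D.cartan k (D.simple j)))⁻¹ * (nk D j 1)⁻¹ * hk D k t =
      (nk D j 1)⁻¹ * (nk D j 1 * nk D j (t ^ (D.cartan k (D.simple j)))⁻¹ * (nk D j 1)⁻¹) * hk D k t := by group
  rw [h3, h2]
  group

end torus

/-- the subgroup generated by the `h_k(t)` -/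
def TT (D : ChevalleyDatum) (K : Type*) [Field K] : Subgroup (D.CurtisTitsGroup K) :=
  Subgroup.closure {g | ∃ (k : ℕ) (t : K), k < D.rank ∧ t ≠ 0 ∧ g = hk D k t}

section torus

variable {D} {B : ℕ} (T : Tab D B)

theorem hk_mem_TT {k : ℕ} (kl : k < D.rank) {t : K} (ht : t ≠ 0) : hk D k t ∈ TT D K :=
  Subgroup.subset_closure ⟨k, t, kl, ht, rfl⟩

include T

theorem conj_TT {j : ℕ} (hj : j < D.rank) : cj (nk D j 1) (TT D K) = TT D K := by
  apply le_antisymm
  · rw [cj_def, Subgroup.map_le_iff_le_comap, TT, Subgroup.closure_le]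
    rintro _ ⟨k, t, kl, ht, rfl⟩
    show nk D j 1 * hk D k t * (nk D j 1)⁻¹ ∈ TT D K
    rw [nk_hk T kl hj ht]
    exact mul_mem (hk_mem_TT kl ht) (hk_mem_TT hj (zpow_ne_zero _ ht))
  · rw [TT, Subgroup.closure_le]
    rintro _ ⟨k, t, kl, ht, rfl⟩
    show hk D k t ∈ cj (nk D j 1) (TT D K)
    rw [mem_cj, nk_hk_inv T kl hj ht]
    exact mul_mem (hk_mem_TT hj (zpow_ne_zero _ ht)) (hk_mem_TT kl ht)

theorem sq_TT {j : ℕ} (hj : j < D.rank) : nk D j 1 * nk D j 1 ∈ TT D K := by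
  have h := hk_mem_TT (K := K) hj (neg_ne_zero.2 one_ne_zero)
  rw [hk_eq T hj, nk_neg D T hj] at h
  have h2 := inv_mem h
  have h3 : ((nk D j (1 : K))⁻¹ * (nk D j 1)⁻¹)⁻¹ = nk D j 1 * nk D j 1 := by rw [mul_inv_rev, inv_inv]
  rwa [h3] at h2

theorem gen_spec {i j s : ℕ} (h : D.InRankTwoSub i j s) : ∃ m ∈ [i, j],
    (s = D.simple m ∨ s = D.neg (D.simple m)) ∨
      ∃ l ∈ [i, j], s = D.reflectRoot l (D.simple m) ∨ s = D.reflectRoot l (D.neg (D.simple m)) := by
  have h0 := (comps T h.2.1).2.2.1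
  unfold genOK at h0
  simp only [List.all_eq_true, List.mem_range, Bool.or_eq_true, Bool.not_eq_true',
    Nat.beq_eq, List.any_eq_true] at h0
  rcases h0 j h.2.2.1 s h.1 with h1 | h1
  · rw [(inRankTwoSub_iff T.supp T.small h.1 h.2.1 h.2.2.1).1 h] at h1
    exact absurd h1 (by simp)
  · exact h1

/-- the torus scales the root elements of `±p_m` -/
theorem TT_pm {m : ℕ} (hm : m < D.rank) {r : ℕ} (hr : r = D.simple m ∨ r = D.neg (D.simple m)) :
    ∀ g ∈ TT D K, ∃ c : K, c ≠ 0 ∧ ∀ u, g * xs D r u * g⁻¹ = xs D r (c * u) := by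
  intro g hg
  refine Subgroup.closure_induction (p := fun g _ => ∃ c : K, c ≠ 0 ∧ ∀ u, g * xs D r u * g⁻¹ = xs D r (c * u))
    ?_ ?_ ?_ ?_ hg
  · rintro _ ⟨k, t, kl, ht, rfl⟩
    have h1 := sub_p T hm kl
    rcases hr with rfl | rfl
    · exact ⟨_, zpow_ne_zero _ ht, fun u => hk_conj T h1.1 ht u⟩
    · exact ⟨_, zpow_ne_zero _ ht, fun u => hk_conj T h1.2 ht u⟩
  · exact ⟨1, one_ne_zero, fun u => by rw [one_mul, one_mul, inv_one, mul_one]⟩
  · rintro x y _ _ ⟨c, hc, h1⟩ ⟨d, hd, h2⟩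
    refine ⟨c * d, mul_ne_zero hc hd, fun u => ?_⟩
    have : x * y * xs D r u * (x * y)⁻¹ = x * (y * xs D r u * y⁻¹) * x⁻¹ := by group
    rw [this, h2, h1, mul_assoc]
  · rintro x _ ⟨c, hc, h1⟩
    refine ⟨c⁻¹, inv_ne_zero hc, fun u => ?_⟩
    have h2 := h1 (c⁻¹ * u)
    rw [mul_inv_cancel_left₀ hc] at h2
    rw [← h2]; group

/-- the torus scales the root elements of the subsystems spanned by two fundamental roots -/
theorem TT_xs {i j r : ℕ} (h : D.InRankTwoSub i j r) :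
    ∀ g ∈ TT D K, ∃ c : K, c ≠ 0 ∧ ∀ u, g * xs D r u * g⁻¹ = xs D r (c * u) := by
  intro g hg
  obtain ⟨m, hm, h1 | ⟨l, hl, h1⟩⟩ := gen_spec T h
  · refine TT_pm T ?_ h1 g hg
    simp only [List.mem_cons, List.not_mem_nil, or_false] at hm
    rcases hm with rfl | rfl
    · exact h.2.1
    · exact h.2.2.1
  · have hm' : m < D.rank := by
      simp only [List.mem_cons, List.not_mem_nil, or_false] at hm
      rcases hm with rfl | rfl
      · exact h.2.1
      · exact h.2.2.1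
    have hl' : l < D.rank := by
      simp only [List.mem_cons, List.not_mem_nil, or_false] at hl
      rcases hl with rfl | rfl
      · exact h.2.1
      · exact h.2.2.1
    have key : ∀ r', (r' = D.simple m ∨ r' = D.neg (D.simple m)) → r = D.reflectRoot l r' →
        ∃ c : K, c ≠ 0 ∧ ∀ u, g * xs D r u * g⁻¹ = xs D r (c * u) := by
      intro r' hr' hr
      have h2 : D.InRankTwoSub m l r' := by
        rcases hr' with rfl | rfl
        · exact (sub_p T hm' hl').1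
        · exact (sub_p T hm' hl').2
      have hg' : (nk D l 1)⁻¹ * g * nk D l 1 ∈ TT D K := by
        rw [← mem_cj, conj_TT T hl']
        exact hg
      obtain ⟨c, hc, h3⟩ := TT_pm (K := K) T hm' hr' _ hg'
      refine ⟨c, hc, fun u => ?_⟩
      have h4 := nk_one_conj (K := K) T h2
      have hs := eta_sq (K := K) T h2
      have h5 : xs D r u = nk D l 1 * xs D r' ((eta D l r' : K) * u) * (nk D l 1)⁻¹ := by
        rw [h4, ← mul_assoc, hs, one_mul, hr]
      have h6 : g * xs D r u * g⁻¹ = nk D l 1 * (((nk D l 1)⁻¹ * g * nk D l 1) *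
          xs D r' ((eta D l r' : K) * u) * ((nk D l 1)⁻¹ * g * nk D l 1)⁻¹) * (nk D l 1)⁻¹ := by
        rw [h5]; group
      rw [h6, h3, h4, ← hr]
      congr 1
      linear_combination (c * u) * hs
    rcases h1 with h1 | h1
    · exact key _ (Or.inl rfl) h1
    · exact key _ (Or.inr rfl) h1

end torus

section braid

variable {D} {B : ℕ} (T : Tab D B)

theorem nk_of_xs {i j : ℕ} {g : D.CurtisTitsGroup K}
    (h1 : g * xs D (D.simple i) 1 * g⁻¹ = xs D (D.simple j) 1)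
    (h2 : g * xs D (D.neg (D.simple i)) (-1) * g⁻¹ = xs D (D.neg (D.simple j)) (-1)) :
    g * nk D i 1 * g⁻¹ = nk D j 1 := by
  rw [nk_eq, nk_eq, inv_one, conj_mul', conj_mul', h1, h2]

include T

/-- conjugation by a product of two `n_i(1)` -/
theorem two_conj {i j r : ℕ} (h : D.InRankTwoSub i j r) (u : K) :
    (nk D i 1 * nk D j 1) * xs D r u * (nk D i 1 * nk D j 1)⁻¹ =
      xs D (D.reflectRoot i (D.reflectRoot j r)) ((eta D j r * eta D i (D.reflectRoot j r) : ℤ) * u) := by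
  have h1 := (refl_spec T h.2.2.1 (sub_symm h)).1
  have h2 : (nk D i 1 * nk D j 1) * xs D r u * (nk D i 1 * nk D j 1)⁻¹ =
      nk D i 1 * (nk D j 1 * xs D r u * (nk D j 1)⁻¹) * (nk D i 1)⁻¹ := by group
  rw [h2, nk_one_conj T h, nk_one_conj T h1, Int.cast_mul]
  congr 1
  ring

theorem three_conj {i j r : ℕ} (h : D.InRankTwoSub j i r) (u : K) :
    (nk D i 1 * nk D j 1 * nk D i 1) * xs D r u * (nk D i 1 * nk D j 1 * nk D i 1)⁻¹ =
      xs D (D.reflectRoot i (D.reflectRoot j (D.reflectRoot i r)))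
        ((eta D i r * eta D j (D.reflectRoot i r) * eta D i (D.reflectRoot j (D.reflectRoot i r)) : ℤ) * u) := by
  have h1 := (refl_spec T h.2.2.1 (sub_symm h)).1
  have h2 : (nk D i 1 * nk D j 1 * nk D i 1) * xs D r u * (nk D i 1 * nk D j 1 * nk D i 1)⁻¹ =
      (nk D i 1 * nk D j 1) * (nk D i 1 * xs D r u * (nk D i 1)⁻¹) * (nk D i 1 * nk D j 1)⁻¹ := by group
  rw [h2, nk_one_conj T h, two_conj T h1]
  congr 1
  push_cast
  ring

/-- the braid relations of the `n_k(1)` -/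
theorem braid {i j m : ℕ} (hi : i < D.rank) (hj : j < D.rank)
    (hm : (i = j ∧ m = 0) ∨ (D.cartan i (D.simple j) = 0 ∧ D.cartan j (D.simple i) = 0 ∧ m = 1) ∨
      (D.cartan i (D.simple j) = -1 ∧ D.cartan j (D.simple i) = -1 ∧ m = 2) ∨
      (D.cartan i (D.simple j) = -1 ∧ D.cartan j (D.simple i) = -2 ∧ m = 3) ∨
      (D.cartan i (D.simple j) = -2 ∧ D.cartan j (D.simple i) = -1 ∧ m = 3)) :
    altp (nk D i (1 : K)) (nk D j 1) (m + 1) = altp (nk D j 1) (nk D i 1) (m + 1) := by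
  have hcc : D.cartan i (D.simple i) = 2 := (basic T hi).2.2.2.2.1
  have h0 := (comps T hi).2.2.2.1
  unfold braidOK at h0
  simp only [List.all_eq_true, List.mem_range, Bool.or_eq_true, Bool.and_eq_true, Bool.not_eq_true',
    Nat.beq_eq, decide_eq_true_eq, decide_eq_false_iff_not, Bool.and_eq_false_iff] at h0
  have h0 := h0 j hj
  have hsj := sub_p T hj hi
  have hsi := sub_p T hi hj
  rcases hm with ⟨rfl, rfl⟩ | ⟨ha, hb, rfl⟩ | ⟨ha, hb, rfl⟩ | ⟨ha, hb, rfl⟩ | ⟨ha, hb, rfl⟩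
  · rfl
  · have hij : i ≠ j := by rintro rfl; rw [hcc] at ha; exact absurd ha (by decide)
    rcases h0 with h0 | ⟨⟨h0, -⟩, -⟩
    · exact absurd h0 hij
    rcases h0 with h0 | ⟨r1, r2⟩
    · exact absurd ha h0
    obtain ⟨a1, a2, -⟩ := rs_spec r1
    obtain ⟨b1, b2, -⟩ := rs_spec r2
    have h : nk D i (1 : K) * nk D j 1 * (nk D i 1)⁻¹ = nk D j 1 := by
      apply nk_of_xs
      · rw [nk_one_conj T hsj.1, a1, a2, Int.cast_one, one_mul]
      · rw [nk_one_conj T hsj.2, b1, b2, Int.cast_one, one_mul]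
    simp only [altp_succ, altp_zero, mul_one]
    exact mul_inv_eq_iff_eq_mul.1 h
  · have hij : i ≠ j := by rintro rfl; rw [hcc] at ha; exact absurd ha (by decide)
    rcases h0 with h0 | ⟨⟨-, h0⟩, -⟩
    · exact absurd h0 hij
    rcases h0 with (h0 | h0) | ⟨⟨⟨r1, r2⟩, e1⟩, e2⟩
    · exact absurd ha h0
    · exact absurd hb h0
    have h : (nk D i (1 : K) * nk D j 1) * nk D i 1 * (nk D i 1 * nk D j 1)⁻¹ = nk D j 1 := by
      apply nk_of_xs
      · rw [two_conj T hsi.1, r1, e1, Int.cast_one, one_mul]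
      · rw [two_conj T hsi.2, r2, e2, Int.cast_one, one_mul]
    simp only [altp_succ, altp_zero, mul_one]
    have h1 := mul_inv_eq_iff_eq_mul.1 h
    rw [← mul_assoc, h1]
  all_goals
    have hij : i ≠ j := by rintro rfl; rw [hcc] at ha; exact absurd ha (by decide)
    rcases h0 with h0 | ⟨-, h0⟩
    · exact absurd h0 hij
    rcases h0 with (h0 | h0) | ⟨⟨⟨r1, r2⟩, e1⟩, e2⟩
    · rw [h0] at ha; exact absurd ha (by decide)
    · first
      | (rw [h0.1] at ha; exact absurd ha (by decide))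
      | (rw [h0.2] at hb; exact absurd hb (by decide))
    have h : (nk D i (1 : K) * nk D j 1 * nk D i 1) * nk D j 1 * (nk D i 1 * nk D j 1 * nk D i 1)⁻¹ =
        nk D j 1 := by
      apply nk_of_xs
      · rw [three_conj T hsj.1, r1, e1, Int.cast_one, one_mul]
      · rw [three_conj T hsj.2, r2, e2, Int.cast_one, one_mul]
    simp only [altp_succ, altp_zero, mul_one]
    have h1 := mul_inv_eq_iff_eq_mul.1 h
    rw [← mul_assoc, ← mul_assoc, h1]
    simp only [mul_assoc]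

end braid

end Cfsg.Agent.LieRecognition.CTRankTwo
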