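import Cfsg.Agent.LieRecognition.CTSound
import Cfsg.Agent.ChevalleyStructure.FastReflE6

/-! Table facts for the Curtis-Tits theorem: type E6. -/

set_option autoImplicit false
set_option maxRecDepth 100000

namespace Cfsg.Agent.LieRecognition.CTRawE6

open Cfsg.Lie Cfsg.Agent.ChevalleyStructure Cfsg.Agent.LieRecognition.CTTab
  Cfsg.Agent.LieRecognition.CTGood

/-- packed reflections -/
def W : ℕ → ℕ
  | 0 => FastReflE6.W0
  | 1 => FastReflE6.W1
  | 2 => FastReflE6.W2
  | 3 => FastReflE6.W3
  | 4 => FastReflE6.W4
  | 5 => FastReflE6.W5
  | _ => 0

/-- packed signs -/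
def E : ℕ → ℕ
  | 0 => FastReflE6.E0
  | 1 => FastReflE6.E1
  | 2 => FastReflE6.E2
  | 3 => FastReflE6.E3
  | 4 => FastReflE6.E4
  | 5 => FastReflE6.E5
  | _ => 0

/-- the raw data -/
def raw : Raw where
  n := 72
  l := 6
  PT := RootVecTab.packE6
  W := W
  E := E
  P := FastDataE6.rows
  S := 0x2425272a2e38
  M := 0x302020202030003020202020300030302020203000203020203020002020202030200
  DS := 0x10302020200000000000000000000000403030101010101010002020200030300040000000004000303000202020001010101010103030400000000000000000000000202020301
  AD := 0x40301000302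

theorem braid : raw.chkBraid = true := by decide +kernel
theorem desc : raw.chkDesc = true := by decide +kernel
theorem str0 : raw.chkStr 0 = true := by decide +kernel
theorem str1 : raw.chkStr 1 = true := by decide +kernel
theorem str2 : raw.chkStr 2 = true := by decide +kernel
theorem str3 : raw.chkStr 3 = true := by decide +kernel
theorem str4 : raw.chkStr 4 = true := by decide +kernel
theorem str5 : raw.chkStr 5 = true := by decide +kernel
theorem dec : raw.chkDec = true := by decide +kernel
theorem short : CommOrbit.shortOK chevE6 = true := by decide +kernel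

theorem link : Link chevE6 raw where
  hn := rfl
  hl := rfl
  hPT := rfl
  checked := RootVecTab.checked_E6
  short := short
  facts := fun i hi => NSimple.facts_of_check chevE6 i (NSimpleSmall.checkE6 i hi)
  compat := FastReflE6.compat
  etaW := by
    intro i hi s hs
    have hi : i < 6 := hi
    have hc := NSimpleSmall.checkE6 i hi
    interval_cases i
    · exact FastEta.etaCheck_sound hc FastReflE6.eta0 hs
    · exact FastEta.etaCheck_sound hc FastReflE6.eta1 hs
    · exact FastEta.etaCheck_sound hc FastReflE6.eta2 hs
    · exact FastEta.etaCheck_sound hc FastReflE6.eta3 hs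
    · exact FastEta.etaCheck_sound hc FastReflE6.eta4 hs
    · exact FastEta.etaCheck_sound hc FastReflE6.eta5 hs
  rows := FastDataE6.rows_check
  hS := by
    intro i hi
    have hi : i < 6 := hi
    interval_cases i <;> rfl
  pair := PairReduction.pairE6

theorem good : Good chevE6 chevE6.reflectRoot (NSimple.eta chevE6) raw.mu raw.ds raw.m := by
  refine good_of_link link braid desc ?_ dec
  intro k hk
  have hk : k < 6 := hk
  interval_cases k
  · exact str0
  · exact str1
  · exact str2
  · exact str3
  · exact str4
  · exact str5

end Cfsg.Agent.LieRecognition.CTRawE6
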