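import Cfsg.Agent.LieRecognition.CTSound
import Cfsg.Agent.ChevalleyStructure.FastReflE7

/-! Table facts for the Curtis-Tits theorem: type E7. -/

set_option autoImplicit false
set_option maxRecDepth 100000

namespace Cfsg.Agent.LieRecognition.CTRawE7

open Cfsg.Lie Cfsg.Agent.ChevalleyStructure Cfsg.Agent.LieRecognition.CTTab
  Cfsg.Agent.LieRecognition.CTGood

/-- packed reflections -/
def W : ℕ → ℕ
  | 0 => FastReflE7.W0
  | 1 => FastReflE7.W1
  | 2 => FastReflE7.W2
  | 3 => FastReflE7.W3
  | 4 => FastReflE7.W4
  | 5 => FastReflE7.W5
  | 6 => FastReflE7.W6
  | _ => 0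

/-- packed signs -/
def E : ℕ → ℕ
  | 0 => FastReflE7.E0
  | 1 => FastReflE7.E1
  | 2 => FastReflE7.E2
  | 3 => FastReflE7.E3
  | 4 => FastReflE7.E4
  | 5 => FastReflE7.E5
  | 6 => FastReflE7.E6
  | _ => 0

/-- the raw data -/
def raw : Raw where
  n := 126
  l := 7
  PT := RootVecTab.packE7
  W := W
  E := E
  P := FastDataE7.rows
  S := 0x3f404245494e5d
  M := 0x30202020202030003020202020203000302020202020300030302020202030002030202020302000202020202030200
  DS := 0x203010101010403030302020202020200000000000000000000000000000000050404030303010101010101010100020202020003030300040400050000000005000404000303030002020202000101010101010101030303040405000000000000000000000000000000000202020202020303030401010101030200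
  AD := 0x5040301000302

theorem braid : raw.chkBraid = true := by decide +kernel
theorem desc : raw.chkDesc = true := by decide +kernel
theorem str0 : raw.chkStr 0 = true := by decide +kernel
theorem str1 : raw.chkStr 1 = true := by decide +kernel
theorem str2 : raw.chkStr 2 = true := by decide +kernel
theorem str3 : raw.chkStr 3 = true := by decide +kernel
theorem str4 : raw.chkStr 4 = true := by decide +kernel
theorem str5 : raw.chkStr 5 = true := by decide +kernel
theorem str6 : raw.chkStr 6 = true := by decide +kernel
theorem dec : raw.chkDec = true := by decide +kernel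
theorem short : CommOrbit.shortOK chevE7 = true := by decide +kernel

theorem link : Link chevE7 raw where
  hn := rfl
  hl := rfl
  hPT := rfl
  checked := RootVecTab.checked_E7
  short := short
  facts := fun i hi => NSimple.facts_of_check chevE7 i (NSimpleE7.checkE7 i hi)
  compat := FastReflE7.compat
  etaW := by
    intro i hi s hs
    have hi : i < 7 := hi
    have hc := NSimpleE7.checkE7 i hi
    interval_cases i
    · exact FastEta.etaCheck_sound hc FastReflE7.eta0 hs
    · exact FastEta.etaCheck_sound hc FastReflE7.eta1 hs
    · exact FastEta.etaCheck_sound hc FastReflE7.eta2 hs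
    · exact FastEta.etaCheck_sound hc FastReflE7.eta3 hs
    · exact FastEta.etaCheck_sound hc FastReflE7.eta4 hs
    · exact FastEta.etaCheck_sound hc FastReflE7.eta5 hs
    · exact FastEta.etaCheck_sound hc FastReflE7.eta6 hs
  rows := FastDataE7.rows_check
  hS := by
    intro i hi
    have hi : i < 7 := hi
    interval_cases i <;> rfl
  pair := PairReduction.pairE7

theorem good : Good chevE7 chevE7.reflectRoot (NSimple.eta chevE7) raw.mu raw.ds raw.m := by
  refine good_of_link link braid desc ?_ dec
  intro k hk
  have hk : k < 7 := hk
  interval_cases k
  · exact str0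
  · exact str1
  · exact str2
  · exact str3
  · exact str4
  · exact str5
  · exact str6

end Cfsg.Agent.LieRecognition.CTRawE7
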