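import Cfsg.Agent.LieRecognition.CTSound
import Cfsg.Agent.ChevalleyStructure.FastReflE8

/-! Table facts for the Curtis-Tits theorem: type E8. -/

set_option autoImplicit false
set_option maxRecDepth 100000

namespace Cfsg.Agent.LieRecognition.CTRawE8

open Cfsg.Lie Cfsg.Agent.ChevalleyStructure Cfsg.Agent.LieRecognition.CTTab
  Cfsg.Agent.LieRecognition.CTGood

/-- packed reflections -/
def W : ℕ → ℕ
  | 0 => FastReflE8.W0
  | 1 => FastReflE8.W1
  | 2 => FastReflE8.W2
  | 3 => FastReflE8.W3
  | 4 => FastReflE8.W4
  | 5 => FastReflE8.W5
  | 6 => FastReflE8.W6
  | 7 => FastReflE8.W7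
  | _ => 0

/-- packed signs -/
def E : ℕ → ℕ
  | 0 => FastReflE8.E0
  | 1 => FastReflE8.E1
  | 2 => FastReflE8.E2
  | 3 => FastReflE8.E3
  | 4 => FastReflE8.E4
  | 5 => FastReflE8.E5
  | 6 => FastReflE8.E6
  | 7 => FastReflE8.E7
  | _ => 0

/-- the raw data -/
def raw : Raw where
  n := 240
  l := 8
  PT := RootVecTab.packE8
  W := W
  E := E
  P := FastDataE8.rows
  S := 0x78797b7e82878da2
  M := 0x30202020202020300030202020202020300030202020202020300030202020202020300030302020202020300020302020202030200020202020202030200
  DS := 0x70605040301000200000000000001030202020202040303030301010101010101010101050404040303030303030202020202020202020200000000000000000000000000000000000000000000060505040404030303030101010101010101010100020202020200030303030004040400050500060000000006000505000404040003030303000202020202000101010101010101010103030303040404050506000000000000000000000000000000000000000000000202020202020202020203030303030304040405010101010101010101010303030304020202020203010000000000000200010304050607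
  AD := 0x605040301000302

theorem braid : raw.chkBraid = true := by decide +kernel
theorem desc : raw.chkDesc = true := by decide +kernel
theorem str0 : raw.chkStr 0 = true := by decide +kernel
theorem str1 : raw.chkStr 1 = true := by decide +kernel
theorem str2 : raw.chkStr 2 = true := by decide +kernel
theorem str3 : raw.chkStr 3 = true := by decide +kernel
theorem str4 : raw.chkStr 4 = true := by decide +kernel
theorem str5 : raw.chkStr 5 = true := by decide +kernel
theorem str6 : raw.chkStr 6 = true := by decide +kernel
theorem str7 : raw.chkStr 7 = true := by decide +kernel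
theorem dec : raw.chkDec = true := by decide +kernel
theorem short : CommOrbit.shortOK chevE8 = true := by decide +kernel

theorem link : Link chevE8 raw where
  hn := rfl
  hl := rfl
  hPT := rfl
  checked := RootVecTab.checked_E8
  short := short
  facts := fun i hi => NSimple.facts_of_check chevE8 i (NSimpleE8.checkE8 i hi)
  compat := FastReflE8.compat
  etaW := by
    intro i hi s hs
    have hi : i < 8 := hi
    have hc := NSimpleE8.checkE8 i hi
    interval_cases i
    · exact FastEta.etaCheck_sound hc FastReflE8.eta0 hs
    · exact FastEta.etaCheck_sound hc FastReflE8.eta1 hs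
    · exact FastEta.etaCheck_sound hc FastReflE8.eta2 hs
    · exact FastEta.etaCheck_sound hc FastReflE8.eta3 hs
    · exact FastEta.etaCheck_sound hc FastReflE8.eta4 hs
    · exact FastEta.etaCheck_sound hc FastReflE8.eta5 hs
    · exact FastEta.etaCheck_sound hc FastReflE8.eta6 hs
    · exact FastEta.etaCheck_sound hc FastReflE8.eta7 hs
  rows := FastDataE8.rows_check
  hS := by
    intro i hi
    have hi : i < 8 := hi
    interval_cases i <;> rfl
  pair := PairReduction.pairE8

theorem good : Good chevE8 chevE8.reflectRoot (NSimple.eta chevE8) raw.mu raw.ds raw.m := by
  refine good_of_link link braid desc ?_ dec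
  intro k hk
  have hk : k < 8 := hk
  interval_cases k
  · exact str0
  · exact str1
  · exact str2
  · exact str3
  · exact str4
  · exact str5
  · exact str6
  · exact str7

end Cfsg.Agent.LieRecognition.CTRawE8
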