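import Cfsg.Agent.LieRecognition.CTSound
import Cfsg.Agent.ChevalleyStructure.FastReflF4

/-! Table facts for the Curtis-Tits theorem: type F4. -/

set_option autoImplicit false
set_option maxRecDepth 100000

namespace Cfsg.Agent.LieRecognition.CTRawF4

open Cfsg.Lie Cfsg.Agent.ChevalleyStructure Cfsg.Agent.LieRecognition.CTTab
  Cfsg.Agent.LieRecognition.CTGood

/-- packed reflections -/
def W : ℕ → ℕ
  | 0 => FastReflF4.W0
  | 1 => FastReflF4.W1
  | 2 => FastReflF4.W2
  | 3 => FastReflF4.W3
  | _ => 0

/-- packed signs -/
def E : ℕ → ℕ
  | 0 => FastReflF4.E0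
  | 1 => FastReflF4.E1
  | 2 => FastReflF4.E2
  | 3 => FastReflF4.E3
  | _ => 0

/-- the raw data -/
def raw : Raw where
  n := 48
  l := 4
  PT := RootVecTab.packF4
  W := W
  E := E
  P := FastDataF4.rows
  S := 0x18191b21
  M := 0x30202030004020204000302020300
  DS := 0x30201000000000102010100000000020101030200020000000002000203010102000000000101020100000000010203
  AD := 0x2030001

theorem braid : raw.chkBraid = true := by decide +kernel
theorem desc : raw.chkDesc = true := by decide +kernel
theorem str0 : raw.chkStr 0 = true := by decide +kernel
theorem str1 : raw.chkStr 1 = true := by decide +kernel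
theorem str2 : raw.chkStr 2 = true := by decide +kernel
theorem str3 : raw.chkStr 3 = true := by decide +kernel
theorem dec : raw.chkDec = true := by decide +kernel
theorem short : CommOrbit.shortOK chevF4 = true := by decide +kernel

theorem link : Link chevF4 raw where
  hn := rfl
  hl := rfl
  hPT := rfl
  checked := RootVecTab.checked_F4
  short := short
  facts := fun i hi => NSimple.facts_of_check chevF4 i (NSimpleSmall.checkF4 i hi)
  compat := FastReflF4.compat
  etaW := by
    intro i hi s hs
    have hi : i < 4 := hi
    have hc := NSimpleSmall.checkF4 i hi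
    interval_cases i
    · exact FastEta.etaCheck_sound hc FastReflF4.eta0 hs
    · exact FastEta.etaCheck_sound hc FastReflF4.eta1 hs
    · exact FastEta.etaCheck_sound hc FastReflF4.eta2 hs
    · exact FastEta.etaCheck_sound hc FastReflF4.eta3 hs
  rows := FastDataF4.rows_check
  hS := by
    intro i hi
    have hi : i < 4 := hi
    interval_cases i <;> rfl
  pair := PairReduction.pairF4

theorem good : Good chevF4 chevF4.reflectRoot (NSimple.eta chevF4) raw.mu raw.ds raw.m := by
  refine good_of_link link braid desc ?_ dec
  intro k hk
  have hk : k < 4 := hk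
  interval_cases k
  · exact str0
  · exact str1
  · exact str2
  · exact str3

end Cfsg.Agent.LieRecognition.CTRawF4
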