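import Cfsg.Agent.LieRecognition.CTTab

/-!
From the kernel checks of `CTTab` to the table facts `CTGood.Good`.
-/

set_option autoImplicit false

namespace Cfsg.Agent.LieRecognition.CTTab

open Cfsg.Lie Cfsg.Agent.LieRecognition.CTString Cfsg.Agent.LieRecognition.CTInduct
  Cfsg.Agent.LieRecognition.CTGood
open Cfsg.Agent.ChevalleyStructure
open Cfsg.Agent.ChevalleyStructure.FastBase (Tree allLt allLt_iff force force_eq ce)
open Cfsg.Agent.ChevalleyStructure.FastRefl (byte bit1 sg sg_eq)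
open Cfsg.Agent.ChevalleyStructure.NSimple (eta)

/-- the sign attached to an integer -/
def pm (x : ℤ) : ℤ := (-1) ^ x.natAbs

theorem pm_even {x : ℤ} (h : Even x) : pm x = 1 := (Int.natAbs_even.2 h).neg_one_pow

theorem pm_odd {x : ℤ} (h : ¬ Even x) : pm x = -1 := by
  have : Odd x := Int.not_even_iff_odd.1 h
  exact (Int.natAbs_odd.2 this).neg_one_pow

theorem pm_sub_mul (a b c : ℤ) : pm (a - b * c) = pm a * (if pm c = 1 then 1 else pm b) := by
  by_cases hc : Even c
  · rw [if_pos (pm_even hc), mul_one]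
    by_cases ha : Even a
    · rw [pm_even ha, pm_even (ha.sub (hc.mul_left b))]
    · rw [pm_odd ha, pm_odd]
      rw [Int.even_sub]
      exact fun h => ha (h.2 (hc.mul_left b))
  · rw [if_neg (by rw [pm_odd hc]; decide)]
    have hbc : Even (b * c) ↔ Even b := by rw [Int.even_mul]; tauto
    by_cases ha : Even a <;> by_cases hb : Even b
    · rw [pm_even ha, pm_even hb, pm_even (ha.sub (hbc.2 hb))]; rfl
    · rw [pm_even ha, pm_odd hb, pm_odd]
      · rfl
      · rw [Int.even_sub, hbc]; tauto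
    · rw [pm_odd ha, pm_even hb, pm_odd]
      · rfl
      · rw [Int.even_sub, hbc]; tauto
    · rw [pm_odd ha, pm_odd hb, pm_even]
      · rfl
      · rw [Int.even_sub, hbc]; tauto

section

variable {D : ChevalleyDatum} {T : Raw} (L : Link D T)

include L

theorem Link.rf_lt {k r : ℕ} (hk : k < D.rank) (hr : r < D.nroots) : D.reflectRoot k r < D.nroots :=
  (L.compat k hk).reflect_lt r hr

theorem Link.rf_rf {k r : ℕ} (hk : k < D.rank) (hr : r < D.nroots) :
    D.reflectRoot k (D.reflectRoot k r) = r := (L.compat k hk).reflect_reflect r hr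

theorem Link.w_eq {k r : ℕ} (hk : k < D.rank) (hr : r < D.nroots) : T.w k r = D.reflectRoot k r :=
  (L.etaW k hk r hr).1.symm

theorem Link.e_eq {k r : ℕ} (hk : k < D.rank) (hr : r < D.nroots) : sg (T.e k r) = eta D k r :=
  (L.etaW k hk r hr).2.symm

theorem Link.eta_sq {k r : ℕ} (hk : k < D.rank) (hr : r < D.nroots) : eta D k r * eta D k r = 1 := by
  rcases (L.facts k hk).eta_one r hr with h | h <;> rw [h] <;> rfl

theorem Link.eta_neg {k r : ℕ} (hk : k < D.rank) (hr : r < D.nroots) : eta D k (D.neg r) = eta D k r := by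
  have h := (L.facts k hk).eta_mul_neg r hr
  calc eta D k (D.neg r) = eta D k r * eta D k r * eta D k (D.neg r) := by rw [L.eta_sq hk hr, one_mul]
    _ = eta D k r * (eta D k r * eta D k (D.neg r)) := by ring
    _ = eta D k r := by rw [h, mul_one]

theorem Link.rf_neg {k r : ℕ} (hk : k < D.rank) (hr : r < D.nroots) :
    D.reflectRoot k (D.neg r) = D.neg (D.reflectRoot k r) := by
  have h1 := RootVec.reflectRoot_rt L.checked hk hr
  have h2 := RootVec.reflectRoot_rt L.checked hk (L.neg_lt hr)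
  refine RootVec.rt_inj L.checked h2.1 (L.neg_lt h1.1) fun j _ => ?_
  rw [h2.2, RootVec.rt_neg L.checked h1.1, h1.2, RootVec.rt_neg L.checked hr, RootVec.cartan_neg L.checked hk hr]
  ring

theorem Link.eta_refl {k r : ℕ} (hk : k < D.rank) (hr : r < D.nroots) :
    eta D k r * eta D k (D.reflectRoot k r) = pm (D.cartan k r) := (L.facts k hk).eta_mul_reflect r hr

theorem Link.cartan_refl {k j q : ℕ} (hk : k < D.rank) (hj : j < D.rank) (hq : q < D.nroots) :
    D.cartan k (D.reflectRoot j q) = D.cartan k q - D.cartan j q * D.cartan k (D.simple j) := by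
  have h1 := RootVec.reflectRoot_rt L.checked hj hq
  have := RootVec.cartan_of_rt L.checked (u := D.reflectRoot j q) (r := q) (s := D.simple j) (a := 1)
    (b := - D.cartan j q) h1.1 hq (L.sim_lt hj) (fun i _ => by
      rw [h1.2, RootVec.rt_simple L.checked hj]; ring) hk
  rw [this]; ring

theorem Link.par_neg {k j : ℕ} (hk : k < D.rank) (hj : j < D.rank) :
    eta D k (D.neg (D.simple j)) * eta D k (D.reflectRoot k (D.neg (D.simple j))) =
      eta D k (D.simple j) * eta D k (D.reflectRoot k (D.simple j)) := by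
  have h := L.sim_lt hj
  rw [L.rf_neg hk h, L.eta_neg hk h, L.eta_neg hk (L.rf_lt hk h)]

theorem Link.par {k j q : ℕ} (hk : k < D.rank) (hj : j < D.rank) (hq : q < D.nroots) :
    eta D k (D.reflectRoot j q) * eta D k (D.reflectRoot k (D.reflectRoot j q)) =
      eta D k q * eta D k (D.reflectRoot k q) *
      (if eta D k (D.simple j) * eta D k (D.reflectRoot k (D.simple j)) = 1 then 1
        else eta D j q * eta D j (D.reflectRoot j q)) := by
  rw [L.eta_refl hk (L.rf_lt hj hq), L.eta_refl hk hq, L.eta_refl hk (L.sim_lt hj), L.eta_refl hj hq,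
    L.cartan_refl hk hj hq, pm_sub_mul]

theorem Link.rf_sim {k : ℕ} : D.reflectRoot k (D.simple k) = D.neg (D.simple k) := by
  unfold ChevalleyDatum.reflectRoot
  simp only [if_true]

/-! ### braid relations -/

theorem Link.braid2 {i k r : ℕ} (hi : i < D.rank) (hk : k < D.rank) (hr : r < D.nroots)
    (h : T.b2 i k r = true) :
    D.reflectRoot i (D.reflectRoot k r) = D.reflectRoot k (D.reflectRoot i r) ∧
    eta D k r * eta D i (D.reflectRoot k r) = eta D i r * eta D k (D.reflectRoot i r) := by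
  unfold Raw.b2 at h
  simp only [force_eq] at h
  rw [Bool.and_eq_true, L.w_eq hk hr, L.w_eq hi hr, L.w_eq hi (L.rf_lt hk hr), L.w_eq hk (L.rf_lt hi hr)] at h
  refine ⟨Nat.eq_of_beq_eq_true h.1, ?_⟩
  have h2 := par_spec h.2
  rwa [sg_add, sg_add, L.e_eq hk hr, L.e_eq hi hr, L.e_eq hi (L.rf_lt hk hr), L.e_eq hk (L.rf_lt hi hr)] at h2

theorem Link.braid3 {i k r : ℕ} (hi : i < D.rank) (hk : k < D.rank) (hr : r < D.nroots)
    (h : T.b3 i k r = true) :
    D.reflectRoot i (D.reflectRoot k (D.reflectRoot i r)) = D.reflectRoot k (D.reflectRoot i (D.reflectRoot k r)) ∧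
    eta D i r * eta D k (D.reflectRoot i r) * eta D i (D.reflectRoot k (D.reflectRoot i r)) =
      eta D k r * eta D i (D.reflectRoot k r) * eta D k (D.reflectRoot i (D.reflectRoot k r)) := by
  have a1 := L.rf_lt hi hr
  have a2 := L.rf_lt hk a1
  have c1 := L.rf_lt hk hr
  have c2 := L.rf_lt hi c1
  unfold Raw.b3 at h
  simp only [force_eq] at h
  rw [Bool.and_eq_true, L.w_eq hi hr, L.w_eq hk a1, L.w_eq hi a2, L.w_eq hk hr, L.w_eq hi c1, L.w_eq hk c2] at h
  refine ⟨Nat.eq_of_beq_eq_true h.1, ?_⟩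
  have h2 := par_spec h.2
  rwa [sg_add, sg_add, sg_add, sg_add, L.e_eq hk hr, L.e_eq hi hr, L.e_eq hk a1, L.e_eq hi a2, L.e_eq hi c1,
    L.e_eq hk c2] at h2

theorem Link.braid4 {i k r : ℕ} (hi : i < D.rank) (hk : k < D.rank) (hr : r < D.nroots)
    (h : T.b4 i k r = true) :
    D.reflectRoot k (D.reflectRoot i (D.reflectRoot k (D.reflectRoot i r))) =
      D.reflectRoot i (D.reflectRoot k (D.reflectRoot i (D.reflectRoot k r))) ∧
    eta D i r * eta D k (D.reflectRoot i r) * eta D i (D.reflectRoot k (D.reflectRoot i r)) *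
      eta D k (D.reflectRoot i (D.reflectRoot k (D.reflectRoot i r))) =
      eta D k r * eta D i (D.reflectRoot k r) * eta D k (D.reflectRoot i (D.reflectRoot k r)) *
        eta D i (D.reflectRoot k (D.reflectRoot i (D.reflectRoot k r))) := by
  have a1 := L.rf_lt hi hr
  have a2 := L.rf_lt hk a1
  have a3 := L.rf_lt hi a2
  have c1 := L.rf_lt hk hr
  have c2 := L.rf_lt hi c1
  have c3 := L.rf_lt hk c2
  unfold Raw.b4 at h
  simp only [force_eq] at h
  rw [Bool.and_eq_true, L.w_eq hi hr, L.w_eq hk a1, L.w_eq hi a2, L.w_eq hk a3, L.w_eq hk hr, L.w_eq hi c1,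
    L.w_eq hk c2, L.w_eq hi c3] at h
  refine ⟨Nat.eq_of_beq_eq_true h.1, ?_⟩
  have h2 := par_spec h.2
  rwa [sg_add, sg_add, sg_add, sg_add, sg_add, sg_add, L.e_eq hk hr, L.e_eq hi hr, L.e_eq hk a1, L.e_eq hi a2,
    L.e_eq hk a3, L.e_eq hi c1, L.e_eq hk c2, L.e_eq hi c3] at h2

theorem Link.braid (h : T.chkBraid = true) {i k : ℕ} (hi : i < D.rank) (hk : k < D.rank) (hik : i ≠ k) :
    (T.m i k = 2 ∧ (∀ r < D.nroots, T.b2 i k r = true) ∧ D.reflectRoot i (D.simple k) = D.simple k ∧
      eta D i (D.simple k) = 1) ∨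
    (T.m i k = 3 ∧ (∀ r < D.nroots, T.b3 i k r = true) ∧
      D.reflectRoot i (D.reflectRoot k (D.simple i)) = D.simple k ∧
      eta D i (D.reflectRoot k (D.simple i)) * eta D k (D.simple i) = 1) ∨
    (T.m i k = 4 ∧ (∀ r < D.nroots, T.b4 i k r = true) ∧
      D.reflectRoot i (D.reflectRoot k (D.reflectRoot i (D.simple k))) = D.simple k ∧
      eta D i (D.reflectRoot k (D.reflectRoot i (D.simple k))) * eta D k (D.reflectRoot i (D.simple k)) *
        eta D i (D.simple k) = 1) := by
  have si := L.sim_lt hi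
  have sk := L.sim_lt hk
  have zero : sg 0 = 1 := rfl
  unfold Raw.chkBraid at h
  rw [allLt_iff] at h
  have h1 := h i (by rw [← L.hl]; exact hi)
  rw [allLt_iff] at h1
  have h2 := h1 k (by rw [← L.hl]; exact hk)
  rw [Bool.or_eq_true] at h2
  rcases h2 with h2 | h2
  · exact absurd (Nat.eq_of_beq_eq_true h2) hik
  simp only [force_eq] at h2
  rw [← L.hS i hi, ← L.hS k hk] at h2
  rcases hm : Nat.beq (T.m i k) 2 with _ | _
  · rw [hm, cond_false] at h2
    rcases hm3 : Nat.beq (T.m i k) 3 with _ | _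
    · rw [hm3, cond_false] at h2
      rcases hm4 : Nat.beq (T.m i k) 4 with _ | _
      · rw [hm4, cond_false] at h2
        exact absurd h2 Bool.false_ne_true
      · rw [hm4, cond_true, Bool.and_eq_true, Bool.and_eq_true, allLt_iff] at h2
        right; right
        have a1 := L.rf_lt hi sk
        have a2 := L.rf_lt hk a1
        obtain ⟨g1, g2, g3⟩ := h2
        rw [L.w_eq hi sk, L.w_eq hk a1, L.w_eq hi a2] at g2
        have g4 := par_spec g3
        rw [L.w_eq hi sk, L.w_eq hk a1, sg_add, sg_add, L.e_eq hi sk, L.e_eq hk a1, L.e_eq hi a2, zero] at g4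
        exact ⟨Nat.eq_of_beq_eq_true hm4, fun r hr => g1 r (by rw [← L.hn]; exact hr),
          Nat.eq_of_beq_eq_true g2, g4⟩
    · rw [hm3, cond_true, Bool.and_eq_true, Bool.and_eq_true, allLt_iff] at h2
      right; left
      have a1 := L.rf_lt hk si
      obtain ⟨g1, g2, g3⟩ := h2
      rw [L.w_eq hk si, L.w_eq hi a1] at g2
      have g4 := par_spec g3
      rw [L.w_eq hk si, sg_add, L.e_eq hk si, L.e_eq hi a1, zero] at g4
      exact ⟨Nat.eq_of_beq_eq_true hm3, fun r hr => g1 r (by rw [← L.hn]; exact hr),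
        Nat.eq_of_beq_eq_true g2, g4⟩
  · rw [hm, cond_true, Bool.and_eq_true, Bool.and_eq_true, allLt_iff] at h2
    left
    obtain ⟨g1, g2, g3⟩ := h2
    rw [L.w_eq hi sk] at g2
    have g4 := par_spec g3
    rw [L.e_eq hi sk, zero] at g4
    exact ⟨Nat.eq_of_beq_eq_true hm, fun r hr => g1 r (by rw [← L.hn]; exact hr),
      Nat.eq_of_beq_eq_true g2, g4⟩

/-! ### descent -/

theorem Link.desc (h : T.chkDesc = true) {r : ℕ} (hr : r < D.nroots) :
    (∃ j < D.rank, r = D.simple j ∨ r = D.neg (D.simple j)) ∨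
    (T.ds r < D.rank ∧ T.mu (D.reflectRoot (T.ds r) r) < T.mu r ∧
      ((∃ i j, D.InRankTwoSub i j r) → ∃ j < D.rank, D.InRankTwoSub (T.ds r) j r) ∧
      ∀ k < D.rank, k ≠ T.ds r → T.mu r < T.mu (D.reflectRoot k r) ∨ D.InRankTwoSub (T.ds r) k r ∨
        ((D.reflectRoot k r = r ∨ T.mu (D.reflectRoot k r) < T.mu r) ∧
          (T.m (T.ds r) k = 2 → T.mu (D.reflectRoot k (D.reflectRoot (T.ds r) r)) < T.mu r) ∧
          (T.m (T.ds r) k = 3 → T.mu (D.reflectRoot k (D.reflectRoot (T.ds r) r)) < T.mu r ∧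
            T.mu (D.reflectRoot (T.ds r) (D.reflectRoot k (D.reflectRoot (T.ds r) r))) < T.mu r ∧
            T.mu (D.reflectRoot (T.ds r) (D.reflectRoot k r)) < T.mu r) ∧
          (T.m (T.ds r) k = 4 → T.mu (D.reflectRoot k (D.reflectRoot (T.ds r) r)) < T.mu r ∧
            T.mu (D.reflectRoot (T.ds r) (D.reflectRoot k (D.reflectRoot (T.ds r) r))) < T.mu r ∧
            T.mu (D.reflectRoot k (D.reflectRoot (T.ds r) (D.reflectRoot k (D.reflectRoot (T.ds r) r)))) < T.mu r ∧
            T.mu (D.reflectRoot (T.ds r) (D.reflectRoot k r)) < T.mu r ∧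
            T.mu (D.reflectRoot k (D.reflectRoot (T.ds r) (D.reflectRoot k r))) < T.mu r))) := by
  unfold Raw.chkDesc at h
  rw [allLt_iff] at h
  have h1 := h r (by rw [← L.hn]; exact hr)
  unfold Raw.chkDesc1 at h1
  rw [Bool.or_eq_true, anyLt_iff] at h1
  rcases h1 with ⟨j, hj, h1⟩ | h1
  · left
    rw [← L.hl] at hj
    rw [Bool.or_eq_true] at h1
    refine ⟨j, hj, ?_⟩
    have sj := L.sim_lt hj
    rw [L.neg_eq sj, L.hS j hj]
    rcases h1 with h1 | h1
    · exact Or.inl (Nat.eq_of_beq_eq_true h1)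
    · exact Or.inr (Nat.eq_of_beq_eq_true h1)
  right
  simp only [force_eq] at h1
  rw [Bool.and_eq_true, Bool.and_eq_true, Bool.and_eq_true, Nat.blt_eq, Nat.blt_eq, allLt_iff] at h1
  obtain ⟨hi, h2, h3, h4⟩ := h1
  rw [← L.hl] at hi h3 h4
  generalize T.ds r = i at *
  have r1 := L.rf_lt hi hr
  have w1 := L.w_eq hi hr
  rw [w1] at h2
  refine ⟨hi, h2, ?_, ?_⟩
  · rintro ⟨a, b, hab⟩
    rw [Bool.or_eq_true, anyLt_iff, allLt_iff] at h3
    rcases h3 with ⟨j, hj, h3⟩ | h3
    · exact ⟨j, hj, (L.sub_iff hr hi hj).1 h3⟩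
    · exfalso
      have h5 := h3 a hab.2.1
      rw [allLt_iff] at h5
      have h6 := h5 b hab.2.2.1
      rw [(L.sub_iff hr hab.2.1 hab.2.2.1).2 hab] at h6
      exact absurd h6 Bool.false_ne_true
  · intro k hk hki
    have h5 := h4 k hk
    have s1 := L.rf_lt hk hr
    have r2 := L.rf_lt hk r1
    have r3 := L.rf_lt hi r2
    have s2 := L.rf_lt hi s1
    have w2 := L.w_eq hk r1
    have w3 := L.w_eq hi r2
    have w4 := L.w_eq hk r3
    have v1 := L.w_eq hk hr
    have v2 := L.w_eq hi s1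
    have v3 := L.w_eq hk s2
    rw [Bool.or_eq_true, Bool.or_eq_true, Bool.or_eq_true, Nat.blt_eq] at h5
    rcases h5 with h5 | h5 | h5 | h5
    · exact absurd (Nat.eq_of_beq_eq_true h5) hki
    · left
      rw [v1] at h5
      exact h5
    · right; left
      exact (L.sub_iff hr hi hk).1 h5
    · right; right
      rw [w1, v1, w2, w3, w4, v2, v3] at h5
      simp only [Bool.and_eq_true, Bool.or_eq_true, Nat.blt_eq] at h5
      have nb : ∀ {a b : ℕ}, (!Nat.beq a b) = true → a ≠ b := by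
        intro a b h e
        rw [e, Nat.beq_refl] at h
        exact absurd h Bool.false_ne_true
      obtain ⟨p1, p2, p3, p4⟩ := h5
      refine ⟨p1.imp_left Nat.eq_of_beq_eq_true, fun hm => ?_, fun hm => ?_, fun hm => ?_⟩
      · rcases p2 with p2 | p2
        · exact absurd hm (nb p2)
        · exact p2
      · rcases p3 with p3 | p3
        · exact absurd hm (nb p3)
        · exact p3
      · rcases p4 with p4 | p4
        · exact absurd hm (nb p4)
        · exact p4

/-! ### strings -/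

theorem Link.string {k : ℕ} (hk : k < D.rank) (h : T.chkStr k = true) {r : ℕ} (hr : r < D.nroots)
    (hnp : NP D (D.simple k) r) :
    StringOK D (D.simple k) (D.neg (D.simple k)) r (D.reflectRoot k r) (eta D k r) := by
  have sk := L.sim_lt hk
  unfold Raw.chkStr at h
  simp only [force_eq] at h
  rw [allLt_iff, ← L.hS k hk, ← L.neg_eq sk] at h
  have h1 := h r (by rw [← L.hn]; exact hr)
  rw [Bool.or_eq_true, L.np_of sk hnp, L.w_eq hk hr, L.e_eq hk hr] at h1
  rcases h1 with h1 | h1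
  · exact absurd h1 Bool.false_ne_true
  · exact L.string1 sk (L.neg_lt sk) hr h1

/-! ### decompositions -/

theorem Link.dec1 {k j a P : ℕ} (hk : k < D.rank) (hj : j < D.rank) (ha : a < D.nroots) (hP : P < D.nroots)
    (h : T.chkDec1 k j a P = true) : A2dec D D.reflectRoot (eta D) k j P := by
  have sk := L.sim_lt hk
  have b1 := L.rf_lt hj hP
  have a1 := L.rf_lt hk ha
  unfold Raw.chkDec1 at h
  simp only [force_eq] at h
  rw [← L.hS k hk, L.w_eq hj hP, L.w_eq hk ha, L.w_eq hk b1, L.w_eq hk hP] at h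
  rw [Bool.and_eq_true, Bool.and_eq_true, Bool.and_eq_true, Bool.and_eq_true, Bool.and_eq_true,
    Bool.and_eq_true, Bool.and_eq_true, Bool.and_eq_true] at h
  obtain ⟨h1, h2, -, -, h3, h4, h5, h6, h7⟩ := h
  obtain ⟨c, h8, h9⟩ := is1_spec h7
  obtain ⟨c₂, h10, h11⟩ := is1_spec h9
  rw [Bool.and_eq_true] at h11
  rw [← L.comm_eq ha b1] at h8
  rw [← L.comm_eq a1 (L.rf_lt hk b1)] at h10
  have h12 := ieq_spec h11.2
  rw [L.e_eq hk ha, L.e_eq hk b1] at h12
  exact ⟨a, _, c, c₂, (L.sub_iff ha hk hj).1 h1, (L.sub_iff b1 hk hj).1 h2, L.np sk h3, L.np sk h4,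
    L.np ha h5, L.np a1 h6, h8, h10, ieq_spec h11.1, h12⟩

theorem Link.dec (h : T.chkDec = true) {k : ℕ} (hk : k < D.rank) :
    ∃ j < D.rank, A2dec D D.reflectRoot (eta D) k j (D.simple k) ∧
      A2dec D D.reflectRoot (eta D) k j (D.neg (D.simple k)) := by
  have sk := L.sim_lt hk
  unfold Raw.chkDec at h
  rw [allLt_iff, ← L.hl] at h
  have h1 := h k hk
  simp only [force_eq] at h1
  rw [Bool.and_eq_true, Bool.and_eq_true, Nat.blt_eq] at h1
  obtain ⟨hj, h2, h3⟩ := h1
  have sj := L.sim_lt hj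
  rw [← L.hS k hk, ← L.hS _ hj] at h2 h3
  rw [← L.neg_eq sj] at h2
  rw [← L.neg_eq sk] at h3
  exact ⟨_, hj, L.dec1 hk hj (L.neg_lt sj) sk h2, L.dec1 hk hj sj (L.neg_lt sk) h3⟩

/-! ### the rest -/

theorem Link.reach_aux {i j : ℕ} (w : List ℕ) : (∀ k ∈ w, k < D.rank) → ∀ r s : ℕ,
    D.InRankTwoSub i j (PairReduction.act D w r) → D.InRankTwoSub i j (PairReduction.act D w s) →
    Reach D D.reflectRoot r s := by
  induction w using List.reverseRecOn with
  | nil => intro _ r s h1 h2; exact Reach.base i j r s h1 h2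
  | append_singleton v k ih =>
    intro hw r s h1 h2
    rw [PairReduction.act_append] at h1 h2
    exact Reach.step k r s (hw k (by simp)) (ih (fun a ha => hw a (List.mem_append_left _ ha)) _ _ h1 h2)

theorem Link.reach {r s : ℕ} (hr : r < D.nroots) (hs : s < D.nroots) : Reach D D.reflectRoot r s := by
  obtain ⟨w, hw, i, j, h1, h2⟩ := L.pair r hr s hs
  exact L.reach_aux w hw r s h1 h2

theorem Link.comm_rf {k r s : ℕ} (hk : k < D.rank) (hr : r < D.nroots) (hs : s < D.nroots) :
    D.commTerms (D.reflectRoot k r) (D.reflectRoot k s) = (D.commTerms r s).map fun c =>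
      (D.reflectRoot k c.1, eta D k r ^ c.2.2.1 * eta D k s ^ c.2.2.2 * eta D k c.1 * c.2.1,
        c.2.2.1, c.2.2.2) :=
  CommTransport.commTerms_map (w := D.reflectRoot k) (e := eta D k)
    ((L.compat k hk).chainEntry_reflect r hr s hs) ((L.compat k hk).chainEntry_reflect s hs r hr)
    (CommOrbit.noLong_of_shortOK L.short r s) (CommOrbit.noLong_of_shortOK L.short s r)

theorem Link.comb (hb : T.chkBraid = true) (hd : T.chkDesc = true) :
    Comb D.rank D.nroots D.reflectRoot (eta D) T.mu T.ds D.simple D.neg D.InRankTwoSub T.m where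
  sim_lt k hk := L.sim_lt hk
  neg_lt r hr := L.neg_lt hr
  rf_lt k hk r hr := L.rf_lt hk hr
  rf_rf k hk r hr := L.rf_rf hk hr
  eta_sq k hk r hr := L.eta_sq hk hr
  braid2 i hi k hk hik hm r hr := by
    rcases L.braid hb hi hk hik with h | h | h
    · exact L.braid2 hi hk hr (h.2.1 r hr)
    · rw [h.1] at hm; omega
    · rw [h.1] at hm; omega
  braid3 i hi k hk hik hm r hr := by
    rcases L.braid hb hi hk hik with h | h | h
    · rw [h.1] at hm; omega
    · exact L.braid3 hi hk hr (h.2.1 r hr)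
    · rw [h.1] at hm; omega
  braid4 i hi k hk hik hm r hr := by
    rcases L.braid hb hi hk hik with h | h | h
    · rw [h.1] at hm; omega
    · rw [h.1] at hm; omega
    · exact L.braid4 hi hk hr (h.2.1 r hr)
  par_neg k hk j hj := L.par_neg hk hj
  par k hk j hj q hq := L.par hk hj hq
  m_cases i hi k hk hik := by
    rcases L.braid hb hi hk hik with h | h | h
    · exact Or.inl h.1
    · exact Or.inr (Or.inl h.1)
    · exact Or.inr (Or.inr h.1)
  st_rf i hi k hk r hr h := L.st_rf hi hr h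
  st_symm i k r h := L.st_symm h
  st_sim i hi k hk := ⟨L.st_sim hi hk, L.st_neg (L.st_sim hi hk)⟩
  desc r hr := L.desc hd hr

theorem good_of_link (hb : T.chkBraid = true) (hd : T.chkDesc = true)
    (hs : ∀ k < D.rank, T.chkStr k = true) (hdec : T.chkDec = true) :
    Good D D.reflectRoot (eta D) T.mu T.ds T.m where
  comb := L.comb hb hd
  neg_neg r hr := RootVec.neg_neg L.checked hr
  rf_neg k hk r hr := L.rf_neg hk hr
  eta_neg k hk r hr := L.eta_neg hk hr
  rf_sim k hk := L.rf_sim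
  eta_sim k hk := NSimple.eta_simple D k
  string k hk r hr hnp := L.string hk (hs k hk) hr hnp
  clos k hk r hr hnp := ⟨L.comm_lt, L.comm_lt⟩
  dec k hk := L.dec hdec hk
  st_clos i hi j hj r s hr hs _ := L.st_clos hr hs
  st_neg i j r h := L.st_neg h
  br2 i hi k hk hik hm := by
    rcases L.braid hb hi hk hik with h | h | h
    · exact h.2.2
    · rw [h.1] at hm; omega
    · rw [h.1] at hm; omega
  br3 i hi k hk hik hm := by
    rcases L.braid hb hi hk hik with h | h | h
    · rw [h.1] at hm; omega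
    · exact h.2.2
    · rw [h.1] at hm; omega
  br4 i hi k hk hik hm := by
    rcases L.braid hb hi hk hik with h | h | h
    · rw [h.1] at hm; omega
    · rw [h.1] at hm; omega
    · exact h.2.2
  comm_rf k hk r hr s hs _ := L.comm_rf hk hr hs
  comm_lt r hr s hs _ := L.comm_lt
  reach r hr s hs _ := L.reach hr hs

end

end Cfsg.Agent.LieRecognition.CTTab
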