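import Mathlib
import Cfsg.Prelude.Def_CurtisTits

/-!
Action of `n_p = x_p(1) x_{-p}(-1) x_p(1)` on root elements, derived from Steinberg's relations (R1), (R2)
on a set of roots, in an arbitrary group.
-/

set_option autoImplicit false
set_option linter.unusedSimpArgs false

namespace Cfsg.Agent.LieRecognition.CTString

open Cfsg.Lie

/-! ### Purely group-theoretic string lemmas -/

section Strings

variable {K : Type*} [Field K] {Γ : Type*} [Group Γ]

/-- Additivity of a family. -/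
def Add (R : K → Γ) : Prop := ∀ t u, R t * R u = R (t + u)

theorem Add.zero {R : K → Γ} (h : Add R) : R 0 = 1 := by
  have := h 0 0
  rw [add_zero] at this
  exact mul_eq_left.1 this

theorem Add.neg {R : K → Γ} (h : Add R) (t : K) : R (-t) = (R t)⁻¹ := by
  rw [eq_inv_iff_mul_eq_one, h, neg_add_cancel, h.zero]

theorem Add.swap {R : K → Γ} (h : Add R) (t u : K) : R t * R u = R u * R t := by
  rw [h, h, add_comm]

/-- conj by `X * Y * X`. -/
theorem conj3 (X Y g : Γ) : (X * Y * X) * g * (X * Y * X)⁻¹ =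
    MulAut.conj X (MulAut.conj Y (MulAut.conj X g)) := by
  simp only [MulAut.conj_apply]
  group

variable {R Q P : K → Γ} {X Y : Γ}

omit [Field K] in
theorem str_zero (hX : ∀ u, MulAut.conj X (R u) = R u) (hY : ∀ u, MulAut.conj Y (R u) = R u) (u : K) :
    (X * Y * X) * R u * (X * Y * X)⁻¹ = R u := by
  rw [conj3, hX, hY, hX]

/-- `r ↦ r + p`, simple string. -/
theorem str_up1 (hR : Add R) (c c' : K) (hcc : c * c' = 1)
    (hXR : ∀ u, MulAut.conj X (R u) = R u * Q (c * u))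
    (hYR : ∀ u, MulAut.conj Y (R u) = R u)
    (hYQ : ∀ u, MulAut.conj Y (Q u) = Q u * R (-(c' * u)))
    (hXQ : ∀ u, MulAut.conj X (Q u) = Q u)
    (hRQ : ∀ u v, R u * Q v = Q v * R u) (u : K) :
    (X * Y * X) * R u * (X * Y * X)⁻¹ = Q (c * u) := by
  rw [conj3, hXR, map_mul, hYR, hYQ, ← mul_assoc, hRQ, mul_assoc, hR]
  have : u + -(c' * (c * u)) = 0 := by
    rw [← mul_assoc, mul_comm c' c, hcc, one_mul, add_neg_cancel]
  rw [this, hR.zero, mul_one, hXQ]

/-- `r ↦ r - p`, simple string. -/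
theorem str_down1 (hR : Add R) (c c' : K) (hcc : c * c' = 1)
    (hXR : ∀ u, MulAut.conj X (R u) = R u)
    (hYR : ∀ u, MulAut.conj Y (R u) = R u * Q (-(c * u)))
    (hXQ : ∀ u, MulAut.conj X (Q u) = Q u * R (c' * u))
    (hRQ : ∀ u v, R u * Q v = Q v * R u) (u : K) :
    (X * Y * X) * R u * (X * Y * X)⁻¹ = Q (-(c * u)) := by
  rw [conj3, hXR, hYR, map_mul, hXR, hXQ, ← mul_assoc, hRQ, mul_assoc, hR]
  have : u + c' * -(c * u) = 0 := by
    rw [mul_neg, ← mul_assoc, mul_comm c' c, hcc, one_mul, add_neg_cancel]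
  rw [this, hR.zero, mul_one]

/-- middle of a string of length three: `Q = r + p`, `P = r - p`. -/
theorem str_mid (hR : Add R) (hQ : Add Q) (hP : Add P) (c c' d e : K)
    (hdc : d * c = 2) (hec : e * c = c')
    (hXR : ∀ u, MulAut.conj X (R u) = R u * Q (c * u))
    (hYR : ∀ u, MulAut.conj Y (R u) = R u * P (-(c' * u)))
    (hYQ : ∀ u, MulAut.conj Y (Q u) = Q u * (R (-(d * u)) * P (e * u)))
    (hXQ : ∀ u, MulAut.conj X (Q u) = Q u)
    (hRQ : ∀ u v, R u * Q v = Q v * R u)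
    (hRP : ∀ u v, R u * P v = P v * R u)
    (hPQ : ∀ u v, P u * Q v = Q v * P u) (u : K) :
    (X * Y * X) * R u * (X * Y * X)⁻¹ = R (-u) := by
  have key : MulAut.conj Y (MulAut.conj X (R u)) = R (-u) * Q (c * u) := by
    rw [hXR, map_mul, hYR, hYQ]
    have h1 : P (-(c' * u)) * (Q (c * u) * (R (-(d * (c * u))) * P (e * (c * u)))) =
        Q (c * u) * R (-(d * (c * u))) := by
      rw [← mul_assoc (Q (c * u)), ← mul_assoc (P _), ← mul_assoc (P _), hPQ, mul_assoc (Q (c * u)) (P _), ← hRP,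
        mul_assoc, mul_assoc, hP]
      have : -(c' * u) + e * (c * u) = 0 := by rw [← mul_assoc e c, hec, neg_add_cancel]
      rw [this, hP.zero, mul_one]
    rw [mul_assoc, h1, ← hRQ, ← mul_assoc, hR]
    have : u + -(d * (c * u)) = -u := by rw [← mul_assoc, hdc]; ring
    rw [this]
  rw [conj3, key, map_mul, hXR, hXQ, mul_assoc, hQ]
  have : c * -u + c * u = 0 := by ring
  rw [this, hQ.zero, mul_one]

/-- `r ↦ r + 2p` (`Q = r + p`, `P = r + 2p`), all of `R, Q, P` commuting. -/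
theorem str_up2 (hR : Add R) (hQ : Add Q) (c e d c' e' : K)
    (h1 : 1 - d * c + e' * e = 0) (h2 : c = c' * e)
    (hXR : ∀ u, MulAut.conj X (R u) = R u * (Q (c * u) * P (e * u)))
    (hYR : ∀ u, MulAut.conj Y (R u) = R u)
    (hYQ : ∀ u, MulAut.conj Y (Q u) = Q u * R (-(d * u)))
    (hYP : ∀ u, MulAut.conj Y (P u) = P u * (Q (-(c' * u)) * R (e' * u)))
    (hXP : ∀ u, MulAut.conj X (P u) = P u)
    (hRQ : ∀ u v, R u * Q v = Q v * R u)
    (hRP : ∀ u v, R u * P v = P v * R u)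
    (hPQ : ∀ u v, P u * Q v = Q v * P u) (u : K) :
    (X * Y * X) * R u * (X * Y * X)⁻¹ = P (e * u) := by
  have key : MulAut.conj Y (MulAut.conj X (R u)) = P (e * u) := by
    rw [hXR, map_mul, map_mul, hYR, hYQ, hYP]
    calc R u * (Q (c * u) * R (-(d * (c * u))) * (P (e * u) * (Q (-(c' * (e * u))) * R (e' * (e * u)))))
        = R u * (R (-(d * (c * u))) * Q (c * u)) * (P (e * u) * (Q (-(c' * (e * u))) * R (e' * (e * u)))) := by
          rw [hRQ (-(d * (c * u)))]; simp only [mul_assoc]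
      _ = R u * R (-(d * (c * u))) * (Q (c * u) * P (e * u)) * (Q (-(c' * (e * u))) * R (e' * (e * u))) := by
          simp only [mul_assoc]
      _ = R u * R (-(d * (c * u))) * (P (e * u) * Q (c * u)) * (Q (-(c' * (e * u))) * R (e' * (e * u))) := by
          rw [hPQ]
      _ = R u * R (-(d * (c * u))) * P (e * u) * (Q (c * u) * Q (-(c' * (e * u)))) * R (e' * (e * u)) := by
          simp only [mul_assoc]
      _ = R u * R (-(d * (c * u))) * P (e * u) * R (e' * (e * u)) := by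
          rw [hQ]
          have : c * u + -(c' * (e * u)) = 0 := by rw [h2]; ring
          rw [this, hQ.zero, mul_one]
      _ = R u * R (-(d * (c * u))) * R (e' * (e * u)) * P (e * u) := by
          rw [mul_assoc _ (P _) (R _), ← hRP, ← mul_assoc]
      _ = P (e * u) := by
          rw [hR, hR]
          have : u + -(d * (c * u)) + e' * (e * u) = 0 := by
            have h3 : u + -(d * (c * u)) + e' * (e * u) = (1 - d * c + e' * e) * u := by ring
            rw [h3, h1, zero_mul]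
          rw [this, hR.zero, one_mul]
  rw [conj3, key, hXP]

/-- `r ↦ r - 2p` (`Q = r - p`, `P = r - 2p`), all of `R, Q, P` commuting. -/
theorem str_down2 (hR : Add R) (hQ : Add Q) (c e d c' e' : K)
    (h1 : 1 - d * c + e' * e = 0) (h2 : c = c' * e)
    (hXR : ∀ u, MulAut.conj X (R u) = R u)
    (hYR : ∀ u, MulAut.conj Y (R u) = R u * (Q (-(c * u)) * P (e * u)))
    (hXQ : ∀ u, MulAut.conj X (Q u) = Q u * R (d * u))
    (hXP : ∀ u, MulAut.conj X (P u) = P u * (Q (c' * u) * R (e' * u)))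
    (hRQ : ∀ u v, R u * Q v = Q v * R u)
    (hRP : ∀ u v, R u * P v = P v * R u)
    (hPQ : ∀ u v, P u * Q v = Q v * P u) (u : K) :
    (X * Y * X) * R u * (X * Y * X)⁻¹ = P (e * u) := by
  rw [conj3, hXR, hYR, map_mul, map_mul, hXR, hXQ, hXP]
  calc R u * (Q (-(c * u)) * R (d * -(c * u)) * (P (e * u) * (Q (c' * (e * u)) * R (e' * (e * u)))))
      = R u * (R (d * -(c * u)) * Q (-(c * u))) * (P (e * u) * (Q (c' * (e * u)) * R (e' * (e * u)))) := by
        rw [hRQ (d * -(c * u))]; simp only [mul_assoc]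
    _ = R u * R (d * -(c * u)) * (Q (-(c * u)) * P (e * u)) * (Q (c' * (e * u)) * R (e' * (e * u))) := by
        simp only [mul_assoc]
    _ = R u * R (d * -(c * u)) * (P (e * u) * Q (-(c * u))) * (Q (c' * (e * u)) * R (e' * (e * u))) := by
        rw [hPQ]
    _ = R u * R (d * -(c * u)) * P (e * u) * (Q (-(c * u)) * Q (c' * (e * u))) * R (e' * (e * u)) := by
        simp only [mul_assoc]
    _ = R u * R (d * -(c * u)) * P (e * u) * R (e' * (e * u)) := by
        rw [hQ]
        have : -(c * u) + c' * (e * u) = 0 := by rw [h2]; ring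
        rw [this, hQ.zero, mul_one]
    _ = R u * R (d * -(c * u)) * R (e' * (e * u)) * P (e * u) := by
        rw [mul_assoc _ (P _) (R _), ← hRP, ← mul_assoc]
    _ = P (e * u) := by
        rw [hR, hR]
        have : u + d * -(c * u) + e' * (e * u) = 0 := by
          have h3 : u + d * -(c * u) + e' * (e * u) = (1 - d * c + e' * e) * u := by ring
          rw [h3, h1, zero_mul]
        rw [this, hR.zero, one_mul]

/-- `p` long, `r` short, `Q = r + p`, `P = 2r + p`; `R`, `Q` commute up to `P`. -/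
theorem str_upS (hR : Add R) (hP : Add P) (c e c' e' c'' : K)
    (hcc : c * c' = 1) (h1 : e - e' * c * c + c'' * c = 0)
    (hXR : ∀ u, MulAut.conj X (R u) = R u * (Q (c * u) * P (e * u ^ 2)))
    (hYR : ∀ u, MulAut.conj Y (R u) = R u)
    (hYQ : ∀ u, MulAut.conj Y (Q u) = Q u * (R (-(c' * u)) * P (-(e' * u ^ 2))))
    (hYP : ∀ u, MulAut.conj Y (P u) = P u)
    (hXQ : ∀ u, MulAut.conj X (Q u) = Q u)
    (hRQ : ∀ u v, MulAut.conj (R u) (Q v) = Q v * P (c'' * u * v)) (u : K) :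
    (X * Y * X) * R u * (X * Y * X)⁻¹ = Q (c * u) := by
  have key : MulAut.conj Y (MulAut.conj X (R u)) = Q (c * u) := by
    rw [hXR, map_mul, map_mul, hYR, hYQ, hYP]
    have e1 : -(c' * (c * u)) = -u := by rw [← mul_assoc, mul_comm c' c, hcc, one_mul]
    rw [e1]
    have h2 := hRQ u (c * u)
    rw [MulAut.conj_apply, mul_inv_eq_iff_eq_mul] at h2
    calc R u * (Q (c * u) * (R (-u) * P (-(e' * (c * u) ^ 2))) * P (e * u ^ 2))
        = (R u * Q (c * u)) * (R (-u) * (P (-(e' * (c * u) ^ 2)) * P (e * u ^ 2))) := by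
          simp only [mul_assoc]
      _ = Q (c * u) * P (c'' * u * (c * u)) * R u * (R (-u) * P (-(e' * (c * u) ^ 2) + e * u ^ 2)) := by
          rw [h2, hP]
      _ = Q (c * u) * P (c'' * u * (c * u)) * (R u * R (-u)) * P (-(e' * (c * u) ^ 2) + e * u ^ 2) := by
          simp only [mul_assoc]
      _ = Q (c * u) * (P (c'' * u * (c * u)) * P (-(e' * (c * u) ^ 2) + e * u ^ 2)) := by
          rw [hR, add_neg_cancel, hR.zero, mul_one, mul_assoc]
      _ = Q (c * u) := by
          rw [hP]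
          have h3 : c'' * u * (c * u) + (-(e' * (c * u) ^ 2) + e * u ^ 2) =
            (e - e' * c * c + c'' * c) * u ^ 2 := by ring
          rw [h3, h1, zero_mul, hP.zero, mul_one]
  rw [conj3, key, hXQ]

/-- `p` long, `r` short, `Q = r - p`, `P = 2r - p`; `R`, `Q` commute up to `P`. -/
theorem str_downS (hR : Add R) (hP : Add P) (c e c' e' c'' : K)
    (hcc : c * c' = 1) (h1 : e' * c * c - e - c'' * c = 0)
    (hXR : ∀ u, MulAut.conj X (R u) = R u)
    (hYR : ∀ u, MulAut.conj Y (R u) = R u * (Q (-(c * u)) * P (-(e * u ^ 2))))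
    (hXQ : ∀ u, MulAut.conj X (Q u) = Q u * (R (c' * u) * P (e' * u ^ 2)))
    (hXP : ∀ u, MulAut.conj X (P u) = P u)
    (hRQ : ∀ u v, MulAut.conj (R u) (Q v) = Q v * P (c'' * u * v))
    (u : K) :
    (X * Y * X) * R u * (X * Y * X)⁻¹ = Q (-(c * u)) := by
  rw [conj3, hXR, hYR, map_mul, map_mul, hXR, hXQ, hXP]
  have e1 : c' * -(c * u) = -u := by rw [mul_neg, ← mul_assoc, mul_comm c' c, hcc, one_mul]
  rw [e1]
  have h2 := hRQ u (-(c * u))
  rw [MulAut.conj_apply, mul_inv_eq_iff_eq_mul] at h2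
  calc R u * (Q (-(c * u)) * (R (-u) * P (e' * (-(c * u)) ^ 2)) * P (-(e * u ^ 2)))
      = (R u * Q (-(c * u))) * (R (-u) * (P (e' * (-(c * u)) ^ 2) * P (-(e * u ^ 2)))) := by
        simp only [mul_assoc]
    _ = Q (-(c * u)) * P (c'' * u * -(c * u)) * R u * (R (-u) * P (e' * (-(c * u)) ^ 2 + -(e * u ^ 2))) := by
        rw [h2, hP]
    _ = Q (-(c * u)) * P (c'' * u * -(c * u)) * (R u * R (-u)) * P (e' * (-(c * u)) ^ 2 + -(e * u ^ 2)) := by
        simp only [mul_assoc]
    _ = Q (-(c * u)) * (P (c'' * u * -(c * u)) * P (e' * (-(c * u)) ^ 2 + -(e * u ^ 2))) := by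
        rw [hR, add_neg_cancel, hR.zero, mul_one, mul_assoc]
    _ = Q (-(c * u)) := by
        rw [hP]
        have h3 : c'' * u * -(c * u) + (e' * (-(c * u)) ^ 2 + -(e * u ^ 2)) =
          (e' * c * c - e - c'' * c) * u ^ 2 := by ring
        rw [h3, h1, zero_mul, hP.zero, mul_one]

end Strings

/-! ### Relation systems -/

/-- A list of commutator terms. -/
abbrev Terms := List (ℕ × ℤ × ℕ × ℕ)

section Sys

variable {K : Type*} [Field K] {Γ : Type*} [Group Γ]

/-- product of a word -/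
def wprod (x : ℕ → K → Γ) (w : List (ℕ × K)) : Γ := (w.map fun p => x p.1 p.2).prod

/-- product of commutator terms with parameters `t`, `u`. -/
def tprod (x : ℕ → K → Γ) (l : Terms) (t u : K) : Γ :=
  (l.map fun c => x c.1 ((c.2.1 : K) * t ^ c.2.2.1 * u ^ c.2.2.2)).prod

theorem wprod_commWord (D : ChevalleyDatum) (x : ℕ → K → Γ) (r s : ℕ) (t u : K) :
    wprod x (D.commWord K r s t u) = tprod x (D.commTerms r s) (-t) u := by
  show (List.map _ (List.map _ _)).prod = _
  rw [List.map_map]; rfl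

/-- Steinberg's relations (R1), (R2) for the roots in `S`. -/
structure RelSys (D : ChevalleyDatum) (x : ℕ → K → Γ) (S : ℕ → Prop) : Prop where
  add : ∀ r, S r → ∀ t u, x r t * x r u = x r (t + u)
  comm : ∀ r s, S r → S s → s ≠ r → s ≠ D.neg r → ∀ t u,
    (x s u)⁻¹ * (x r t)⁻¹ * x s u * x r t = tprod x (D.commTerms r s) (-t) u

variable {D : ChevalleyDatum} {x : ℕ → K → Γ} {S : ℕ → Prop}

theorem RelSys.Add (h : RelSys D x S) {r : ℕ} (hr : S r) : CTString.Add (x r) := h.add r hr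

theorem RelSys.conj (h : RelSys D x S) {r s : ℕ} (hr : S r) (hs : S s) (h1 : s ≠ r) (h2 : s ≠ D.neg r)
    (t u : K) : MulAut.conj (x r t) (x s u) = x s u * tprod x (D.commTerms r s) t u := by
  have e := h.comm r s hr hs h1 h2 (-t) u
  rw [neg_neg, (h.Add hr).neg, inv_inv] at e
  rw [← e, MulAut.conj_apply]
  group

theorem tprod_nil (x : ℕ → K → Γ) (t u : K) : tprod x [] t u = 1 := rfl

theorem tprod_one (x : ℕ → K → Γ) (q i j : ℕ) (c : ℤ) (t u : K) :
    tprod x [(q, c, i, j)] t u = x q ((c : K) * t ^ i * u ^ j) := by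
  show _ * 1 = _
  rw [mul_one]

theorem tprod_two (x : ℕ → K → Γ) (q i j q' i' j' : ℕ) (c c' : ℤ) (t u : K) :
    tprod x [(q, c, i, j), (q', c', i', j')] t u =
      x q ((c : K) * t ^ i * u ^ j) * x q' ((c' : K) * t ^ i' * u ^ j') := by
  show _ * (_ * 1) = _
  rw [mul_one]

theorem RelSys.swap (h : RelSys D x S) {r s : ℕ} (hr : S r) (hs : S s) (h1 : s ≠ r) (h2 : s ≠ D.neg r)
    (h3 : D.commTerms r s = []) (t u : K) : x r t * x s u = x s u * x r t := by
  have e := h.conj hr hs h1 h2 t u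
  rw [h3, tprod_nil, mul_one, MulAut.conj_apply, mul_inv_eq_iff_eq_mul] at e
  exact e

/-- `n_p = x_p(1) x_{p'}(-1) x_p(1)`. -/
def nn (x : ℕ → K → Γ) (p p' : ℕ) : Γ := x p 1 * x p' (-1) * x p 1

/-- `s ≠ ± r` -/
def NP (D : ChevalleyDatum) (r s : ℕ) : Prop := s ≠ r ∧ s ≠ D.neg r

instance (D : ChevalleyDatum) (r s : ℕ) : Decidable (NP D r s) := inferInstanceAs (Decidable (_ ∧ _))

/-- The possible shapes of the `p`-string through `r`, with the image `(q, e)` of `r` under `n_p`. -/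
inductive StringOK (D : ChevalleyDatum) (p p' r : ℕ) : ℕ → ℤ → Prop
  | zero (h1 : D.commTerms p r = []) (h2 : D.commTerms p' r = []) : StringOK D p p' r r 1
  | up1 (q : ℕ) (c c' : ℤ) (h1 : D.commTerms p r = [(q, c, 1, 1)]) (h2 : D.commTerms p' r = [])
      (h3 : D.commTerms p' q = [(r, c', 1, 1)]) (h4 : D.commTerms p q = [])
      (h5 : D.commTerms r q = []) (hc : c * c' = 1)
      (n1 : NP D p q) (n2 : NP D p' q) (n3 : NP D r q) : StringOK D p p' r q c
  | down1 (q : ℕ) (c c' : ℤ) (h1 : D.commTerms p r = []) (h2 : D.commTerms p' r = [(q, c, 1, 1)])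
      (h3 : D.commTerms p q = [(r, c', 1, 1)])
      (h5 : D.commTerms r q = []) (hc : c * c' = 1)
      (n1 : NP D p q) (n3 : NP D r q) : StringOK D p p' r q (-c)
  | mid (q m : ℕ) (c c' d e : ℤ) (h1 : D.commTerms p r = [(q, c, 1, 1)])
      (h2 : D.commTerms p' r = [(m, c', 1, 1)])
      (h3 : D.commTerms p' q = [(r, d, 1, 1), (m, e, 2, 1)]) (h4 : D.commTerms p q = [])
      (h5 : D.commTerms r q = []) (h6 : D.commTerms r m = []) (h7 : D.commTerms m q = [])
      (hc : d * c = 2) (hc' : e * c = c')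
      (n1 : NP D p q) (n2 : NP D p' q) (n3 : NP D r q) (n4 : NP D r m) (n5 : NP D m q) :
      StringOK D p p' r r (-1)
  | up2 (q m : ℕ) (c e d c' e' : ℤ) (h1 : D.commTerms p r = [(q, c, 1, 1), (m, e, 2, 1)])
      (h2 : D.commTerms p' r = [])
      (h3 : D.commTerms p' q = [(r, d, 1, 1)]) (h4 : D.commTerms p' m = [(q, c', 1, 1), (r, e', 2, 1)])
      (h5 : D.commTerms p m = [])
      (h6 : D.commTerms r q = []) (h7 : D.commTerms r m = []) (h8 : D.commTerms m q = [])
      (hc : 1 - d * c + e' * e = 0) (hc' : c = c' * e)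
      (n1 : NP D p' q) (n2 : NP D p' m) (n3 : NP D p m) (n4 : NP D r q) (n5 : NP D r m) (n6 : NP D m q) :
      StringOK D p p' r m e
  | down2 (q m : ℕ) (c e d c' e' : ℤ) (h1 : D.commTerms p' r = [(q, c, 1, 1), (m, e, 2, 1)])
      (h2 : D.commTerms p r = [])
      (h3 : D.commTerms p q = [(r, d, 1, 1)]) (h4 : D.commTerms p m = [(q, c', 1, 1), (r, e', 2, 1)])
      (h6 : D.commTerms r q = []) (h7 : D.commTerms r m = []) (h8 : D.commTerms m q = [])
      (hc : 1 - d * c + e' * e = 0) (hc' : c = c' * e)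
      (n1 : NP D p q) (n2 : NP D p m) (n4 : NP D r q) (n5 : NP D r m) (n6 : NP D m q) :
      StringOK D p p' r m e
  | upS (q m : ℕ) (c e c' e' c'' : ℤ) (h1 : D.commTerms p r = [(q, c, 1, 1), (m, e, 1, 2)])
      (h2 : D.commTerms p' r = [])
      (h3 : D.commTerms p' q = [(r, c', 1, 1), (m, e', 1, 2)]) (h4 : D.commTerms p' m = [])
      (h5 : D.commTerms p q = []) (h6 : D.commTerms p m = [])
      (h7 : D.commTerms r q = [(m, c'', 1, 1)]) (h8 : D.commTerms r m = [])
      (hc : c * c' = 1) (hc' : e - e' * c * c + c'' * c = 0)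
      (n1 : NP D p' q) (n2 : NP D p' m) (n3 : NP D p q) (n4 : NP D p m) (n5 : NP D r q) (n6 : NP D r m) :
      StringOK D p p' r q c
  | downS (q m : ℕ) (c e c' e' c'' : ℤ) (h1 : D.commTerms p' r = [(q, c, 1, 1), (m, e, 1, 2)])
      (h2 : D.commTerms p r = [])
      (h3 : D.commTerms p q = [(r, c', 1, 1), (m, e', 1, 2)]) (h4 : D.commTerms p m = [])
      (h7 : D.commTerms r q = [(m, c'', 1, 1)])
      (hc : c * c' = 1) (hc' : e' * c * c - e - c'' * c = 0)
      (n1 : NP D p q) (n2 : NP D p m) (n5 : NP D r q) :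
      StringOK D p p' r q (-c)

theorem RelSys.string (h : RelSys D x S) {p p' r q : ℕ} {e : ℤ} (hp : S p) (hp' : S p') (hr : S r)
    (n1 : NP D p r) (n2 : NP D p' r) (clp : ∀ c ∈ D.commTerms p r, S c.1)
    (clp' : ∀ c ∈ D.commTerms p' r, S c.1) (hS : StringOK D p p' r q e) (u : K) :
    nn x p p' * x r u * (nn x p p')⁻¹ = x q ((e : K) * u) := by
  have hR := h.Add hr
  have cpr := fun u => h.conj hp hr n1.1 n1.2 1 u
  have cpr' := fun u => h.conj hp' hr n2.1 n2.2 (-1) u
  cases hS with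
  | zero h1 h2 =>
    simp only [h1, h2, tprod_nil, mul_one] at cpr cpr'
    rw [Int.cast_one, one_mul]
    exact str_zero cpr cpr' u
  | up1 _ _ c' h1 h2 h3 h4 h5 hc n3 n4 n5 =>
    have hq : S q := clp (q, e, 1, 1) (by rw [h1]; exact List.mem_singleton_self _)
    have cpq := fun u => h.conj hp hq n3.1 n3.2 1 u
    have cpq' := fun u => h.conj hp' hq n4.1 n4.2 (-1) u
    simp only [h1, h2, h3, h4, tprod_nil, tprod_one, mul_one, one_pow, pow_one, mul_neg, neg_mul] at cpr cpr' cpq cpq'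
    have hcc : (e : K) * (c' : K) = 1 := by exact_mod_cast congrArg (Int.cast : ℤ → K) hc
    exact str_up1 hR e c' hcc cpr cpr' cpq' cpq (fun u v => h.swap hr hq n5.1 n5.2 h5 u v) u
  | down1 _ c c' h1 h2 h3 h5 hc n3 n5 =>
    have hq : S q := clp' (q, c, 1, 1) (by rw [h2]; exact List.mem_singleton_self _)
    have cpq := fun u => h.conj hp hq n3.1 n3.2 1 u
    simp only [h1, h2, h3, tprod_nil, tprod_one, mul_one, one_pow, pow_one, mul_neg, neg_mul] at cpr cpr' cpq
    have hcc : (c : K) * (c' : K) = 1 := by exact_mod_cast congrArg (Int.cast : ℤ → K) hc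
    have := str_down1 hR (c : K) c' hcc cpr cpr' cpq (fun u v => h.swap hr hq n5.1 n5.2 h5 u v) u
    rw [Int.cast_neg, neg_mul]
    exact this
  | mid q m c c' d e h1 h2 h3 h4 h5 h6 h7 hc hc' n3 n4 n5 n6 n7 =>
    have hq : S q := clp (q, c, 1, 1) (by rw [h1]; exact List.mem_singleton_self _)
    have hm : S m := clp' (m, c', 1, 1) (by rw [h2]; exact List.mem_singleton_self _)
    have cpq := fun u => h.conj hp hq n3.1 n3.2 1 u
    have cpq' := fun u => h.conj hp' hq n4.1 n4.2 (-1) u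
    simp only [h1, h2, h3, h4, tprod_nil, tprod_one, tprod_two, mul_one, one_pow, pow_one, mul_neg, neg_mul,
      even_two.neg_pow] at cpr cpr' cpq cpq'
    have hcc : (d : K) * (c : K) = 2 := by exact_mod_cast congrArg (Int.cast : ℤ → K) hc
    have hcc' : (e : K) * (c : K) = c' := by exact_mod_cast congrArg (Int.cast : ℤ → K) hc'
    have := str_mid hR (h.Add hq) (h.Add hm) c c' d e hcc hcc' cpr cpr' cpq' cpq
      (fun u v => h.swap hr hq n5.1 n5.2 h5 u v) (fun u v => h.swap hr hm n6.1 n6.2 h6 u v)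
      (fun u v => h.swap hm hq n7.1 n7.2 h7 u v) u
    rw [Int.cast_neg, Int.cast_one, neg_mul, one_mul]
    exact this
  | up2 q₁ _ c _ d c' e' h1 h2 h3 h4 h5 h6 h7 h8 hc hc' n3 n4 n5 n6 n7 n8 =>
    have hq : S q₁ := clp (q₁, c, 1, 1) (by rw [h1]; exact List.mem_cons_self)
    have hm : S q := clp (q, e, 2, 1) (by rw [h1]; exact List.mem_cons_of_mem _ (List.mem_singleton_self _))
    have cpq' := fun u => h.conj hp' hq n3.1 n3.2 (-1) u
    have cpm' := fun u => h.conj hp' hm n4.1 n4.2 (-1) u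
    have cpm := fun u => h.conj hp hm n5.1 n5.2 1 u
    simp only [h1, h2, h3, h4, h5, tprod_nil, tprod_one, tprod_two, mul_one, one_pow, pow_one, mul_neg, neg_mul,
      even_two.neg_pow] at cpr cpr' cpq' cpm' cpm
    have hcc : 1 - (d : K) * (c : K) + e' * e = 0 := by exact_mod_cast congrArg (Int.cast : ℤ → K) hc
    have hcc' : (c : K) = (c' : K) * e := by exact_mod_cast congrArg (Int.cast : ℤ → K) hc'
    exact str_up2 hR (h.Add hq) c e d c' e' hcc hcc' cpr cpr' cpq' cpm' cpm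
      (fun u v => h.swap hr hq n6.1 n6.2 h6 u v) (fun u v => h.swap hr hm n7.1 n7.2 h7 u v)
      (fun u v => h.swap hm hq n8.1 n8.2 h8 u v) u
  | down2 q₁ _ c _ d c' e' h1 h2 h3 h4 h6 h7 h8 hc hc' n3 n4 n6 n7 n8 =>
    have hq : S q₁ := clp' (q₁, c, 1, 1) (by rw [h1]; exact List.mem_cons_self)
    have hm : S q := clp' (q, e, 2, 1) (by rw [h1]; exact List.mem_cons_of_mem _ (List.mem_singleton_self _))
    have cpq := fun u => h.conj hp hq n3.1 n3.2 1 u
    have cpm := fun u => h.conj hp hm n4.1 n4.2 1 u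
    simp only [h1, h2, h3, h4, tprod_nil, tprod_one, tprod_two, mul_one, one_pow, pow_one, mul_neg, neg_mul,
      even_two.neg_pow] at cpr cpr' cpq cpm
    have hcc : 1 - (d : K) * (c : K) + e' * e = 0 := by exact_mod_cast congrArg (Int.cast : ℤ → K) hc
    have hcc' : (c : K) = (c' : K) * e := by exact_mod_cast congrArg (Int.cast : ℤ → K) hc'
    exact str_down2 hR (h.Add hq) c e d c' e' hcc hcc' cpr cpr' cpq cpm
      (fun u v => h.swap hr hq n6.1 n6.2 h6 u v) (fun u v => h.swap hr hm n7.1 n7.2 h7 u v)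
      (fun u v => h.swap hm hq n8.1 n8.2 h8 u v) u
  | upS _ m _ e₁ c' e' c'' h1 h2 h3 h4 h5 h6 h7 h8 hc hc' n3 n4 n5 n6 n7 n8 =>
    have hq : S q := clp (q, e, 1, 1) (by rw [h1]; exact List.mem_cons_self)
    have hm : S m := clp (m, e₁, 1, 2) (by rw [h1]; exact List.mem_cons_of_mem _ (List.mem_singleton_self _))
    have cpq' := fun u => h.conj hp' hq n3.1 n3.2 (-1) u
    have cpm' := fun u => h.conj hp' hm n4.1 n4.2 (-1) u
    have cpq := fun u => h.conj hp hq n5.1 n5.2 1 u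
    have cpm := fun u => h.conj hp hm n6.1 n6.2 1 u
    have crq := fun t u => h.conj hr hq n7.1 n7.2 t u
    simp only [h1, h2, h3, h4, h5, h6, h7, tprod_nil, tprod_one, tprod_two, mul_one, one_pow, pow_one, mul_neg,
      neg_mul] at cpr cpr' cpq cpq' cpm cpm' crq
    have hcc : (e : K) * (c' : K) = 1 := by exact_mod_cast congrArg (Int.cast : ℤ → K) hc
    have hcc' : (e₁ : K) - e' * e * e + c'' * e = 0 := by exact_mod_cast congrArg (Int.cast : ℤ → K) hc'
    exact str_upS hR (h.Add hm) e e₁ c' e' c'' hcc hcc' cpr cpr' cpq' cpm' cpq crq u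
  | downS _ m c e₁ c' e' c'' h1 h2 h3 h4 h7 hc hc' n3 n4 n7 =>
    have hq : S q := clp' (q, c, 1, 1) (by rw [h1]; exact List.mem_cons_self)
    have hm : S m := clp' (m, e₁, 1, 2) (by rw [h1]; exact List.mem_cons_of_mem _ (List.mem_singleton_self _))
    have cpq := fun u => h.conj hp hq n3.1 n3.2 1 u
    have cpm := fun u => h.conj hp hm n4.1 n4.2 1 u
    have crq := fun t u => h.conj hr hq n7.1 n7.2 t u
    simp only [h1, h2, h3, h4, h7, tprod_nil, tprod_one, tprod_two, mul_one, one_pow, pow_one, mul_neg,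
      neg_mul] at cpr cpr' cpq cpm crq
    have hcc : (c : K) * (c' : K) = 1 := by exact_mod_cast congrArg (Int.cast : ℤ → K) hc
    have hcc' : (e' : K) * c * c - e₁ - c'' * c = 0 := by exact_mod_cast congrArg (Int.cast : ℤ → K) hc'
    have := str_downS hR (h.Add hm) c e₁ c' e' c'' hcc hcc' cpr cpr' cpq cpm crq u
    rw [Int.cast_neg, neg_mul]
    exact this

/-- The action on `x_P` from that on `x_a`, `x_b` with `a + b = P`. -/
theorem RelSys.decomp (h : RelSys D x S) {P P' a b a' b' : ℕ} {c c₂ ea eb : ℤ} {g : Γ}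
    (ha : S a) (hb : S b) (hab : NP D a b) (ha' : S a') (hb' : S b') (hab' : NP D a' b')
    (hc : D.commTerms a b = [(P, c, 1, 1)]) (hc₂ : D.commTerms a' b' = [(P', c₂, 1, 1)])
    (hcc : c * c = 1) (he : c₂ * ea * eb = -c)
    (hga : ∀ u, g * x a u * g⁻¹ = x a' ((ea : K) * u)) (hgb : ∀ u, g * x b u * g⁻¹ = x b' ((eb : K) * u))
    (u : K) : g * x P u * g⁻¹ = x P' (-u) := by
  have e1 := h.comm a b ha hb hab.1 hab.2 (-(c : K)) u
  have e2 := h.comm a' b' ha' hb' hab'.1 hab'.2 ((ea : K) * -(c : K)) ((eb : K) * u)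
  rw [hc, tprod_one] at e1
  rw [hc₂, tprod_one] at e2
  have hcK : (c : K) * (c : K) = 1 := by exact_mod_cast congrArg (Int.cast : ℤ → K) hcc
  have heK : (c₂ : K) * ea * eb = -c := by exact_mod_cast congrArg (Int.cast : ℤ → K) he
  have h1 : (c : K) * (- -(c : K)) ^ 1 * u ^ 1 = u := by rw [neg_neg, pow_one, pow_one, hcK, one_mul]
  have h2 : (c₂ : K) * (-((ea : K) * -(c : K))) ^ 1 * ((eb : K) * u) ^ 1 = -u := by
    rw [pow_one, pow_one]
    calc (c₂ : K) * (-((ea : K) * -(c : K))) * ((eb : K) * u) = ((c₂ : K) * ea * eb) * c * u := by ring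
      _ = -u := by rw [heK, neg_mul, hcK, neg_mul, one_mul]
  rw [h1] at e1
  rw [h2] at e2
  rw [← e1, ← e2, ← hga, ← hgb]
  group

end Sys

end Cfsg.Agent.LieRecognition.CTString
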