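import Cfsg.Agent.LieRecognition.CTGood
import Cfsg.Agent.ChevalleyStructure.RootVec
import Cfsg.Agent.ChevalleyStructure.FastFinal
import Cfsg.Agent.ChevalleyStructure.CommOrbit
import Cfsg.Agent.ChevalleyStructure.PairReduction

/-!
Kernel checks on packed tables which imply the table facts `CTGood.Good` used for the Curtis-Tits theorem.
-/

set_option autoImplicit false

namespace Cfsg.Agent.LieRecognition.CTTab

open Cfsg.Lie Cfsg.Agent.LieRecognition.CTString Cfsg.Agent.LieRecognition.CTInduct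
  Cfsg.Agent.LieRecognition.CTGood
open Cfsg.Agent.ChevalleyStructure
open Cfsg.Agent.ChevalleyStructure.FastBase (Tree allLt allLt_iff force force_eq ce)
open Cfsg.Agent.ChevalleyStructure.FastRefl (byte bit1 sg sg_eq)
open Cfsg.Agent.ChevalleyStructure.RootVecTab (dig)

/-- Some number below `n` satisfies `p`. -/
def anyLt (n : ℕ) (p : ℕ → Bool) : Bool := Nat.rec false (fun k ih => or (p k) ih) n

theorem anyLt_iff {n : ℕ} {p : ℕ → Bool} : anyLt n p = true ↔ ∃ k < n, p k = true := by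
  induction n with
  | zero => simp [anyLt]
  | succ n ih =>
    have h0 : anyLt (n + 1) p = or (p n) (anyLt n p) := rfl
    rw [h0, Bool.or_eq_true, ih]
    constructor
    · rintro (h | ⟨k, hk, h⟩)
      · exact ⟨n, Nat.lt_succ_self n, h⟩
      · exact ⟨k, Nat.lt_succ_of_lt hk, h⟩
    · rintro ⟨k, hk, h⟩
      rcases Nat.lt_succ_iff_lt_or_eq.1 hk with h' | rfl
      · exact Or.inr ⟨k, h', h⟩
      · exact Or.inl h

/-- Raw data. -/
structure Raw where
  /-- number of roots -/
  n : ℕ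
  /-- rank -/
  l : ℕ
  /-- packed root coordinates -/
  PT : ℕ
  /-- packed reflections -/
  W : ℕ → ℕ
  /-- packed signs -/
  E : ℕ → ℕ
  /-- packed chain table -/
  P : Tree
  /-- packed indices of the fundamental roots -/
  S : ℕ
  /-- packed Coxeter matrix, bytes, row by row -/
  M : ℕ
  /-- packed descents -/
  DS : ℕ
  /-- packed neighbours of the fundamental roots -/
  AD : ℕ

namespace Raw

variable (T : Raw)

def w (i s : ℕ) : ℕ := byte (T.W i) s
def e (i s : ℕ) : ℕ := bit1 (T.E i) s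
def sim (i : ℕ) : ℕ := byte T.S i
def m (i k : ℕ) : ℕ := byte T.M (Nat.add (Nat.mul T.l i) k)
def ds (r : ℕ) : ℕ := byte T.DS r
def ng (r : ℕ) : ℕ := Nat.sub (Nat.sub T.n 1) r
def mu (r : ℕ) : ℕ := cond (Nat.ble r (T.ng r)) (T.ng r) r
def code (r : ℕ) : ℕ := Nat.mod (Nat.shiftRight T.PT (Nat.mul (Nat.mul 6 T.l) r)) (Nat.pow 2 (Nat.mul 6 T.l))

/-- the code `c` has support in `{i, j}` -/
def sup (c i j : ℕ) : Bool := allLt T.l fun k => or (Nat.beq k i) (or (Nat.beq k j)
  (Nat.beq (dig c (Nat.sub (Nat.sub T.l 1) k)) 8))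

/-- equal parity -/
def par (a b : ℕ) : Bool := Nat.beq (Nat.land a 1) (Nat.land b 1)

def b2 (i k r : ℕ) : Bool :=
  force (T.w k r) fun a => force (T.w i r) fun b => and (Nat.beq (T.w i a) (T.w k b))
    (par (Nat.add (T.e k r) (T.e i a)) (Nat.add (T.e i r) (T.e k b)))

def b3 (i k r : ℕ) : Bool :=
  force (T.w i r) fun a1 => force (T.w k a1) fun a2 => force (T.w i a2) fun a3 =>
  force (T.w k r) fun c1 => force (T.w i c1) fun c2 => force (T.w k c2) fun c3 =>
    and (Nat.beq a3 c3)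
      (par (Nat.add (Nat.add (T.e i r) (T.e k a1)) (T.e i a2))
        (Nat.add (Nat.add (T.e k r) (T.e i c1)) (T.e k c2)))

def b4 (i k r : ℕ) : Bool :=
  force (T.w i r) fun a1 => force (T.w k a1) fun a2 => force (T.w i a2) fun a3 => force (T.w k a3) fun a4 =>
  force (T.w k r) fun c1 => force (T.w i c1) fun c2 => force (T.w k c2) fun c3 => force (T.w i c3) fun c4 =>
    and (Nat.beq a4 c4)
      (par (Nat.add (Nat.add (Nat.add (T.e i r) (T.e k a1)) (T.e i a2)) (T.e k a3))
        (Nat.add (Nat.add (Nat.add (T.e k r) (T.e i c1)) (T.e k c2)) (T.e i c3)))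

/-- braid relations -/
def chkBraid : Bool := allLt T.l fun i => allLt T.l fun k => or (Nat.beq i k) <|
  force (T.sim i) fun si => force (T.sim k) fun sk =>
  force (T.m i k) fun m => cond (Nat.beq m 2)
    (and (allLt T.n fun r => T.b2 i k r) (and (Nat.beq (T.w i sk) sk) (par (T.e i sk) 0))) <|
  cond (Nat.beq m 3)
    (and (allLt T.n fun r => T.b3 i k r)
      (force (T.w k si) fun a => and (Nat.beq (T.w i a) sk) (par (Nat.add (T.e i a) (T.e k si)) 0))) <|
  cond (Nat.beq m 4)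
    (and (allLt T.n fun r => T.b4 i k r)
      (force (T.w i sk) fun a => force (T.w k a) fun b => and (Nat.beq (T.w i b) sk)
        (par (Nat.add (Nat.add (T.e i b) (T.e k a)) (T.e i sk)) 0))) false

/-- descent at `r` -/
def chkDesc1 (r : ℕ) : Bool :=
  or (anyLt T.l fun j => or (Nat.beq r (T.sim j)) (Nat.beq r (T.ng (T.sim j)))) <|
  force (T.ds r) fun i => force (T.w i r) fun r1 => force (T.mu r) fun mr => force (T.code r) fun c =>
    and (Nat.blt i T.l) <| and (Nat.blt (T.mu r1) mr) <|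
    and (or (anyLt T.l fun j => T.sup c i j) (allLt T.l fun a => allLt T.l fun b => not (T.sup c a b))) <|
    allLt T.l fun k => or (Nat.beq k i) <| force (T.w k r) fun s1 =>
      or (Nat.blt mr (T.mu s1)) <| or (T.sup c i k) <| and (or (Nat.beq s1 r) (Nat.blt (T.mu s1) mr)) <|
      force (T.m i k) fun m =>
        and (or (not (Nat.beq m 2)) (Nat.blt (T.mu (T.w k r1)) mr)) <|
        and (or (not (Nat.beq m 3)) (force (T.w k r1) fun r2 => force (T.w i r2) fun r3 =>
          force (T.w i s1) fun s2 => and (Nat.blt (T.mu r2) mr) (and (Nat.blt (T.mu r3) mr)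
            (Nat.blt (T.mu s2) mr)))) <|
        (or (not (Nat.beq m 4)) (force (T.w k r1) fun r2 => force (T.w i r2) fun r3 => force (T.w k r3) fun r4 =>
          force (T.w i s1) fun s2 => force (T.w k s2) fun s3 => and (Nat.blt (T.mu r2) mr)
            (and (Nat.blt (T.mu r3) mr) (and (Nat.blt (T.mu r4) mr)
              (and (Nat.blt (T.mu s2) mr) (Nat.blt (T.mu s3) mr))))))

def chkDesc : Bool := allLt T.n fun r => T.chkDesc1 r

/-- commutator terms from chain entries (chains of length at most two) -/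
def ctL (a b : List (ℕ × ℤ)) : Terms :=
  (match a with
    | [] => []
    | [x] => [(x.1, x.2, 1, 1)]
    | x :: y :: _ => [(x.1, x.2, 1, 1), (y.1, y.2, 2, 1)]) ++
  (match b with
    | _ :: z :: _ => [(z.1, z.2, 1, 2)]
    | _ => [])

/-- fast commutator terms -/
def ct (r s : ℕ) : Terms := ctL (ce T.P r s) (ce T.P s r)

def np (r s : ℕ) : Bool := and (not (Nat.beq s r)) (not (Nat.beq s (T.ng r)))

/-- is the term list `[(r, c, 1, 1)]`? then continue with `c` -/
def is1 (L : Terms) (r : ℕ) (f : ℤ → Bool) : Bool :=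
  match L with
  | [(q, c, 1, 1)] => and (Nat.beq q r) (f c)
  | _ => false

/-- is the term list `[(r, c, 1, 1), (s, d, i, j)]`? -/
def is2 (L : Terms) (r s i j : ℕ) (f : ℤ → ℤ → Bool) : Bool :=
  match L with
  | [(q, c, 1, 1), (q', d, i', j')] => and (Nat.beq q r) (and (Nat.beq q' s) (and (Nat.beq i i') (and (Nat.beq j j') (f c d))))
  | _ => false

def is0 (L : Terms) : Bool := L.isEmpty

def ieq (a b : ℤ) : Bool := decide (a = b)

/-- the string check at the pair `(p, r)`, `q, e` being the expected image -/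
def chkStr1 (p p' r q : ℕ) (e : ℤ) : Bool :=
  match T.ct p r, T.ct p' r with
  | [], [] => and (Nat.beq q r) (ieq e 1)
  | [(q₁, c, 1, 1)], [] =>
    and (Nat.beq q q₁) <| and (ieq e c) <| and (is1 (T.ct p' q) r fun c' => ieq (c * c') 1) <|
    and (is0 (T.ct p q)) <| and (is0 (T.ct r q)) <| and (T.np p q) <| and (T.np p' q) (T.np r q)
  | [], [(q₁, c, 1, 1)] =>
    and (Nat.beq q q₁) <| and (ieq e (-c)) <| and (is1 (T.ct p q) r fun c' => ieq (c * c') 1) <|
    and (is0 (T.ct r q)) <| and (T.np p q) (T.np r q)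
  | [(q₁, c, 1, 1)], [(m, c', 1, 1)] =>
    and (Nat.beq q r) <| and (ieq e (-1)) <|
    and (is2 (T.ct p' q₁) r m 2 1 fun d e => and (ieq (d * c) 2) (ieq (e * c) c')) <|
    and (is0 (T.ct p q₁)) <| and (is0 (T.ct r q₁)) <| and (is0 (T.ct r m)) <| and (is0 (T.ct m q₁)) <|
    and (T.np p q₁) <| and (T.np p' q₁) <| and (T.np r q₁) <| and (T.np r m) (T.np m q₁)
  | [(q₁, c, 1, 1), (m, e₁, 2, 1)], [] =>
    and (Nat.beq q m) <| and (ieq e e₁) <|
    and (is1 (T.ct p' q₁) r fun d => is2 (T.ct p' m) q₁ r 2 1 fun c' e' =>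
      and (ieq (1 - d * c + e' * e₁) 0) (ieq c (c' * e₁))) <|
    and (is0 (T.ct p m)) <| and (is0 (T.ct r q₁)) <| and (is0 (T.ct r m)) <| and (is0 (T.ct m q₁)) <|
    and (T.np p' q₁) <| and (T.np p' m) <| and (T.np p m) <| and (T.np r q₁) <| and (T.np r m) (T.np m q₁)
  | [], [(q₁, c, 1, 1), (m, e₁, 2, 1)] =>
    and (Nat.beq q m) <| and (ieq e e₁) <|
    and (is1 (T.ct p q₁) r fun d => is2 (T.ct p m) q₁ r 2 1 fun c' e' =>
      and (ieq (1 - d * c + e' * e₁) 0) (ieq c (c' * e₁))) <|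
    and (is0 (T.ct r q₁)) <| and (is0 (T.ct r m)) <| and (is0 (T.ct m q₁)) <|
    and (T.np p q₁) <| and (T.np p m) <| and (T.np r q₁) <| and (T.np r m) (T.np m q₁)
  | [(q₁, c, 1, 1), (m, e₁, 1, 2)], [] =>
    and (Nat.beq q q₁) <| and (ieq e c) <|
    and (is2 (T.ct p' q₁) r m 1 2 fun c' e' => is1 (T.ct r q₁) m fun c'' =>
      and (ieq (c * c') 1) (ieq (e₁ - e' * c * c + c'' * c) 0)) <|
    and (is0 (T.ct p' m)) <| and (is0 (T.ct p q₁)) <| and (is0 (T.ct p m)) <| and (is0 (T.ct r m)) <|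
    and (T.np p' q₁) <| and (T.np p' m) <| and (T.np p q₁) <| and (T.np p m) <| and (T.np r q₁) (T.np r m)
  | [], [(q₁, c, 1, 1), (m, e₁, 1, 2)] =>
    and (Nat.beq q q₁) <| and (ieq e (-c)) <|
    and (is2 (T.ct p q₁) r m 1 2 fun c' e' => is1 (T.ct r q₁) m fun c'' =>
      and (ieq (c * c') 1) (ieq (e' * c * c - e₁ - c'' * c) 0)) <|
    and (is0 (T.ct p m)) <|
    and (T.np p q₁) <| and (T.np p m) (T.np r q₁)
  | _, _ => false

/-- string checks for the fundamental root `k` -/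
def chkStr (k : ℕ) : Bool :=
  force (T.sim k) fun p => force (T.ng p) fun p' => allLt T.n fun r =>
    or (not (T.np p r)) (force (T.w k r) fun q => T.chkStr1 p p' r q (sg (T.e k r)))

/-- decomposition of `P = ± p_k` -/
def chkDec1 (k j a P : ℕ) : Bool :=
  force (T.w j P) fun b => force (T.sim k) fun p => force (T.w k a) fun a' => force (T.w k b) fun b' =>
  force (T.w k P) fun P' =>
    and (T.sup (T.code a) k j) <| and (T.sup (T.code b) k j) <| and (Nat.blt a T.n) <| and (Nat.blt b T.n) <|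
    and (T.np p a) <| and (T.np p b) <| and (T.np a b) <| and (T.np a' b') <|
    is1 (T.ct a b) P fun c => is1 (T.ct a' b') P' fun c₂ =>
      and (ieq (c * c) 1) (ieq (c₂ * sg (T.e k a) * sg (T.e k b)) (-c))

def chkDec : Bool := allLt T.l fun k => force (byte T.AD k) fun j => and (Nat.blt j T.l) <|
  force (T.sim j) fun sj => force (T.sim k) fun sk =>
  and (T.chkDec1 k j (T.ng sj) sk) (T.chkDec1 k j sj (T.ng sk))

def chkSim : Bool := allLt T.l fun k => Nat.blt (T.sim k) T.n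

end Raw

/-- The hypotheses connecting the raw data with the datum. -/
structure Link (D : ChevalleyDatum) (T : Raw) : Prop where
  hn : D.nroots = T.n
  hl : D.rank = T.l
  hPT : RootVecTab.packTab D = T.PT
  checked : RootVecTab.Checked D
  short : CommOrbit.shortOK D = true
  facts : ∀ i < D.rank, NSimple.Facts D i
  compat : ∀ i < D.rank, FastFinal.ReflCompat D i
  etaW : ∀ i < D.rank, ∀ s < D.nroots, D.reflectRoot i s = T.w i s ∧ NSimple.eta D i s = sg (T.e i s)
  rows : FastBase.rowsCheck T.P D.nroots D.chain.toList 0 = true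
  hS : ∀ i < D.rank, D.simple i = T.sim i
  pair : PairReduction.PairRed D

section

variable {D : ChevalleyDatum} {T : Raw} (L : Link D T)

include L

theorem Link.neg_eq {r : ℕ} (hr : r < D.nroots) : D.neg r = T.ng r := by
  rw [RootVec.neg_eq L.checked hr, L.hn]; rfl

theorem Link.neg_lt {r : ℕ} (hr : r < D.nroots) : D.neg r < D.nroots := RootVec.neg_lt L.checked hr

theorem Link.sim_lt {k : ℕ} (hk : k < D.rank) : D.simple k < D.nroots := RootVec.simple_lt L.checked hk

theorem Link.code_eq (r : ℕ) : RootVecTab.code D r = T.code r := by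
  show Nat.mod (Nat.shiftRight (RootVecTab.packTab D) (6 * D.rank * r)) (2 ^ (6 * D.rank)) = _
  rw [L.hPT, L.hl]; rfl

theorem Link.sup_iff {r i j : ℕ} (hr : r < D.nroots) : T.sup (T.code r) i j = true ↔
    ∀ k < D.rank, k ≠ i → k ≠ j → (D.coroot.getD r #[]).getD k 0 = 0 := by
  have key : ∀ k < D.rank, ((D.coroot.getD r #[]).getD k 0 = 0 ↔
      dig (T.code r) (T.l - 1 - k) = 8) := by
    intro k hk
    have h1 := RootVec.co_eq_zero_iff L.checked hr hk
    rw [RootVec.co_def, RootVec.rt_of_lt hr hk, L.code_eq, L.hl] at h1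
    rw [h1]
    omega
  unfold Raw.sup
  rw [allLt_iff, ← L.hl]
  constructor
  · intro h k hk h1 h2
    have := h k hk
    rw [Bool.or_eq_true, Bool.or_eq_true] at this
    rcases this with h3 | h3 | h3
    · exact absurd (Nat.eq_of_beq_eq_true h3) h1
    · exact absurd (Nat.eq_of_beq_eq_true h3) h2
    · rw [key k hk]
      have := Nat.eq_of_beq_eq_true h3
      rw [L.hl] at this
      exact this
  · intro h k hk
    rw [Bool.or_eq_true, Bool.or_eq_true]
    by_cases h1 : k = i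
    · left; rw [h1]; exact Nat.beq_refl i
    by_cases h2 : k = j
    · right; left; rw [h2]; exact Nat.beq_refl j
    right; right
    have := (key k hk).1 (h k hk h1 h2)
    have e : dig (T.code r) (Nat.sub (Nat.sub D.rank 1) k) = 8 := by
      rw [L.hl]; exact this
    rw [e]
    rfl

theorem Link.sub_iff {r i j : ℕ} (hr : r < D.nroots) (hi : i < D.rank) (hj : j < D.rank) :
    T.sup (T.code r) i j = true ↔ D.InRankTwoSub i j r := by
  rw [L.sup_iff hr]
  exact ⟨fun h => ⟨hr, hi, hj, h⟩, fun h => h.2.2.2⟩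

theorem Link.sub_rt {r i j : ℕ} : D.InRankTwoSub i j r ↔
    r < D.nroots ∧ i < D.rank ∧ j < D.rank ∧ ∀ k < D.rank, k ≠ i → k ≠ j → RootVec.rt D r k = 0 := by
  constructor
  · rintro ⟨hr, hi, hj, h⟩
    exact ⟨hr, hi, hj, fun k hk h1 h2 => (RootVec.co_eq_zero_iff L.checked hr hk).1 (h k hk h1 h2)⟩
  · rintro ⟨hr, hi, hj, h⟩
    exact ⟨hr, hi, hj, fun k hk h1 h2 => (RootVec.co_eq_zero_iff L.checked hr hk).2 (h k hk h1 h2)⟩

theorem Link.st_symm {r i j : ℕ} (h : D.InRankTwoSub i j r) : D.InRankTwoSub j i r :=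
  ⟨h.1, h.2.2.1, h.2.1, fun k hk h1 h2 => h.2.2.2 k hk h2 h1⟩

theorem Link.st_rf {r i j : ℕ} (hi : i < D.rank) (hr : r < D.nroots) (h : D.InRankTwoSub i j r) :
    D.InRankTwoSub i j (D.reflectRoot i r) := by
  rw [L.sub_rt] at h ⊢
  obtain ⟨h1, h2⟩ := RootVec.reflectRoot_rt L.checked hi hr
  refine ⟨h1, h.2.1, h.2.2.1, fun k hk hki hkj => ?_⟩
  rw [h2, h.2.2.2 k hk hki hkj, if_neg hki, mul_zero, sub_zero]

theorem Link.st_neg {r i j : ℕ} (h : D.InRankTwoSub i j r) : D.InRankTwoSub i j (D.neg r) := by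
  have hr := h.1
  rw [L.sub_rt] at h ⊢
  refine ⟨L.neg_lt hr, h.2.1, h.2.2.1, fun k hk hki hkj => ?_⟩
  rw [RootVec.rt_neg L.checked hr, h.2.2.2 k hk hki hkj, neg_zero]

theorem Link.st_sim {i j : ℕ} (hi : i < D.rank) (hj : j < D.rank) : D.InRankTwoSub i j (D.simple i) := by
  rw [L.sub_rt]
  refine ⟨L.sim_lt hi, hi, hj, fun k hk hki hkj => ?_⟩
  rw [RootVec.rt_simple L.checked hi, if_neg hki]

theorem Link.st_clos {r s i j : ℕ} (hr : D.InRankTwoSub i j r) (hs : D.InRankTwoSub i j s) :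
    ∀ c ∈ D.commTerms r s, D.InRankTwoSub i j c.1 := by
  rintro ⟨u, C, a, b⟩ hc
  obtain ⟨h1, -, -, -, -, h2⟩ := RootVec.commTerms_rt L.checked hc
  rw [L.sub_rt] at hr hs ⊢
  refine ⟨h1, hr.2.1, hr.2.2.1, fun k hk hki hkj => ?_⟩
  rw [h2, hr.2.2.2 k hk hki hkj, hs.2.2.2 k hk hki hkj, mul_zero, mul_zero, add_zero]

theorem Link.comm_lt {r s : ℕ} : ∀ c ∈ D.commTerms r s, c.1 < D.nroots := by
  rintro ⟨u, C, a, b⟩ hc
  exact (RootVec.commTerms_rt L.checked hc).1

theorem Link.comm_eq {r s : ℕ} (hr : r < D.nroots) (hs : s < D.nroots) : D.commTerms r s = T.ct r s := by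
  rw [CommTransport.commTerms_eq (CommOrbit.noLong_of_shortOK L.short r s) (CommOrbit.noLong_of_shortOK L.short s r)]
  show ([ (((D.chainEntry r s)[0]?).map Prod.fst, (((D.chainEntry r s)[0]?).map Prod.snd).getD 0, 1, 1),
    (((D.chainEntry r s)[1]?).map Prod.fst, (((D.chainEntry r s)[1]?).map Prod.snd).getD 0, 2, 1),
    (((D.chainEntry s r)[1]?).map Prod.fst, (((D.chainEntry s r)[1]?).map Prod.snd).getD 0, 1, 2) ] :
    List (Option ℕ × ℤ × ℕ × ℕ)).filterMap (fun c => c.1.map fun k => (k, c.2)) = T.ct r s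
  unfold Raw.ct
  rw [FastBase.chainEntry_eq D T.P L.rows hr hs, FastBase.chainEntry_eq D T.P L.rows hs hr]
  generalize ce T.P r s = a
  generalize ce T.P s r = b
  match a, b with
  | [], [] => rfl
  | [], [_] => rfl
  | [], _ :: _ :: _ => rfl
  | [_], [] => rfl
  | [_], [_] => rfl
  | [_], _ :: _ :: _ => rfl
  | _ :: _ :: _, [] => rfl
  | _ :: _ :: _, [_] => rfl
  | _ :: _ :: _, _ :: _ :: _ => rfl

theorem Link.np {r s : ℕ} (hr : r < D.nroots) (h : T.np r s = true) : NP D r s := by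
  unfold Raw.np at h
  rw [Bool.and_eq_true, Bool.not_eq_true', Bool.not_eq_true'] at h
  refine ⟨Nat.ne_of_beq_eq_false h.1, ?_⟩
  rw [L.neg_eq hr]
  exact Nat.ne_of_beq_eq_false h.2

theorem Link.np_of {r s : ℕ} (hr : r < D.nroots) (h : NP D r s) : T.np r s = true := by
  unfold Raw.np
  rw [Bool.and_eq_true, Bool.not_eq_true', Bool.not_eq_true', ← L.neg_eq hr]
  exact ⟨Bool.eq_false_iff.2 fun e => h.1 (Nat.eq_of_beq_eq_true e),
    Bool.eq_false_iff.2 fun e => h.2 (Nat.eq_of_beq_eq_true e)⟩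

end

theorem is0_spec {l : Terms} (h : Raw.is0 l = true) : l = [] := List.isEmpty_iff.1 h

theorem is1_spec {l : Terms} {r : ℕ} {f : ℤ → Bool} (h : Raw.is1 l r f = true) :
    ∃ c, l = [(r, c, 1, 1)] ∧ f c = true := by
  unfold Raw.is1 at h
  split at h
  · rename_i q c
    rw [Bool.and_eq_true] at h
    exact ⟨c, by rw [Nat.eq_of_beq_eq_true h.1], h.2⟩
  · exact absurd h Bool.false_ne_true

theorem is2_spec {l : Terms} {r s i j : ℕ} {f : ℤ → ℤ → Bool} (h : Raw.is2 l r s i j f = true) :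
    ∃ c d, l = [(r, c, 1, 1), (s, d, i, j)] ∧ f c d = true := by
  unfold Raw.is2 at h
  split at h
  · rename_i q c q' d i' j'
    simp only [Bool.and_eq_true] at h
    obtain ⟨h1, h2, h3, h4, h5⟩ := h
    exact ⟨c, d, by rw [Nat.eq_of_beq_eq_true h1, Nat.eq_of_beq_eq_true h2, Nat.eq_of_beq_eq_true h3,
      Nat.eq_of_beq_eq_true h4], h5⟩
  · exact absurd h Bool.false_ne_true

theorem ieq_spec {a b : ℤ} (h : Raw.ieq a b = true) : a = b := of_decide_eq_true h

theorem par_spec {a b : ℕ} (h : Raw.par a b = true) : sg a = sg b := by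
  have := Nat.eq_of_beq_eq_true h
  unfold sg
  rw [this]

theorem sg_add (a b : ℕ) : sg (Nat.add a b) = sg a * sg b := by
  rw [sg_eq, sg_eq, sg_eq]
  exact pow_add _ _ _

section

variable {D : ChevalleyDatum} {T : Raw} (L : Link D T)

include L

theorem Link.string1 {p p' r q : ℕ} {e : ℤ} (hp : p < D.nroots) (hp' : p' < D.nroots) (hr : r < D.nroots)
    (h : T.chkStr1 p p' r q e = true) : StringOK D p p' r q e := by
  have e1 := L.comm_eq hp hr
  have e2 := L.comm_eq hp' hr
  have lt1 : ∀ c ∈ T.ct p r, c.1 < D.nroots := by rw [← e1]; exact L.comm_lt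
  have lt2 : ∀ c ∈ T.ct p' r, c.1 < D.nroots := by rw [← e2]; exact L.comm_lt
  unfold Raw.chkStr1 at h
  split at h
  · rename_i h1 h2
    rw [Bool.and_eq_true] at h
    rw [Nat.eq_of_beq_eq_true h.1, ieq_spec h.2]
    exact StringOK.zero (e1.trans h1) (e2.trans h2)
  · rename_i q₁ c h1 h2
    simp only [Bool.and_eq_true] at h
    obtain ⟨a1, a2, a3, a4, a5, a6, a7, a8⟩ := h
    have hq : q₁ < D.nroots := lt1 _ (by rw [h1]; exact List.mem_singleton_self _)
    have := Nat.eq_of_beq_eq_true a1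
    subst this
    have := ieq_spec a2
    subst this
    obtain ⟨c', b1, b2⟩ := is1_spec a3
    rw [← L.comm_eq hp' hq] at b1
    exact StringOK.up1 q e c' (e1.trans h1) (e2.trans h2) b1 ((L.comm_eq hp hq).trans (is0_spec a4))
      ((L.comm_eq hr hq).trans (is0_spec a5)) (ieq_spec b2) (L.np hp a6) (L.np hp' a7) (L.np hr a8)
  · rename_i q₁ c h1 h2
    simp only [Bool.and_eq_true] at h
    obtain ⟨a1, a2, a3, a5, a6, a8⟩ := h
    have hq : q₁ < D.nroots := lt2 _ (by rw [h2]; exact List.mem_singleton_self _)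
    have := Nat.eq_of_beq_eq_true a1
    subst this
    have := ieq_spec a2
    subst this
    obtain ⟨c', b1, b2⟩ := is1_spec a3
    rw [← L.comm_eq hp hq] at b1
    exact StringOK.down1 q c c' (e1.trans h1) (e2.trans h2) b1
      ((L.comm_eq hr hq).trans (is0_spec a5)) (ieq_spec b2) (L.np hp a6) (L.np hr a8)
  · rename_i q₁ c m c' h1 h2
    simp only [Bool.and_eq_true] at h
    obtain ⟨a1, a2, a3, a4, a5, a6, a7, a8, a9, a10, a11, a12⟩ := h
    have hq : q₁ < D.nroots := lt1 _ (by rw [h1]; exact List.mem_singleton_self _)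
    have hm : m < D.nroots := lt2 _ (by rw [h2]; exact List.mem_singleton_self _)
    rw [Nat.eq_of_beq_eq_true a1, ieq_spec a2]
    obtain ⟨d, e₁, b1, b2⟩ := is2_spec a3
    simp only [Bool.and_eq_true] at b2
    rw [← L.comm_eq hp' hq] at b1
    exact StringOK.mid q₁ m c c' d e₁ (e1.trans h1) (e2.trans h2) b1 ((L.comm_eq hp hq).trans (is0_spec a4))
      ((L.comm_eq hr hq).trans (is0_spec a5)) ((L.comm_eq hr hm).trans (is0_spec a6))
      ((L.comm_eq hm hq).trans (is0_spec a7)) (ieq_spec b2.1) (ieq_spec b2.2)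
      (L.np hp a8) (L.np hp' a9) (L.np hr a10) (L.np hr a11) (L.np hm a12)
  · rename_i q₁ c m e₁ h1 h2
    simp only [Bool.and_eq_true] at h
    obtain ⟨a1, a2, a3, a4, a5, a6, a7, a8, a9, a10, a11, a12, a13⟩ := h
    have hq : q₁ < D.nroots := lt1 _ (by rw [h1]; exact List.mem_cons_self)
    have hm : m < D.nroots := lt1 _ (by rw [h1]; exact List.mem_cons_of_mem _ (List.mem_singleton_self _))
    have := Nat.eq_of_beq_eq_true a1
    subst this
    have := ieq_spec a2
    subst this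
    obtain ⟨d, b1, b2⟩ := is1_spec a3
    obtain ⟨c', e', b3, b4⟩ := is2_spec b2
    simp only [Bool.and_eq_true] at b4
    rw [← L.comm_eq hp' hq] at b1
    rw [← L.comm_eq hp' hm] at b3
    exact StringOK.up2 q₁ q c e d c' e' (e1.trans h1) (e2.trans h2) b1 b3
      ((L.comm_eq hp hm).trans (is0_spec a4)) ((L.comm_eq hr hq).trans (is0_spec a5))
      ((L.comm_eq hr hm).trans (is0_spec a6)) ((L.comm_eq hm hq).trans (is0_spec a7)) (ieq_spec b4.1)
      (ieq_spec b4.2) (L.np hp' a8) (L.np hp' a9) (L.np hp a10) (L.np hr a11) (L.np hr a12) (L.np hm a13)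
  · rename_i q₁ c m e₁ h1 h2
    simp only [Bool.and_eq_true] at h
    obtain ⟨a1, a2, a3, a5, a6, a7, a8, a9, a11, a12, a13⟩ := h
    have hq : q₁ < D.nroots := lt2 _ (by rw [h2]; exact List.mem_cons_self)
    have hm : m < D.nroots := lt2 _ (by rw [h2]; exact List.mem_cons_of_mem _ (List.mem_singleton_self _))
    have := Nat.eq_of_beq_eq_true a1
    subst this
    have := ieq_spec a2
    subst this
    obtain ⟨d, b1, b2⟩ := is1_spec a3
    obtain ⟨c', e', b3, b4⟩ := is2_spec b2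
    simp only [Bool.and_eq_true] at b4
    rw [← L.comm_eq hp hq] at b1
    rw [← L.comm_eq hp hm] at b3
    exact StringOK.down2 q₁ q c e d c' e' (e2.trans h2) (e1.trans h1) b1 b3
      ((L.comm_eq hr hq).trans (is0_spec a5))
      ((L.comm_eq hr hm).trans (is0_spec a6)) ((L.comm_eq hm hq).trans (is0_spec a7)) (ieq_spec b4.1)
      (ieq_spec b4.2) (L.np hp a8) (L.np hp a9) (L.np hr a11) (L.np hr a12) (L.np hm a13)
  · rename_i q₁ c m e₁ h1 h2
    simp only [Bool.and_eq_true] at h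
    obtain ⟨a1, a2, a3, a4, a5, a6, a7, a8, a9, a10, a11, a12, a13⟩ := h
    have hq : q₁ < D.nroots := lt1 _ (by rw [h1]; exact List.mem_cons_self)
    have hm : m < D.nroots := lt1 _ (by rw [h1]; exact List.mem_cons_of_mem _ (List.mem_singleton_self _))
    have := Nat.eq_of_beq_eq_true a1
    subst this
    have := ieq_spec a2
    subst this
    obtain ⟨c', e', b1, b2⟩ := is2_spec a3
    obtain ⟨c'', b3, b4⟩ := is1_spec b2
    simp only [Bool.and_eq_true] at b4
    rw [← L.comm_eq hp' hq] at b1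
    rw [← L.comm_eq hr hq] at b3
    exact StringOK.upS q m e e₁ c' e' c'' (e1.trans h1) (e2.trans h2) b1
      ((L.comm_eq hp' hm).trans (is0_spec a4)) ((L.comm_eq hp hq).trans (is0_spec a5))
      ((L.comm_eq hp hm).trans (is0_spec a6)) b3 ((L.comm_eq hr hm).trans (is0_spec a7)) (ieq_spec b4.1)
      (ieq_spec b4.2) (L.np hp' a8) (L.np hp' a9) (L.np hp a10) (L.np hp a11) (L.np hr a12) (L.np hr a13)
  · rename_i q₁ c m e₁ h1 h2
    simp only [Bool.and_eq_true] at h
    obtain ⟨a1, a2, a3, a4, a8, a9, a12⟩ := h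
    have hq : q₁ < D.nroots := lt2 _ (by rw [h2]; exact List.mem_cons_self)
    have hm : m < D.nroots := lt2 _ (by rw [h2]; exact List.mem_cons_of_mem _ (List.mem_singleton_self _))
    have := Nat.eq_of_beq_eq_true a1
    subst this
    have := ieq_spec a2
    subst this
    obtain ⟨c', e', b1, b2⟩ := is2_spec a3
    obtain ⟨c'', b3, b4⟩ := is1_spec b2
    simp only [Bool.and_eq_true] at b4
    rw [← L.comm_eq hp hq] at b1
    rw [← L.comm_eq hr hq] at b3
    exact StringOK.downS q m c e₁ c' e' c'' (e2.trans h2) (e1.trans h1) b1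
      ((L.comm_eq hp hm).trans (is0_spec a4)) b3 (ieq_spec b4.1)
      (ieq_spec b4.2) (L.np hp a8) (L.np hp a9) (L.np hr a12)
  · exact absurd h Bool.false_ne_true

end

end Cfsg.Agent.LieRecognition.CTTab
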