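import Cfsg.Agent.ChevalleyStructure.DepthCert
import Cfsg.Agent.ChevalleyStructure.NSimpleAll

/-!
Table checks for the rank-two subsystems spanned by two fundamental roots (types D4, F4, E6, E7, E8): the shape of the
`±p_k`-strings and the signs in the conjugation by `n_{p_k}`.
-/

set_option autoImplicit false

namespace Cfsg.Agent.LieRecognition.CTTables

open Cfsg.Lie Cfsg.Agent.ChevalleyStructure.NSimple
open Cfsg.Agent.ChevalleyStructure.DepthCert

variable (D : ChevalleyDatum) (B k j : ℕ)

/-- the commutator relation for the pair `r, s` inside `Φ_{kj}` -/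
def ok (r s : ℕ) (L : List (ℕ × ℤ × ℕ × ℕ)) : Bool :=
  in2 B k j r && in2 B k j s && Nat.blt r D.nroots && Nat.blt s D.nroots && !(Nat.beq s r) &&
    !(Nat.beq s (D.neg r)) && decide (D.commTerms r s = L)

/-- two-element string -/
def chkA (p np s q : ℕ) (c : ℤ) : Bool :=
  ok D B k j p s [(q, c, 1, 1)] && ok D B k j p q [] && ok D B k j np s [] &&
    ok D B k j np q [(s, c, 1, 1)] && ok D B k j s q [] && decide (c * c = 1)

/-- three-element string -/
def chkB (p np s m q : ℕ) (c1 c2 c3 d1 d2 d3 : ℤ) : Bool :=
  ok D B k j p s [(m, c1, 1, 1), (q, c2, 2, 1)] && ok D B k j p m [(q, c3, 1, 1)] && ok D B k j p q [] &&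
    ok D B k j np q [(m, d1, 1, 1), (s, d2, 2, 1)] && ok D B k j np m [(s, d3, 1, 1)] && ok D B k j np s [] &&
    ok D B k j s m [] && ok D B k j s q [] && ok D B k j m q [] &&
    decide (c1 * d3 = 2) && decide (c1 = c2 * d1) && decide (d3 = d2 * c3) && decide (d1 * c3 = 2) &&
    decide (d1 = d2 * c1) && decide (c2 * d2 = 1)

/-- two-element string whose sum is a root -/
def chkC (p np s m q : ℕ) (c1 c2 d2 e : ℤ) : Bool :=
  ok D B k j p s [(m, c1, 1, 1), (q, c2, 1, 2)] && ok D B k j p m [] && ok D B k j p q [] &&
    ok D B k j np m [(s, c1, 1, 1), (q, d2, 1, 2)] && ok D B k j np s [] && ok D B k j np q [] &&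
    ok D B k j s m [(q, e, 1, 1)] && ok D B k j s q [] && ok D B k j m q [] &&
    decide (c1 * c1 = 1) && decide (e * c1 + c2 - d2 = 0)

/-- constants of the string -/
def chkB' (p np s m q : ℕ) : Bool :=
  chkB D B k j p np s m q (D.chainM p s 1) (D.chainM p s 2) (D.chainM p m 1) (D.chainM np q 1) (D.chainM np q 2)
    (D.chainM np m 1)

def chkC' (p np s m q : ℕ) : Bool :=
  chkC D B k j p np s m q (D.chainM p s 1) (D.chainM s p 2) (D.chainM m np 2) (D.chainM s m 1)

def rs (s q : ℕ) (c z : ℤ) : Bool :=
  Nat.beq (D.reflectRoot k s) q && decide (eta D k s = c) && decide (D.cartan k s = z)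

/-- the shape of the string through `s` -/
def shape (p np s : ℕ) : Bool :=
  (ok D B k j p s [] && ok D B k j np s [] && rs D k s s 1 0) ||
  ((D.commTerms p s).any fun x => chkA D B k j p np s x.1 x.2.1 && rs D k s x.1 x.2.1 (-1)) ||
  ((D.commTerms np s).any fun x => chkA D B k j p np x.1 s x.2.1 && rs D k s x.1 (-x.2.1) 1) ||
  ((D.commTerms p s).any fun x => (D.commTerms p s).any fun y => chkB' D B k j p np s x.1 y.1 &&
    rs D k s y.1 (D.chainM p s 2) (-2)) ||
  ((D.commTerms p s).any fun y => (D.commTerms np s).any fun x => chkB' D B k j p np x.1 s y.1 &&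
    rs D k s s (-1) 0) ||
  ((D.commTerms np s).any fun x => (D.commTerms np s).any fun y => chkB' D B k j p np y.1 x.1 s &&
    rs D k s y.1 (D.chainM np s 2) 2) ||
  ((D.commTerms p s).any fun x => (D.commTerms p s).any fun y => chkC' D B k j p np s x.1 y.1 &&
    rs D k s x.1 (D.chainM p s 1) (-1)) ||
  ((D.commTerms np s).any fun x => (D.commTerms np s).any fun y => chkC' D B k j p np x.1 s y.1 &&
    rs D k s x.1 (-(D.chainM p x.1 1)) 1)

/-- all strings in `Φ_{kj}` -/
def strings (k : ℕ) : Bool :=
  let p := D.simple k
  let np := D.neg p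
  (List.range D.rank).all fun j => Nat.beq k j ||
    (List.range D.nroots).all fun s => !(in2 B k j s) || Nat.beq s p || Nat.beq s np || shape D B k j p np s

/-- the fundamental roots and the closure properties of `Φ_{kj}` -/
def basicOK (k : ℕ) : Bool :=
  let p := D.simple k
  let np := D.neg p
  Nat.blt p D.nroots && Nat.blt np D.nroots && Nat.beq (D.neg np) p && !(Nat.beq np p) &&
  decide (D.cartan k p = 2) && decide (D.cartan k np = -2) &&
  (List.range D.nroots).all (fun s => !(in2 B k k s) || Nat.beq s p || Nat.beq s np) &&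
  (List.range D.rank).all fun j => in2 B k j p && in2 B k j np &&
    (List.range D.nroots).all fun s => !(in2 B k j s) ||
      (let q := D.reflectRoot k s
       in2 B k j q && Nat.blt q D.nroots && Nat.beq (D.reflectRoot k q) s && decide (eta D k s * eta D k s = 1) &&
         decide (D.cartan k q = -D.cartan k s))

/-- an adjacent fundamental root of the same length -/
def a2OK (k : ℕ) : Bool :=
  let p := D.simple k
  let np := D.neg p
  (List.range D.rank).any fun j =>
    !(Nat.beq k j) &&
    (let r := D.simple j
     let q := D.reflectRoot k r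
     let nr := D.neg r
     let nq := D.neg q
     let c := D.chainM nr q 1
     let d := D.chainM nq r 1
     decide (c * c = 1) && decide (d * d = 1) &&
     ok D B k j nr q [(p, c, 1, 1)] && ok D B k j nq r [(np, d, 1, 1)] &&
     rs D k q r (eta D k q) 1 && rs D k nr nq (eta D k nr) 1 && rs D k r q (eta D k r) (-1) &&
     rs D k nq nr (eta D k nq) (-1) &&
     decide (d * eta D k q * eta D k nr * c = -1) && decide (c * eta D k r * eta D k nq * d = -1))

/-- every root of `Φ_{ij}` is `±p_m` or a fundamental reflection of such a root -/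
def genOK (i : ℕ) : Bool :=
  (List.range D.rank).all fun j => (List.range D.nroots).all fun s => !(in2 B i j s) ||
    ([i, j].any fun m => Nat.beq s (D.simple m) || Nat.beq s (D.neg (D.simple m)) ||
      [i, j].any fun l => Nat.beq s (D.reflectRoot l (D.simple m)) ||
        Nat.beq s (D.reflectRoot l (D.neg (D.simple m))))

/-- the signs in the braid relations -/
def braidOK (i : ℕ) : Bool :=
  (List.range D.rank).all fun j =>
    Nat.beq i j ||
    (let pi := D.simple i
     let pj := D.simple j
     let ni := D.neg pi
     let nj := D.neg pj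
     let a := D.cartan i pj
     let b := D.cartan j pi
     (!(decide (a = 0)) || (rs D i pj pj 1 0 && rs D i nj nj 1 0)) &&
     (!(decide (a = -1) && decide (b = -1)) ||
       (Nat.beq (D.reflectRoot i (D.reflectRoot j pi)) pj && Nat.beq (D.reflectRoot i (D.reflectRoot j ni)) nj &&
         decide (eta D j pi * eta D i (D.reflectRoot j pi) = 1) &&
         decide (eta D j ni * eta D i (D.reflectRoot j ni) = 1))) &&
     (decide (a = 0) || (decide (a = -1) && decide (b = -1)) ||
       (Nat.beq (D.reflectRoot i (D.reflectRoot j (D.reflectRoot i pj))) pj &&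
         Nat.beq (D.reflectRoot i (D.reflectRoot j (D.reflectRoot i nj))) nj &&
         decide (eta D i pj * eta D j (D.reflectRoot i pj) * eta D i (D.reflectRoot j (D.reflectRoot i pj)) = 1) &&
         decide (eta D i nj * eta D j (D.reflectRoot i nj) * eta D i (D.reflectRoot j (D.reflectRoot i nj)) = 1))))

/-- the Cartan integers of the negatives -/
def cnOK (k : ℕ) : Bool :=
  (List.range D.rank).all fun j => decide (D.cartan k (D.neg (D.simple j)) = -D.cartan k (D.simple j))

def allOK (k : ℕ) : Bool :=
  basicOK D B k && a2OK D B k && genOK D B k && braidOK D k && strings D B k && cnOK D k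

set_option maxRecDepth 100000 in
theorem allD4 : ∀ k < 4, allOK chevD4 tbD4.B k = true := by decide +kernel
set_option maxRecDepth 100000 in
theorem allF4 : ∀ k < 4, allOK chevF4 tbF4.B k = true := by decide +kernel
set_option maxRecDepth 100000 in
theorem allE6 : ∀ k < 6, allOK chevE6 tbE6.B k = true := by decide +kernel
set_option maxRecDepth 100000 in
theorem allE7 : ∀ k < 7, allOK chevE7 tbE7.B k = true := by decide +kernel
set_option maxRecDepth 100000 in
theorem allE8 : ∀ k < 8, allOK chevE8 tbE8.B k = true := by decide +kernel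

end Cfsg.Agent.LieRecognition.CTTables
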