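import Cfsg.Agent.ChevalleyStructure.CommFormula
import Cfsg.Agent.ChevalleyStructure.FastReflAll
import Cfsg.Agent.ChevalleyStructure.NSimpleAll
import Cfsg.Agent.ChevalleyStructure.Reach

/-!
# Transport of Steinberg's relations under fundamental reflections in an arbitrary group

`Y r t` is a family of elements of a group `Γ`, `g` an element with `g Y_s(t) g⁻¹ = Y_{w_i s}(η t)` for all roots `s`,
`η = NSimple.eta D i s`. Then the commutator relation for `(r, s)` implies the one for `(w_i r, w_i s)` (types without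
long chains), and the multiplicativity of `h_r` implies that of `h_{w_i r}`.
-/

set_option autoImplicit false

namespace Cfsg.Agent.LieRecognition.CTTransport

open Cfsg.Lie Cfsg.Agent.ChevalleyStructure Cfsg.Agent.ChevalleyStructure.CommTransport

variable {K : Type*} [Field K] {D : ChevalleyDatum} {Γ : Type*} [Group Γ]

/-- The product of a word in a family of elements. -/
def wprod (Y : ℕ → K → Γ) (w : List (ℕ × K)) : Γ := (w.map fun p => Y p.1 p.2).prod

theorem wprod_nil (Y : ℕ → K → Γ) : wprod Y [] = 1 := rfl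

theorem wprod_cons (Y : ℕ → K → Γ) (p : ℕ × K) (w : List (ℕ × K)) : wprod Y (p :: w) = Y p.1 p.2 * wprod Y w := by
  unfold wprod; rw [List.map_cons, List.prod_cons]

theorem wprod_append (Y : ℕ → K → Γ) (v w : List (ℕ × K)) : wprod Y (v ++ w) = wprod Y v * wprod Y w := by
  unfold wprod; rw [List.map_append, List.prod_append]

theorem map_wprod {Γ' : Type*} [Group Γ'] (φ : Γ →* Γ') (Y : ℕ → K → Γ) (w : List (ℕ × K)) :
    φ (wprod Y w) = wprod (fun r t => φ (Y r t)) w := by
  unfold wprod; rw [map_list_prod, List.map_map]; rfl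

theorem wprod_congr {Y Y' : ℕ → K → Γ} {w : List (ℕ × K)} (h : ∀ p ∈ w, Y p.1 p.2 = Y' p.1 p.2) :
    wprod Y w = wprod Y' w := by
  unfold wprod
  congr 1
  exact List.map_congr_left h

/-- The commutator relation for the pair `(r, s)`. -/
def R2At (D : ChevalleyDatum) (Y : ℕ → K → Γ) (r s : ℕ) : Prop :=
  ∀ t u : K, (Y s u)⁻¹ * (Y r t)⁻¹ * Y s u * Y r t = wprod Y (D.commWord K r s t u)

/-- The multiplicativity of `h_r`. -/
def R3At (D : ChevalleyDatum) (Y : ℕ → K → Γ) (r : ℕ) : Prop :=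
  ∀ t₁ t₂ : K, t₁ ≠ 0 → t₂ ≠ 0 →
    wprod Y (D.hWord r t₁) * wprod Y (D.hWord r t₂) = wprod Y (D.hWord r (t₁ * t₂))

/-- `g` permutes the family according to the fundamental reflection `w_i`. -/
def ConjAt (D : ChevalleyDatum) (Y : ℕ → K → Γ) (i : ℕ) (g : Γ) : Prop :=
  ∀ s < D.nroots, ∀ t : K, g * Y s t * g⁻¹ = Y (D.reflectRoot i s) (((NSimple.eta D i s : ℤ) : K) * t)

/-- `n_r(t)` -/
def nY (D : ChevalleyDatum) (Y : ℕ → K → Γ) (r : ℕ) (t : K) : Γ := Y r t * Y (D.neg r) (-t⁻¹) * Y r t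

theorem wprod_nWord (Y : ℕ → K → Γ) (r : ℕ) (t : K) : wprod Y (D.nWord r t) = nY D Y r t := by
  show wprod Y [(r, t), (D.neg r, -t⁻¹), (r, t)] = _
  rw [wprod_cons, wprod_cons, wprod_cons, wprod_nil, mul_one, ← mul_assoc]; rfl

theorem wprod_hWord (Y : ℕ → K → Γ) (r : ℕ) (t : K) : wprod Y (D.hWord r t) = nY D Y r t * nY D Y r (-1) := by
  show wprod Y (D.nWord r t ++ D.nWord r (-1)) = _
  rw [wprod_append, wprod_nWord, wprod_nWord]

theorem mul_conj_prod (g : Γ) (l : List Γ) : g * l.prod * g⁻¹ = (l.map fun x => g * x * g⁻¹).prod := by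
  induction l with
  | nil => simp
  | cons a l ih => rw [List.map_cons, List.prod_cons, List.prod_cons, ← ih]; group

section

variable {Y : ℕ → K → Γ} {i : ℕ} {g : Γ}

theorem wprod_conj (hg : ConjAt D Y i g) {l : List (ℕ × K)} (hl : ∀ p ∈ l, p.1 < D.nroots) :
    g * wprod Y l * g⁻¹ =
      wprod Y (l.map fun p => (D.reflectRoot i p.1, ((NSimple.eta D i p.1 : ℤ) : K) * p.2)) := by
  unfold wprod
  rw [mul_conj_prod, List.map_map, List.map_map]
  congr 1
  apply List.map_congr_left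
  intro p hp
  exact hg p.1 (hl p hp) p.2

theorem eta_cases (hD : D ∈ [chevG2, chevB2, chevD4, chevF4, chevE6, chevE7, chevE8]) (hi : i < D.rank)
    {s : ℕ} (hs : s < D.nroots) : NSimple.eta D i s = 1 ∨ NSimple.eta D i s = -1 :=
  (NSimpleAll.facts hD hi).eta_one s hs

theorem eta_sq (hD : D ∈ [chevG2, chevB2, chevD4, chevF4, chevE6, chevE7, chevE8]) (hi : i < D.rank)
    {s : ℕ} (hs : s < D.nroots) : ((NSimple.eta D i s : ℤ) : K) * ((NSimple.eta D i s : ℤ) : K) = 1 := by
  rcases eta_cases hD hi hs with h | h <;> rw [h] <;> simp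

theorem eta_neg (hD : D ∈ [chevG2, chevB2, chevD4, chevF4, chevE6, chevE7, chevE8]) (hi : i < D.rank)
    {s : ℕ} (hs : s < D.nroots) : NSimple.eta D i (D.neg s) = NSimple.eta D i s := by
  have h1 := (NSimpleAll.facts hD hi).eta_mul_neg s hs
  rcases eta_cases hD hi hs with h | h
  · rw [h] at h1 ⊢; omega
  · rw [h] at h1 ⊢; omega

theorem in7 {D : ChevalleyDatum} (hD : D ∈ [chevD4, chevF4, chevE6, chevE7, chevE8]) :
    D ∈ [chevG2, chevB2, chevD4, chevF4, chevE6, chevE7, chevE8] := by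
  simp only [List.mem_cons, List.not_mem_nil, or_false] at hD ⊢
  tauto

theorem noLong (hD : D ∈ [chevD4, chevF4, chevE6, chevE7, chevE8]) (r s : ℕ) : NoLong D r s := by
  simp only [List.mem_cons, List.not_mem_nil, or_false] at hD
  rcases hD with rfl | rfl | rfl | rfl | rfl
  · exact CommOrbit.noLong_of_shortOK CommOrbD4.short r s
  · exact CommOrbit.noLong_of_shortOK CommOrbF4.short r s
  · exact CommOrbit.noLong_of_shortOK CommOrbE6.short r s
  · exact CommOrbit.noLong_of_shortOK CommOrbE7.short r s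
  · exact CommOrbit.noLong_of_shortOK CommOrbE8.short r s

/-- **Transport of the commutator relation.** -/
theorem R2At.map (hD : D ∈ [chevD4, chevF4, chevE6, chevE7, chevE8]) (hi : i < D.rank) (hg : ConjAt D Y i g)
    {r s : ℕ} (hr : r < D.nroots) (hs : s < D.nroots)
    (hc : ∀ c ∈ D.commTerms r s, c.1 < D.nroots) (h : R2At D Y r s) :
    R2At D Y (D.reflectRoot i r) (D.reflectRoot i s) := by
  have h7 := in7 hD
  intro t u
  have key := h (((NSimple.eta D i r : ℤ) : K) * t) (((NSimple.eta D i s : ℤ) : K) * u)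
  have e1 : g * Y r (((NSimple.eta D i r : ℤ) : K) * t) * g⁻¹ = Y (D.reflectRoot i r) t := by
    rw [hg r hr, ← mul_assoc, eta_sq h7 hi hr, one_mul]
  have e2 : g * Y s (((NSimple.eta D i s : ℤ) : K) * u) * g⁻¹ = Y (D.reflectRoot i s) u := by
    rw [hg s hs, ← mul_assoc, eta_sq h7 hi hs, one_mul]
  have hw : g * wprod Y (D.commWord K r s (((NSimple.eta D i r : ℤ) : K) * t) (((NSimple.eta D i s : ℤ) : K) * u)) * g⁻¹ =
      wprod Y (D.commWord K (D.reflectRoot i r) (D.reflectRoot i s) t u) := by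
    rw [wprod_conj hg]
    · congr 1
      unfold ChevalleyDatum.commWord
      have hc1 : ChainCompat D (D.reflectRoot i) (NSimple.eta D i) r s :=
        FastReflAll.chainEntry_reflect h7 hi hr hs
      have hc2 : ChainCompat D (D.reflectRoot i) (NSimple.eta D i) s r :=
        FastReflAll.chainEntry_reflect h7 hi hs hr
      rw [commTerms_map hc1 hc2 (noLong hD r s) (noLong hD s r), List.map_map, List.map_map]
      apply List.map_congr_left
      intro c _
      simp only [Function.comp_apply, Prod.mk.injEq, true_and]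
      push_cast
      rw [neg_mul_eq_mul_neg, mul_pow, mul_pow]
      ring
    · intro p hp
      unfold ChevalleyDatum.commWord at hp
      rw [List.mem_map] at hp
      obtain ⟨c, hc', rfl⟩ := hp
      exact hc c hc'
  rw [← e1, ← e2, ← hw, ← key]
  group

/-- The relations (R1) give `n_r(-t) = n_r(t)⁻¹`. -/
theorem nY_neg {r : ℕ} (h1 : ∀ t : K, Y r (-t) = (Y r t)⁻¹) (h2 : ∀ t : K, Y (D.neg r) (-t) = (Y (D.neg r) t)⁻¹)
    (t : K) : nY D Y r (-t) = (nY D Y r t)⁻¹ := by
  unfold nY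
  rw [inv_neg, h2, h1, h2, mul_inv_rev, mul_inv_rev, inv_inv]
  group

/-- **Transport of the multiplicativity of `h_r`.** -/
theorem R3At.map (hD : D ∈ [chevG2, chevB2, chevD4, chevF4, chevE6, chevE7, chevE8]) (hi : i < D.rank)
    (hg : ConjAt D Y i g) (hadd : ∀ r < D.nroots, ∀ t : K, Y r (-t) = (Y r t)⁻¹)
    {r : ℕ} (hr : r < D.nroots) (h : R3At D Y r) : R3At D Y (D.reflectRoot i r) := by
  have hnr := Reach.neg_lt hD hr
  have hn : ∀ t : K, g * nY D Y r t * g⁻¹ = nY D Y (D.reflectRoot i r) (((NSimple.eta D i r : ℤ) : K) * t) := by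
    intro t
    have e : g * nY D Y r t * g⁻¹ = (g * Y r t * g⁻¹) * (g * Y (D.neg r) (-t⁻¹) * g⁻¹) * (g * Y r t * g⁻¹) := by
      unfold nY; group
    rw [e, hg r hr, hg _ hnr, eta_neg hD hi hr, Reach.reflect_neg hD hi hr]
    unfold nY
    congr 3
    rcases eta_cases hD hi hr with h' | h' <;> rw [h'] <;> simp [inv_neg]
  have hneg := nY_neg (D := D) (Y := Y) (r := r) (hadd r hr) (hadd _ hnr)
  have hH : ∀ t : K, t ≠ 0 → wprod Y (D.hWord (D.reflectRoot i r) t) = g * wprod Y (D.hWord r t) * g⁻¹ := by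
    intro t ht
    rw [wprod_hWord, wprod_hWord]
    rcases eta_cases hD hi hr with h' | h'
    · have e : g * (nY D Y r t * nY D Y r (-1)) * g⁻¹ = (g * nY D Y r t * g⁻¹) * (g * nY D Y r (-1) * g⁻¹) := by group
      rw [e, hn, hn, h']
      simp
    · have e1 : nY D Y (D.reflectRoot i r) t = g * nY D Y r (-t) * g⁻¹ := by
        rw [hn, h']; simp
      have e2 : nY D Y (D.reflectRoot i r) (-1) = g * nY D Y r 1 * g⁻¹ := by
        rw [hn, h']; simp
      have h1 := h t (-1) ht (neg_ne_zero.2 one_ne_zero)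
      rw [wprod_hWord, wprod_hWord, wprod_hWord, mul_neg_one] at h1
      -- N(t) N(-1) N(-1) N(-1) = N(-t) N(-1)
      have h2 : nY D Y r (-t) = nY D Y r t * nY D Y r (-1) * nY D Y r (-1) := by
        have := mul_right_cancel (b := nY D Y r (-1)) (a := nY D Y r t * nY D Y r (-1) * nY D Y r (-1))
          (c := nY D Y r (-t)) (by rw [← h1]; group)
        exact this.symm
      have h3 : nY D Y r 1 = (nY D Y r (-1))⁻¹ := by
        rw [hneg, inv_inv]
      rw [e1, e2, h2, h3]
      group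
  intro t₁ t₂ h₁ h₂
  rw [hH t₁ h₁, hH t₂ h₂, hH _ (mul_ne_zero h₁ h₂), ← h t₁ t₂ h₁ h₂]
  group

end

end Cfsg.Agent.LieRecognition.CTTransport
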