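import Cfsg.Agent.LieRecognition.CoxForm

/-!
# Excluded subdiagrams of a positive definite Coxeter form

`bf` is the bilinear form of `q`; `Pth v n` says that `v 0, …, v (n-1)` is a simply laced path; `exclD`, `exclB`, `exclC`,
`exclG`, `exclF`, `exclE6`, `exclE7`, `exclE8` exclude the affine diagrams.
-/

set_option autoImplicit false
set_option linter.unusedSectionVars false

namespace Cfsg.Agent.LieRecognition.CoxExcl

open Finset Cfsg.Agent.LieRecognition.CoxForm

variable {B : Type*} [Fintype B] [DecidableEq B] (M : CoxeterMatrix B)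

/-- the bilinear form of `q` -/
noncomputable def bf (x y : B → ℝ) : ℝ := ∑ a, x a * fn M a y

theorem bf_self (x : B → ℝ) : bf M x x = q M x := rfl

theorem bf_add_left (x y z : B → ℝ) : bf M (x + y) z = bf M x z + bf M y z := by
  simp [bf, add_mul, Finset.sum_add_distrib]

theorem bf_add_right (x y z : B → ℝ) : bf M x (y + z) = bf M x y + bf M x z := by
  simp [bf, mul_add, Finset.sum_add_distrib]

theorem bf_smul_left (r : ℝ) (x y : B → ℝ) : bf M (r • x) y = r * bf M x y := by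
  simp only [bf, Pi.smul_apply, smul_eq_mul, Finset.mul_sum]
  exact Finset.sum_congr rfl fun a _ => by ring

theorem bf_smul_right (r : ℝ) (x y : B → ℝ) : bf M x (r • y) = r * bf M x y := by
  simp only [bf, map_smul, smul_eq_mul, Finset.mul_sum]
  exact Finset.sum_congr rfl fun a _ => by ring

theorem bf_zero_right (x : B → ℝ) : bf M x 0 = 0 := by simp [bf]

theorem bf_zero_left (x : B → ℝ) : bf M 0 x = 0 := by simp [bf]

theorem bf_comm (x y : B → ℝ) : bf M x y = bf M y x := by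
  simp only [bf, fn_apply, Finset.mul_sum]
  rw [Finset.sum_comm]
  refine Finset.sum_congr rfl fun a _ => Finset.sum_congr rfl fun b _ => ?_
  rw [K_symm M b a]
  ring

theorem bf_bs_left (a : B) (x : B → ℝ) : bf M (bs a) x = fn M a x := by
  rw [bf, Finset.sum_eq_single a]
  · simp [bs]
  · intro b _ hb
    simp [bs, hb]
  · intro h
    exact absurd (Finset.mem_univ a) h

theorem bf_bs_bs (a b : B) : bf M (bs a) (bs b) = K M a b := by
  rw [bf_bs_left, fn_bs]

theorem bf_sum_left {ι : Type*} (s : Finset ι) (f : ι → B → ℝ) (y : B → ℝ) :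
    bf M (∑ i ∈ s, f i) y = ∑ i ∈ s, bf M (f i) y := by
  classical
  induction s using Finset.induction_on with
  | empty => simp [bf_zero_left]
  | insert a s ha ih => rw [Finset.sum_insert ha, Finset.sum_insert ha, bf_add_left, ih]

theorem K_two {a b : B} (h : M a b = 2) : K M a b = 0 := by
  simp only [K, h]
  norm_num

theorem K_three {a b : B} (h : M a b = 3) : K M a b = -(1 / 2) := by
  simp only [K, h]
  norm_num

theorem K_le {a b : B} {n : ℕ} (hn : 2 ≤ n) (h : n ≤ M a b) : K M a b ≤ - Real.cos (Real.pi / n) := by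
  have hpi := Real.pi_pos
  have h0 : M a b ≠ 0 := by omega
  simp only [K, h0, if_false]
  apply neg_le_neg
  have hn' : (2 : ℝ) ≤ n := by exact_mod_cast hn
  have hm' : (n : ℝ) ≤ M a b := by exact_mod_cast h
  apply Real.cos_le_cos_of_nonneg_of_le_pi
  · positivity
  · rw [div_le_iff₀ (by positivity)]
    nlinarith
  · apply div_le_div_of_nonneg_left hpi.le (by positivity) hm'

theorem K_le_three {a b : B} (h : 3 ≤ M a b) : K M a b ≤ -(1 / 2) := by
  have := K_le M (by norm_num) h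
  norm_num at this
  linarith

theorem K_le_four {a b : B} (h : 4 ≤ M a b) : K M a b ≤ -(Real.sqrt 2 / 2) := by
  have := K_le M (by norm_num) h
  norm_num at this
  linarith

theorem K_le_six {a b : B} (h : 6 ≤ M a b) : K M a b ≤ -(Real.sqrt 3 / 2) := by
  have := K_le M (by norm_num) h
  norm_num at this
  linarith

variable (hpos : ∀ x : B → ℝ, x ≠ 0 → 0 < q M x)

include hpos in
theorem excl4 (u w1 w2 w3 w4 : B → ℝ) (c1 c2 c3 c4 : ℝ) (x : B) (hx : 0 < u x)
    (h1 : 0 ≤ w1 x) (h2 : 0 ≤ w2 x) (h3 : 0 ≤ w3 x) (h4 : 0 ≤ w4 x)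
    (k1 : 0 ≤ c1) (k2 : 0 ≤ c2) (k3 : 0 ≤ c3) (k4 : 0 ≤ c4)
    (o12 : bf M w1 w2 = 0) (o13 : bf M w1 w3 = 0) (o14 : bf M w1 w4 = 0) (o23 : bf M w2 w3 = 0)
    (o24 : bf M w2 w4 = 0) (o34 : bf M w3 w4 = 0) :
    0 < bf M u u + 2 * (c1 * bf M u w1 + c2 * bf M u w2 + c3 * bf M u w3 + c4 * bf M u w4) +
      (c1 ^ 2 * bf M w1 w1 + c2 ^ 2 * bf M w2 w2 + c3 ^ 2 * bf M w3 w3 + c4 ^ 2 * bf M w4 w4) := by
  have hne : u + c1 • w1 + c2 • w2 + c3 • w3 + c4 • w4 ≠ 0 := by
    intro h
    have := congrFun h x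
    simp only [Pi.add_apply, Pi.smul_apply, smul_eq_mul, Pi.zero_apply] at this
    nlinarith [mul_nonneg k1 h1, mul_nonneg k2 h2, mul_nonneg k3 h3, mul_nonneg k4 h4]
  have key := hpos _ hne
  rw [← bf_self] at key
  simp only [bf_add_left, bf_add_right, bf_smul_left, bf_smul_right, o12, o13, o14, o23, o24, o34,
    bf_comm M w2 w1, bf_comm M w3 w1, bf_comm M w4 w1, bf_comm M w3 w2, bf_comm M w4 w2, bf_comm M w4 w3,
    bf_comm M w1 u, bf_comm M w2 u, bf_comm M w3 u, bf_comm M w4 u] at key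
  linarith [key]

/-- `v 0, …, v (n-1)` is a simply laced path -/
def Pth (v : ℕ → B) (n : ℕ) : Prop :=
  ∀ i j, i < j → j < n → M (v i) (v j) = if i + 1 = j then 3 else 2

/-- path sum -/
noncomputable def ps (v : ℕ → B) (n : ℕ) : B → ℝ := ∑ i ∈ range n, bs (v i)

/-- `y` is adjacent at most to `v t` among `v 0, …, v (n-1)` -/
def Att (v : ℕ → B) (n : ℕ) (y : B) (t : ℕ) : Prop :=
  t < n ∧ ∀ j, j < n → j ≠ t → M (v j) y = 2

theorem bs_nonneg (a x : B) : 0 ≤ bs a x := by
  unfold bs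
  by_cases h : x = a
  · subst h; simp
  · simp [h]

theorem ps_bs {v : ℕ → B} {n : ℕ} {y : B} {t : ℕ} (h : Att M v n y t) :
    bf M (ps v n) (bs y) = K M (v t) y := by
  rw [ps, bf_sum_left, Finset.sum_eq_single t]
  · rw [bf_bs_bs]
  · intro j hj hjt
    rw [bf_bs_bs, K_two M (h.2 j (mem_range.1 hj) hjt)]
  · intro ht
    exact absurd (mem_range.2 h.1) ht

theorem Pth.mono {v : ℕ → B} {n k : ℕ} (h : Pth M v n) (hk : k ≤ n) : Pth M v k :=
  fun i j hij hj => h i j hij (by omega)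

theorem ps_ps {v : ℕ → B} {n : ℕ} (h : Pth M v (n + 1)) : bf M (ps v (n + 1)) (ps v (n + 1)) = 1 := by
  induction n with
  | zero => simp [ps, bf_bs_bs, K_self]
  | succ n ih =>
    have h1 : ps v (n + 1 + 1) = ps v (n + 1) + bs (v (n + 1)) := by
      rw [ps, Finset.sum_range_succ]
      rfl
    have h2 : bf M (ps v (n + 1)) (bs (v (n + 1))) = -(1 / 2) := by
      rw [ps_bs M (t := n) ⟨by omega, fun j hj hjt => ?_⟩]
      · apply K_three
        rw [h n (n + 1) (by omega) (by omega)]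
        simp
      · rw [h j (n + 1) (by omega) (by omega)]
        simp only [ite_eq_right_iff]
        omega
    rw [h1]
    simp only [bf_add_left, bf_add_right]
    rw [ih (h.mono M (by omega)), bf_comm M (bs (v (n + 1))), h2, bf_bs_bs, K_self]
    norm_num

theorem ps_pos (v : ℕ → B) (n : ℕ) : 0 < ps v (n + 1) (v 0) := by
  rw [ps, Finset.sum_apply]
  apply Finset.sum_pos'
  · intro i _
    exact bs_nonneg _ _
  · exact ⟨0, by simp, by simp [bs]⟩

include hpos in
/-- four extra neighbours of a simply laced path -/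
theorem exclD {v : ℕ → B} {n : ℕ} (h : Pth M v (n + 1)) {a b c d : B} {i j k l : ℕ}
    (ha : Att M v (n + 1) a i) (hb : Att M v (n + 1) b j) (hc : Att M v (n + 1) c k) (hd : Att M v (n + 1) d l)
    (ha3 : 3 ≤ M (v i) a) (hb3 : 3 ≤ M (v j) b) (hc3 : 3 ≤ M (v k) c) (hd3 : 3 ≤ M (v l) d)
    (hab : M a b = 2) (hac : M a c = 2) (had : M a d = 2) (hbc : M b c = 2) (hbd : M b d = 2) (hcd : M c d = 2) :
    False := by
  have key := excl4 M hpos (ps v (n + 1)) (bs a) (bs b) (bs c) (bs d) (1 / 2) (1 / 2) (1 / 2) (1 / 2) (v 0)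
    (ps_pos v n) (bs_nonneg _ _) (bs_nonneg _ _) (bs_nonneg _ _) (bs_nonneg _ _)
    (by norm_num) (by norm_num) (by norm_num) (by norm_num)
    (by rw [bf_bs_bs, K_two M hab]) (by rw [bf_bs_bs, K_two M hac]) (by rw [bf_bs_bs, K_two M had])
    (by rw [bf_bs_bs, K_two M hbc]) (by rw [bf_bs_bs, K_two M hbd]) (by rw [bf_bs_bs, K_two M hcd])
  rw [ps_ps M h, ps_bs M ha, ps_bs M hb, ps_bs M hc, ps_bs M hd] at key
  simp only [bf_bs_bs, K_self] at key
  linarith [K_le_three M ha3, K_le_three M hb3, K_le_three M hc3, K_le_three M hd3]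

include hpos in
/-- three extra neighbours of a simply laced path, one of them with a multiple bond -/
theorem exclB {v : ℕ → B} {n : ℕ} (h : Pth M v (n + 1)) {a b c : B} {i j k : ℕ}
    (ha : Att M v (n + 1) a i) (hb : Att M v (n + 1) b j) (hc : Att M v (n + 1) c k)
    (ha3 : 3 ≤ M (v i) a) (hb3 : 3 ≤ M (v j) b) (hc4 : 4 ≤ M (v k) c)
    (hab : M a b = 2) (hac : M a c = 2) (hbc : M b c = 2) : False := by
  have key := excl4 M hpos (ps v (n + 1)) (bs a) (bs b) (bs c) 0 (1 / 2) (1 / 2) (Real.sqrt 2 / 2) 0 (v 0)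
    (ps_pos v n) (bs_nonneg _ _) (bs_nonneg _ _) (bs_nonneg _ _) (le_refl _)
    (by norm_num) (by norm_num) (by positivity) (by norm_num)
    (by rw [bf_bs_bs, K_two M hab]) (by rw [bf_bs_bs, K_two M hac]) (bf_zero_right M _)
    (by rw [bf_bs_bs, K_two M hbc]) (bf_zero_right M _) (bf_zero_right M _)
  rw [ps_ps M h, ps_bs M ha, ps_bs M hb, ps_bs M hc] at key
  simp only [bf_bs_bs, K_self, bf_zero_right] at key
  have h2 : Real.sqrt 2 ^ 2 = 2 := Real.sq_sqrt (by norm_num)
  have h3 := K_le_four M hc4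
  have h4 : Real.sqrt 2 / 2 * K M (v k) c ≤ Real.sqrt 2 / 2 * -(Real.sqrt 2 / 2) :=
    mul_le_mul_of_nonneg_left h3 (by positivity)
  nlinarith [K_le_three M ha3, K_le_three M hb3]

include hpos in
/-- two extra neighbours of a simply laced path, both with multiple bonds -/
theorem exclC {v : ℕ → B} {n : ℕ} (h : Pth M v (n + 1)) {a b : B} {i j : ℕ}
    (ha : Att M v (n + 1) a i) (hb : Att M v (n + 1) b j)
    (ha4 : 4 ≤ M (v i) a) (hb4 : 4 ≤ M (v j) b) (hab : M a b = 2) : False := by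
  have key := excl4 M hpos (ps v (n + 1)) (bs a) (bs b) 0 0 (Real.sqrt 2 / 2) (Real.sqrt 2 / 2) 0 0 (v 0)
    (ps_pos v n) (bs_nonneg _ _) (bs_nonneg _ _) (le_refl _) (le_refl _)
    (by positivity) (by positivity) (by norm_num) (by norm_num)
    (by rw [bf_bs_bs, K_two M hab]) (bf_zero_right M _) (bf_zero_right M _)
    (bf_zero_right M _) (bf_zero_right M _) (bf_zero_right M _)
  rw [ps_ps M h, ps_bs M ha, ps_bs M hb] at key
  simp only [bf_bs_bs, K_self, bf_zero_right] at key
  have h2 : Real.sqrt 2 ^ 2 = 2 := Real.sq_sqrt (by norm_num)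
  have h4 : Real.sqrt 2 / 2 * K M (v i) a ≤ Real.sqrt 2 / 2 * -(Real.sqrt 2 / 2) :=
    mul_le_mul_of_nonneg_left (K_le_four M ha4) (by positivity)
  have h5 : Real.sqrt 2 / 2 * K M (v j) b ≤ Real.sqrt 2 / 2 * -(Real.sqrt 2 / 2) :=
    mul_le_mul_of_nonneg_left (K_le_four M hb4) (by positivity)
  nlinarith

include hpos in
/-- a bond with label at least `6` and another bond -/
theorem exclG {x a b : B} (ha : 3 ≤ M x a) (hb : 6 ≤ M x b) (hab : M a b = 2) : False := by
  have key := excl4 M hpos (bs x) (bs a) (bs b) 0 0 (1 / 2) (Real.sqrt 3 / 2) 0 0 x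
    (by simp [bs]) (bs_nonneg _ _) (bs_nonneg _ _) (le_refl _) (le_refl _)
    (by norm_num) (by positivity) (by norm_num) (by norm_num)
    (by rw [bf_bs_bs, K_two M hab]) (bf_zero_right M _) (bf_zero_right M _)
    (bf_zero_right M _) (bf_zero_right M _) (bf_zero_right M _)
  simp only [bf_bs_bs, K_self, bf_zero_right] at key
  have h2 : Real.sqrt 3 ^ 2 = 3 := Real.sq_sqrt (by norm_num)
  have h5 : Real.sqrt 3 / 2 * K M x b ≤ Real.sqrt 3 / 2 * -(Real.sqrt 3 / 2) :=
    mul_le_mul_of_nonneg_left (K_le_six M hb) (by positivity)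
  nlinarith [K_le_three M ha]

/-- arm vector: `n e_{v 1} + (n-1) e_{v 2} + … + e_{v n}` -/
noncomputable def av (v : ℕ → B) : ℕ → B → ℝ
  | 0 => 0
  | n + 1 => av v n + ∑ i ∈ range (n + 1), bs (v (i + 1))

theorem av_nonneg (v : ℕ → B) (n : ℕ) (x : B) : 0 ≤ av v n x := by
  induction n with
  | zero => simp [av]
  | succ n ih =>
    rw [av, Pi.add_apply, Finset.sum_apply]
    exact add_nonneg ih (Finset.sum_nonneg fun i _ => bs_nonneg _ _)

/-- `y` is adjacent at most to `v 1` among `v 1, …, v n`: `(y, av) = n K(y, v 1)` -/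
theorem bs_av {v : ℕ → B} {n : ℕ} {y : B} (h : ∀ i, 2 ≤ i → i ≤ n → M y (v i) = 2) :
    bf M (bs y) (av v n) = n * K M y (v 1) := by
  induction n with
  | zero => simp [av, bf_zero_right]
  | succ n ih =>
    rw [av, bf_add_right, ih fun i h1 h2 => h i h1 (by omega), bf_comm, bf_sum_left, Finset.sum_eq_single 0]
    · rw [bf_bs_bs, K_symm]
      push_cast
      ring
    · intro i hi hi0
      rw [bf_bs_bs, K_symm, K_two M (h (i + 1) (by omega) (by have := mem_range.1 hi; omega))]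
    · intro h0
      exact absurd (mem_range.2 (by omega)) h0

theorem av_orth {v : ℕ → B} {n : ℕ} (x : B → ℝ) (h : ∀ i, 1 ≤ i → i ≤ n → bf M x (bs (v i)) = 0) :
    bf M x (av v n) = 0 := by
  induction n with
  | zero => simp [av, bf_zero_right]
  | succ n ih =>
    rw [av, bf_add_right, ih fun i h1 h2 => h i h1 (by omega), bf_comm, bf_sum_left, Finset.sum_eq_zero, add_zero]
    intro i hi
    rw [bf_comm]
    exact h _ (by omega) (by have := mem_range.1 hi; omega)

theorem av_av_orth {v w : ℕ → B} {m n : ℕ} (h : ∀ i j, 1 ≤ i → i ≤ m → 1 ≤ j → j ≤ n → M (v i) (w j) = 2) :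
    bf M (av v m) (av w n) = 0 := by
  apply av_orth
  intro j h1 h2
  rw [bf_comm]
  apply av_orth
  intro i h3 h4
  rw [bf_comm, bf_bs_bs, K_two M (h i j h3 h4 h1 h2)]

/-- partial sums `v 1 + … + v n` -/
theorem ss_ss {v : ℕ → B} {n : ℕ} (h : Pth M v (n + 2)) :
    bf M (∑ i ∈ range (n + 1), bs (v (i + 1))) (∑ i ∈ range (n + 1), bs (v (i + 1))) = 1 := by
  have := ps_ps M (v := fun i => v (i + 1)) (n := n) (by
    intro i j hij hj
    rw [h (i + 1) (j + 1) (by omega) (by omega)]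
    simp)
  exact this

theorem ss_last {v : ℕ → B} {n : ℕ} (h : Pth M v (n + 3)) :
    bf M (∑ i ∈ range (n + 1), bs (v (i + 1))) (bs (v (n + 2))) = -(1 / 2) := by
  rw [bf_sum_left, Finset.sum_eq_single n]
  · rw [bf_bs_bs, K_three M]
    rw [h (n + 1) (n + 2) (by omega) (by omega)]
    simp
  · intro i hi hin
    have := mem_range.1 hi
    rw [bf_bs_bs, K_two M]
    rw [h (i + 1) (n + 2) (by omega) (by omega)]
    simp only [ite_eq_right_iff]
    omega
  · intro h0
    exact absurd (mem_range.2 (by omega)) h0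

theorem av_next {v : ℕ → B} {n : ℕ} (h : Pth M v (n + 2)) :
    bf M (av v n) (bs (v (n + 1))) = if n = 0 then 0 else -(1 / 2) := by
  rcases n with _ | n
  · simp [av, bf_zero_left]
  · rw [av, bf_add_left, ss_last M (by exact h)]
    have : bf M (av v n) (bs (v (n + 1 + 1))) = 0 := by
      rw [bf_comm]
      apply av_orth
      intro i h1 h2
      rw [bf_bs_bs, K_symm, K_two M]
      rw [h i (n + 1 + 1) (by omega) (by omega)]
      simp only [ite_eq_right_iff]
      omega
    rw [this]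
    simp

theorem av_ss {v : ℕ → B} {n : ℕ} (h : Pth M v (n + 2)) :
    bf M (av v n) (∑ i ∈ range (n + 1), bs (v (i + 1))) = n / 2 := by
  induction n with
  | zero => simp [av, bf_zero_left]
  | succ n ih =>
    have h1 := ih (h.mono M (by omega))
    have h2 := av_next M h
    rw [Finset.sum_range_succ, bf_add_right, h2, av, bf_add_left, h1, ss_ss M (h.mono M (by omega))]
    push_cast
    simp
    ring

theorem av_av {v : ℕ → B} {n : ℕ} (h : Pth M v (n + 1)) :
    bf M (av v n) (av v n) = n * (n + 1) / 2 := by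
  induction n with
  | zero => simp [av, bf_zero_left]
  | succ n ih =>
    have h1 := ih (h.mono M (by omega))
    have h2 := av_ss M (n := n) (by exact h)
    have h3 := ss_ss M (n := n) (by exact h)
    rw [av]
    simp only [bf_add_left, bf_add_right]
    rw [h1, h2, h3, bf_comm M (∑ i ∈ range (n + 1), bs (v (i + 1))) (av v n), h2]
    push_cast
    ring

include hpos in
/-- a node with three arms of lengths `p, q, r` -/
theorem excl_arms {x y z : ℕ → B} {p q r : ℕ} (hx : Pth M x (p + 1)) (hy : Pth M y (q + 1)) (hz : Pth M z (r + 1))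
    (hp : 1 ≤ p) (hq : 1 ≤ q) (hr : 1 ≤ r)
    (hxy0 : x 0 = y 0) (hxz0 : x 0 = z 0)
    (hxy : ∀ i j, 1 ≤ i → i ≤ p → 1 ≤ j → j ≤ q → M (x i) (y j) = 2)
    (hxz : ∀ i j, 1 ≤ i → i ≤ p → 1 ≤ j → j ≤ r → M (x i) (z j) = 2)
    (hyz : ∀ i j, 1 ≤ i → i ≤ q → 1 ≤ j → j ≤ r → M (y i) (z j) = 2)
    (h : (2 : ℝ) ≤ p / (p + 1) + q / (q + 1) + r / (r + 1)) : False := by
  have e : ∀ (v : ℕ → B) (n : ℕ), Pth M v (n + 1) → 1 ≤ n → bf M (bs (v 0)) (av v n) = - (n / 2) := by
    intro v n hv hn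
    rw [bs_av M, K_three M]
    · ring
    · rw [hv 0 1 (by omega) (by omega)]
      simp
    · intro i h1 h2
      rw [hv 0 i (by omega) (by omega)]
      simp only [ite_eq_right_iff]
      omega
  have ex := e x p hx hp
  have ey := e y q hy hq
  have ez := e z r hz hr
  rw [← hxy0] at ey
  rw [← hxz0] at ez
  have key := excl4 M hpos (bs (x 0)) (av x p) (av y q) (av z r) 0 (1 / (p + 1)) (1 / (q + 1)) (1 / (r + 1)) 0 (x 0)
    (by simp [bs]) (av_nonneg _ _ _) (av_nonneg _ _ _) (av_nonneg _ _ _) (le_refl _)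
    (by positivity) (by positivity) (by positivity) (by norm_num)
    (av_av_orth M hxy) (av_av_orth M hxz) (bf_zero_right M _)
    (av_av_orth M hyz) (bf_zero_right M _) (bf_zero_right M _)
  rw [ex, ey, ez, av_av M hx, av_av M hy, av_av M hz] at key
  simp only [bf_bs_bs, K_self, bf_zero_right] at key
  have f : ∀ n : ℕ, 2 * (1 / ((n : ℝ) + 1) * -((n : ℝ) / 2)) + (1 / ((n : ℝ) + 1)) ^ 2 * ((n : ℝ) * (n + 1) / 2) =
      - (n / (n + 1)) / 2 := by
    intro n
    have : (n : ℝ) + 1 ≠ 0 := by positivity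
    field_simp
    ring
  have fp := f p
  have fq := f q
  have fr := f r
  linarith

include hpos in
/-- a bond with label at least `4` and arms of lengths at least `p - 1`, `q - 1` at both ends -/
theorem exclF {x y : ℕ → B} (hx : Pth M x 3) (hy : Pth M y 2)
    (h4 : 4 ≤ M (x 0) (y 0)) (hxy : ∀ i j, i < 3 → j < 2 → (i ≠ 0 ∨ j ≠ 0) → M (x i) (y j) = 2) : False := by
  have ex : bf M (bs (x 0)) (av x 2) = -1 := by
    rw [bs_av M, K_three M]
    · norm_num
    · rw [hx 0 1 (by omega) (by omega)]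
      simp
    · intro i h1 h2
      rw [hx 0 i (by omega) (by omega)]
      simp only [ite_eq_right_iff]
      omega
  set w : B → ℝ := (2 : ℝ) • bs (y 0) + bs (y 1) with hw
  have hy01 : K M (y 0) (y 1) = -(1 / 2) := by
    apply K_three
    rw [hy 0 1 (by omega) (by omega)]
    simp
  have hww : bf M w w = 3 := by
    simp only [hw, bf_add_left, bf_add_right, bf_smul_left, bf_smul_right, bf_bs_bs, K_self, K_symm M (y 1) (y 0), hy01]
    norm_num
  have hxw : bf M (bs (x 0)) w = 2 * K M (x 0) (y 0) := by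
    simp only [hw, bf_add_right, bf_smul_right, bf_bs_bs, K_two M (hxy 0 1 (by omega) (by omega) (Or.inr one_ne_zero))]
    ring
  have hwa : bf M (av x 2) w = 0 := by
    rw [bf_comm]
    apply av_orth
    intro i h1 h2
    simp only [hw, bf_add_left, bf_smul_left, bf_bs_bs, K_symm M (y 0) (x i), K_symm M (y 1) (x i),
      K_two M (hxy i 0 (by omega) (by omega) (Or.inl (by omega))),
      K_two M (hxy i 1 (by omega) (by omega) (Or.inl (by omega)))]
    ring
  have hw0 : 0 ≤ w (x 0) := by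
    simp only [hw, Pi.add_apply, Pi.smul_apply, smul_eq_mul]
    have := bs_nonneg (y 0) (x 0)
    have := bs_nonneg (y 1) (x 0)
    linarith
  have key := excl4 M hpos (bs (x 0)) (av x 2) w 0 0 (1 / 3) (Real.sqrt 2 / 3) 0 0 (x 0)
    (by simp [bs]) (av_nonneg _ _ _) hw0 (le_refl _) (le_refl _)
    (by positivity) (by positivity) (by norm_num) (by norm_num)
    hwa (bf_zero_right M _) (bf_zero_right M _)
    (bf_zero_right M _) (bf_zero_right M _) (bf_zero_right M _)
  have haa := av_av M hx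
  push_cast at haa
  rw [ex, hxw, haa, hww] at key
  simp only [bf_bs_bs, K_self, bf_zero_right] at key
  have h2 : Real.sqrt 2 ^ 2 = 2 := Real.sq_sqrt (by norm_num)
  have h5 : Real.sqrt 2 / 3 * K M (x 0) (y 0) ≤ Real.sqrt 2 / 3 * -(Real.sqrt 2 / 2) :=
    mul_le_mul_of_nonneg_left (K_le_four M h4) (by positivity)
  nlinarith

theorem ne_of_ge {a b : B} (h : 2 ≤ M a b) : a ≠ b := by
  rintro rfl
  rw [M.diagonal] at h
  omega

theorem Pth.ne {v : ℕ → B} {n : ℕ} (h : Pth M v n) {i j : ℕ} (hi : i < n) (hj : j < n) (hij : i ≠ j) : v i ≠ v j := by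
  rcases Nat.lt_or_gt_of_ne hij with h1 | h1
  · apply ne_of_ge M
    rw [h i j h1 hj]
    split_ifs <;> omega
  · apply Ne.symm
    apply ne_of_ge M
    rw [h j i h1 hi]
    split_ifs <;> omega

theorem Pth.far {v : ℕ → B} {n : ℕ} (h : Pth M v n) {i j : ℕ} (hij : i + 1 < j) (hj : j < n) : M (v i) (v j) = 2 := by
  rw [h i j (by omega) hj, if_neg (by omega)]

theorem Pth.next {v : ℕ → B} {n : ℕ} (h : Pth M v n) {i : ℕ} (hi : i + 1 < n) : M (v i) (v (i + 1)) = 3 := by
  rw [h i (i + 1) (by omega) hi, if_pos rfl]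

theorem Pth.shift {v : ℕ → B} {n : ℕ} (k m : ℕ) (h : Pth M v n) (hm : k + m ≤ n) : Pth M (fun i => v (k + i)) m := by
  intro i j hij hj
  show M (v (k + i)) (v (k + j)) = _
  rw [h (k + i) (k + j) (by omega) (by omega)]
  by_cases h1 : i + 1 = j
  · rw [if_pos h1, if_pos (by omega)]
  · rw [if_neg h1, if_neg (by omega)]

theorem Pth.back {v : ℕ → B} {n : ℕ} (k m : ℕ) (h : Pth M v n) (hk : k < n) (hm : m ≤ k + 1) :
    Pth M (fun i => v (k - i)) m := by
  intro i j hij hj
  show M (v (k - i)) (v (k - j)) = _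
  rw [M.symmetric, h (k - j) (k - i) (by omega) (by omega)]
  by_cases h1 : i + 1 = j
  · rw [if_pos h1, if_pos (by omega)]
  · rw [if_neg h1, if_neg (by omega)]

end Cfsg.Agent.LieRecognition.CoxExcl
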