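import Cfsg.Agent.LieRecognition.FeitHigmanGroup
import Cfsg.Agent.LieRecognition.FeitHigmanLin

/-!
# The square conditions of Feit–Higman

For a finite group with a (B,N)-pair of rank two and parameters `s, t`: Weyl group of order 16 ⟹ `2 s t` is a
square; Weyl group of order 12 ⟹ `s t` is a square.
-/

set_option autoImplicit false

namespace Cfsg.Agent.LieRecognition.FHSquare

open Cfsg Real

section Lin

open FeitHigmanLin

variable {V : Type*} [AddCommGroup V] [Module ℝ V] [FiniteDimensional ℝ V] [Nontrivial V]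

/-- all `2 √(st) cos (π j / n)` are rational -/
theorem rat_cos {a b : Module.End ℝ V} {s t : ℝ} {s' t' : ℚ} (hss : s = s') (htt : t = t')
    (hs : 1 < s) (ht : 1 < t)
    (ha : a * a = (s - 1) • a + s • (1 : Module.End ℝ V))
    (hb : b * b = (t - 1) • b + t • (1 : Module.End ℝ V)) {n : ℕ} (hn : 2 ≤ n)
    (hbraid : (a * b) ^ n = (b * a) ^ n)
    (htr : ∀ k, 1 ≤ k → k ≤ 2 * n →
      LinearMap.trace ℝ V (FeitHigmanLin.alt a b k) = 0 ∧ LinearMap.trace ℝ V (FeitHigmanLin.alt b a k) = 0) :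
    ∀ j : ℕ, 1 ≤ j → j < n → ∃ z : ℚ, 2 * Real.sqrt (s * t) * cos (π * j / n) = z := by
  have hst : 0 < s * t := by positivity
  set r := Real.sqrt (s * t) with hr
  have hr0 : 0 < r := Real.sqrt_pos.2 hst
  have hrr : r * r = s * t := Real.mul_self_sqrt hst.le
  have hn0 : (0 : ℝ) < n := by exact_mod_cast (by omega : 0 < n)
  have hv : 0 < Module.finrank ℝ V := Module.finrank_pos
  have aux : ∀ j : ℕ, 1 ≤ j → j < n → 0 < sin (π * j / n) ∧ (2 * r * cos (π * j / n)) ^ 2 <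
      4 * (s * t) ∧ ∃ D : ℕ, (D : ℝ) * n * ((1 + s * t - 2 * r * cos (π * j / n)) *
        (s + t + 2 * r * cos (π * j / n))) =
      Module.finrank ℝ V * (4 * (s * t) - (2 * r * cos (π * j / n)) ^ 2) := by
    intro j hj1 hj2
    have hj0 : (0 : ℝ) < j := by exact_mod_cast hj1
    have hjn : (j : ℝ) < n := by exact_mod_cast hj2
    have hsin : 0 < sin (π * j / n) := by
      apply sin_pos_of_pos_of_lt_pi
      · positivity
      · rw [div_lt_iff₀ hn0]
        exact mul_lt_mul_of_pos_left hjn pi_pos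
    set θ := π * j / n with hθ
    have hcs := sin_sq_add_cos_sq θ
    have hlt : (2 * r * cos θ) ^ 2 < 4 * (s * t) := by
      have : (2 * r * cos θ) ^ 2 = 4 * (r * r) * cos θ ^ 2 := by ring
      rw [this, hrr]
      have h1 : cos θ ^ 2 < 1 := by
        have : 0 < sin θ ^ 2 := by positivity
        linarith
      have h2 : 0 < 4 * (s * t) := by positivity
      nlinarith
    refine ⟨hsin, hlt, ?_⟩
    apply even_eq hs ht ha hb hn hbraid htr
    · rw [← hrr]
      apply S_cos_eq_zero hr0.ne' hsin.ne'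
      have : (n : ℝ) * θ = j * π := by rw [hθ]; field_simp
      rw [this, sin_nat_mul_pi]
    · intro h
      rw [h] at hlt
      nlinarith [sq_nonneg (s * t - 1)]
    · intro h
      rw [h] at hlt
      nlinarith [sq_nonneg (s - t)]
  intro j hj1 hj2
  obtain ⟨h1, h2, D, hD⟩ := aux j hj1 hj2
  obtain ⟨h3, h4, D', hD'⟩ := aux (n - j) (by omega) (by omega)
  have e : π * ((n - j : ℕ) : ℝ) / n = π - π * j / n := by
    rw [Nat.cast_sub hj2.le]
    field_simp
  rw [e, cos_pi_sub] at hD'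
  refine rational_even hss htt hs ht (by omega) hv h2 hD (D' := D') ?_
  rw [show (2 * r * -cos (π * j / n)) = -(2 * r * cos (π * j / n)) by ring] at hD'
  rw [neg_sq] at hD'
  rw [← hD']
  ring

end Lin

open FeitHigmanGroup

variable {G : Type*} [Group G] {P : BNPair G} {s t : G}

theorem alt_toLin {ι : Type*} [Fintype ι] [DecidableEq ι] : ∀ (k : ℕ) (A B : Matrix ι ι ℝ),
    FeitHigmanLin.alt (Matrix.toLinAlgEquiv' A) (Matrix.toLinAlgEquiv' B) k =
      Matrix.toLinAlgEquiv' (FeitHigmanGroup.alt k A B)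
  | 0, A, B => (map_one (Matrix.toLinAlgEquiv' (R := ℝ) (n := ι))).symm
  | k + 1, A, B => by
    rw [FeitHigmanLin.alt_succ, alt_toLin k B A, ← map_mul]
    rfl

theorem hecke [Finite G] [Fintype (G ⧸ P.B)] [DecidableEq (G ⧸ P.B)] (hst : s ≠ t) (hS : P.S = {s, t}) :
    ∃ n : ℕ, 2 ≤ n ∧ alt n (T P s) (T P t) = alt n (T P t) (T P s) ∧
      (∀ k, 1 ≤ k → k ≤ n → (alt k (T P s) (T P t)).trace = 0 ∧ (alt k (T P t) (T P s)).trace = 0) ∧
      ((P.B ⊓ P.N).subgroupOf P.N).index = 2 * n := by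
  have hs : s ∈ P.S := by rw [hS]; simp
  have ht : t ∈ P.S := by rw [hS]; simp
  obtain ⟨n, hn2, hred, hbraid, hne⟩ := exists_max_red hS hst
  have hredle : ∀ k, k ≤ n → Red P s t k := fun k hk => hred.of_le hs ht hk
  refine ⟨n, hn2, ?_, ?_, card_weyl hS (by omega) hred hbraid hne⟩
  · rw [alt_T hs ht hred.1, alt_T ht hs hred.2]
    exact T_congr hbraid
  · intro k hk1 hkn
    have h1 := hredle k hkn
    rw [alt_T hs ht h1.1, alt_T ht hs h1.2]
    constructor
    · apply trace_T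
      intro h
      have h3 := (LieExceptional.BNPairCore.len_eq_zero_iff (alt_mem_N hs ht k)).2 h
      rw [h1.1] at h3
      omega
    · apply trace_T
      intro h
      have h3 := (LieExceptional.BNPairCore.len_eq_zero_iff (alt_mem_N ht hs k)).2 h
      rw [h1.2] at h3
      omega

/-- all `2 √(st) cos (π j / n)`, `2 n` = half the order of the Weyl group, are rational -/
theorem rat_cos_BN [Finite G] (hst : s ≠ t) (hS : P.S = {s, t}) {n : ℕ}
    (hidx : ((P.B ⊓ P.N).subgroupOf P.N).index = 2 * (2 * n)) (hn : 2 ≤ n) :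
    ∀ j : ℕ, 1 ≤ j → j < n →
      ∃ z : ℚ, 2 * Real.sqrt ((q P s : ℝ) * (q P t : ℝ)) * cos (π * j / n) = z := by
  classical
  have := Fintype.ofFinite (G ⧸ P.B)
  have hs : s ∈ P.S := by rw [hS]; simp
  have ht : t ∈ P.S := by rw [hS]; simp
  have hq1 : 2 ≤ q P s := two_le_q hs
  have hq2 : 2 ≤ q P t := two_le_q ht
  obtain ⟨n', hn', hbr, htr, hidx'⟩ := hecke (P := P) hst hS
  have hnn : n' = 2 * n := by omega
  subst hnn
  refine rat_cos (V := (G ⧸ P.B) → ℝ) (a := Matrix.toLinAlgEquiv' (T P s)) (b := Matrix.toLinAlgEquiv' (T P t))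
    (s' := (q P s : ℚ)) (t' := (q P t : ℚ)) (by push_cast; rfl) (by push_cast; rfl)
    (by exact_mod_cast hq1) (by exact_mod_cast hq2) ?_ ?_ hn ?_ ?_
  · rw [← map_mul, T_sq hs, map_add, map_smul, map_smul, map_one]
  · rw [← map_mul, T_sq ht, map_add, map_smul, map_smul, map_one]
  · rw [← FeitHigmanLin.alt_two_mul, ← FeitHigmanLin.alt_two_mul, alt_toLin, alt_toLin, hbr]
  · intro k hk1 hk2
    rw [alt_toLin, alt_toLin]
    have h := htr k hk1 hk2
    constructor
    · rw [← h.1]; exact Matrix.trace_toLin'_eq _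
    · rw [← h.2]; exact Matrix.trace_toLin'_eq _

theorem isSquare_of_rat {k : ℕ} {x : ℝ} (hx : x * x = k) (hz : ∃ z : ℚ, x = z) : IsSquare k := by
  obtain ⟨z, rfl⟩ := hz
  have h1 : ((z * z : ℚ) : ℝ) = ((k : ℚ) : ℝ) := by push_cast; exact hx
  have h2 : z * z = (k : ℚ) := by exact_mod_cast h1
  exact Rat.isSquare_natCast_iff.1 ⟨z, h2.symm⟩

/-- **Feit–Higman, octagons.** -/
theorem isSquare_two_mul [Finite G] (hst : s ≠ t) (hS : P.S = {s, t})
    (hidx : ((P.B ⊓ P.N).subgroupOf P.N).index = 16) : IsSquare (2 * q P s * q P t) := by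
  obtain ⟨z, hz⟩ := rat_cos_BN hst hS (n := 4) (by omega) (by norm_num) 1 le_rfl (by norm_num)
  refine isSquare_of_rat ?_ ⟨z, hz⟩
  have e1 : π * ((1 : ℕ) : ℝ) / ((4 : ℕ) : ℝ) = π / 4 := by push_cast; ring
  rw [e1, cos_pi_div_four]
  have h1 : Real.sqrt ((q P s : ℝ) * (q P t : ℝ)) * Real.sqrt ((q P s : ℝ) * (q P t : ℝ)) =
      (q P s : ℝ) * (q P t : ℝ) := Real.mul_self_sqrt (by positivity)
  have h2 : Real.sqrt 2 * Real.sqrt 2 = 2 := Real.mul_self_sqrt (by norm_num)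
  push_cast
  calc 2 * √(↑(q P s) * ↑(q P t)) * (√2 / 2) * (2 * √(↑(q P s) * ↑(q P t)) * (√2 / 2))
      = (√(↑(q P s) * ↑(q P t)) * √(↑(q P s) * ↑(q P t))) * (√2 * √2) := by ring
    _ = 2 * ↑(q P s) * ↑(q P t) := by rw [h1, h2]; ring

/-- **Feit–Higman, hexagons.** -/
theorem isSquare_mul [Finite G] (hst : s ≠ t) (hS : P.S = {s, t})
    (hidx : ((P.B ⊓ P.N).subgroupOf P.N).index = 12) : IsSquare (q P s * q P t) := by
  obtain ⟨z, hz⟩ := rat_cos_BN hst hS (n := 3) (by omega) (by norm_num) 1 le_rfl (by norm_num)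
  refine isSquare_of_rat ?_ ⟨z, hz⟩
  have e1 : π * ((1 : ℕ) : ℝ) / ((3 : ℕ) : ℝ) = π / 3 := by push_cast; ring
  rw [e1, cos_pi_div_three]
  have h1 : Real.sqrt ((q P s : ℝ) * (q P t : ℝ)) * Real.sqrt ((q P s : ℝ) * (q P t : ℝ)) =
      (q P s : ℝ) * (q P t : ℝ) := Real.mul_self_sqrt (by positivity)
  push_cast
  calc 2 * √(↑(q P s) * ↑(q P t)) * (1 / 2) * (2 * √(↑(q P s) * ↑(q P t)) * (1 / 2))
      = (√(↑(q P s) * ↑(q P t)) * √(↑(q P s) * ↑(q P t))) := by ring
    _ = ↑(q P s) * ↑(q P t) := by rw [h1]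

end Cfsg.Agent.LieRecognition.FHSquare
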