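import Mathlib

/-!
# The Feit–Higman theorem: algebraic part

Two symmetric real matrices `S`, `T` with `S² = (q-1) S + q`, `T² = (r-1) T + r`, the braid relation of
length `n` and vanishing traces of the alternating words.
-/

set_option autoImplicit false

namespace Cfsg.Agent.LieRecognition.FeitHigmanAlg

section Ring

variable {A : Type*} [Ring A] [Algebra ℝ A] (S T : A) (q r : ℝ)

/-- the central element `ST + TS - (r-1) S - (q-1) T + (q-1)(r-1)` -/
def cz : A := S * T + T * S - (r - 1) • S - (q - 1) • T + ((q - 1) * (r - 1)) • (1 : A)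

theorem cz_def : cz S T q r = S * T + T * S - (r - 1) • S - (q - 1) • T + ((q - 1) * (r - 1)) • (1 : A) :=
  rfl

variable {S T q r}

theorem sq_left (hS : S * S = (q - 1) • S + q • (1 : A)) (x : A) :
    S * (S * x) = (q - 1) • (S * x) + q • x := by
  rw [← mul_assoc, hS, add_mul, smul_mul_assoc, smul_mul_assoc, one_mul]

theorem commute_left (hS : S * S = (q - 1) • S + q • (1 : A)) : S * cz S T q r = cz S T q r * S := by
  have hS' := sq_left hS
  simp only [cz_def, mul_add, add_mul, mul_sub, sub_mul, smul_mul_assoc, mul_smul_comm, smul_add,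
    smul_sub, mul_one, one_mul, mul_assoc, hS, hS']
  module

theorem commute_right (hT : T * T = (r - 1) • T + r • (1 : A)) : T * cz S T q r = cz S T q r * T := by
  have hT' := sq_left hT
  simp only [cz_def, mul_add, add_mul, mul_sub, sub_mul, smul_mul_assoc, mul_smul_comm, smul_add,
    smul_sub, mul_one, one_mul, mul_assoc, hT, hT']
  module

/-- `X² = Z X - q r` for `X = S T` -/
theorem mul_sq (hS : S * S = (q - 1) • S + q • (1 : A)) (hT : T * T = (r - 1) • T + r • (1 : A)) :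
    (S * T) * (S * T) = cz S T q r * (S * T) - (q * r) • (1 : A) := by
  have hS' := sq_left hS
  have hT' := sq_left hT
  simp only [cz_def, mul_add, add_mul, mul_sub, sub_mul, smul_mul_assoc, mul_smul_comm, smul_add,
    smul_sub, mul_one, one_mul, mul_assoc, hS, hS', hT, hT']
  module

theorem cz_swap : cz T S r q = cz S T q r := by
  simp only [cz_def]
  module

theorem diff_sq (hS : S * S = (q - 1) • S + q • (1 : A)) (hT : T * T = (r - 1) • T + r • (1 : A)) :
    (S * T - T * S) * (S * T - T * S) =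
      - (((q * r + 1) • (1 : A) - cz S T q r) * (cz S T q r + (q + r) • (1 : A))) := by
  have hS' := sq_left hS
  have hT' := sq_left hT
  simp only [cz_def, mul_add, add_mul, mul_sub, sub_mul, smul_mul_assoc, mul_smul_comm, smul_add,
    smul_sub, mul_one, one_mul, mul_assoc, hS, hS', hT, hT']
  module

theorem anticomm_left (hS : S * S = (q - 1) • S + q • (1 : A)) :
    ((2 : ℝ) • S - (q - 1) • (1 : A)) * (S * T - T * S) =
      - ((S * T - T * S) * ((2 : ℝ) • S - (q - 1) • (1 : A))) := by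
  have hS' := sq_left hS
  simp only [mul_add, add_mul, mul_sub, sub_mul, smul_mul_assoc, mul_smul_comm, smul_add,
    smul_sub, mul_one, one_mul, mul_assoc, hS, hS']
  module

theorem anticomm_right (hT : T * T = (r - 1) • T + r • (1 : A)) :
    ((2 : ℝ) • T - (r - 1) • (1 : A)) * (S * T - T * S) =
      - ((S * T - T * S) * ((2 : ℝ) • T - (r - 1) • (1 : A))) := by
  have hT' := sq_left hT
  simp only [mul_add, add_mul, mul_sub, sub_mul, smul_mul_assoc, mul_smul_comm, smul_add,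
    smul_sub, mul_one, one_mul, mul_assoc, hT, hT']
  module

end Ring

section Polys

open Polynomial

/-- `p_k(λ + Q/λ) = λ^k + (Q/λ)^k` -/
noncomputable def pp (Q : ℝ) : ℕ → ℝ[X]
  | 0 => 2
  | 1 => X
  | (k + 2) => X * pp Q (k + 1) - C Q * pp Q k

theorem pp_zero (Q : ℝ) : pp Q 0 = 2 := rfl
theorem pp_one (Q : ℝ) : pp Q 1 = X := rfl
theorem pp_add_two (Q : ℝ) (k : ℕ) : pp Q (k + 2) = X * pp Q (k + 1) - C Q * pp Q k := rfl

/-- `a_k(λ + μ) = (λ^k - μ^k)/(λ - μ)` for `λ μ = Q` -/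
noncomputable def aa (Q : ℝ) : ℕ → ℝ[X]
  | 0 => 0
  | 1 => 1
  | (k + 2) => X * aa Q (k + 1) - C Q * aa Q k

theorem aa_zero (Q : ℝ) : aa Q 0 = 0 := rfl
theorem aa_one (Q : ℝ) : aa Q 1 = 1 := rfl
theorem aa_add_two (Q : ℝ) (k : ℕ) : aa Q (k + 2) = X * aa Q (k + 1) - C Q * aa Q k := rfl

/-- `κ(x) = (Q + 1 - x)(x + q + r)`, `Q = q r` -/
noncomputable def kap (q r : ℝ) : ℝ[X] := (C (q * r + 1) - X) * (X + C (q + r))

theorem kap_eval (q r c : ℝ) : (kap q r).eval c = (q * r + 1 - c) * (c + (q + r)) := by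
  simp [kap]

theorem kap_def (q r : ℝ) : kap q r = (C (q * r + 1) - X) * (X + C (q + r)) := rfl

theorem kap_expand (q r : ℝ) :
    kap q r = - (X * X) + C ((q - 1) * (r - 1)) * X + C ((q * r + 1) * (q + r)) := by
  rw [kap_def]
  simp only [map_mul, map_sub, map_add, map_one]
  ring

/-- values of `p_k` -/
theorem pp_eval (r0 θ : ℝ) (k : ℕ) :
    (pp (r0 ^ 2) k).eval (2 * r0 * Real.cos θ) = 2 * r0 ^ k * Real.cos (k * θ) := by
  induction k using Nat.twoStepInduction with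
  | zero => simp [pp_zero]
  | one => simp [pp_one]
  | more k ih0 ih1 =>
    rw [pp_add_two, eval_sub, eval_mul, eval_mul, eval_X, eval_C, ih0, ih1]
    have h1 : Real.cos (((k + 2 : ℕ) : ℝ) * θ) =
        2 * Real.cos θ * Real.cos (((k + 1 : ℕ) : ℝ) * θ) - Real.cos ((k : ℝ) * θ) := by
      have e1 : ((k + 2 : ℕ) : ℝ) * θ = ((k + 1 : ℕ) : ℝ) * θ + θ := by push_cast; ring
      have e2 : (k : ℝ) * θ = ((k + 1 : ℕ) : ℝ) * θ - θ := by push_cast; ring
      rw [e1, e2, Real.cos_add, Real.cos_sub]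
      ring
    rw [h1]
    ring

theorem aa_eval (r0 θ : ℝ) (k : ℕ) :
    r0 * Real.sin θ * (aa (r0 ^ 2) k).eval (2 * r0 * Real.cos θ) = r0 ^ k * Real.sin (k * θ) := by
  induction k using Nat.twoStepInduction with
  | zero => simp [aa_zero]
  | one => simp [aa_one]
  | more k ih0 ih1 =>
    rw [aa_add_two, eval_sub, eval_mul, eval_mul, eval_X, eval_C]
    have h1 : Real.sin (((k + 2 : ℕ) : ℝ) * θ) =
        2 * Real.cos θ * Real.sin (((k + 1 : ℕ) : ℝ) * θ) - Real.sin ((k : ℝ) * θ) := by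
      have e1 : ((k + 2 : ℕ) : ℝ) * θ = ((k + 1 : ℕ) : ℝ) * θ + θ := by push_cast; ring
      have e2 : (k : ℝ) * θ = ((k + 1 : ℕ) : ℝ) * θ - θ := by push_cast; ring
      rw [e1, e2, Real.sin_add, Real.sin_sub]
      ring
    rw [h1]
    calc r0 * Real.sin θ * (2 * r0 * Real.cos θ * (aa (r0 ^ 2) (k + 1)).eval (2 * r0 * Real.cos θ) -
          r0 ^ 2 * (aa (r0 ^ 2) k).eval (2 * r0 * Real.cos θ))
        = 2 * r0 * Real.cos θ * (r0 * Real.sin θ * (aa (r0 ^ 2) (k + 1)).eval (2 * r0 * Real.cos θ))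
          - r0 ^ 2 * (r0 * Real.sin θ * (aa (r0 ^ 2) k).eval (2 * r0 * Real.cos θ)) := by ring
      _ = _ := by rw [ih0, ih1]; ring

theorem aa_pos {r0 c : ℝ} (h0 : 0 < r0) (hc : 2 * r0 ≤ c) (k : ℕ) :
    0 ≤ (aa (r0 ^ 2) k).eval c ∧ r0 * (aa (r0 ^ 2) k).eval c < (aa (r0 ^ 2) (k + 1)).eval c := by
  induction k with
  | zero => simp [aa_zero, aa_one]
  | succ k ih =>
    obtain ⟨h1, h2⟩ := ih
    have h3 : 0 ≤ (aa (r0 ^ 2) (k + 1)).eval c := le_of_lt (lt_of_le_of_lt (by positivity) h2)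
    refine ⟨h3, ?_⟩
    rw [aa_add_two, eval_sub, eval_mul, eval_mul, eval_X, eval_C]
    nlinarith [mul_nonneg (sub_nonneg.mpr hc) h3, mul_lt_mul_of_pos_left h2 h0]

theorem aa_neg (Q c : ℝ) (k : ℕ) : (aa Q k).eval (-c) = (-1) ^ (k + 1) * (aa Q k).eval c := by
  induction k using Nat.twoStepInduction with
  | zero => simp [aa_zero]
  | one => simp [aa_one]
  | more k ih0 ih1 =>
    rw [aa_add_two, eval_sub, eval_mul, eval_mul, eval_X, eval_C, ih0, ih1]
    simp only [eval_sub, eval_mul, eval_X, eval_C]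
    ring

/-- if `sin (n θ / 2) = 0`, `0 < θ < π`, then `θ = 2 π i / n`, `1 ≤ i ≤ (n-1)/2` -/
theorem exists_index {n : ℕ} (hn : 0 < n) {θ : ℝ} (h0 : 0 < θ) (hπ : θ < Real.pi)
    (hs : Real.sin (n * θ / 2) = 0) :
    ∃ i : ℕ, 1 ≤ i ∧ i ≤ (n - 1) / 2 ∧ θ = i * (2 * Real.pi / n) := by
  rw [Real.sin_eq_zero_iff] at hs
  obtain ⟨k, hk⟩ := hs
  have hn' : (0 : ℝ) < n := by exact_mod_cast hn
  have hk0 : (0 : ℝ) < k := by
    have : (0 : ℝ) < k * Real.pi := by rw [hk]; positivity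
    exact (pos_iff_pos_of_mul_pos this).mpr Real.pi_pos
  have hk1 : (0 : ℤ) < k := by exact_mod_cast hk0
  obtain ⟨i, rfl⟩ := Int.eq_ofNat_of_zero_le hk1.le
  have hθ : θ = (i : ℝ) * (2 * Real.pi / n) := by
    have : (i : ℝ) * Real.pi = n * θ / 2 := by simpa using hk
    field_simp
    linarith
  refine ⟨i, by exact_mod_cast hk1, ?_, hθ⟩
  have h2 : 2 * (i : ℝ) < n := by
    have h3 : (i : ℝ) * (2 * Real.pi / n) < Real.pi := hθ ▸ hπ
    have h4 : (i : ℝ) * (2 * Real.pi / n) = (2 * i / n) * Real.pi := by ring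
    rw [h4] at h3
    have h5 : 2 * (i : ℝ) / n < 1 := by
      by_contra h6
      push Not at h6
      nlinarith [Real.pi_pos]
    rw [div_lt_one hn'] at h5
    exact h5
  have h3 : 2 * i < n := by exact_mod_cast h2
  omega

theorem root_even {r0 c : ℝ} (h0 : 0 < r0) {n m : ℕ} (hm : 1 ≤ m) (hn : n = 2 * m)
    (h : (aa (r0 ^ 2) m).eval c = 0) :
    ∃ i : ℕ, 1 ≤ i ∧ i ≤ (n - 1) / 2 ∧ c = 2 * r0 * Real.cos (i * (2 * Real.pi / n)) := by
  obtain ⟨m, rfl⟩ := Nat.exists_eq_add_of_le' hm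
  by_cases h1 : 2 * r0 ≤ c
  · obtain ⟨h2, h3⟩ := aa_pos h0 h1 m
    rw [h] at h3
    exact absurd h3 (not_lt.mpr (by positivity))
  by_cases h1' : c ≤ -(2 * r0)
  · obtain ⟨h2, h3⟩ := aa_pos h0 (le_neg.mpr h1' : 2 * r0 ≤ -c) m
    rw [aa_neg _ _ (m + 1), h, mul_zero] at h3
    exact absurd h3 (not_lt.mpr (by positivity))
  push Not at h1 h1'
  have hc1 : -1 < c / (2 * r0) := by
    rw [lt_div_iff₀ (by positivity)]; linarith
  have hc2 : c / (2 * r0) < 1 := by
    rw [div_lt_one (by positivity)]; exact h1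
  set θ := Real.arccos (c / (2 * r0)) with hθ
  have hcos : Real.cos θ = c / (2 * r0) := Real.cos_arccos hc1.le hc2.le
  have hc : c = 2 * r0 * Real.cos θ := by rw [hcos]; field_simp
  have hθ0 : 0 < θ := Real.arccos_pos.mpr hc2
  have hθπ : θ < Real.pi := by
    rw [hθ]
    rcases lt_or_eq_of_le (Real.arccos_le_pi (c / (2 * r0))) with h5 | h5
    · exact h5
    · exfalso
      have := Real.cos_arccos hc1.le hc2.le
      rw [h5, Real.cos_pi] at this
      linarith
  have h6 := aa_eval r0 θ (m + 1)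
  rw [← hc, h, mul_zero] at h6
  have h7 : Real.sin (((m + 1 : ℕ) : ℝ) * θ) = 0 := by
    rcases mul_eq_zero.mp h6.symm with h8 | h8
    · exact absurd h8 (pow_ne_zero _ h0.ne')
    · exact h8
  obtain ⟨i, hi1, hi2, hi3⟩ := exists_index (n := n) (by omega) hθ0 hθπ (by
    rw [← h7]
    congr 1
    rw [hn]
    push_cast
    ring)
  exact ⟨i, hi1, hi2, by rw [hc, hi3]⟩

theorem root_odd {r0 c : ℝ} (h0 : 0 < r0) {n m : ℕ} (hn : n = 2 * m + 1)
    (h : (aa (r0 ^ 2) (m + 1)).eval c + r0 * (aa (r0 ^ 2) m).eval c = 0) :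
    ∃ i : ℕ, 1 ≤ i ∧ i ≤ (n - 1) / 2 ∧ c = 2 * r0 * Real.cos (i * (2 * Real.pi / n)) := by
  by_cases h1 : 2 * r0 ≤ c
  · obtain ⟨h2, h3⟩ := aa_pos h0 h1 m
    nlinarith
  by_cases h1' : c ≤ -(2 * r0)
  · obtain ⟨h2, h3⟩ := aa_pos h0 (le_neg.mpr h1' : 2 * r0 ≤ -c) m
    rw [aa_neg, aa_neg] at h3
    have h4 : (aa (r0 ^ 2) (m + 1)).eval c = - (r0 * (aa (r0 ^ 2) m).eval c) := by linarith
    rw [h4] at h3
    have h5 : (-1 : ℝ) ^ (m + 1 + 1) * -(r0 * (aa (r0 ^ 2) m).eval c) =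
        r0 * ((-1) ^ (m + 1) * (aa (r0 ^ 2) m).eval c) := by ring
    rw [h5] at h3
    exact absurd h3 (lt_irrefl _)
  push Not at h1 h1'
  have hc1 : -1 < c / (2 * r0) := by
    rw [lt_div_iff₀ (by positivity)]; linarith
  have hc2 : c / (2 * r0) < 1 := by
    rw [div_lt_one (by positivity)]; exact h1
  set θ := Real.arccos (c / (2 * r0)) with hθ
  have hcos : Real.cos θ = c / (2 * r0) := Real.cos_arccos hc1.le hc2.le
  have hc : c = 2 * r0 * Real.cos θ := by rw [hcos]; field_simp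
  have hθ0 : 0 < θ := Real.arccos_pos.mpr hc2
  have hθπ : θ < Real.pi := by
    rw [hθ]
    rcases lt_or_eq_of_le (Real.arccos_le_pi (c / (2 * r0))) with h5 | h5
    · exact h5
    · exfalso
      have := Real.cos_arccos hc1.le hc2.le
      rw [h5, Real.cos_pi] at this
      linarith
  have h6 := aa_eval r0 θ (m + 1)
  have h7 := aa_eval r0 θ m
  rw [← hc] at h6 h7
  have h8 : r0 ^ (m + 1) * (Real.sin (((m + 1 : ℕ) : ℝ) * θ) + Real.sin ((m : ℝ) * θ)) = 0 := by
    have e : r0 ^ (m + 1) * (Real.sin (((m + 1 : ℕ) : ℝ) * θ) + Real.sin ((m : ℝ) * θ)) =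
        r0 ^ (m + 1) * Real.sin (((m + 1 : ℕ) : ℝ) * θ) + r0 * (r0 ^ m * Real.sin ((m : ℝ) * θ)) := by
      ring
    rw [e, ← h6, ← h7]
    have : r0 * Real.sin θ * (aa (r0 ^ 2) (m + 1)).eval c + r0 * (r0 * Real.sin θ * (aa (r0 ^ 2) m).eval c)
        = r0 * Real.sin θ * ((aa (r0 ^ 2) (m + 1)).eval c + r0 * (aa (r0 ^ 2) m).eval c) := by ring
    rw [this, h, mul_zero]
  have h9 : Real.sin (((m + 1 : ℕ) : ℝ) * θ) + Real.sin ((m : ℝ) * θ) = 0 := by
    rcases mul_eq_zero.mp h8 with h10 | h10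
    · exact absurd h10 (pow_ne_zero _ h0.ne')
    · exact h10
  have h10 : Real.sin (((m + 1 : ℕ) : ℝ) * θ) + Real.sin ((m : ℝ) * θ) =
      2 * Real.sin (n * θ / 2) * Real.cos (θ / 2) := by
    have e1 : ((m + 1 : ℕ) : ℝ) * θ = n * θ / 2 + θ / 2 := by rw [hn]; push_cast; ring
    have e2 : (m : ℝ) * θ = n * θ / 2 - θ / 2 := by rw [hn]; push_cast; ring
    rw [e1, e2, Real.sin_add, Real.sin_sub]
    ring
  have h11 : 0 < Real.cos (θ / 2) :=
    Real.cos_pos_of_mem_Ioo ⟨by linarith [Real.pi_pos], by linarith⟩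
  have h12 : Real.sin (n * θ / 2) = 0 := by
    rw [h10] at h9
    rcases mul_eq_zero.mp h9 with h13 | h13
    · linarith
    · exact absurd h13 h11.ne'
  obtain ⟨i, hi1, hi2, hi3⟩ := exists_index (n := n) (by omega) hθ0 hθπ h12
  exact ⟨i, hi1, hi2, by rw [hc, hi3]⟩

/-- sums of cosines over a full period -/
theorem sum_cos {n : ℕ} (hn : 0 < n) (k : ℕ) (hk : ¬ n ∣ k) :
    ∑ i ∈ Finset.range n, Real.cos (k * (i * (2 * Real.pi / n))) = 0 := by
  have hn' : (n : ℂ) ≠ 0 := by exact_mod_cast hn.ne'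
  set ω : ℂ := Complex.exp (((k * (2 * Real.pi / n) : ℝ) : ℂ) * Complex.I) with hω
  have hωn : ω ^ n = 1 := by
    rw [hω, ← Complex.exp_nat_mul]
    rw [Complex.exp_eq_one_iff]
    refine ⟨k, ?_⟩
    push_cast
    field_simp
  have hω1 : ω ≠ 1 := by
    intro h
    rw [hω, Complex.exp_eq_one_iff] at h
    obtain ⟨m, hm⟩ := h
    apply hk
    have h1 : ((k : ℂ) * (2 * Real.pi / n)) * Complex.I = m * (2 * Real.pi * Complex.I) := by
      rw [← hm]; push_cast; ring
    have h2 : (k : ℂ) = m * n := by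
      have hpi : (2 * Real.pi * Complex.I : ℂ) ≠ 0 := Complex.two_pi_I_ne_zero
      have h3 : (k : ℂ) * (2 * Real.pi * Complex.I) = (m * n) * (2 * Real.pi * Complex.I) := by
        have h4 : (k : ℂ) * (2 * Real.pi * Complex.I) = n * (((k : ℂ) * (2 * Real.pi / n)) * Complex.I) := by
          field_simp
        rw [h4, h1]; ring
      exact mul_right_cancel₀ hpi h3
    have h3 : (k : ℤ) = m * n := by exact_mod_cast h2
    exact Int.natCast_dvd_natCast.mp ⟨m, by rw [h3]; ring⟩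
  have hsum : ∑ i ∈ Finset.range n, ω ^ i = 0 := by
    have h := mul_geom_sum ω n
    rw [hωn, sub_self] at h
    rcases mul_eq_zero.mp h with h1 | h1
    · exact absurd (sub_eq_zero.mp h1) hω1
    · exact h1
  have hre : ∀ i : ℕ, (ω ^ i).re = Real.cos (k * (i * (2 * Real.pi / n))) := by
    intro i
    rw [hω, ← Complex.exp_nat_mul]
    have : (i : ℂ) * (((k * (2 * Real.pi / n) : ℝ) : ℂ) * Complex.I) =
        ((k * (i * (2 * Real.pi / n)) : ℝ) : ℂ) * Complex.I := by push_cast; ring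
    rw [this, Complex.exp_ofReal_mul_I_re]
  have := congrArg Complex.re hsum
  rw [Complex.re_sum] at this
  simpa [hre] using this

end Polys

end Cfsg.Agent.LieRecognition.FeitHigmanAlg
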