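import Mathlib

/-!
# The Feit–Higman theorem: number theory

If all the numbers `y_j = 2 √(a b) cos (π j / m)` (`0 < j < m`) satisfy the rational quadratic equations coming
from the integrality of the multiplicities of the two-dimensional representations of the Hecke algebra of the
dihedral group of order `4 m`, with parameters `a, b ≥ 2`, then `m ≤ 4`.
-/

set_option autoImplicit false

namespace Cfsg.Agent.LieRecognition.FeitHigmanArith

open Real Polynomial

/-- If `2 cos (2 π / m)` satisfies a rational quadratic equation then `φ(m) ≤ 4`. -/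
theorem totient_le_four {m : ℕ} (hm : 0 < m) (u v : ℚ)
    (h : (2 * Real.cos (2 * π / m)) ^ 2 = u * (2 * Real.cos (2 * π / m)) + v) : Nat.totient m ≤ 4 := by
  have hζ := Complex.isPrimitiveRoot_exp m hm.ne'
  set ζ : ℂ := Complex.exp (2 * π * Complex.I / m) with hζdef
  have hζ0 : ζ ≠ 0 := Complex.exp_ne_zero _
  have hsum : ζ + ζ⁻¹ = ((2 * Real.cos (2 * π / m) : ℝ) : ℂ) := by
    rw [hζdef, ← Complex.exp_neg]
    push_cast
    rw [Complex.cos]
    have h1 : 2 * (π : ℂ) / m * Complex.I = 2 * π * Complex.I / m := by ring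
    have h2 : -(2 * (π : ℂ) / m) * Complex.I = -(2 * π * Complex.I / m) := by ring
    rw [h1, h2]
    ring
  have hC : (ζ + ζ⁻¹) ^ 2 = u * (ζ + ζ⁻¹) + v := by
    rw [hsum]
    exact_mod_cast congrArg (fun x : ℝ => (x : ℂ)) h
  have hpoly : ζ ^ 4 - u * ζ ^ 3 + (2 - v) * ζ ^ 2 - u * ζ + 1 = 0 := by
    have h3 : ζ ^ 2 * ((ζ + ζ⁻¹) ^ 2 - (u * (ζ + ζ⁻¹) + v)) = 0 := by rw [hC]; ring
    have h4 : ζ ^ 2 * ((ζ + ζ⁻¹) ^ 2 - (u * (ζ + ζ⁻¹) + v)) =
        ζ ^ 4 - u * ζ ^ 3 + (2 - v) * ζ ^ 2 - u * ζ + 1 := by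
      field_simp
      ring
    rw [← h4, h3]
  let p : ℚ[X] := X ^ 4 - C u * X ^ 3 + C (2 - v) * X ^ 2 - C u * X + 1
  have hp : aeval ζ p = 0 := by
    have : aeval ζ p = ζ ^ 4 - u * ζ ^ 3 + (2 - v) * ζ ^ 2 - u * ζ + 1 := by
      simp [p]
    rw [this, hpoly]
  have hdeg : p.natDegree = 4 := by
    simp only [p]
    compute_degree!
  have hp0 : p ≠ 0 := by
    intro h0
    rw [h0] at hdeg
    simp at hdeg
  have h5 : (minpoly ℚ ζ).natDegree ≤ p.natDegree :=
    natDegree_le_natDegree (minpoly.degree_le_of_ne_zero ℚ ζ hp0 hp)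
  rwa [← cyclotomic_eq_minpoly_rat hζ hm, natDegree_cyclotomic, hdeg] at h5

theorem cases_of_totient_le {m : ℕ} (hm : 0 < m) (h : Nat.totient m ≤ 4) :
    m ≤ 4 ∨ 5 ∣ m ∨ 6 ∣ m ∨ 8 ∣ m := by
  by_contra hcon
  push Not at hcon
  obtain ⟨h4, h5, h6, h8⟩ := hcon
  have key : ∀ k, k ∣ m → Nat.totient k ≤ 4 := fun k hk =>
    (Nat.le_of_dvd (Nat.totient_pos.2 hm) (Nat.totient_dvd_of_dvd hk)).trans h
  have hp : ∀ p, p.Prime → p ∣ m → p = 2 ∨ p = 3 := by
    intro p hp hpm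
    have h1 := key p hpm
    rw [Nat.totient_prime hp] at h1
    have h2 : p ≤ 5 := by omega
    have h3 := hp.two_le
    interval_cases p
    · left; rfl
    · right; rfl
    · exact absurd hp (by norm_num)
    · exact absurd hpm h5
  by_cases h2 : 2 ∣ m
  · have h3 : ¬ 3 ∣ m := fun h3 => h6 ((by norm_num : Nat.Coprime 2 3).mul_dvd_of_dvd_of_dvd h2 h3)
    have h7 : m = 2 ^ m.primeFactorsList.length :=
      Nat.eq_prime_pow_of_unique_prime_dvd hm.ne' (fun {d} hd hdm => by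
        rcases hp d hd hdm with h | h
        · exact h
        · exact absurd (h ▸ hdm) h3)
    set l := m.primeFactorsList.length
    rcases Nat.lt_or_ge l 3 with hl | hl
    · interval_cases l <;> omega
    · apply h8
      rw [h7]
      exact pow_dvd_pow 2 hl
  · have h7 : m = 3 ^ m.primeFactorsList.length :=
      Nat.eq_prime_pow_of_unique_prime_dvd hm.ne' (fun {d} hd hdm => by
        rcases hp d hd hdm with h | h
        · exact absurd (h ▸ hdm) h2
        · exact h)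
    set l := m.primeFactorsList.length
    rcases Nat.lt_or_ge l 2 with hl | hl
    · interval_cases l <;> omega
    · have h9 : 9 ∣ m := by
        rw [h7]
        exact pow_dvd_pow 3 hl
      have h10 := key 9 h9
      have h11 : Nat.totient 9 = 6 := by decide
      omega

/-- The equation satisfied by `y`. -/
theorem quad_eq {d σ : ℕ} {ρ : ℚ} {y : ℝ}
    (h : (ρ : ℝ) * ((d + 1 - y) * (σ + y)) = 4 * d - y ^ 2) :
    ((ρ : ℝ) - 1) * y ^ 2 = ρ * (d + 1 - σ) * y - (4 * d - ρ * (d + 1) * σ) := by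
  linear_combination -h

/-- If `y ^ 2` is rational then so is `y`. -/
theorem rational_of_sq {d σ : ℕ} {ρ : ℚ} (hρ : 0 < ρ) (hd : σ < d + 1) {y : ℝ}
    (h : (ρ : ℝ) * ((d + 1 - y) * (σ + y)) = 4 * d - y ^ 2) {q : ℚ} (hq : y ^ 2 = q) :
    ∃ z : ℚ, y = z := by
  have h1 := quad_eq h
  have hg : (ρ : ℝ) * (d + 1 - σ) ≠ 0 := by
    have h2 : (0 : ℝ) < d + 1 - σ := by
      have : (σ : ℝ) < d + 1 := by exact_mod_cast hd
      linarith
    have h3 : (0 : ℝ) < ρ := by exact_mod_cast hρ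
    positivity
  refine ⟨((ρ - 1) * q + (4 * d - ρ * (d + 1) * σ)) / (ρ * (d + 1 - σ)), ?_⟩
  push_cast
  rw [eq_div_iff hg, ← hq]
  linear_combination -h1

/-- `y ^ 2` satisfies a rational quadratic equation. -/
theorem sq_quadratic {d σ : ℕ} {ρ : ℚ} (hρ : 0 < ρ) (hd : σ < d + 1) {y : ℝ}
    (h : (ρ : ℝ) * ((d + 1 - y) * (σ + y)) = 4 * d - y ^ 2) :
    ∃ u v : ℚ, (y ^ 2) ^ 2 = u * y ^ 2 + v := by
  have h1 := quad_eq h
  by_cases hρ1 : ρ = 1
  · subst hρ1
    have hg : ((d : ℝ) + 1 - σ) ≠ 0 := by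
      have : (σ : ℝ) < d + 1 := by exact_mod_cast hd
      intro h0
      linarith
    have hy : y = (((4 * d - (d + 1) * σ) / (d + 1 - σ) : ℚ) : ℝ) := by
      push_cast
      rw [eq_div_iff hg]
      push_cast at h1
      linear_combination -h1
    refine ⟨0, ((4 * d - (d + 1) * σ) / (d + 1 - σ)) ^ 4, ?_⟩
    push_cast
    push_cast at hy
    rw [← hy]
    ring
  · have hρ2 : (ρ : ℝ) - 1 ≠ 0 := by
      intro h0
      apply hρ1
      have : (ρ : ℝ) = 1 := by linarith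
      exact_mod_cast this
    set α : ℚ := ρ * (d + 1 - σ) / (ρ - 1) with hα
    set β : ℚ := -(4 * d - ρ * (d + 1) * σ) / (ρ - 1) with hβ
    have h2 : y ^ 2 = α * y + β := by
      rw [hα, hβ]
      push_cast
      field_simp
      linear_combination h1
    refine ⟨α ^ 2 + 2 * β, - β ^ 2, ?_⟩
    push_cast
    have h3 : (y ^ 2) ^ 2 = α ^ 2 * y ^ 2 + 2 * β * (α * y) + β ^ 2 := by
      rw [h2]; ring_nf
      rw [h2]; ring
    rw [h3]
    linear_combination (-2 * (β : ℝ)) * h2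

theorem rat_of_sqrt_lin {x : ℝ} (hx : Irrational x) {p q : ℚ} (h : (p : ℝ) + q * x = 0) :
    p = 0 ∧ q = 0 := by
  have hq : q = 0 := by
    by_contra hq
    apply hx
    refine ⟨-p / q, ?_⟩
    have : (q : ℝ) ≠ 0 := by exact_mod_cast hq
    push_cast
    field_simp
    linear_combination -h
  refine ⟨?_, hq⟩
  rw [hq] at h
  simpa using h

/-- Solve the quadratic equation for the linear term. -/
theorem lin_solve {d σ : ℕ} {ρ : ℚ} (hρ : 0 < ρ) (hd : σ < d + 1) {y : ℝ}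
    (h : (ρ : ℝ) * ((d + 1 - y) * (σ + y)) = 4 * d - y ^ 2) :
    y = (((ρ - 1) / (ρ * (d + 1 - σ)) : ℚ) : ℝ) * y ^ 2
      + (((4 * d - ρ * (d + 1) * σ) / (ρ * (d + 1 - σ)) : ℚ) : ℝ) := by
  have h1 := quad_eq h
  have hg : (ρ : ℝ) * (d + 1 - σ) ≠ 0 := by
    have h2 : (0 : ℝ) < d + 1 - σ := by
      have : (σ : ℝ) < d + 1 := by exact_mod_cast hd
      linarith
    have h3 : (0 : ℝ) < ρ := by exact_mod_cast hρ
    positivity
  push_cast
  rw [div_mul_eq_mul_div, ← add_div, eq_div_iff hg]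
  linear_combination -h1

/-- `y ^ 2 = d (2 + √2)` is impossible. -/
theorem not_eight {d σ : ℕ} (hd0 : 0 < d) {ρ : ℚ} (hρ : 0 < ρ) (hd : σ < d + 1) {y : ℝ}
    (h : (ρ : ℝ) * ((d + 1 - y) * (σ + y)) = 4 * d - y ^ 2) (hy : y ^ 2 = d * (2 + √2)) : False := by
  have h1 := lin_solve hρ hd h
  set A : ℚ := (ρ - 1) / (ρ * (d + 1 - σ))
  set B : ℚ := (4 * d - ρ * (d + 1) * σ) / (ρ * (d + 1 - σ))
  have hs : (√2 : ℝ) ^ 2 = 2 := Real.sq_sqrt (by norm_num)
  have h2 : y = ((2 * A * d + B : ℚ) : ℝ) + ((A * d : ℚ) : ℝ) * √2 := by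
    rw [hy] at h1
    rw [h1]
    push_cast
    ring
  set e : ℚ := 2 * A * d + B
  set f : ℚ := A * d
  have h3 : ((e ^ 2 + 2 * f ^ 2 - 2 * d : ℚ) : ℝ) + ((2 * e * f - d : ℚ) : ℝ) * √2 = 0 := by
    have h4 : y ^ 2 = e ^ 2 + 2 * f ^ 2 + 2 * e * f * √2 := by
      rw [h2]
      linear_combination (f : ℝ) ^ 2 * hs
    push_cast
    linear_combination hy - h4
  obtain ⟨h5, h6⟩ := rat_of_sqrt_lin irrational_sqrt_two h3
  have hd1 : (0 : ℚ) < d := by exact_mod_cast hd0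
  have hf : f ≠ 0 := by
    intro hf
    rw [hf] at h6
    simp at h6
    omega
  have h7 : ((e - 2 * f) / f) ^ 2 = 2 := by
    field_simp
    linear_combination h5 - 2 * h6
  have h8 : (|(e - 2 * f) / f| : ℚ) = (√2 : ℝ) := by
    rw [eq_comm, Real.sqrt_eq_iff_mul_self_eq (by norm_num) (by positivity), eq_comm]
    have h9 : ((|(e - 2 * f) / f| : ℚ)) * (|(e - 2 * f) / f| : ℚ) = 2 := by
      rw [abs_mul_abs_self, ← sq, h7]
    exact_mod_cast h9
  exact irrational_sqrt_two ⟨_, h8⟩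

/-- `y = r √3` and `y = r`, `r² = d`, cannot both satisfy such equations. -/
theorem not_six {d σ : ℕ} (hd0 : 0 < d) {ρ ρ' : ℚ} (hρ : 0 < ρ) (hρ' : 0 < ρ') (hd : σ < d + 1) {y y' r : ℝ}
    (h : (ρ : ℝ) * ((d + 1 - y) * (σ + y)) = 4 * d - y ^ 2)
    (h' : (ρ' : ℝ) * ((d + 1 - y') * (σ + y')) = 4 * d - y' ^ 2)
    (hr : r ^ 2 = d) (hy : y = r) (hy' : y' = r * √3) : False := by
  have hs : (√3 : ℝ) ^ 2 = 3 := Real.sq_sqrt (by norm_num)
  obtain ⟨z, hz⟩ := rational_of_sq hρ hd h (q := (d : ℚ)) (by rw [hy, hr]; norm_cast)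
  obtain ⟨z', hz'⟩ := rational_of_sq hρ' hd h' (q := (3 * d : ℚ)) (by
    rw [hy', mul_pow, hs, hr]; push_cast; ring)
  have hr0 : r ≠ 0 := by
    intro h0
    rw [h0] at hr
    have : (d : ℝ) = 0 := by linarith
    have : d = 0 := by exact_mod_cast this
    omega
  have h3 : Irrational (√3 : ℝ) := by
    simpa using (Nat.Prime.irrational_sqrt (p := 3) (by norm_num))
  apply h3
  refine ⟨z' / z, ?_⟩
  push_cast
  rw [← hz, ← hz', hy, hy']
  field_simp

/-- `y = r (1 + √5) / 2`, `r² = d`, is impossible. -/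
theorem not_five {d σ : ℕ} (hd0 : 0 < d) (hσ : 4 ≤ σ) {ρ : ℚ} (hρ : 0 < ρ) (hd : σ < d + 1) {y : ℝ}
    (h : (ρ : ℝ) * ((d + 1 - y) * (σ + y)) = 4 * d - y ^ 2)
    (hy0 : 0 < y) (hy : y ^ 2 = d * (3 + √5) / 2) : False := by
  have h1 := lin_solve hρ hd h
  have hg : (0 : ℚ) < ρ * (d + 1 - σ) := by
    have h2 : (0 : ℚ) < d + 1 - σ := by
      have : (σ : ℚ) < d + 1 := by exact_mod_cast hd
      linarith
    positivity
  have h5i : Irrational (√5 : ℝ) := by
    simpa using (Nat.Prime.irrational_sqrt (p := 5) (by norm_num))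
  have hs : (√5 : ℝ) ^ 2 = 5 := Real.sq_sqrt (by norm_num)
  have hs0 : (0 : ℝ) < √5 := Real.sqrt_pos.2 (by norm_num)
  set A : ℚ := (ρ - 1) / (ρ * (d + 1 - σ)) with hA
  set B : ℚ := (4 * d - ρ * (d + 1) * σ) / (ρ * (d + 1 - σ)) with hB
  have h2 : y = ((3 * A * d / 2 + B : ℚ) : ℝ) + ((A * d / 2 : ℚ) : ℝ) * √5 := by
    rw [hy] at h1
    rw [h1]
    push_cast
    ring
  set e : ℚ := 3 * A * d / 2 + B with he
  set f : ℚ := A * d / 2 with hf
  have h3 : ((e ^ 2 + 5 * f ^ 2 - 3 * d / 2 : ℚ) : ℝ) + ((2 * e * f - d / 2 : ℚ) : ℝ) * √5 = 0 := by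
    have h4 : y ^ 2 = e ^ 2 + 5 * f ^ 2 + 2 * e * f * √5 := by
      rw [h2]
      linear_combination (f : ℝ) ^ 2 * hs
    push_cast
    linear_combination hy - h4
  obtain ⟨h5, h6⟩ := rat_of_sqrt_lin h5i h3
  have hd1 : (0 : ℚ) < d := by exact_mod_cast hd0
  have hef : 0 < e * f := by linarith
  have hfpos : 0 < f := by
    rcases lt_trichotomy f 0 with hf0 | hf0 | hf0
    · exfalso
      have he0 : e < 0 := by
        by_contra hcon
        push Not at hcon
        have := mul_nonpos_of_nonneg_of_nonpos hcon hf0.le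
        linarith
      have he1 : (e : ℝ) < 0 := by exact_mod_cast he0
      have hf1 : (f : ℝ) < 0 := by exact_mod_cast hf0
      have h7 : (f : ℝ) * √5 < 0 := mul_neg_of_neg_of_pos hf1 hs0
      linarith
    · rw [hf0] at hef; simp at hef
    · exact hf0
  have hApos : 0 < A := by
    by_contra hcon
    push Not at hcon
    have : A * d ≤ 0 := mul_nonpos_of_nonpos_of_nonneg hcon hd1.le
    linarith
  have hρ1 : 1 < ρ := by
    rw [hA, div_pos_iff_of_pos_right hg] at hApos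
    linarith
  have hprod : (e - f) * (e - 5 * f) = 0 := by linear_combination h5 - 3 * h6
  have hAe : A * (ρ * (d + 1 - σ)) = ρ - 1 := by rw [hA, div_mul_cancel₀ _ hg.ne']
  have hBe : B * (ρ * (d + 1 - σ)) = 4 * d - ρ * (d + 1) * σ := by rw [hB, div_mul_cancel₀ _ hg.ne']
  have hσ' : (4 : ℚ) ≤ σ := by exact_mod_cast hσ
  have hmul : ρ * (d + 1) * 4 ≤ ρ * (d + 1) * σ := by
    apply mul_le_mul_of_nonneg_left hσ'
    positivity
  have hρd : (d : ℚ) < ρ * d := by nlinarith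
  rcases mul_eq_zero.1 hprod with h7 | h7
  · have h8 : A * d + B = 0 := by rw [he, hf] at h7; linarith
    have h9 : (ρ - 1) * d + (4 * d - ρ * (d + 1) * σ) = 0 := by
      rw [← hAe, ← hBe]
      linear_combination (ρ * (d + 1 - σ)) * h8
    nlinarith
  · have h8 : A * d - B = 0 := by rw [he, hf] at h7; linarith
    have h9 : (ρ - 1) * d - (4 * d - ρ * (d + 1) * σ) = 0 := by
      rw [← hAe, ← hBe]
      linear_combination (ρ * (d + 1 - σ)) * h8
    nlinarith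

/-- The arithmetic of the even case of the Feit–Higman theorem. -/
theorem even_case {m a b : ℕ} (hm : 0 < m) (ha : 2 ≤ a) (hb : 2 ≤ b)
    (H : ∀ j : ℕ, 0 < j → j < m → ∃ ρ : ℚ, 0 < ρ ∧
      (ρ : ℝ) * ((((a * b : ℕ) : ℝ) + 1 - 2 * √((a * b : ℕ) : ℝ) * Real.cos (π * j / m)) *
        (((a + b : ℕ) : ℝ) + 2 * √((a * b : ℕ) : ℝ) * Real.cos (π * j / m))) =
        4 * ((a * b : ℕ) : ℝ) - (2 * √((a * b : ℕ) : ℝ) * Real.cos (π * j / m)) ^ 2) : m ≤ 4 := by
  obtain ⟨a', rfl⟩ := Nat.exists_eq_add_of_le ha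
  obtain ⟨b', rfl⟩ := Nat.exists_eq_add_of_le hb
  set d : ℕ := (2 + a') * (2 + b') with hdd
  set σ : ℕ := 2 + a' + (2 + b') with hσσ
  have hσ : 4 ≤ σ := by omega
  have hd : σ < d + 1 := by
    rw [hdd, hσσ]
    nlinarith [Nat.zero_le (a' * b')]
  have hd0 : 0 < d := by omega
  set r : ℝ := √(d : ℝ) with hr
  have hr2 : r ^ 2 = d := Real.sq_sqrt (by positivity)
  have hr0 : 0 < r := Real.sqrt_pos.2 (by exact_mod_cast hd0)
  have hd1 : (0 : ℝ) < d := by exact_mod_cast hd0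
  by_contra hm4
  push Not at hm4
  -- first reduce to finitely many cases
  have htot : Nat.totient m ≤ 4 := by
    obtain ⟨ρ, hρ, h⟩ := H 1 one_pos (by omega)
    obtain ⟨u, v, huv⟩ := sq_quadratic hρ hd h
    have hcos : (2 * r * Real.cos (π * (1 : ℕ) / m)) ^ 2 = d * (2 + 2 * Real.cos (2 * π / m)) := by
      have h2 : 2 * π / m = 2 * (π * (1 : ℕ) / m) := by push_cast; ring
      rw [h2, Real.cos_two_mul, mul_pow, mul_pow, hr2]
      ring
    rw [hcos] at huv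
    refine totient_le_four hm (u / d - 4) (2 * u / d + v / d ^ 2 - 4) ?_
    push_cast
    field_simp
    linear_combination huv
  rcases cases_of_totient_le hm htot with h | ⟨k, hk⟩ | ⟨k, hk⟩ | ⟨k, hk⟩
  · omega
  · have hk0 : 0 < k := by omega
    have hk1 : (k : ℝ) ≠ 0 := by positivity
    obtain ⟨ρ, hρ, h⟩ := H k hk0 (by omega)
    have hang : π * (k : ℝ) / m = π / 5 := by
      rw [hk]; push_cast; field_simp
    rw [hang, Real.cos_pi_div_five] at h
    have hs : (√5 : ℝ) ^ 2 = 5 := Real.sq_sqrt (by norm_num)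
    refine not_five hd0 hσ hρ hd h (by positivity) ?_
    rw [mul_pow, mul_pow, hr2]
    linear_combination (d : ℝ) / 4 * hs
  · have hk0 : 0 < k := by omega
    have hk1 : (k : ℝ) ≠ 0 := by positivity
    obtain ⟨ρ, hρ, h⟩ := H (2 * k) (by omega) (by omega)
    obtain ⟨ρ', hρ', h'⟩ := H k (by omega) (by omega)
    have hang : π * ((2 * k : ℕ) : ℝ) / m = π / 3 := by
      rw [hk]; push_cast; field_simp; norm_num
    have hang' : π * (k : ℝ) / m = π / 6 := by
      rw [hk]; push_cast; field_simp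
    rw [hang, Real.cos_pi_div_three] at h
    rw [hang', Real.cos_pi_div_six] at h'
    exact not_six hd0 hρ hρ' hd h h' hr2 (by ring) (by ring)
  · have hk0 : 0 < k := by omega
    have hk1 : (k : ℝ) ≠ 0 := by positivity
    obtain ⟨ρ, hρ, h⟩ := H k hk0 (by omega)
    have hang : π * (k : ℝ) / m = π / 8 := by
      rw [hk]; push_cast; field_simp
    rw [hang, Real.cos_pi_div_eight] at h
    refine not_eight hd0 hρ hd h ?_
    have hs : (√(2 + √2) : ℝ) ^ 2 = 2 + √2 := Real.sq_sqrt (by positivity)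
    rw [mul_pow, mul_pow, div_pow, hs, hr2]
    ring

/-- The arithmetic of the odd case of the Feit–Higman theorem. -/
theorem odd_case {m a : ℕ} (hm : 0 < m) (ha : 2 ≤ a) {ρ : ℚ}
    (h : (ρ : ℝ) * ((a : ℝ) ^ 2 + 1 - 2 * a * Real.cos (2 * π / (2 * m + 1))) =
      2 * a - 2 * a * Real.cos (2 * π / (2 * m + 1))) : m = 1 := by
  by_contra hm1
  have hm2 : 2 ≤ m := by omega
  have ha' : (2 : ℝ) ≤ a := by exact_mod_cast ha
  have hirr : Irrational (Real.cos (((2 / (2 * m + 1) : ℚ) : ℝ) * π)) := by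
    apply irrational_cos_rat_mul_pi
    have h1 : ((2 / (2 * m + 1) : ℚ)) = ((2 : ℤ) : ℚ) / ((2 * m + 1 : ℕ) : ℤ) := by push_cast; ring
    have h2 : ((((2 : ℤ) : ℚ) / ((2 * m + 1 : ℕ) : ℤ)).den : ℤ) = ((2 * m + 1 : ℕ) : ℤ) := by
      apply Rat.den_div_eq_of_coprime
      · positivity
      · simp
    rw [h1]
    have h3 : (((2 : ℤ) : ℚ) / ((2 * m + 1 : ℕ) : ℤ)).den = 2 * m + 1 := by exact_mod_cast h2
    rw [h3]
    omega
  have harg : ((2 / (2 * m + 1) : ℚ) : ℝ) * π = 2 * π / (2 * m + 1) := by push_cast; ring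
  rw [harg] at hirr
  set c := Real.cos (2 * π / (2 * m + 1))
  have hρ1 : ρ ≠ 1 := by
    rintro rfl
    push_cast at h
    nlinarith
  apply hirr
  refine ⟨(ρ * (a ^ 2 + 1) - 2 * a) / (2 * a * (ρ - 1)), ?_⟩
  have h3 : (ρ : ℝ) - 1 ≠ 0 := by
    intro h0
    apply hρ1
    have : (ρ : ℝ) = 1 := by linarith
    exact_mod_cast this
  have h4 : (a : ℝ) ≠ 0 := by positivity
  push_cast
  field_simp
  linear_combination h

end Cfsg.Agent.LieRecognition.FeitHigmanArith
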