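import Mathlib

/-!
# The Feit–Higman theorem: identities in a two-generator Hecke algebra

`A`, `B` are elements of an `ℝ`-algebra with `A² = (a-1) A + a`, `B² = (b-1) B + b`. The element
`Y = AB + BA - (b-1) A - (a-1) B + (a-1)(b-1)` is central in the subalgebra they generate; polynomials in `Y`
govern the powers of `AB` and `BA`.
-/

set_option autoImplicit false

namespace Cfsg.Agent.LieRecognition.FeitHigmanHecke

open Polynomial

/-- alternating product `A B A ...` with `k` factors -/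
def altProd {M : Type*} [Monoid M] : M → M → ℕ → M
  | _, _, 0 => 1
  | A, B, k + 1 => A * altProd B A k

theorem altProd_zero {M : Type*} [Monoid M] (A B : M) : altProd A B 0 = 1 := rfl

theorem altProd_succ {M : Type*} [Monoid M] (A B : M) (k : ℕ) :
    altProd A B (k + 1) = A * altProd B A k := rfl

theorem altProd_two_mul {M : Type*} [Monoid M] (A B : M) (k : ℕ) :
    altProd A B (2 * k) = (A * B) ^ k := by
  induction k with
  | zero => simp [altProd_zero]
  | succ k ih =>
    have : 2 * (k + 1) = 2 * k + 1 + 1 := by ring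
    rw [this, altProd_succ, altProd_succ, ih, pow_succ', mul_assoc]

theorem altProd_two_mul_add_one {M : Type*} [Monoid M] (A B : M) (k : ℕ) :
    altProd A B (2 * k + 1) = A * (B * A) ^ k := by
  rw [altProd_succ, altProd_two_mul]

theorem mul_pow_comm {M : Type*} [Monoid M] (A B : M) (k : ℕ) :
    A * (B * A) ^ k = (A * B) ^ k * A := by
  induction k with
  | zero => simp
  | succ k ih => rw [pow_succ, ← mul_assoc, ih, pow_succ]; simp only [mul_assoc]

section

variable {M : Type*} [Ring M] [Algebra ℝ M]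

/-- the central element -/
def Y (A B : M) (a b : ℝ) : M :=
  A * B + B * A - (b - 1) • A - (a - 1) • B + ((a - 1) * (b - 1)) • (1 : M)

theorem Y_def (A B : M) (a b : ℝ) :
    Y A B a b = A * B + B * A - (b - 1) • A - (a - 1) • B + ((a - 1) * (b - 1)) • (1 : M) := rfl

theorem Y_symm (A B : M) (a b : ℝ) : Y A B a b = Y B A b a := by
  rw [Y_def, Y_def]
  module

variable {A B : M} {a b : ℝ}

theorem sq_mul (hA : A * A = (a - 1) • A + a • (1 : M)) (x : M) :
    A * (A * x) = (a - 1) • (A * x) + a • x := by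
  rw [← mul_assoc, hA, add_mul, smul_mul_assoc, smul_mul_assoc, one_mul]

theorem Y_mul_A (hA : A * A = (a - 1) • A + a • (1 : M)) :
    Y A B a b * A = A * Y A B a b := by
  rw [Y_def]
  simp only [mul_add, add_mul, mul_sub, sub_mul, smul_mul_assoc, mul_smul_comm, one_mul, mul_one,
    mul_assoc, hA, sq_mul hA]
  module

theorem Y_mul_B (hB : B * B = (b - 1) • B + b • (1 : M)) :
    Y A B a b * B = B * Y A B a b := by
  rw [Y_symm, Y_mul_A hB]

theorem Y_mul_AB (hA : A * A = (a - 1) • A + a • (1 : M)) (hB : B * B = (b - 1) • B + b • (1 : M)) :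
    Y A B a b * (A * B) = (A * B) * (A * B) + (a * b) • (1 : M) := by
  rw [Y_def]
  simp only [mul_add, add_mul, mul_sub, sub_mul, smul_mul_assoc, mul_smul_comm, one_mul, mul_one,
    mul_assoc, hA, hB, sq_mul hA, sq_mul hB]
  module

theorem Y_mul_BA (hA : A * A = (a - 1) • A + a • (1 : M)) (hB : B * B = (b - 1) • B + b • (1 : M)) :
    Y A B a b * (B * A) = (B * A) * (B * A) + (a * b) • (1 : M) := by
  rw [Y_symm, Y_mul_AB hB hA, mul_comm a b]

theorem comm_sq (hA : A * A = (a - 1) • A + a • (1 : M)) (hB : B * B = (b - 1) • B + b • (1 : M)) :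
    (A * B - B * A) * (A * B - B * A) =
      (Y A B a b - (a * b + 1) • (1 : M)) * (Y A B a b + (a + b) • (1 : M)) := by
  rw [Y_def]
  simp only [mul_add, add_mul, mul_sub, sub_mul, smul_mul_assoc, mul_smul_comm, one_mul, mul_one,
    mul_assoc, hA, hB, sq_mul hA, sq_mul hB]
  module

theorem sub_sq (hA : A * A = (a - 1) • A + a • (1 : M)) (hB : B * B = (a - 1) • B + a • (1 : M)) :
    (A - B) * (A - B) = (a ^ 2 + 1) • (1 : M) - Y A B a a := by
  rw [Y_def]
  simp only [mul_sub, sub_mul, hA, hB]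
  module

theorem Y_add_mul_sub (hA : A * A = (a - 1) • A + a • (1 : M)) (hB : B * B = (a - 1) • B + a • (1 : M)) :
    (Y A B a a + a • (1 : M)) * (A - B) = A * B * A - B * A * B := by
  rw [Y_def]
  simp only [mul_add, add_mul, mul_sub, sub_mul, smul_mul_assoc, mul_smul_comm, one_mul, mul_one,
    mul_assoc, hA, hB, sq_mul hA, sq_mul hB]
  module

/-! ### The polynomials -/

/-- `P_0 = 1`, `P_1 = X`, `P_{k+2} = X P_{k+1} - d P_k` -/
noncomputable def P (d : ℝ) : ℕ → ℝ[X]
  | 0 => 1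
  | 1 => X
  | k + 2 => X * P d (k + 1) - C d * P d k

theorem P_zero (d : ℝ) : P d 0 = 1 := rfl
theorem P_one (d : ℝ) : P d 1 = X := rfl
theorem P_add_two (d : ℝ) (k : ℕ) : P d (k + 2) = X * P d (k + 1) - C d * P d k := rfl

/-- `Z_0 = 1`, `Z_1 = X + q`, `Z_{k+2} = X Z_{k+1} - q² Z_k` -/
noncomputable def Z (q : ℝ) : ℕ → ℝ[X]
  | 0 => 1
  | 1 => X + C q
  | k + 2 => X * Z q (k + 1) - C (q ^ 2) * Z q k

theorem Z_zero (q : ℝ) : Z q 0 = 1 := rfl
theorem Z_one (q : ℝ) : Z q 1 = X + C q := rfl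
theorem Z_add_two (q : ℝ) (k : ℕ) : Z q (k + 2) = X * Z q (k + 1) - C (q ^ 2) * Z q k := rfl

theorem aeval_P_mul (hA : A * A = (a - 1) • A + a • (1 : M)) (hB : B * B = (b - 1) • B + b • (1 : M))
    (k : ℕ) : aeval (Y A B a b) (P (a * b) k) * (A * B - B * A) = (A * B) ^ (k + 1) - (B * A) ^ (k + 1) := by
  induction k using Nat.twoStepInduction with
  | zero => simp [P_zero]
  | one =>
    rw [P_one, aeval_X, mul_sub, Y_mul_AB hA hB, Y_mul_BA hA hB, pow_two, pow_two]
    abel
  | more k ih1 ih2 =>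
    have h1 : ∀ j, Y A B a b * (A * B) ^ (j + 1) = (A * B) ^ (j + 2) + (a * b) • (A * B) ^ j := by
      intro j
      rw [pow_succ', ← mul_assoc, Y_mul_AB hA hB, add_mul, smul_mul_assoc, one_mul, pow_succ', pow_succ',
        mul_assoc]
    have h2 : ∀ j, Y A B a b * (B * A) ^ (j + 1) = (B * A) ^ (j + 2) + (a * b) • (B * A) ^ j := by
      intro j
      rw [pow_succ', ← mul_assoc, Y_mul_BA hA hB, add_mul, smul_mul_assoc, one_mul, pow_succ', pow_succ',
        mul_assoc]
    rw [P_add_two, map_sub, map_mul, map_mul, aeval_X, aeval_C, sub_mul, mul_assoc, ih2, mul_assoc, ih1,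
      mul_sub, h1, h2, Algebra.algebraMap_eq_smul_one, smul_mul_assoc, one_mul]
    module

theorem aeval_Z_mul (hA : A * A = (a - 1) • A + a • (1 : M)) (hB : B * B = (a - 1) • B + a • (1 : M))
    (k : ℕ) : aeval (Y A B a a) (Z a k) * (A - B) = A * (B * A) ^ k - B * (A * B) ^ k := by
  induction k using Nat.twoStepInduction with
  | zero => simp [Z_zero]
  | one =>
    rw [Z_one, map_add, aeval_X, aeval_C, Algebra.algebraMap_eq_smul_one, Y_add_mul_sub hA hB, pow_one,
      pow_one, mul_assoc, mul_assoc]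
  | more k ih1 ih2 =>
    have h1 : ∀ j, Y A B a a * (A * (B * A) ^ (j + 1)) = A * (B * A) ^ (j + 2) + (a ^ 2) • (A * (B * A) ^ j) := by
      intro j
      rw [← mul_assoc, Y_mul_A hA, mul_assoc, pow_succ', ← mul_assoc (Y A B a a), Y_mul_BA hA hB, add_mul,
        smul_mul_assoc, one_mul, mul_add, mul_smul_comm, pow_two a, pow_succ', pow_succ', mul_assoc (B * A)]
    have h2 : ∀ j, Y A B a a * (B * (A * B) ^ (j + 1)) = B * (A * B) ^ (j + 2) + (a ^ 2) • (B * (A * B) ^ j) := by
      intro j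
      rw [← mul_assoc, Y_mul_B hB, mul_assoc, pow_succ', ← mul_assoc (Y A B a a), Y_mul_AB hA hB, add_mul,
        smul_mul_assoc, one_mul, mul_add, mul_smul_comm, pow_two a, pow_succ', pow_succ', mul_assoc (A * B)]
    rw [Z_add_two, map_sub, map_mul, map_mul, aeval_X, aeval_C, sub_mul, mul_assoc, ih2, mul_assoc, ih1,
      mul_sub, h1, h2, Algebra.algebraMap_eq_smul_one, smul_mul_assoc, one_mul]
    module

/-! ### Christoffel–Darboux -/

theorem christoffel_P {d : ℝ} (hd : d ≠ 0) (y : ℝ) (N : ℕ) :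
    (X - C y) * ∑ k ∈ Finset.range (N + 1), C ((P d k).eval y / d ^ k) * P d k =
      C ((d ^ N)⁻¹) * (C ((P d N).eval y) * P d (N + 1) - C ((P d (N + 1)).eval y) * P d N) := by
  induction N with
  | zero => simp [P_zero, P_one]
  | succ N ih =>
    rw [Finset.sum_range_succ, mul_add, ih, P_add_two]
    have h1 : (X * P d (N + 1) - C d * P d N).eval y = y * (P d (N + 1)).eval y - d * (P d N).eval y := by
      simp
    rw [h1]
    have h2 : ((d ^ N)⁻¹ : ℝ) = d * (d ^ (N + 1))⁻¹ := by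
      rw [pow_succ]; field_simp
    rw [h2]
    simp only [div_eq_mul_inv, map_mul, map_sub]
    ring

theorem christoffel_Z {q : ℝ} (hq : q ≠ 0) (y : ℝ) (N : ℕ) :
    (X - C y) * ∑ k ∈ Finset.range (N + 1), C ((Z q k).eval y / (q ^ 2) ^ k) * Z q k =
      C (((q ^ 2) ^ N)⁻¹) * (C ((Z q N).eval y) * Z q (N + 1) - C ((Z q (N + 1)).eval y) * Z q N) := by
  induction N with
  | zero => simp [Z_zero, Z_one]
  | succ N ih =>
    rw [Finset.sum_range_succ, mul_add, ih, Z_add_two]
    have h1 : (X * Z q (N + 1) - C (q ^ 2) * Z q N).eval y =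
        y * (Z q (N + 1)).eval y - q ^ 2 * (Z q N).eval y := by
      simp
    rw [h1]
    have h2 : (((q ^ 2) ^ N)⁻¹ : ℝ) = q ^ 2 * ((q ^ 2) ^ (N + 1))⁻¹ := by
      rw [pow_succ]; field_simp; ring
    rw [h2]
    simp only [div_eq_mul_inv, map_mul, map_sub]
    ring

/-! ### Evaluations -/

theorem sin_mul_eval_P {d r θ : ℝ} (hr : r ^ 2 = d) (k : ℕ) :
    Real.sin θ * (P d k).eval (2 * r * Real.cos θ) = r ^ k * Real.sin ((k + 1) * θ) := by
  induction k using Nat.twoStepInduction with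
  | zero => simp [P_zero]
  | one =>
    have : ((1 : ℕ) : ℝ) + 1 = 2 := by norm_num
    rw [P_one, eval_X, this, Real.sin_two_mul]; ring
  | more k ih1 ih2 =>
    rw [P_add_two, eval_sub, eval_mul, eval_mul, eval_X, eval_C, mul_sub]
    have h1 : Real.sin θ * (2 * r * Real.cos θ * eval (2 * r * Real.cos θ) (P d (k + 1))) =
        2 * r * Real.cos θ * (Real.sin θ * eval (2 * r * Real.cos θ) (P d (k + 1))) := by ring
    have h2 : Real.sin θ * (d * eval (2 * r * Real.cos θ) (P d k)) =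
        d * (Real.sin θ * eval (2 * r * Real.cos θ) (P d k)) := by ring
    rw [h1, h2, ih1, ih2, ← hr]
    have h3 : ((k + 2 : ℕ) : ℝ) + 1 = (k + 1) + 2 := by push_cast; ring
    have h4 : ((k + 1 : ℕ) : ℝ) + 1 = (k + 1) + 1 := by push_cast; ring
    rw [h3, h4]
    have h5 : (((k : ℝ) + 1) + 2) * θ = (k + 1) * θ + 2 * θ := by ring
    have h6 : (((k : ℝ) + 1) + 1) * θ = (k + 1) * θ + θ := by ring
    rw [h5, h6, Real.sin_add, Real.sin_add, Real.cos_two_mul, Real.sin_two_mul]
    ring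

theorem sin_mul_eval_Z {q φ : ℝ} (k : ℕ) :
    Real.sin φ * (Z q k).eval (2 * q * Real.cos (2 * φ)) = q ^ k * Real.sin ((2 * k + 1) * φ) := by
  induction k using Nat.twoStepInduction with
  | zero => simp [Z_zero]
  | one =>
    have : (2 * ((1 : ℕ) : ℝ) + 1) * φ = 3 * φ := by norm_num
    rw [Z_one, eval_add, eval_X, eval_C, this, Real.sin_three_mul, Real.cos_two_mul, pow_one]
    have h := Real.sin_sq_add_cos_sq φ
    linear_combination (4 * q * Real.sin φ) * h
  | more k ih1 ih2 =>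
    rw [Z_add_two, eval_sub, eval_mul, eval_mul, eval_X, eval_C, mul_sub]
    have h1 : Real.sin φ * (2 * q * Real.cos (2 * φ) * eval (2 * q * Real.cos (2 * φ)) (Z q (k + 1))) =
        2 * q * Real.cos (2 * φ) * (Real.sin φ * eval (2 * q * Real.cos (2 * φ)) (Z q (k + 1))) := by ring
    have h2 : Real.sin φ * (q ^ 2 * eval (2 * q * Real.cos (2 * φ)) (Z q k)) =
        q ^ 2 * (Real.sin φ * eval (2 * q * Real.cos (2 * φ)) (Z q k)) := by ring
    rw [h1, h2, ih1, ih2]
    have h3 : (2 * ((k + 2 : ℕ) : ℝ) + 1) * φ = (2 * k + 1) * φ + 2 * (2 * φ) := by push_cast; ring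
    have h4 : (2 * ((k + 1 : ℕ) : ℝ) + 1) * φ = (2 * k + 1) * φ + 2 * φ := by push_cast; ring
    rw [h3, h4, Real.sin_add, Real.sin_add, Real.cos_two_mul (2 * φ), Real.sin_two_mul (2 * φ)]
    ring

/-- `∑_{k<N} sin²((k+1)θ)` -/
theorem sum_sin_sq (θ : ℝ) (N : ℕ) :
    4 * Real.sin θ * ∑ k ∈ Finset.range N, Real.sin ((k + 1) * θ) ^ 2 =
      (2 * N + 1) * Real.sin θ - Real.sin ((2 * N + 1) * θ) := by
  induction N with
  | zero => simp
  | succ N ih =>
    rw [Finset.sum_range_succ, mul_add, ih]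
    have h1 : (2 * ((N + 1 : ℕ) : ℝ) + 1) * θ = 2 * ((N + 1) * θ) + θ := by push_cast; ring
    have h2 : (2 * (N : ℝ) + 1) * θ = 2 * ((N + 1) * θ) - θ := by ring
    rw [h1, h2, Real.sin_add, Real.sin_sub, Real.cos_two_mul]
    push_cast
    have h := Real.sin_sq_add_cos_sq (((N : ℝ) + 1) * θ)
    linear_combination (4 * Real.sin θ) * h

theorem sum_sin_sq' (φ : ℝ) (N : ℕ) :
    4 * Real.sin (2 * φ) * ∑ k ∈ Finset.range N, Real.sin ((2 * k + 1) * φ) ^ 2 =
      2 * N * Real.sin (2 * φ) - Real.sin (4 * N * φ) := by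
  induction N with
  | zero => simp
  | succ N ih =>
    rw [Finset.sum_range_succ, mul_add, ih]
    have h1 : 4 * ((N + 1 : ℕ) : ℝ) * φ = 2 * ((2 * N + 1) * φ) + 2 * φ := by push_cast; ring
    have h2 : 4 * (N : ℝ) * φ = 2 * ((2 * N + 1) * φ) - 2 * φ := by ring
    rw [h1, h2, Real.sin_add, Real.sin_sub, Real.cos_two_mul ((2 * N + 1) * φ)]
    push_cast
    have h := Real.sin_sq_add_cos_sq ((2 * (N : ℝ) + 1) * φ)
    linear_combination (4 * Real.sin (2 * φ)) * h

/-- Polynomials in `Y` act on an eigenvector (here: an element `F` with `Y F = y F`) by evaluation. -/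
theorem aeval_mul_of_eigen {Y F : M} {y : ℝ} (h : Y * F = y • F) (g : ℝ[X]) :
    aeval Y g * F = g.eval y • F := by
  induction g using Polynomial.induction_on' with
  | add p q hp hq => rw [map_add, add_mul, hp, hq, eval_add, add_smul]
  | monomial n c =>
    have hn : ∀ n : ℕ, Y ^ n * F = y ^ n • F := by
      intro n
      induction n with
      | zero => simp
      | succ n ih => rw [pow_succ, mul_assoc, h, mul_smul_comm, ih, smul_smul, pow_succ, mul_comm]
    rw [aeval_monomial, mul_assoc, hn, eval_monomial, Algebra.algebraMap_eq_smul_one, smul_mul_assoc,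
      one_mul, smul_smul]

end

end Cfsg.Agent.LieRecognition.FeitHigmanHecke
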