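import Mathlib
import Cfsg.Agent.LieRecognition.FeitHigmanHecke
import Cfsg.Agent.LieRecognition.FeitHigmanArith

/-!
# The Feit–Higman theorem: matrix half

Two real matrices `A`, `B` satisfying the quadratic and braid relations of the Hecke algebra of the dihedral
group of order `2n`, all of whose alternating words of length `1, …, n` have trace zero, with integral
parameters `≥ 2`: then `n ∈ {2, 3, 4, 6, 8}`.
-/

set_option autoImplicit false

namespace Cfsg.Agent.LieRecognition.FeitHigmanMatrix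

open Polynomial Cfsg.Agent.LieRecognition.FeitHigmanHecke

variable {ι : Type*} [Fintype ι] [DecidableEq ι]

/-- The trace of an idempotent matrix is a natural number. -/
theorem trace_idem (E : Matrix ι ι ℝ) (h : E * E = E) : ∃ N : ℕ, E.trace = N := by
  have h1 : IsIdempotentElem (Matrix.toLin' E) := by
    show Matrix.toLin' E ∘ₗ Matrix.toLin' E = Matrix.toLin' E
    rw [← Matrix.toLin'_mul, h]
  refine ⟨Module.finrank ℝ (LinearMap.range (Matrix.toLin' E)), ?_⟩
  rw [← Matrix.trace_toLin'_eq]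
  exact (LinearMap.IsIdempotentElem.isProj_range _ h1).trace

theorem trace_quasi_idem {F : Matrix ι ι ℝ} {κ : ℝ} (hκ : κ ≠ 0) (h : F * F = κ • F) :
    ∃ N : ℕ, F.trace = κ * N := by
  obtain ⟨N, hN⟩ := trace_idem (κ⁻¹ • F) (by
    rw [smul_mul_smul_comm, h, smul_smul]
    congr 1
    field_simp)
  refine ⟨N, ?_⟩
  rw [← hN, Matrix.trace_smul, smul_eq_mul]
  field_simp

/-- Given that `h(Y)` times a polynomial kernel is killed by `Y - y`, we get integrality of the trace. -/
theorem integrality {Y : Matrix ι ι ℝ} {y : ℝ} {g : ℝ[X]} (h : Y * aeval Y g = y • aeval Y g)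
    (hg : g.eval y ≠ 0) : ∃ N : ℕ, (aeval Y g).trace = g.eval y * N :=
  trace_quasi_idem hg (aeval_mul_of_eigen h g)

theorem aeval_X_sub_C' (Y : Matrix ι ι ℝ) (u : ℝ) :
    aeval Y (X - C u) = Y - u • (1 : Matrix ι ι ℝ) := by
  rw [map_sub, aeval_X, aeval_C, Algebra.algebraMap_eq_smul_one]

theorem aeval_X_add_C' (Y : Matrix ι ι ℝ) (u : ℝ) :
    aeval Y (X + C u) = Y + u • (1 : Matrix ι ι ℝ) := by
  rw [map_add, aeval_X, aeval_C, Algebra.algebraMap_eq_smul_one]

/-- The even case. -/
theorem even_step {A B : Matrix ι ι ℝ} {a b : ℝ} (ha : 0 < a) (hb : 0 < b)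
    (hA : A * A = (a - 1) • A + a • (1 : Matrix ι ι ℝ)) (hB : B * B = (b - 1) • B + b • (1 : Matrix ι ι ℝ))
    {m : ℕ} (hbr : (A * B) ^ m = (B * A) ^ m)
    (h1 : ∀ k, 1 ≤ k → k ≤ m → ((A * B) ^ k).trace = 0)
    (h2 : ∀ k, 1 ≤ k → k ≤ m → ((B * A) ^ k).trace = 0)
    (h3 : ∀ k, k < m → (A * (B * A) ^ k).trace = 0)
    (h4 : ∀ k, k < m → (B * (A * B) ^ k).trace = 0)
    {r θ : ℝ} (hr : r ^ 2 = a * b) {j : ℕ} (hj : 0 < j) (hjm : j < m) (hθ : θ = Real.pi * j / m)
    (hne1 : a * b + 1 - 2 * r * Real.cos θ ≠ 0) (hne2 : a + b + 2 * r * Real.cos θ ≠ 0) :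
    ∃ N : ℕ, (N : ℝ) * m * ((a * b + 1 - 2 * r * Real.cos θ) * (a + b + 2 * r * Real.cos θ)) =
      Fintype.card ι * (4 * (a * b) - (2 * r * Real.cos θ) ^ 2) := by
  set y : ℝ := 2 * r * Real.cos θ with hy
  set d : ℝ := a * b with hd
  have hd0 : 0 < d := mul_pos ha hb
  have hm0 : (0 : ℝ) < m := by exact_mod_cast (by omega : 0 < m)
  have hr0 : r ≠ 0 := by
    intro h0
    rw [h0] at hr
    linarith [hr, hd0, zero_pow (M₀ := ℝ) (two_ne_zero)]
  have hsin : Real.sin θ ≠ 0 := by
    have : 0 < Real.sin θ := by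
      apply Real.sin_pos_of_pos_of_lt_pi
      · rw [hθ]; have : (0 : ℝ) < j := by exact_mod_cast hj
        positivity
      · rw [hθ, div_lt_iff₀ hm0]
        have : (j : ℝ) < m := by exact_mod_cast hjm
        nlinarith [Real.pi_pos]
    exact this.ne'
  have hmθ : (m : ℝ) * θ = j * Real.pi := by rw [hθ]; field_simp
  -- `p k`
  have hp : ∀ k : ℕ, Real.sin θ * (P d k).eval y = r ^ k * Real.sin ((k + 1) * θ) := sin_mul_eval_P hr
  obtain ⟨m', rfl⟩ : ∃ m', m = m' + 2 := ⟨m - 2, by omega⟩
  have hlast : (P d (m' + 1)).eval y = 0 := by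
    have h5 := hp (m' + 1)
    have h6 : (((m' + 1 : ℕ) : ℝ) + 1) * θ = j * Real.pi := by
      rw [← hmθ]; push_cast; ring
    rw [h6, Real.sin_nat_mul_pi, mul_zero] at h5
    rcases mul_eq_zero.1 h5 with h | h
    · exact absurd h hsin
    · exact h
  set K : ℝ[X] := ∑ k ∈ Finset.range (m' + 1), C ((P d k).eval y / d ^ k) * P d k with hK
  set h : ℝ[X] := (X - C (d + 1)) * (X + C (a + b)) with hh
  set Y0 := Y A B a b with hY0
  set D := A * B - B * A with hD
  have hC2 : aeval Y0 h = D * D := by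
    rw [hh, map_mul, aeval_X_sub_C', aeval_X_add_C', hD, comm_sq hA hB]
  have hPD : ∀ k, aeval Y0 (P d k) * D = (A * B) ^ (k + 1) - (B * A) ^ (k + 1) := aeval_P_mul hA hB
  -- `(Y - y) (K h)(Y) = 0`
  have hkill : aeval Y0 ((X - C y) * (K * h)) = 0 := by
    rw [← mul_assoc, hK, christoffel_P hd0.ne', hlast, map_zero, zero_mul, sub_zero, mul_assoc, mul_assoc,
      map_mul, map_mul, map_mul, hC2, ← mul_assoc (aeval Y0 (P d (m' + 1))), hPD, hbr, sub_self]
    simp
  have heig : Y0 * aeval Y0 (K * h) = y • aeval Y0 (K * h) := by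
    rw [map_mul, map_sub, aeval_X, aeval_C, Algebra.algebraMap_eq_smul_one, sub_mul, smul_mul_assoc,
      one_mul, sub_eq_zero] at hkill
    exact hkill
  -- evaluation of `K`
  have hKy : Real.sin θ ^ 2 * K.eval y = (m' + 2 : ℕ) / 2 := by
    have h5 : Real.sin θ ^ 2 * K.eval y = ∑ k ∈ Finset.range (m' + 1), Real.sin ((k + 1) * θ) ^ 2 := by
      rw [hK, eval_finsetSum, Finset.mul_sum]
      refine Finset.sum_congr rfl fun k _ => ?_
      rw [eval_mul, eval_C]
      have h6 := hp k
      have h7 : (r ^ k) ^ 2 = d ^ k := by rw [← pow_mul, mul_comm, pow_mul, hr]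
      have h8 : d ^ k ≠ 0 := pow_ne_zero _ hd0.ne'
      calc Real.sin θ ^ 2 * ((P d k).eval y / d ^ k * (P d k).eval y)
          = (Real.sin θ * (P d k).eval y) ^ 2 / d ^ k := by ring
        _ = (r ^ k) ^ 2 * Real.sin ((k + 1) * θ) ^ 2 / d ^ k := by rw [h6]; ring
        _ = Real.sin ((k + 1) * θ) ^ 2 := by rw [h7]; field_simp
    rw [h5]
    have h6 := sum_sin_sq θ (m' + 1)
    have h7 : (2 * ((m' + 1 : ℕ) : ℝ) + 1) * θ = -θ + j * (2 * Real.pi) := by
      have : (2 * ((m' + 1 : ℕ) : ℝ) + 1) * θ = 2 * (((m' + 2 : ℕ) : ℝ) * θ) - θ := by push_cast; ring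
      rw [this, hmθ]; ring
    rw [h7, Real.sin_add_nat_mul_two_pi, Real.sin_neg] at h6
    have h8 : 4 * Real.sin θ * (∑ k ∈ Finset.range (m' + 1), Real.sin ((k + 1) * θ) ^ 2 - (m' + 2 : ℕ) / 2) = 0 := by
      rw [mul_sub, h6]; push_cast; ring
    rcases mul_eq_zero.1 h8 with h9 | h9
    · exact absurd h9 (mul_ne_zero (by norm_num) hsin)
    · linarith
  -- trace
  have htr : (aeval Y0 (K * h)).trace = -2 * d * Fintype.card ι := by
    have h5 : aeval Y0 (K * h) = ∑ k ∈ Finset.range (m' + 1),
        ((P d k).eval y / d ^ k) • (((A * B) ^ (k + 1) - (B * A) ^ (k + 1)) * D) := by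
      rw [map_mul, hC2, hK, map_sum, Finset.sum_mul]
      refine Finset.sum_congr rfl fun k _ => ?_
      rw [map_mul, aeval_C, Algebra.algebraMap_eq_smul_one, smul_mul_assoc, one_mul, smul_mul_assoc,
        ← mul_assoc, hPD]
    have hone : ∀ k, k < m' + 1 → ((A * B) ^ (k + 1) * (B * A)).trace =
        d * ((A * B) ^ k).trace := by
      intro k hk
      have e1 : ((A * B) ^ (k + 1) * (B * A)).trace = ((A * A) * (B * (A * B) ^ k * B)).trace := by
        have : (A * B) ^ (k + 1) * (B * A) = A * (B * (A * B) ^ k * B) * A := by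
          rw [pow_succ]
          have := mul_pow_comm B A k
          calc (A * B) ^ k * (A * B) * (B * A) = ((A * B) ^ k * A) * B * B * A := by simp only [mul_assoc]
            _ = A * (B * A) ^ k * B * B * A := by rw [← mul_pow_comm]
            _ = A * ((B * A) ^ k * B) * B * A := by simp only [mul_assoc]
            _ = A * (B * (A * B) ^ k) * B * A := by rw [← this]
            _ = A * (B * (A * B) ^ k * B) * A := by simp only [mul_assoc]
        rw [this, Matrix.trace_mul_comm, ← mul_assoc, ← mul_assoc]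
      have e2 : A * A * (B * (A * B) ^ k * B) = A * A * ((B * A) ^ k * (B * B)) := by
        rw [mul_pow_comm B A k]; simp only [mul_assoc]
      rw [e1, e2, hA, hB]
      simp only [add_mul, mul_add, smul_mul_assoc, mul_smul_comm, one_mul, mul_one, Matrix.trace_add,
        Matrix.trace_smul, smul_eq_mul]
      have e3 : (A * ((B * A) ^ k * B)).trace = 0 := by
        rw [← mul_pow_comm B A k, ← mul_assoc, ← pow_succ']
        exact h1 (k + 1) (by omega) (by omega)
      have e4 : (A * (B * A) ^ k).trace = 0 := h3 k (by omega)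
      have e5 : ((B * A) ^ k * B).trace = 0 := by rw [← mul_pow_comm B A k]; exact h4 k (by omega)
      have e6 : ((B * A) ^ k).trace = ((A * B) ^ k).trace := by
        rcases Nat.eq_zero_or_pos k with rfl | hk0
        · simp
        · rw [h1 k hk0 (by omega), h2 k hk0 (by omega)]
      rw [e3, e4, e5, e6]
      ring
    have htwo : ∀ k, k < m' + 1 → ((B * A) ^ (k + 1) * (A * B)).trace =
        d * ((A * B) ^ k).trace := by
      intro k hk
      have e1 : ((B * A) ^ (k + 1) * (A * B)).trace = ((B * B) * (A * (B * A) ^ k * A)).trace := by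
        have : (B * A) ^ (k + 1) * (A * B) = B * (A * (B * A) ^ k * A) * B := by
          rw [pow_succ]
          have := mul_pow_comm A B k
          calc (B * A) ^ k * (B * A) * (A * B) = ((B * A) ^ k * B) * A * A * B := by simp only [mul_assoc]
            _ = B * (A * B) ^ k * A * A * B := by rw [← mul_pow_comm]
            _ = B * ((A * B) ^ k * A) * A * B := by simp only [mul_assoc]
            _ = B * (A * (B * A) ^ k) * A * B := by rw [← this]
            _ = B * (A * (B * A) ^ k * A) * B := by simp only [mul_assoc]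
        rw [this, Matrix.trace_mul_comm, ← mul_assoc, ← mul_assoc]
      have e2 : B * B * (A * (B * A) ^ k * A) = B * B * ((A * B) ^ k * (A * A)) := by
        rw [mul_pow_comm A B k]; simp only [mul_assoc]
      rw [e1, e2, hA, hB]
      simp only [add_mul, mul_add, smul_mul_assoc, mul_smul_comm, one_mul, mul_one, Matrix.trace_add,
        Matrix.trace_smul, smul_eq_mul]
      have e3 : (B * ((A * B) ^ k * A)).trace = 0 := by
        rw [← mul_pow_comm A B k, ← mul_assoc, ← pow_succ']
        exact h2 (k + 1) (by omega) (by omega)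
      have e4 : (B * (A * B) ^ k).trace = 0 := h4 k (by omega)
      have e5 : ((A * B) ^ k * A).trace = 0 := by rw [← mul_pow_comm A B k]; exact h3 k (by omega)
      rw [e3, e4, e5]
      ring
    have hterm : ∀ k, k < m' + 1 → ((((A * B) ^ (k + 1) - (B * A) ^ (k + 1)) * D)).trace =
        -2 * d * ((A * B) ^ k).trace := by
      intro k hk
      rw [hD, sub_mul, mul_sub, mul_sub, Matrix.trace_sub, Matrix.trace_sub, Matrix.trace_sub,
        hone k hk, htwo k hk, ← pow_succ, ← pow_succ, h1 (k + 2) (by omega) (by omega),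
        h2 (k + 2) (by omega) (by omega)]
      ring
    rw [h5, Matrix.trace_sum, Finset.sum_eq_single 0]
    · rw [Matrix.trace_smul, hterm 0 (by omega)]
      simp [P_zero]
    · intro k hk hk0
      rw [Matrix.trace_smul, hterm k (Finset.mem_range.1 hk), h1 k (by omega) (by
        have := Finset.mem_range.1 hk; omega)]
      simp
    · intro h0
      exact absurd (Finset.mem_range.2 (by omega)) h0
  -- conclusion
  have hsin2 : Real.sin θ ^ 2 ≠ 0 := pow_ne_zero _ hsin
  have hKne : K.eval y ≠ 0 := by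
    intro h0
    rw [h0, mul_zero] at hKy
    have : (0 : ℝ) < (m' + 2 : ℕ) / 2 := by positivity
    linarith
  have heval : (K * h).eval y = K.eval y * ((y - (d + 1)) * (y + (a + b))) := by
    rw [hh]; simp
  have hne : (K * h).eval y ≠ 0 := by
    rw [heval]
    refine mul_ne_zero hKne (mul_ne_zero ?_ ?_)
    · intro h0; apply hne1; linarith
    · intro h0; apply hne2; linarith
  obtain ⟨N, hN⟩ := integrality heig hne
  refine ⟨N, ?_⟩
  rw [htr, heval] at hN
  have hcos : 4 * d - y ^ 2 = 4 * d * Real.sin θ ^ 2 := by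
    rw [hy, mul_pow, mul_pow, hr, Real.sin_sq]; ring
  rw [hcos]
  have h9 : ((m' + 2 : ℕ) : ℝ) = 2 * (Real.sin θ ^ 2 * K.eval y) := by rw [hKy]; ring
  rw [h9]
  linear_combination (2 * Real.sin θ ^ 2) * hN

/-- The odd case. -/
theorem odd_step {A B : Matrix ι ι ℝ} {q : ℝ} (hq : 0 < q)
    (hA : A * A = (q - 1) • A + q • (1 : Matrix ι ι ℝ)) (hB : B * B = (q - 1) • B + q • (1 : Matrix ι ι ℝ))
    {m : ℕ} (hm : 0 < m) (hbr : A * (B * A) ^ m = B * (A * B) ^ m)
    (h1 : ∀ k, 1 ≤ k → k ≤ m → ((A * B) ^ k).trace = 0)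
    (h2 : ∀ k, 1 ≤ k → k ≤ m → ((B * A) ^ k).trace = 0)
    (h3 : ∀ k, k < m → (A * (B * A) ^ k).trace = 0)
    (h4 : ∀ k, k < m → (B * (A * B) ^ k).trace = 0)
    {φ : ℝ} (hφ : φ = Real.pi / (2 * m + 1))
    (hne1 : q ^ 2 + 1 - 2 * q * Real.cos (2 * φ) ≠ 0) :
    ∃ N : ℕ, (N : ℝ) * (2 * m + 1) * (q ^ 2 + 1 - 2 * q * Real.cos (2 * φ)) =
      2 * Fintype.card ι * (2 * q - 2 * q * Real.cos (2 * φ)) := by
  set y : ℝ := 2 * q * Real.cos (2 * φ) with hy
  have hm1 : (1 : ℝ) ≤ m := by exact_mod_cast hm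
  have hφ0 : 0 < φ := by rw [hφ]; positivity
  have hmφ : (2 * (m : ℝ) + 1) * φ = Real.pi := by rw [hφ]; field_simp
  have hφ1 : 2 * φ < Real.pi := by nlinarith
  have hsin : Real.sin φ ≠ 0 := (Real.sin_pos_of_pos_of_lt_pi hφ0 (by linarith)).ne'
  have hsin2 : Real.sin (2 * φ) ≠ 0 := (Real.sin_pos_of_pos_of_lt_pi (by linarith) hφ1).ne'
  have hp : ∀ k : ℕ, Real.sin φ * (Z q k).eval y = q ^ k * Real.sin ((2 * k + 1) * φ) := sin_mul_eval_Z
  obtain ⟨m', rfl⟩ : ∃ m', m = m' + 1 := ⟨m - 1, by omega⟩
  have hlast : (Z q (m' + 1)).eval y = 0 := by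
    have h5 := hp (m' + 1)
    rw [hmφ, Real.sin_pi, mul_zero] at h5
    rcases mul_eq_zero.1 h5 with h | h
    · exact absurd h hsin
    · exact h
  set K : ℝ[X] := ∑ k ∈ Finset.range (m' + 1), C ((Z q k).eval y / (q ^ 2) ^ k) * Z q k with hK
  set h : ℝ[X] := -(X - C (q ^ 2 + 1)) with hh
  set Y0 := Y A B q q with hY0
  set D := A - B with hD
  have hC2 : aeval Y0 h = D * D := by
    rw [hh, map_neg, aeval_X_sub_C', hD, sub_sq hA hB]
    abel
  have hZD : ∀ k, aeval Y0 (Z q k) * D = A * (B * A) ^ k - B * (A * B) ^ k := aeval_Z_mul hA hB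
  have hkill : aeval Y0 ((X - C y) * (K * h)) = 0 := by
    rw [← mul_assoc, hK, christoffel_Z hq.ne', hlast, map_zero, zero_mul, sub_zero, mul_assoc, mul_assoc,
      map_mul, map_mul, map_mul, hC2, ← mul_assoc (aeval Y0 (Z q (m' + 1))), hZD, hbr, sub_self]
    simp
  have heig : Y0 * aeval Y0 (K * h) = y • aeval Y0 (K * h) := by
    rw [map_mul, map_sub, aeval_X, aeval_C, Algebra.algebraMap_eq_smul_one, sub_mul, smul_mul_assoc,
      one_mul, sub_eq_zero] at hkill
    exact hkill
  have hKy : Real.sin φ ^ 2 * K.eval y = (2 * ((m' + 1 : ℕ) : ℝ) + 1) / 4 := by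
    have h5 : Real.sin φ ^ 2 * K.eval y = ∑ k ∈ Finset.range (m' + 1), Real.sin ((2 * k + 1) * φ) ^ 2 := by
      rw [hK, eval_finsetSum, Finset.mul_sum]
      refine Finset.sum_congr rfl fun k _ => ?_
      rw [eval_mul, eval_C]
      have h6 := hp k
      have h8 : (q ^ 2) ^ k ≠ 0 := by positivity
      have h7 : (q ^ k) ^ 2 = (q ^ 2) ^ k := by rw [← pow_mul, ← pow_mul, mul_comm]
      calc Real.sin φ ^ 2 * ((Z q k).eval y / (q ^ 2) ^ k * (Z q k).eval y)
          = (Real.sin φ * (Z q k).eval y) ^ 2 / (q ^ 2) ^ k := by ring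
        _ = (q ^ k) ^ 2 * Real.sin ((2 * k + 1) * φ) ^ 2 / (q ^ 2) ^ k := by rw [h6]; ring
        _ = Real.sin ((2 * k + 1) * φ) ^ 2 := by rw [h7]; field_simp
    rw [h5]
    have h6 := sum_sin_sq' φ (m' + 1)
    have h7 : 4 * ((m' + 1 : ℕ) : ℝ) * φ = 2 * Real.pi - 2 * φ := by
      rw [← hmφ]; ring
    rw [h7, Real.sin_two_pi_sub] at h6
    have h8 : 4 * Real.sin (2 * φ) * (∑ k ∈ Finset.range (m' + 1), Real.sin ((2 * k + 1) * φ) ^ 2 -
        (2 * ((m' + 1 : ℕ) : ℝ) + 1) / 4) = 0 := by
      rw [mul_sub, h6]; push_cast; ring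
    rcases mul_eq_zero.1 h8 with h9 | h9
    · exact absurd h9 (mul_ne_zero (by norm_num) hsin2)
    · linarith
  have htr : (aeval Y0 (K * h)).trace = 2 * q * Fintype.card ι := by
    have h5 : aeval Y0 (K * h) = ∑ k ∈ Finset.range (m' + 1),
        ((Z q k).eval y / (q ^ 2) ^ k) • ((A * (B * A) ^ k - B * (A * B) ^ k) * D) := by
      rw [map_mul, hC2, hK, map_sum, Finset.sum_mul]
      refine Finset.sum_congr rfl fun k _ => ?_
      rw [map_mul, aeval_C, Algebra.algebraMap_eq_smul_one, smul_mul_assoc, one_mul, smul_mul_assoc,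
        ← mul_assoc, hZD]
    have hterm : ∀ k, k < m' + 1 → ((A * (B * A) ^ k - B * (A * B) ^ k) * D).trace =
        q * ((B * A) ^ k).trace + q * ((A * B) ^ k).trace := by
      intro k hk
      have e1 : (A * (B * A) ^ k * A).trace = q * ((B * A) ^ k).trace := by
        rw [Matrix.trace_mul_comm, ← mul_assoc, hA, add_mul, smul_mul_assoc, smul_mul_assoc, one_mul,
          Matrix.trace_add, Matrix.trace_smul, Matrix.trace_smul, h3 k (by omega)]
        simp
      have e2 : (B * (A * B) ^ k * B).trace = q * ((A * B) ^ k).trace := by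
        rw [Matrix.trace_mul_comm, ← mul_assoc, hB, add_mul, smul_mul_assoc, smul_mul_assoc, one_mul,
          Matrix.trace_add, Matrix.trace_smul, Matrix.trace_smul, h4 k (by omega)]
        simp
      have e3 : (A * (B * A) ^ k * B).trace = 0 := by
        rw [mul_pow_comm, mul_assoc, ← pow_succ]
        exact h1 (k + 1) (by omega) (by omega)
      have e4 : (B * (A * B) ^ k * A).trace = 0 := by
        rw [mul_pow_comm, mul_assoc, ← pow_succ]
        exact h2 (k + 1) (by omega) (by omega)
      rw [hD, sub_mul, mul_sub, mul_sub, Matrix.trace_sub, Matrix.trace_sub, Matrix.trace_sub, e1, e2, e3,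
        e4]
      ring
    rw [h5, Matrix.trace_sum, Finset.sum_eq_single 0]
    · rw [Matrix.trace_smul, hterm 0 (by omega)]
      simp [Z_zero]
      ring
    · intro k hk hk0
      rw [Matrix.trace_smul, hterm k (Finset.mem_range.1 hk), h1 k (by omega) (by
        have := Finset.mem_range.1 hk; omega), h2 k (by omega) (by
        have := Finset.mem_range.1 hk; omega)]
      simp
    · intro h0
      exact absurd (Finset.mem_range.2 (by omega)) h0
  have hKne : K.eval y ≠ 0 := by
    intro h0
    rw [h0, mul_zero] at hKy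
    have : (0 : ℝ) < (2 * ((m' + 1 : ℕ) : ℝ) + 1) / 4 := by positivity
    linarith
  have heval : (K * h).eval y = K.eval y * (q ^ 2 + 1 - y) := by
    rw [hh]; simp
  have hne : (K * h).eval y ≠ 0 := by
    rw [heval]
    exact mul_ne_zero hKne hne1
  obtain ⟨N, hN⟩ := integrality heig hne
  refine ⟨N, ?_⟩
  rw [htr, heval] at hN
  have hcos : 2 * q - y = 4 * q * Real.sin φ ^ 2 := by
    rw [hy, Real.cos_two_mul, Real.sin_sq]; ring
  rw [hcos]
  have h9 : (2 * ((m' + 1 : ℕ) : ℝ) + 1) = 4 * (Real.sin φ ^ 2 * K.eval y) := by rw [hKy]; ring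
  rw [h9]
  linear_combination (-4 * Real.sin φ ^ 2) * hN

/-- **The Feit–Higman theorem**, matrix form. -/
theorem feit_higman_matrix [Nonempty ι] (A B : Matrix ι ι ℝ) (s t n : ℕ) (hs : 2 ≤ s) (ht : 2 ≤ t)
    (hn : 2 ≤ n) (hA : A * A = ((s : ℝ) - 1) • A + (s : ℝ) • 1) (hB : B * B = ((t : ℝ) - 1) • B + (t : ℝ) • 1)
    (hbr : altProd A B n = altProd B A n)
    (htr : ∀ k, 1 ≤ k → k ≤ n → (altProd A B k).trace = 0 ∧ (altProd B A k).trace = 0) :
    n ∈ ({2, 3, 4, 6, 8} : Set ℕ) := by
  have hs' : (2 : ℝ) ≤ s := by exact_mod_cast hs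
  have ht' : (2 : ℝ) ≤ t := by exact_mod_cast ht
  have hι : (0 : ℝ) < Fintype.card ι := by exact_mod_cast Fintype.card_pos
  rcases Nat.even_or_odd' n with ⟨m, hm | hm⟩
  · -- `n = 2 m`
    have hm4 : m ≤ 4 := by
      have H := Cfsg.Agent.LieRecognition.FeitHigmanArith.even_case (m := m) (by omega) hs ht
      apply H
      intro j hj hjm
      have hbr' : (A * B) ^ m = (B * A) ^ m := by
        rw [hm, altProd_two_mul, altProd_two_mul] at hbr
        exact hbr
      set r : ℝ := √((s * t : ℕ) : ℝ) with hr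
      have hr2 : r ^ 2 = s * t := by
        rw [hr, Real.sq_sqrt (by positivity)]; push_cast; ring
      have hr0 : 0 < r := Real.sqrt_pos.2 (by positivity)
      set θ : ℝ := Real.pi * j / m with hθ
      have hm0 : (0 : ℝ) < m := by exact_mod_cast (by omega : 0 < m)
      have hj0 : (0 : ℝ) < j := by exact_mod_cast hj
      have hsin : 0 < Real.sin θ := by
        apply Real.sin_pos_of_pos_of_lt_pi
        · rw [hθ]; positivity
        · rw [hθ, div_lt_iff₀ hm0]
          have : (j : ℝ) < m := by exact_mod_cast hjm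
          nlinarith [Real.pi_pos]
      have hcos2 : Real.cos θ ^ 2 < 1 := by
        have := Real.sin_sq_add_cos_sq θ
        nlinarith [sq_pos_of_pos hsin]
      have habs : |Real.cos θ| < 1 := by
        rw [← sq_lt_one_iff_abs_lt_one]; exact hcos2
      obtain ⟨hc1, hc2⟩ := abs_lt.1 habs
      -- `2 r ≤ s + t`, `2 r ≤ s t + 1`
      have hb1 : 2 * r ≤ s + t := by
        have : (2 * r) ^ 2 ≤ ((s : ℝ) + t) ^ 2 := by
          rw [mul_pow, hr2]
          nlinarith [sq_nonneg ((s : ℝ) - t)]
        exact (pow_le_pow_iff_left₀ (by positivity) (by positivity) two_ne_zero).1 this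
      have hb2 : 2 * r ≤ s * t + 1 := by
        rw [← hr2]
        nlinarith [sq_nonneg (r - 1)]
      have hpos1 : 0 < (s : ℝ) * t + 1 - 2 * r * Real.cos θ := by nlinarith
      have hpos2 : 0 < (s : ℝ) + t + 2 * r * Real.cos θ := by nlinarith
      obtain ⟨N, hN⟩ := even_step (by linarith) (by linarith) hA hB hbr'
        (fun k hk hkm => by
          have := (htr (2 * k) (by omega) (by omega)).1
          rwa [altProd_two_mul] at this)
        (fun k hk hkm => by
          have := (htr (2 * k) (by omega) (by omega)).2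
          rwa [altProd_two_mul] at this)
        (fun k hkm => by
          have := (htr (2 * k + 1) (by omega) (by omega)).1
          rwa [altProd_two_mul_add_one] at this)
        (fun k hkm => by
          have := (htr (2 * k + 1) (by omega) (by omega)).2
          rwa [altProd_two_mul_add_one] at this)
        hr2 hj hjm hθ hpos1.ne' hpos2.ne'
      have hrhs : 0 < (Fintype.card ι : ℝ) * (4 * ((s : ℝ) * t) - (2 * r * Real.cos θ) ^ 2) := by
        apply mul_pos hι
        rw [mul_pow, mul_pow, hr2]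
        have hst0 : 0 < (s : ℝ) * t := by positivity
        nlinarith [mul_pos hst0 (sub_pos.2 hcos2)]
      have hN0 : 0 < N := by
        rcases Nat.eq_zero_or_pos N with rfl | h0
        · rw [← hN] at hrhs
          simp at hrhs
        · exact h0
      refine ⟨(N * m : ℚ) / Fintype.card ι, ?_, ?_⟩
      · have : (0 : ℚ) < m := by exact_mod_cast hm0
        have : (0 : ℚ) < N := by exact_mod_cast hN0
        have : (0 : ℚ) < Fintype.card ι := by exact_mod_cast hι
        positivity
      · push_cast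
        rw [div_mul_eq_mul_div, div_eq_iff hι.ne']
        linear_combination hN
    have : 1 ≤ m := by omega
    simp only [Set.mem_insert_iff, Set.mem_singleton_iff]
    omega
  · -- `n = 2 m + 1`
    have hbr' : A * (B * A) ^ m = B * (A * B) ^ m := by
      rw [hm, altProd_two_mul_add_one, altProd_two_mul_add_one] at hbr
      exact hbr
    have hinvA : ∀ (C : Matrix ι ι ℝ) (u : ℝ), 2 ≤ u → C * C = (u - 1) • C + u • (1 : Matrix ι ι ℝ) →
        C.det ≠ 0 := by
      intro C u hu hC h0
      have h5 : C * (C - (u - 1) • (1 : Matrix ι ι ℝ)) = u • (1 : Matrix ι ι ℝ) := by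
        rw [mul_sub, hC, mul_smul_comm, mul_one]
        abel
      have h6 := congrArg Matrix.det h5
      rw [Matrix.det_mul, h0, zero_mul, Matrix.det_smul, Matrix.det_one, mul_one] at h6
      have : 0 < u ^ Fintype.card ι := by positivity
      linarith
    have hdA := hinvA A s hs' hA
    have hdB := hinvA B t ht' hB
    -- `s = t`
    have hst : s = t := by
      set w := A * (B * A) ^ m with hw
      have hdw : w.det ≠ 0 := by
        rw [hw, Matrix.det_mul, Matrix.det_pow, Matrix.det_mul]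
        positivity
      have h5 : w * A = B * w := by
        conv_lhs => rw [hbr', mul_pow_comm, mul_assoc, ← pow_succ]
        rw [hw, ← mul_assoc, ← pow_succ']
      have hunit : IsUnit w.det := isUnit_iff_ne_zero.2 hdw
      have h6 : A = w⁻¹ * (B * w) := by
        rw [← h5, ← mul_assoc, Matrix.nonsing_inv_mul _ hunit, one_mul]
      have h7 : (A * A).trace = (B * B).trace := by
        have h8 : A * A = w⁻¹ * ((B * B) * w) := by
          conv_lhs => rw [h6]
          calc w⁻¹ * (B * w) * (w⁻¹ * (B * w)) = w⁻¹ * B * (w * w⁻¹) * B * w := by simp only [mul_assoc]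
            _ = w⁻¹ * ((B * B) * w) := by rw [Matrix.mul_nonsing_inv _ hunit, mul_one]; simp only [mul_assoc]
        rw [h8, Matrix.trace_mul_comm, mul_assoc, Matrix.mul_nonsing_inv _ hunit, mul_one]
      have hAt : A.trace = 0 := by
        have := (htr 1 le_rfl (by omega)).1
        rwa [altProd_succ, altProd_zero, mul_one] at this
      have hBt : B.trace = 0 := by
        have := (htr 1 le_rfl (by omega)).2
        rwa [altProd_succ, altProd_zero, mul_one] at this
      rw [hA, hB, Matrix.trace_add, Matrix.trace_add, Matrix.trace_smul, Matrix.trace_smul,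
        Matrix.trace_smul, Matrix.trace_smul, hAt, hBt, Matrix.trace_one] at h7
      simp only [smul_eq_mul, mul_zero, zero_add] at h7
      have h9 := mul_right_cancel₀ hι.ne' h7
      exact_mod_cast h9
    subst hst
    set φ : ℝ := Real.pi / (2 * m + 1) with hφ
    have hm0 : 0 < m := by omega
    have hpos : 0 < (s : ℝ) ^ 2 + 1 - 2 * s * Real.cos (2 * φ) := by
      have := Real.cos_le_one (2 * φ)
      nlinarith [sq_nonneg ((s : ℝ) - 1)]
    obtain ⟨N, hN⟩ := odd_step (by linarith) hA hB hm0 hbr'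
        (fun k hk hkm => by
          have := (htr (2 * k) (by omega) (by omega)).1
          rwa [altProd_two_mul] at this)
        (fun k hk hkm => by
          have := (htr (2 * k) (by omega) (by omega)).2
          rwa [altProd_two_mul] at this)
        (fun k hkm => by
          have := (htr (2 * k + 1) (by omega) (by omega)).1
          rwa [altProd_two_mul_add_one] at this)
        (fun k hkm => by
          have := (htr (2 * k + 1) (by omega) (by omega)).2
          rwa [altProd_two_mul_add_one] at this) hφ hpos.ne'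
    have hm1 : m = 1 := by
      refine Cfsg.Agent.LieRecognition.FeitHigmanArith.odd_case hm0 hs
        (ρ := (N * (2 * m + 1) : ℚ) / (2 * Fintype.card ι)) ?_
      have h2φ : 2 * φ = 2 * Real.pi / (2 * m + 1) := by rw [hφ]; ring
      rw [← h2φ]
      push_cast
      rw [div_mul_eq_mul_div, div_eq_iff (by positivity)]
      linear_combination hN
    simp only [Set.mem_insert_iff, Set.mem_singleton_iff]
    omega

end Cfsg.Agent.LieRecognition.FeitHigmanMatrix
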