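/-
Explicit action of the root elements `x_r(t)` of the Chevalley group of type `G₂` (tables of `Def_ChevG2`) on
coordinate vectors: `x_r(t) *ᵥ mk a0 a1 b0 … b11 = mk …`, for each of the twelve roots. Generated by a script.
-/
import Cfsg.Prelude.Def_LieTwisted
set_option autoImplicit false
set_option linter.unusedSectionVars false
set_option linter.unusedTactic false
set_option linter.unreachableTactic false
open Cfsg Cfsg.Lie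
open scoped Matrix

namespace Cfsg.Agent.LieRecognition.G2Elem
variable {K : Type*} [Field K]

/-- The coordinate vector with the given coordinates (`a0, a1`: Cartan part, `b0 … b11`: root vectors by index). -/
def mk (a0 a1 b0 b1 b2 b3 b4 b5 b6 b7 b8 b9 b10 b11 : K) : chevG2.Idx → K :=
  Sum.elim (fun i : Fin 2 => (![a0, a1] : Fin 2 → K) i)
    (fun j : Fin 12 => (![b0, b1, b2, b3, b4, b5, b6, b7, b8, b9, b10, b11] : Fin 12 → K) j)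

/-- The index of the `i`-th fundamental coroot. -/
def ih (i : Fin 2) : chevG2.Idx := Sum.inl (i : Fin 2)

/-- The index of the `j`-th root vector. -/
def ie (j : Fin 12) : chevG2.Idx := Sum.inr (j : Fin 12)

theorem eq_mk (v : chevG2.Idx → K) : v = mk (v (ih 0)) (v (ih 1)) (v (ie 0)) (v (ie 1)) (v (ie 2)) (v (ie 3)) (v (ie 4))
    (v (ie 5)) (v (ie 6)) (v (ie 7)) (v (ie 8)) (v (ie 9)) (v (ie 10)) (v (ie 11)) := by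
  funext i
  rcases i with i | i
  · change Fin 2 at i
    fin_cases i <;> rfl
  · change Fin 12 at i
    fin_cases i <;> rfl

theorem sum12 (g : Fin 12 → K) : ∑ i, g i = g 0 + g 1 + g 2 + g 3 + g 4 + g 5 + g 6 + g 7 + g 8 + g 9 + g 10 + g 11 := by
  simp [Fin.sum_univ_succ]
  ring

theorem sum_idx (f : chevG2.Idx → K) : ∑ i, f i =
    f (ih 0) + f (ih 1) + (f (ie 0) + f (ie 1) + f (ie 2) + f (ie 3) + f (ie 4) + f (ie 5) + f (ie 6) + f (ie 7) + f (ie 8)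
     + f (ie 9) + f (ie 10) + f (ie 11)) := by
  rw [Fintype.sum_sum_type]
  congr 1
  · exact Fin.sum_univ_two (fun i : Fin 2 => f (Sum.inl i))
  · exact sum12 (fun i : Fin 12 => f (Sum.inr i))

theorem mk_ext {v w : chevG2.Idx → K} (h0 : v (ih 0) = w (ih 0)) (h1 : v (ih 1) = w (ih 1))
   (e0 : v (ie 0) = w (ie 0)) (e1 : v (ie 1) = w (ie 1)) (e2 : v (ie 2) = w (ie 2)) (e3 : v (ie 3) = w (ie 3))
   (e4 : v (ie 4) = w (ie 4)) (e5 : v (ie 5) = w (ie 5)) (e6 : v (ie 6) = w (ie 6)) (e7 : v (ie 7) = w (ie 7))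
   (e8 : v (ie 8) = w (ie 8)) (e9 : v (ie 9) = w (ie 9)) (e10 : v (ie 10) = w (ie 10)) (e11 : v (ie 11) = w (ie 11)) :
   v = w := by
  rw [eq_mk v, eq_mk w, h0, h1, e0, e1, e2, e3, e4, e5, e6, e7, e8, e9, e10, e11]

/-- Two matrices agreeing on all coordinate vectors are equal. -/
theorem mat_ext {A B : Matrix chevG2.Idx chevG2.Idx K}
    (h : ∀ a0 a1 b0 b1 b2 b3 b4 b5 b6 b7 b8 b9 b10 b11 : K, A *ᵥ mk a0 a1 b0 b1 b2 b3 b4 b5 b6 b7 b8 b9 b10 b11 =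
      B *ᵥ mk a0 a1 b0 b1 b2 b3 b4 b5 b6 b7 b8 b9 b10 b11) : A = B := by
  have h' : ∀ v : chevG2.Idx → K, A *ᵥ v = B *ᵥ v := fun v => by
    rw [eq_mk v]; exact h _ _ _ _ _ _ _ _ _ _ _ _ _ _
  exact Matrix.mulVec_injective (funext h')

/-- Equal coordinates give equal vectors (for `ring`-type proofs). -/
theorem mk_congr {a0 a1 b0 b1 b2 b3 b4 b5 b6 b7 b8 b9 b10 b11 a0' a1' b0' b1' b2' b3' b4' b5' b6' b7' b8' b9' b10' b11' : K}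
    (h0 : a0 = a0') (h1 : a1 = a1') (e0 : b0 = b0') (e1 : b1 = b1') (e2 : b2 = b2') (e3 : b3 = b3') (e4 : b4 = b4')
    (e5 : b5 = b5') (e6 : b6 = b6') (e7 : b7 = b7') (e8 : b8 = b8') (e9 : b9 = b9') (e10 : b10 = b10')
    (e11 : b11 = b11') :
    mk a0 a1 b0 b1 b2 b3 b4 b5 b6 b7 b8 b9 b10 b11 = mk a0' a1' b0' b1' b2' b3' b4' b5' b6' b7' b8' b9' b10' b11' := by
  subst h0 h1 e0 e1 e2 e3 e4 e5 e6 e7 e8 e9 e10 e11; rfl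

theorem x0_mk (t a0 a1 b0 b1 b2 b3 b4 b5 b6 b7 b8 b9 b10 b11 : K) :
    (chevG2.x K 0 t) *ᵥ mk a0 a1 b0 b1 b2 b3 b4 b5 b6 b7 b8 b9 b10 b11 =
      mk (a0 - t * b11)
        (a1 - 2 * t * b11)
        (b0 + t * a1 - t^2 * b11)
        (b1 + t * b6)
        (b2 + t * b8)
        (b3 - t * b9)
        (b4)
        (b5 - t * b10)
        (b6)
        (b7)
        (b8)
        (b9)
        (b10)
        (b11) := by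
  apply mk_ext
  · rw [Matrix.mulVec, dotProduct, sum_idx]
    change 1 * a0 + 0 * a1 + (0 * b0 + 0 * b1 + 0 * b2 + 0 * b3 + 0 * b4 + 0 * b5 + 0 * b6 + 0 * b7 + 0 * b8 + 0 * b9 + 0 * b10 + ((((-1:ℤ):K)) * t) * b11) = a0 - t * b11
    push_cast; ring
  · rw [Matrix.mulVec, dotProduct, sum_idx]
    change 0 * a0 + 1 * a1 + (0 * b0 + 0 * b1 + 0 * b2 + 0 * b3 + 0 * b4 + 0 * b5 + 0 * b6 + 0 * b7 + 0 * b8 + 0 * b9 + 0 * b10 + ((((-2:ℤ):K)) * t) * b11) = a1 - 2 * t * b11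
    push_cast; ring
  · rw [Matrix.mulVec, dotProduct, sum_idx]
    change (-(((0:ℤ):K)) * t) * a0 + (-(((-1:ℤ):K)) * t) * a1 + (1 * b0 + (0 + 0) * b1 + (0 + 0) * b2 + (0 + 0) * b3 + (0 + 0) * b4 + (0 + 0) * b5 + (0 + 0) * b6 + (0 + 0) * b7 + (0 + 0) * b8 + (0 + 0) * b9 + (0 + 0) * b10 + (-(t^2)) * b11) = b0 + t * a1 - t^2 * b11
    push_cast; ring
  · rw [Matrix.mulVec, dotProduct, sum_idx]
    change 0 * a0 + 0 * a1 + (0 * b0 + (1 + 0) * b1 + (0 + 0) * b2 + (0 + 0) * b3 + (0 + 0) * b4 + (0 + 0) * b5 + (0 + (((1:ℤ):K) * t^1 + 0)) * b6 + (0 + 0) * b7 + (0 + 0) * b8 + (0 + 0) * b9 + (0 + 0) * b10 + 0 * b11) = b1 + t * b6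
    push_cast; ring
  · rw [Matrix.mulVec, dotProduct, sum_idx]
    change 0 * a0 + 0 * a1 + (0 * b0 + (0 + 0) * b1 + (1 + 0) * b2 + (0 + 0) * b3 + (0 + 0) * b4 + (0 + 0) * b5 + (0 + 0) * b6 + (0 + 0) * b7 + (0 + (((1:ℤ):K) * t^1 + 0)) * b8 + (0 + 0) * b9 + (0 + 0) * b10 + 0 * b11) = b2 + t * b8
    push_cast; ring
  · rw [Matrix.mulVec, dotProduct, sum_idx]
    change 0 * a0 + 0 * a1 + (0 * b0 + (0 + 0) * b1 + (0 + 0) * b2 + (1 + 0) * b3 + (0 + 0) * b4 + (0 + 0) * b5 + (0 + 0) * b6 + (0 + 0) * b7 + (0 + 0) * b8 + (0 + (((-1:ℤ):K) * t^1 + 0)) * b9 + (0 + 0) * b10 + 0 * b11) = b3 - t * b9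
    push_cast; ring
  · rw [Matrix.mulVec, dotProduct, sum_idx]
    change 0 * a0 + 0 * a1 + (0 * b0 + (0 + 0) * b1 + (0 + 0) * b2 + (0 + 0) * b3 + (1 + 0) * b4 + (0 + 0) * b5 + (0 + 0) * b6 + (0 + 0) * b7 + (0 + 0) * b8 + (0 + 0) * b9 + (0 + 0) * b10 + 0 * b11) = b4
    push_cast; ring
  · rw [Matrix.mulVec, dotProduct, sum_idx]
    change 0 * a0 + 0 * a1 + (0 * b0 + (0 + 0) * b1 + (0 + 0) * b2 + (0 + 0) * b3 + (0 + 0) * b4 + (1 + 0) * b5 + (0 + 0) * b6 + (0 + 0) * b7 + (0 + 0) * b8 + (0 + 0) * b9 + (0 + (((-1:ℤ):K) * t^1 + 0)) * b10 + 0 * b11) = b5 - t * b10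
    push_cast; ring
  · rw [Matrix.mulVec, dotProduct, sum_idx]
    change 0 * a0 + 0 * a1 + (0 * b0 + (0 + 0) * b1 + (0 + 0) * b2 + (0 + 0) * b3 + (0 + 0) * b4 + (0 + 0) * b5 + (1 + 0) * b6 + (0 + 0) * b7 + (0 + 0) * b8 + (0 + 0) * b9 + (0 + 0) * b10 + 0 * b11) = b6
    push_cast; ring
  · rw [Matrix.mulVec, dotProduct, sum_idx]
    change 0 * a0 + 0 * a1 + (0 * b0 + (0 + 0) * b1 + (0 + 0) * b2 + (0 + 0) * b3 + (0 + 0) * b4 + (0 + 0) * b5 + (0 + 0) * b6 + (1 + 0) * b7 + (0 + 0) * b8 + (0 + 0) * b9 + (0 + 0) * b10 + 0 * b11) = b7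
    push_cast; ring
  · rw [Matrix.mulVec, dotProduct, sum_idx]
    change 0 * a0 + 0 * a1 + (0 * b0 + (0 + 0) * b1 + (0 + 0) * b2 + (0 + 0) * b3 + (0 + 0) * b4 + (0 + 0) * b5 + (0 + 0) * b6 + (0 + 0) * b7 + (1 + 0) * b8 + (0 + 0) * b9 + (0 + 0) * b10 + 0 * b11) = b8
    push_cast; ring
  · rw [Matrix.mulVec, dotProduct, sum_idx]
    change 0 * a0 + 0 * a1 + (0 * b0 + (0 + 0) * b1 + (0 + 0) * b2 + (0 + 0) * b3 + (0 + 0) * b4 + (0 + 0) * b5 + (0 + 0) * b6 + (0 + 0) * b7 + (0 + 0) * b8 + (1 + 0) * b9 + (0 + 0) * b10 + 0 * b11) = b9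
    push_cast; ring
  · rw [Matrix.mulVec, dotProduct, sum_idx]
    change 0 * a0 + 0 * a1 + (0 * b0 + (0 + 0) * b1 + (0 + 0) * b2 + (0 + 0) * b3 + (0 + 0) * b4 + (0 + 0) * b5 + (0 + 0) * b6 + (0 + 0) * b7 + (0 + 0) * b8 + (0 + 0) * b9 + (1 + 0) * b10 + 0 * b11) = b10
    push_cast; ring
  · rw [Matrix.mulVec, dotProduct, sum_idx]
    change 0 * a0 + 0 * a1 + (0 * b0 + (0 + 0) * b1 + (0 + 0) * b2 + (0 + 0) * b3 + (0 + 0) * b4 + (0 + 0) * b5 + (0 + 0) * b6 + (0 + 0) * b7 + (0 + 0) * b8 + (0 + 0) * b9 + (0 + 0) * b10 + 1 * b11) = b11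
    push_cast; ring

theorem x1_mk (t a0 a1 b0 b1 b2 b3 b4 b5 b6 b7 b8 b9 b10 b11 : K) :
    (chevG2.x K 1 t) *ᵥ mk a0 a1 b0 b1 b2 b3 b4 b5 b6 b7 b8 b9 b10 b11 =
      mk (a0 - t * b10)
        (a1 - t * b10)
        (b0 + t * b5)
        (b1 + 3 * t * a0 - t * a1 - t^2 * b10)
        (b2 + t * b7)
        (b3)
        (b4 - t * b9)
        (b5)
        (b6 - t * b11)
        (b7)
        (b8)
        (b9)
        (b10)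
        (b11) := by
  apply mk_ext
  · rw [Matrix.mulVec, dotProduct, sum_idx]
    change 1 * a0 + 0 * a1 + (0 * b0 + 0 * b1 + 0 * b2 + 0 * b3 + 0 * b4 + 0 * b5 + 0 * b6 + 0 * b7 + 0 * b8 + 0 * b9 + ((((-1:ℤ):K)) * t) * b10 + 0 * b11) = a0 - t * b10
    push_cast; ring
  · rw [Matrix.mulVec, dotProduct, sum_idx]
    change 0 * a0 + 1 * a1 + (0 * b0 + 0 * b1 + 0 * b2 + 0 * b3 + 0 * b4 + 0 * b5 + 0 * b6 + 0 * b7 + 0 * b8 + 0 * b9 + ((((-1:ℤ):K)) * t) * b10 + 0 * b11) = a1 - t * b10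
    push_cast; ring
  · rw [Matrix.mulVec, dotProduct, sum_idx]
    change 0 * a0 + 0 * a1 + ((1 + 0) * b0 + 0 * b1 + (0 + 0) * b2 + (0 + 0) * b3 + (0 + 0) * b4 + (0 + (((1:ℤ):K) * t^1 + 0)) * b5 + (0 + 0) * b6 + (0 + 0) * b7 + (0 + 0) * b8 + (0 + 0) * b9 + 0 * b10 + (0 + 0) * b11) = b0 + t * b5
    push_cast; ring
  · rw [Matrix.mulVec, dotProduct, sum_idx]
    change (-(((-3:ℤ):K)) * t) * a0 + (-(((1:ℤ):K)) * t) * a1 + ((0 + 0) * b0 + 1 * b1 + (0 + 0) * b2 + (0 + 0) * b3 + (0 + 0) * b4 + (0 + 0) * b5 + (0 + 0) * b6 + (0 + 0) * b7 + (0 + 0) * b8 + (0 + 0) * b9 + (-(t^2)) * b10 + (0 + 0) * b11) = b1 + 3 * t * a0 - t * a1 - t^2 * b10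
    push_cast; ring
  · rw [Matrix.mulVec, dotProduct, sum_idx]
    change 0 * a0 + 0 * a1 + ((0 + 0) * b0 + 0 * b1 + (1 + 0) * b2 + (0 + 0) * b3 + (0 + 0) * b4 + (0 + 0) * b5 + (0 + 0) * b6 + (0 + (((1:ℤ):K) * t^1 + 0)) * b7 + (0 + 0) * b8 + (0 + 0) * b9 + 0 * b10 + (0 + 0) * b11) = b2 + t * b7
    push_cast; ring
  · rw [Matrix.mulVec, dotProduct, sum_idx]
    change 0 * a0 + 0 * a1 + ((0 + 0) * b0 + 0 * b1 + (0 + 0) * b2 + (1 + 0) * b3 + (0 + 0) * b4 + (0 + 0) * b5 + (0 + 0) * b6 + (0 + 0) * b7 + (0 + 0) * b8 + (0 + 0) * b9 + 0 * b10 + (0 + 0) * b11) = b3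
    push_cast; ring
  · rw [Matrix.mulVec, dotProduct, sum_idx]
    change 0 * a0 + 0 * a1 + ((0 + 0) * b0 + 0 * b1 + (0 + 0) * b2 + (0 + 0) * b3 + (1 + 0) * b4 + (0 + 0) * b5 + (0 + 0) * b6 + (0 + 0) * b7 + (0 + 0) * b8 + (0 + (((-1:ℤ):K) * t^1 + 0)) * b9 + 0 * b10 + (0 + 0) * b11) = b4 - t * b9
    push_cast; ring
  · rw [Matrix.mulVec, dotProduct, sum_idx]
    change 0 * a0 + 0 * a1 + ((0 + 0) * b0 + 0 * b1 + (0 + 0) * b2 + (0 + 0) * b3 + (0 + 0) * b4 + (1 + 0) * b5 + (0 + 0) * b6 + (0 + 0) * b7 + (0 + 0) * b8 + (0 + 0) * b9 + 0 * b10 + (0 + 0) * b11) = b5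
    push_cast; ring
  · rw [Matrix.mulVec, dotProduct, sum_idx]
    change 0 * a0 + 0 * a1 + ((0 + 0) * b0 + 0 * b1 + (0 + 0) * b2 + (0 + 0) * b3 + (0 + 0) * b4 + (0 + 0) * b5 + (1 + 0) * b6 + (0 + 0) * b7 + (0 + 0) * b8 + (0 + 0) * b9 + 0 * b10 + (0 + (((-1:ℤ):K) * t^1 + 0)) * b11) = b6 - t * b11
    push_cast; ring
  · rw [Matrix.mulVec, dotProduct, sum_idx]
    change 0 * a0 + 0 * a1 + ((0 + 0) * b0 + 0 * b1 + (0 + 0) * b2 + (0 + 0) * b3 + (0 + 0) * b4 + (0 + 0) * b5 + (0 + 0) * b6 + (1 + 0) * b7 + (0 + 0) * b8 + (0 + 0) * b9 + 0 * b10 + (0 + 0) * b11) = b7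
    push_cast; ring
  · rw [Matrix.mulVec, dotProduct, sum_idx]
    change 0 * a0 + 0 * a1 + ((0 + 0) * b0 + 0 * b1 + (0 + 0) * b2 + (0 + 0) * b3 + (0 + 0) * b4 + (0 + 0) * b5 + (0 + 0) * b6 + (0 + 0) * b7 + (1 + 0) * b8 + (0 + 0) * b9 + 0 * b10 + (0 + 0) * b11) = b8
    push_cast; ring
  · rw [Matrix.mulVec, dotProduct, sum_idx]
    change 0 * a0 + 0 * a1 + ((0 + 0) * b0 + 0 * b1 + (0 + 0) * b2 + (0 + 0) * b3 + (0 + 0) * b4 + (0 + 0) * b5 + (0 + 0) * b6 + (0 + 0) * b7 + (0 + 0) * b8 + (1 + 0) * b9 + 0 * b10 + (0 + 0) * b11) = b9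
    push_cast; ring
  · rw [Matrix.mulVec, dotProduct, sum_idx]
    change 0 * a0 + 0 * a1 + ((0 + 0) * b0 + 0 * b1 + (0 + 0) * b2 + (0 + 0) * b3 + (0 + 0) * b4 + (0 + 0) * b5 + (0 + 0) * b6 + (0 + 0) * b7 + (0 + 0) * b8 + (0 + 0) * b9 + 1 * b10 + (0 + 0) * b11) = b10
    push_cast; ring
  · rw [Matrix.mulVec, dotProduct, sum_idx]
    change 0 * a0 + 0 * a1 + ((0 + 0) * b0 + 0 * b1 + (0 + 0) * b2 + (0 + 0) * b3 + (0 + 0) * b4 + (0 + 0) * b5 + (0 + 0) * b6 + (0 + 0) * b7 + (0 + 0) * b8 + (0 + 0) * b9 + 0 * b10 + (1 + 0) * b11) = b11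
    push_cast; ring

theorem x2_mk (t a0 a1 b0 b1 b2 b3 b4 b5 b6 b7 b8 b9 b10 b11 : K) :
    (chevG2.x K 2 t) *ᵥ mk a0 a1 b0 b1 b2 b3 b4 b5 b6 b7 b8 b9 b10 b11 =
      mk (a0 - 2 * t * b9)
        (a1 - 3 * t * b9)
        (b0 + 3 * t * b3 - 3 * t^2 * b7 + t^3 * b10)
        (b1 + 3 * t * b4 + 3 * t^2 * b8 - t^3 * b11)
        (b2 + t * a0 - t^2 * b9)
        (b3 - 2 * t * b7 + t^2 * b10)
        (b4 + 2 * t * b8 - t^2 * b11)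
        (b5)
        (b6)
        (b7 - t * b10)
        (b8 - t * b11)
        (b9)
        (b10)
        (b11) := by
  apply mk_ext
  · rw [Matrix.mulVec, dotProduct, sum_idx]
    change 1 * a0 + 0 * a1 + (0 * b0 + 0 * b1 + 0 * b2 + 0 * b3 + 0 * b4 + 0 * b5 + 0 * b6 + 0 * b7 + 0 * b8 + ((((-2:ℤ):K)) * t) * b9 + 0 * b10 + 0 * b11) = a0 - 2 * t * b9
    push_cast; ring
  · rw [Matrix.mulVec, dotProduct, sum_idx]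
    change 0 * a0 + 1 * a1 + (0 * b0 + 0 * b1 + 0 * b2 + 0 * b3 + 0 * b4 + 0 * b5 + 0 * b6 + 0 * b7 + 0 * b8 + ((((-3:ℤ):K)) * t) * b9 + 0 * b10 + 0 * b11) = a1 - 3 * t * b9
    push_cast; ring
  · rw [Matrix.mulVec, dotProduct, sum_idx]
    change 0 * a0 + 0 * a1 + ((1 + 0) * b0 + (0 + 0) * b1 + 0 * b2 + (0 + (((3:ℤ):K) * t^1 + 0)) * b3 + (0 + 0) * b4 + (0 + 0) * b5 + (0 + 0) * b6 + (0 + (((-3:ℤ):K) * t^2 + 0)) * b7 + (0 + 0) * b8 + 0 * b9 + (0 + (((1:ℤ):K) * t^3 + 0)) * b10 + (0 + 0) * b11) = b0 + 3 * t * b3 - 3 * t^2 * b7 + t^3 * b10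
    push_cast; ring
  · rw [Matrix.mulVec, dotProduct, sum_idx]
    change 0 * a0 + 0 * a1 + ((0 + 0) * b0 + (1 + 0) * b1 + 0 * b2 + (0 + 0) * b3 + (0 + (((3:ℤ):K) * t^1 + 0)) * b4 + (0 + 0) * b5 + (0 + 0) * b6 + (0 + 0) * b7 + (0 + (((3:ℤ):K) * t^2 + 0)) * b8 + 0 * b9 + (0 + 0) * b10 + (0 + (((-1:ℤ):K) * t^3 + 0)) * b11) = b1 + 3 * t * b4 + 3 * t^2 * b8 - t^3 * b11
    push_cast; ring
  · rw [Matrix.mulVec, dotProduct, sum_idx]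
    change (-(((-1:ℤ):K)) * t) * a0 + (-(((0:ℤ):K)) * t) * a1 + ((0 + 0) * b0 + (0 + 0) * b1 + 1 * b2 + (0 + 0) * b3 + (0 + 0) * b4 + (0 + 0) * b5 + (0 + 0) * b6 + (0 + 0) * b7 + (0 + 0) * b8 + (-(t^2)) * b9 + (0 + 0) * b10 + (0 + 0) * b11) = b2 + t * a0 - t^2 * b9
    push_cast; ring
  · rw [Matrix.mulVec, dotProduct, sum_idx]
    change 0 * a0 + 0 * a1 + ((0 + 0) * b0 + (0 + 0) * b1 + 0 * b2 + (1 + 0) * b3 + (0 + 0) * b4 + (0 + 0) * b5 + (0 + 0) * b6 + (0 + (((-2:ℤ):K) * t^1 + 0)) * b7 + (0 + 0) * b8 + 0 * b9 + (0 + (((1:ℤ):K) * t^2 + 0)) * b10 + (0 + 0) * b11) = b3 - 2 * t * b7 + t^2 * b10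
    push_cast; ring
  · rw [Matrix.mulVec, dotProduct, sum_idx]
    change 0 * a0 + 0 * a1 + ((0 + 0) * b0 + (0 + 0) * b1 + 0 * b2 + (0 + 0) * b3 + (1 + 0) * b4 + (0 + 0) * b5 + (0 + 0) * b6 + (0 + 0) * b7 + (0 + (((2:ℤ):K) * t^1 + 0)) * b8 + 0 * b9 + (0 + 0) * b10 + (0 + (((-1:ℤ):K) * t^2 + 0)) * b11) = b4 + 2 * t * b8 - t^2 * b11
    push_cast; ring
  · rw [Matrix.mulVec, dotProduct, sum_idx]
    change 0 * a0 + 0 * a1 + ((0 + 0) * b0 + (0 + 0) * b1 + 0 * b2 + (0 + 0) * b3 + (0 + 0) * b4 + (1 + 0) * b5 + (0 + 0) * b6 + (0 + 0) * b7 + (0 + 0) * b8 + 0 * b9 + (0 + 0) * b10 + (0 + 0) * b11) = b5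
    push_cast; ring
  · rw [Matrix.mulVec, dotProduct, sum_idx]
    change 0 * a0 + 0 * a1 + ((0 + 0) * b0 + (0 + 0) * b1 + 0 * b2 + (0 + 0) * b3 + (0 + 0) * b4 + (0 + 0) * b5 + (1 + 0) * b6 + (0 + 0) * b7 + (0 + 0) * b8 + 0 * b9 + (0 + 0) * b10 + (0 + 0) * b11) = b6
    push_cast; ring
  · rw [Matrix.mulVec, dotProduct, sum_idx]
    change 0 * a0 + 0 * a1 + ((0 + 0) * b0 + (0 + 0) * b1 + 0 * b2 + (0 + 0) * b3 + (0 + 0) * b4 + (0 + 0) * b5 + (0 + 0) * b6 + (1 + 0) * b7 + (0 + 0) * b8 + 0 * b9 + (0 + (((-1:ℤ):K) * t^1 + 0)) * b10 + (0 + 0) * b11) = b7 - t * b10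
    push_cast; ring
  · rw [Matrix.mulVec, dotProduct, sum_idx]
    change 0 * a0 + 0 * a1 + ((0 + 0) * b0 + (0 + 0) * b1 + 0 * b2 + (0 + 0) * b3 + (0 + 0) * b4 + (0 + 0) * b5 + (0 + 0) * b6 + (0 + 0) * b7 + (1 + 0) * b8 + 0 * b9 + (0 + 0) * b10 + (0 + (((-1:ℤ):K) * t^1 + 0)) * b11) = b8 - t * b11
    push_cast; ring
  · rw [Matrix.mulVec, dotProduct, sum_idx]
    change 0 * a0 + 0 * a1 + ((0 + 0) * b0 + (0 + 0) * b1 + 0 * b2 + (0 + 0) * b3 + (0 + 0) * b4 + (0 + 0) * b5 + (0 + 0) * b6 + (0 + 0) * b7 + (0 + 0) * b8 + 1 * b9 + (0 + 0) * b10 + (0 + 0) * b11) = b9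
    push_cast; ring
  · rw [Matrix.mulVec, dotProduct, sum_idx]
    change 0 * a0 + 0 * a1 + ((0 + 0) * b0 + (0 + 0) * b1 + 0 * b2 + (0 + 0) * b3 + (0 + 0) * b4 + (0 + 0) * b5 + (0 + 0) * b6 + (0 + 0) * b7 + (0 + 0) * b8 + 0 * b9 + (1 + 0) * b10 + (0 + 0) * b11) = b10
    push_cast; ring
  · rw [Matrix.mulVec, dotProduct, sum_idx]
    change 0 * a0 + 0 * a1 + ((0 + 0) * b0 + (0 + 0) * b1 + 0 * b2 + (0 + 0) * b3 + (0 + 0) * b4 + (0 + 0) * b5 + (0 + 0) * b6 + (0 + 0) * b7 + (0 + 0) * b8 + 0 * b9 + (0 + 0) * b10 + (1 + 0) * b11) = b11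
    push_cast; ring

theorem x3_mk (t a0 a1 b0 b1 b2 b3 b4 b5 b6 b7 b8 b9 b10 b11 : K) :
    (chevG2.x K 3 t) *ᵥ mk a0 a1 b0 b1 b2 b3 b4 b5 b6 b7 b8 b9 b10 b11 =
      mk (a0 - t * b8)
        (a1 - 3 * t * b8)
        (b0 - 3 * t * b2 + 3 * t^2 * b4 + t^3 * b6)
        (b1)
        (b2 - 2 * t * b4 - t^2 * b6)
        (b3 - t * a0 + t * a1 - t^2 * b8)
        (b4 + t * b6)
        (b5 - 3 * t * b7 - 3 * t^2 * b9 - t^3 * b11)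
        (b6)
        (b7 + 2 * t * b9 + t^2 * b11)
        (b8)
        (b9 + t * b11)
        (b10)
        (b11) := by
  apply mk_ext
  · rw [Matrix.mulVec, dotProduct, sum_idx]
    change 1 * a0 + 0 * a1 + (0 * b0 + 0 * b1 + 0 * b2 + 0 * b3 + 0 * b4 + 0 * b5 + 0 * b6 + 0 * b7 + ((((-1:ℤ):K)) * t) * b8 + 0 * b9 + 0 * b10 + 0 * b11) = a0 - t * b8
    push_cast; ring
  · rw [Matrix.mulVec, dotProduct, sum_idx]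
    change 0 * a0 + 1 * a1 + (0 * b0 + 0 * b1 + 0 * b2 + 0 * b3 + 0 * b4 + 0 * b5 + 0 * b6 + 0 * b7 + ((((-3:ℤ):K)) * t) * b8 + 0 * b9 + 0 * b10 + 0 * b11) = a1 - 3 * t * b8
    push_cast; ring
  · rw [Matrix.mulVec, dotProduct, sum_idx]
    change 0 * a0 + 0 * a1 + ((1 + 0) * b0 + (0 + 0) * b1 + (0 + (((-3:ℤ):K) * t^1 + 0)) * b2 + 0 * b3 + (0 + (((3:ℤ):K) * t^2 + 0)) * b4 + (0 + 0) * b5 + (0 + (((1:ℤ):K) * t^3 + 0)) * b6 + (0 + 0) * b7 + 0 * b8 + (0 + 0) * b9 + (0 + 0) * b10 + (0 + 0) * b11) = b0 - 3 * t * b2 + 3 * t^2 * b4 + t^3 * b6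
    push_cast; ring
  · rw [Matrix.mulVec, dotProduct, sum_idx]
    change 0 * a0 + 0 * a1 + ((0 + 0) * b0 + (1 + 0) * b1 + (0 + 0) * b2 + 0 * b3 + (0 + 0) * b4 + (0 + 0) * b5 + (0 + 0) * b6 + (0 + 0) * b7 + 0 * b8 + (0 + 0) * b9 + (0 + 0) * b10 + (0 + 0) * b11) = b1
    push_cast; ring
  · rw [Matrix.mulVec, dotProduct, sum_idx]
    change 0 * a0 + 0 * a1 + ((0 + 0) * b0 + (0 + 0) * b1 + (1 + 0) * b2 + 0 * b3 + (0 + (((-2:ℤ):K) * t^1 + 0)) * b4 + (0 + 0) * b5 + (0 + (((-1:ℤ):K) * t^2 + 0)) * b6 + (0 + 0) * b7 + 0 * b8 + (0 + 0) * b9 + (0 + 0) * b10 + (0 + 0) * b11) = b2 - 2 * t * b4 - t^2 * b6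
    push_cast; ring
  · rw [Matrix.mulVec, dotProduct, sum_idx]
    change (-(((1:ℤ):K)) * t) * a0 + (-(((-1:ℤ):K)) * t) * a1 + ((0 + 0) * b0 + (0 + 0) * b1 + (0 + 0) * b2 + 1 * b3 + (0 + 0) * b4 + (0 + 0) * b5 + (0 + 0) * b6 + (0 + 0) * b7 + (-(t^2)) * b8 + (0 + 0) * b9 + (0 + 0) * b10 + (0 + 0) * b11) = b3 - t * a0 + t * a1 - t^2 * b8
    push_cast; ring
  · rw [Matrix.mulVec, dotProduct, sum_idx]
    change 0 * a0 + 0 * a1 + ((0 + 0) * b0 + (0 + 0) * b1 + (0 + 0) * b2 + 0 * b3 + (1 + 0) * b4 + (0 + 0) * b5 + (0 + (((1:ℤ):K) * t^1 + 0)) * b6 + (0 + 0) * b7 + 0 * b8 + (0 + 0) * b9 + (0 + 0) * b10 + (0 + 0) * b11) = b4 + t * b6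
    push_cast; ring
  · rw [Matrix.mulVec, dotProduct, sum_idx]
    change 0 * a0 + 0 * a1 + ((0 + 0) * b0 + (0 + 0) * b1 + (0 + 0) * b2 + 0 * b3 + (0 + 0) * b4 + (1 + 0) * b5 + (0 + 0) * b6 + (0 + (((-3:ℤ):K) * t^1 + 0)) * b7 + 0 * b8 + (0 + (((-3:ℤ):K) * t^2 + 0)) * b9 + (0 + 0) * b10 + (0 + (((-1:ℤ):K) * t^3 + 0)) * b11) = b5 - 3 * t * b7 - 3 * t^2 * b9 - t^3 * b11
    push_cast; ring
  · rw [Matrix.mulVec, dotProduct, sum_idx]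
    change 0 * a0 + 0 * a1 + ((0 + 0) * b0 + (0 + 0) * b1 + (0 + 0) * b2 + 0 * b3 + (0 + 0) * b4 + (0 + 0) * b5 + (1 + 0) * b6 + (0 + 0) * b7 + 0 * b8 + (0 + 0) * b9 + (0 + 0) * b10 + (0 + 0) * b11) = b6
    push_cast; ring
  · rw [Matrix.mulVec, dotProduct, sum_idx]
    change 0 * a0 + 0 * a1 + ((0 + 0) * b0 + (0 + 0) * b1 + (0 + 0) * b2 + 0 * b3 + (0 + 0) * b4 + (0 + 0) * b5 + (0 + 0) * b6 + (1 + 0) * b7 + 0 * b8 + (0 + (((2:ℤ):K) * t^1 + 0)) * b9 + (0 + 0) * b10 + (0 + (((1:ℤ):K) * t^2 + 0)) * b11) = b7 + 2 * t * b9 + t^2 * b11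
    push_cast; ring
  · rw [Matrix.mulVec, dotProduct, sum_idx]
    change 0 * a0 + 0 * a1 + ((0 + 0) * b0 + (0 + 0) * b1 + (0 + 0) * b2 + 0 * b3 + (0 + 0) * b4 + (0 + 0) * b5 + (0 + 0) * b6 + (0 + 0) * b7 + 1 * b8 + (0 + 0) * b9 + (0 + 0) * b10 + (0 + 0) * b11) = b8
    push_cast; ring
  · rw [Matrix.mulVec, dotProduct, sum_idx]
    change 0 * a0 + 0 * a1 + ((0 + 0) * b0 + (0 + 0) * b1 + (0 + 0) * b2 + 0 * b3 + (0 + 0) * b4 + (0 + 0) * b5 + (0 + 0) * b6 + (0 + 0) * b7 + 0 * b8 + (1 + 0) * b9 + (0 + 0) * b10 + (0 + (((1:ℤ):K) * t^1 + 0)) * b11) = b9 + t * b11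
    push_cast; ring
  · rw [Matrix.mulVec, dotProduct, sum_idx]
    change 0 * a0 + 0 * a1 + ((0 + 0) * b0 + (0 + 0) * b1 + (0 + 0) * b2 + 0 * b3 + (0 + 0) * b4 + (0 + 0) * b5 + (0 + 0) * b6 + (0 + 0) * b7 + 0 * b8 + (0 + 0) * b9 + (1 + 0) * b10 + (0 + 0) * b11) = b10
    push_cast; ring
  · rw [Matrix.mulVec, dotProduct, sum_idx]
    change 0 * a0 + 0 * a1 + ((0 + 0) * b0 + (0 + 0) * b1 + (0 + 0) * b2 + 0 * b3 + (0 + 0) * b4 + (0 + 0) * b5 + (0 + 0) * b6 + (0 + 0) * b7 + 0 * b8 + (0 + 0) * b9 + (0 + 0) * b10 + (1 + 0) * b11) = b11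
    push_cast; ring

theorem x4_mk (t a0 a1 b0 b1 b2 b3 b4 b5 b6 b7 b8 b9 b10 b11 : K) :
    (chevG2.x K 4 t) *ᵥ mk a0 a1 b0 b1 b2 b3 b4 b5 b6 b7 b8 b9 b10 b11 =
      mk (a0 - t * b7)
        (a1)
        (b0)
        (b1 - 3 * t * b2 - 3 * t^2 * b3 - t^3 * b5)
        (b2 + 2 * t * b3 + t^2 * b5)
        (b3 + t * b5)
        (b4 + 2 * t * a0 - t * a1 - t^2 * b7)
        (b5)
        (b6 - 3 * t * b8 + 3 * t^2 * b9 + t^3 * b10)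
        (b7)
        (b8 - 2 * t * b9 - t^2 * b10)
        (b9 + t * b10)
        (b10)
        (b11) := by
  apply mk_ext
  · rw [Matrix.mulVec, dotProduct, sum_idx]
    change 1 * a0 + 0 * a1 + (0 * b0 + 0 * b1 + 0 * b2 + 0 * b3 + 0 * b4 + 0 * b5 + 0 * b6 + ((((-1:ℤ):K)) * t) * b7 + 0 * b8 + 0 * b9 + 0 * b10 + 0 * b11) = a0 - t * b7
    push_cast; ring
  · rw [Matrix.mulVec, dotProduct, sum_idx]
    change 0 * a0 + 1 * a1 + (0 * b0 + 0 * b1 + 0 * b2 + 0 * b3 + 0 * b4 + 0 * b5 + 0 * b6 + ((((0:ℤ):K)) * t) * b7 + 0 * b8 + 0 * b9 + 0 * b10 + 0 * b11) = a1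
    push_cast; ring
  · rw [Matrix.mulVec, dotProduct, sum_idx]
    change 0 * a0 + 0 * a1 + ((1 + 0) * b0 + (0 + 0) * b1 + (0 + 0) * b2 + (0 + 0) * b3 + 0 * b4 + (0 + 0) * b5 + (0 + 0) * b6 + 0 * b7 + (0 + 0) * b8 + (0 + 0) * b9 + (0 + 0) * b10 + (0 + 0) * b11) = b0
    push_cast; ring
  · rw [Matrix.mulVec, dotProduct, sum_idx]
    change 0 * a0 + 0 * a1 + ((0 + 0) * b0 + (1 + 0) * b1 + (0 + (((-3:ℤ):K) * t^1 + 0)) * b2 + (0 + (((-3:ℤ):K) * t^2 + 0)) * b3 + 0 * b4 + (0 + (((-1:ℤ):K) * t^3 + 0)) * b5 + (0 + 0) * b6 + 0 * b7 + (0 + 0) * b8 + (0 + 0) * b9 + (0 + 0) * b10 + (0 + 0) * b11) = b1 - 3 * t * b2 - 3 * t^2 * b3 - t^3 * b5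
    push_cast; ring
  · rw [Matrix.mulVec, dotProduct, sum_idx]
    change 0 * a0 + 0 * a1 + ((0 + 0) * b0 + (0 + 0) * b1 + (1 + 0) * b2 + (0 + (((2:ℤ):K) * t^1 + 0)) * b3 + 0 * b4 + (0 + (((1:ℤ):K) * t^2 + 0)) * b5 + (0 + 0) * b6 + 0 * b7 + (0 + 0) * b8 + (0 + 0) * b9 + (0 + 0) * b10 + (0 + 0) * b11) = b2 + 2 * t * b3 + t^2 * b5
    push_cast; ring
  · rw [Matrix.mulVec, dotProduct, sum_idx]
    change 0 * a0 + 0 * a1 + ((0 + 0) * b0 + (0 + 0) * b1 + (0 + 0) * b2 + (1 + 0) * b3 + 0 * b4 + (0 + (((1:ℤ):K) * t^1 + 0)) * b5 + (0 + 0) * b6 + 0 * b7 + (0 + 0) * b8 + (0 + 0) * b9 + (0 + 0) * b10 + (0 + 0) * b11) = b3 + t * b5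
    push_cast; ring
  · rw [Matrix.mulVec, dotProduct, sum_idx]
    change (-(((-2:ℤ):K)) * t) * a0 + (-(((1:ℤ):K)) * t) * a1 + ((0 + 0) * b0 + (0 + 0) * b1 + (0 + 0) * b2 + (0 + 0) * b3 + 1 * b4 + (0 + 0) * b5 + (0 + 0) * b6 + (-(t^2)) * b7 + (0 + 0) * b8 + (0 + 0) * b9 + (0 + 0) * b10 + (0 + 0) * b11) = b4 + 2 * t * a0 - t * a1 - t^2 * b7
    push_cast; ring
  · rw [Matrix.mulVec, dotProduct, sum_idx]
    change 0 * a0 + 0 * a1 + ((0 + 0) * b0 + (0 + 0) * b1 + (0 + 0) * b2 + (0 + 0) * b3 + 0 * b4 + (1 + 0) * b5 + (0 + 0) * b6 + 0 * b7 + (0 + 0) * b8 + (0 + 0) * b9 + (0 + 0) * b10 + (0 + 0) * b11) = b5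
    push_cast; ring
  · rw [Matrix.mulVec, dotProduct, sum_idx]
    change 0 * a0 + 0 * a1 + ((0 + 0) * b0 + (0 + 0) * b1 + (0 + 0) * b2 + (0 + 0) * b3 + 0 * b4 + (0 + 0) * b5 + (1 + 0) * b6 + 0 * b7 + (0 + (((-3:ℤ):K) * t^1 + 0)) * b8 + (0 + (((3:ℤ):K) * t^2 + 0)) * b9 + (0 + (((1:ℤ):K) * t^3 + 0)) * b10 + (0 + 0) * b11) = b6 - 3 * t * b8 + 3 * t^2 * b9 + t^3 * b10
    push_cast; ring
  · rw [Matrix.mulVec, dotProduct, sum_idx]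
    change 0 * a0 + 0 * a1 + ((0 + 0) * b0 + (0 + 0) * b1 + (0 + 0) * b2 + (0 + 0) * b3 + 0 * b4 + (0 + 0) * b5 + (0 + 0) * b6 + 1 * b7 + (0 + 0) * b8 + (0 + 0) * b9 + (0 + 0) * b10 + (0 + 0) * b11) = b7
    push_cast; ring
  · rw [Matrix.mulVec, dotProduct, sum_idx]
    change 0 * a0 + 0 * a1 + ((0 + 0) * b0 + (0 + 0) * b1 + (0 + 0) * b2 + (0 + 0) * b3 + 0 * b4 + (0 + 0) * b5 + (0 + 0) * b6 + 0 * b7 + (1 + 0) * b8 + (0 + (((-2:ℤ):K) * t^1 + 0)) * b9 + (0 + (((-1:ℤ):K) * t^2 + 0)) * b10 + (0 + 0) * b11) = b8 - 2 * t * b9 - t^2 * b10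
    push_cast; ring
  · rw [Matrix.mulVec, dotProduct, sum_idx]
    change 0 * a0 + 0 * a1 + ((0 + 0) * b0 + (0 + 0) * b1 + (0 + 0) * b2 + (0 + 0) * b3 + 0 * b4 + (0 + 0) * b5 + (0 + 0) * b6 + 0 * b7 + (0 + 0) * b8 + (1 + 0) * b9 + (0 + (((1:ℤ):K) * t^1 + 0)) * b10 + (0 + 0) * b11) = b9 + t * b10
    push_cast; ring
  · rw [Matrix.mulVec, dotProduct, sum_idx]
    change 0 * a0 + 0 * a1 + ((0 + 0) * b0 + (0 + 0) * b1 + (0 + 0) * b2 + (0 + 0) * b3 + 0 * b4 + (0 + 0) * b5 + (0 + 0) * b6 + 0 * b7 + (0 + 0) * b8 + (0 + 0) * b9 + (1 + 0) * b10 + (0 + 0) * b11) = b10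
    push_cast; ring
  · rw [Matrix.mulVec, dotProduct, sum_idx]
    change 0 * a0 + 0 * a1 + ((0 + 0) * b0 + (0 + 0) * b1 + (0 + 0) * b2 + (0 + 0) * b3 + 0 * b4 + (0 + 0) * b5 + (0 + 0) * b6 + 0 * b7 + (0 + 0) * b8 + (0 + 0) * b9 + (0 + 0) * b10 + (1 + 0) * b11) = b11
    push_cast; ring

theorem x5_mk (t a0 a1 b0 b1 b2 b3 b4 b5 b6 b7 b8 b9 b10 b11 : K) :
    (chevG2.x K 5 t) *ᵥ mk a0 a1 b0 b1 b2 b3 b4 b5 b6 b7 b8 b9 b10 b11 =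
      mk (a0)
        (a1 - t * b6)
        (b0 - t * b1)
        (b1)
        (b2)
        (b3 - t * b4)
        (b4)
        (b5 - 3 * t * a0 + 2 * t * a1 - t^2 * b6)
        (b6)
        (b7 + t * b8)
        (b8)
        (b9)
        (b10 + t * b11)
        (b11) := by
  apply mk_ext
  · rw [Matrix.mulVec, dotProduct, sum_idx]
    change 1 * a0 + 0 * a1 + (0 * b0 + 0 * b1 + 0 * b2 + 0 * b3 + 0 * b4 + 0 * b5 + ((((0:ℤ):K)) * t) * b6 + 0 * b7 + 0 * b8 + 0 * b9 + 0 * b10 + 0 * b11) = a0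
    push_cast; ring
  · rw [Matrix.mulVec, dotProduct, sum_idx]
    change 0 * a0 + 1 * a1 + (0 * b0 + 0 * b1 + 0 * b2 + 0 * b3 + 0 * b4 + 0 * b5 + ((((-1:ℤ):K)) * t) * b6 + 0 * b7 + 0 * b8 + 0 * b9 + 0 * b10 + 0 * b11) = a1 - t * b6
    push_cast; ring
  · rw [Matrix.mulVec, dotProduct, sum_idx]
    change 0 * a0 + 0 * a1 + ((1 + 0) * b0 + (0 + (((-1:ℤ):K) * t^1 + 0)) * b1 + (0 + 0) * b2 + (0 + 0) * b3 + (0 + 0) * b4 + 0 * b5 + 0 * b6 + (0 + 0) * b7 + (0 + 0) * b8 + (0 + 0) * b9 + (0 + 0) * b10 + (0 + 0) * b11) = b0 - t * b1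
    push_cast; ring
  · rw [Matrix.mulVec, dotProduct, sum_idx]
    change 0 * a0 + 0 * a1 + ((0 + 0) * b0 + (1 + 0) * b1 + (0 + 0) * b2 + (0 + 0) * b3 + (0 + 0) * b4 + 0 * b5 + 0 * b6 + (0 + 0) * b7 + (0 + 0) * b8 + (0 + 0) * b9 + (0 + 0) * b10 + (0 + 0) * b11) = b1
    push_cast; ring
  · rw [Matrix.mulVec, dotProduct, sum_idx]
    change 0 * a0 + 0 * a1 + ((0 + 0) * b0 + (0 + 0) * b1 + (1 + 0) * b2 + (0 + 0) * b3 + (0 + 0) * b4 + 0 * b5 + 0 * b6 + (0 + 0) * b7 + (0 + 0) * b8 + (0 + 0) * b9 + (0 + 0) * b10 + (0 + 0) * b11) = b2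
    push_cast; ring
  · rw [Matrix.mulVec, dotProduct, sum_idx]
    change 0 * a0 + 0 * a1 + ((0 + 0) * b0 + (0 + 0) * b1 + (0 + 0) * b2 + (1 + 0) * b3 + (0 + (((-1:ℤ):K) * t^1 + 0)) * b4 + 0 * b5 + 0 * b6 + (0 + 0) * b7 + (0 + 0) * b8 + (0 + 0) * b9 + (0 + 0) * b10 + (0 + 0) * b11) = b3 - t * b4
    push_cast; ring
  · rw [Matrix.mulVec, dotProduct, sum_idx]
    change 0 * a0 + 0 * a1 + ((0 + 0) * b0 + (0 + 0) * b1 + (0 + 0) * b2 + (0 + 0) * b3 + (1 + 0) * b4 + 0 * b5 + 0 * b6 + (0 + 0) * b7 + (0 + 0) * b8 + (0 + 0) * b9 + (0 + 0) * b10 + (0 + 0) * b11) = b4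
    push_cast; ring
  · rw [Matrix.mulVec, dotProduct, sum_idx]
    change (-(((3:ℤ):K)) * t) * a0 + (-(((-2:ℤ):K)) * t) * a1 + ((0 + 0) * b0 + (0 + 0) * b1 + (0 + 0) * b2 + (0 + 0) * b3 + (0 + 0) * b4 + 1 * b5 + (-(t^2)) * b6 + (0 + 0) * b7 + (0 + 0) * b8 + (0 + 0) * b9 + (0 + 0) * b10 + (0 + 0) * b11) = b5 - 3 * t * a0 + 2 * t * a1 - t^2 * b6
    push_cast; ring
  · rw [Matrix.mulVec, dotProduct, sum_idx]
    change 0 * a0 + 0 * a1 + ((0 + 0) * b0 + (0 + 0) * b1 + (0 + 0) * b2 + (0 + 0) * b3 + (0 + 0) * b4 + 0 * b5 + 1 * b6 + (0 + 0) * b7 + (0 + 0) * b8 + (0 + 0) * b9 + (0 + 0) * b10 + (0 + 0) * b11) = b6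
    push_cast; ring
  · rw [Matrix.mulVec, dotProduct, sum_idx]
    change 0 * a0 + 0 * a1 + ((0 + 0) * b0 + (0 + 0) * b1 + (0 + 0) * b2 + (0 + 0) * b3 + (0 + 0) * b4 + 0 * b5 + 0 * b6 + (1 + 0) * b7 + (0 + (((1:ℤ):K) * t^1 + 0)) * b8 + (0 + 0) * b9 + (0 + 0) * b10 + (0 + 0) * b11) = b7 + t * b8
    push_cast; ring
  · rw [Matrix.mulVec, dotProduct, sum_idx]
    change 0 * a0 + 0 * a1 + ((0 + 0) * b0 + (0 + 0) * b1 + (0 + 0) * b2 + (0 + 0) * b3 + (0 + 0) * b4 + 0 * b5 + 0 * b6 + (0 + 0) * b7 + (1 + 0) * b8 + (0 + 0) * b9 + (0 + 0) * b10 + (0 + 0) * b11) = b8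
    push_cast; ring
  · rw [Matrix.mulVec, dotProduct, sum_idx]
    change 0 * a0 + 0 * a1 + ((0 + 0) * b0 + (0 + 0) * b1 + (0 + 0) * b2 + (0 + 0) * b3 + (0 + 0) * b4 + 0 * b5 + 0 * b6 + (0 + 0) * b7 + (0 + 0) * b8 + (1 + 0) * b9 + (0 + 0) * b10 + (0 + 0) * b11) = b9
    push_cast; ring
  · rw [Matrix.mulVec, dotProduct, sum_idx]
    change 0 * a0 + 0 * a1 + ((0 + 0) * b0 + (0 + 0) * b1 + (0 + 0) * b2 + (0 + 0) * b3 + (0 + 0) * b4 + 0 * b5 + 0 * b6 + (0 + 0) * b7 + (0 + 0) * b8 + (0 + 0) * b9 + (1 + 0) * b10 + (0 + (((1:ℤ):K) * t^1 + 0)) * b11) = b10 + t * b11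
    push_cast; ring
  · rw [Matrix.mulVec, dotProduct, sum_idx]
    change 0 * a0 + 0 * a1 + ((0 + 0) * b0 + (0 + 0) * b1 + (0 + 0) * b2 + (0 + 0) * b3 + (0 + 0) * b4 + 0 * b5 + 0 * b6 + (0 + 0) * b7 + (0 + 0) * b8 + (0 + 0) * b9 + (0 + 0) * b10 + (1 + 0) * b11) = b11
    push_cast; ring

theorem x6_mk (t a0 a1 b0 b1 b2 b3 b4 b5 b6 b7 b8 b9 b10 b11 : K) :
    (chevG2.x K 6 t) *ᵥ mk a0 a1 b0 b1 b2 b3 b4 b5 b6 b7 b8 b9 b10 b11 =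
      mk (a0)
        (a1 + t * b5)
        (b0)
        (b1 - t * b0)
        (b2)
        (b3)
        (b4 - t * b3)
        (b5)
        (b6 + 3 * t * a0 - 2 * t * a1 - t^2 * b5)
        (b7)
        (b8 + t * b7)
        (b9)
        (b10)
        (b11 + t * b10) := by
  apply mk_ext
  · rw [Matrix.mulVec, dotProduct, sum_idx]
    change 1 * a0 + 0 * a1 + (0 * b0 + 0 * b1 + 0 * b2 + 0 * b3 + 0 * b4 + ((((0:ℤ):K)) * t) * b5 + 0 * b6 + 0 * b7 + 0 * b8 + 0 * b9 + 0 * b10 + 0 * b11) = a0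
    push_cast; ring
  · rw [Matrix.mulVec, dotProduct, sum_idx]
    change 0 * a0 + 1 * a1 + (0 * b0 + 0 * b1 + 0 * b2 + 0 * b3 + 0 * b4 + ((((1:ℤ):K)) * t) * b5 + 0 * b6 + 0 * b7 + 0 * b8 + 0 * b9 + 0 * b10 + 0 * b11) = a1 + t * b5
    push_cast; ring
  · rw [Matrix.mulVec, dotProduct, sum_idx]
    change 0 * a0 + 0 * a1 + ((1 + 0) * b0 + (0 + 0) * b1 + (0 + 0) * b2 + (0 + 0) * b3 + (0 + 0) * b4 + 0 * b5 + 0 * b6 + (0 + 0) * b7 + (0 + 0) * b8 + (0 + 0) * b9 + (0 + 0) * b10 + (0 + 0) * b11) = b0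
    push_cast; ring
  · rw [Matrix.mulVec, dotProduct, sum_idx]
    change 0 * a0 + 0 * a1 + ((0 + (((-1:ℤ):K) * t^1 + 0)) * b0 + (1 + 0) * b1 + (0 + 0) * b2 + (0 + 0) * b3 + (0 + 0) * b4 + 0 * b5 + 0 * b6 + (0 + 0) * b7 + (0 + 0) * b8 + (0 + 0) * b9 + (0 + 0) * b10 + (0 + 0) * b11) = b1 - t * b0
    push_cast; ring
  · rw [Matrix.mulVec, dotProduct, sum_idx]
    change 0 * a0 + 0 * a1 + ((0 + 0) * b0 + (0 + 0) * b1 + (1 + 0) * b2 + (0 + 0) * b3 + (0 + 0) * b4 + 0 * b5 + 0 * b6 + (0 + 0) * b7 + (0 + 0) * b8 + (0 + 0) * b9 + (0 + 0) * b10 + (0 + 0) * b11) = b2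
    push_cast; ring
  · rw [Matrix.mulVec, dotProduct, sum_idx]
    change 0 * a0 + 0 * a1 + ((0 + 0) * b0 + (0 + 0) * b1 + (0 + 0) * b2 + (1 + 0) * b3 + (0 + 0) * b4 + 0 * b5 + 0 * b6 + (0 + 0) * b7 + (0 + 0) * b8 + (0 + 0) * b9 + (0 + 0) * b10 + (0 + 0) * b11) = b3
    push_cast; ring
  · rw [Matrix.mulVec, dotProduct, sum_idx]
    change 0 * a0 + 0 * a1 + ((0 + 0) * b0 + (0 + 0) * b1 + (0 + 0) * b2 + (0 + (((-1:ℤ):K) * t^1 + 0)) * b3 + (1 + 0) * b4 + 0 * b5 + 0 * b6 + (0 + 0) * b7 + (0 + 0) * b8 + (0 + 0) * b9 + (0 + 0) * b10 + (0 + 0) * b11) = b4 - t * b3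
    push_cast; ring
  · rw [Matrix.mulVec, dotProduct, sum_idx]
    change 0 * a0 + 0 * a1 + ((0 + 0) * b0 + (0 + 0) * b1 + (0 + 0) * b2 + (0 + 0) * b3 + (0 + 0) * b4 + 1 * b5 + 0 * b6 + (0 + 0) * b7 + (0 + 0) * b8 + (0 + 0) * b9 + (0 + 0) * b10 + (0 + 0) * b11) = b5
    push_cast; ring
  · rw [Matrix.mulVec, dotProduct, sum_idx]
    change (-(((-3:ℤ):K)) * t) * a0 + (-(((2:ℤ):K)) * t) * a1 + ((0 + 0) * b0 + (0 + 0) * b1 + (0 + 0) * b2 + (0 + 0) * b3 + (0 + 0) * b4 + (-(t^2)) * b5 + 1 * b6 + (0 + 0) * b7 + (0 + 0) * b8 + (0 + 0) * b9 + (0 + 0) * b10 + (0 + 0) * b11) = b6 + 3 * t * a0 - 2 * t * a1 - t^2 * b5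
    push_cast; ring
  · rw [Matrix.mulVec, dotProduct, sum_idx]
    change 0 * a0 + 0 * a1 + ((0 + 0) * b0 + (0 + 0) * b1 + (0 + 0) * b2 + (0 + 0) * b3 + (0 + 0) * b4 + 0 * b5 + 0 * b6 + (1 + 0) * b7 + (0 + 0) * b8 + (0 + 0) * b9 + (0 + 0) * b10 + (0 + 0) * b11) = b7
    push_cast; ring
  · rw [Matrix.mulVec, dotProduct, sum_idx]
    change 0 * a0 + 0 * a1 + ((0 + 0) * b0 + (0 + 0) * b1 + (0 + 0) * b2 + (0 + 0) * b3 + (0 + 0) * b4 + 0 * b5 + 0 * b6 + (0 + (((1:ℤ):K) * t^1 + 0)) * b7 + (1 + 0) * b8 + (0 + 0) * b9 + (0 + 0) * b10 + (0 + 0) * b11) = b8 + t * b7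
    push_cast; ring
  · rw [Matrix.mulVec, dotProduct, sum_idx]
    change 0 * a0 + 0 * a1 + ((0 + 0) * b0 + (0 + 0) * b1 + (0 + 0) * b2 + (0 + 0) * b3 + (0 + 0) * b4 + 0 * b5 + 0 * b6 + (0 + 0) * b7 + (0 + 0) * b8 + (1 + 0) * b9 + (0 + 0) * b10 + (0 + 0) * b11) = b9
    push_cast; ring
  · rw [Matrix.mulVec, dotProduct, sum_idx]
    change 0 * a0 + 0 * a1 + ((0 + 0) * b0 + (0 + 0) * b1 + (0 + 0) * b2 + (0 + 0) * b3 + (0 + 0) * b4 + 0 * b5 + 0 * b6 + (0 + 0) * b7 + (0 + 0) * b8 + (0 + 0) * b9 + (1 + 0) * b10 + (0 + 0) * b11) = b10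
    push_cast; ring
  · rw [Matrix.mulVec, dotProduct, sum_idx]
    change 0 * a0 + 0 * a1 + ((0 + 0) * b0 + (0 + 0) * b1 + (0 + 0) * b2 + (0 + 0) * b3 + (0 + 0) * b4 + 0 * b5 + 0 * b6 + (0 + 0) * b7 + (0 + 0) * b8 + (0 + 0) * b9 + (0 + (((1:ℤ):K) * t^1 + 0)) * b10 + (1 + 0) * b11) = b11 + t * b10
    push_cast; ring

theorem x7_mk (t a0 a1 b0 b1 b2 b3 b4 b5 b6 b7 b8 b9 b10 b11 : K) :
    (chevG2.x K 7 t) *ᵥ mk a0 a1 b0 b1 b2 b3 b4 b5 b6 b7 b8 b9 b10 b11 =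
      mk (a0 + t * b4)
        (a1)
        (b0)
        (b1)
        (b2 - t * b1)
        (b3 - t^2 * b1 + 2 * t * b2)
        (b4)
        (b5 - t^3 * b1 + 3 * t^2 * b2 + 3 * t * b3)
        (b6)
        (b7 - 2 * t * a0 + t * a1 - t^2 * b4)
        (b8 - t * b6)
        (b9 + t^2 * b6 - 2 * t * b8)
        (b10 + t^3 * b6 - 3 * t^2 * b8 + 3 * t * b9)
        (b11) := by
  apply mk_ext
  · rw [Matrix.mulVec, dotProduct, sum_idx]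
    change 1 * a0 + 0 * a1 + (0 * b0 + 0 * b1 + 0 * b2 + 0 * b3 + ((((1:ℤ):K)) * t) * b4 + 0 * b5 + 0 * b6 + 0 * b7 + 0 * b8 + 0 * b9 + 0 * b10 + 0 * b11) = a0 + t * b4
    push_cast; ring
  · rw [Matrix.mulVec, dotProduct, sum_idx]
    change 0 * a0 + 1 * a1 + (0 * b0 + 0 * b1 + 0 * b2 + 0 * b3 + ((((0:ℤ):K)) * t) * b4 + 0 * b5 + 0 * b6 + 0 * b7 + 0 * b8 + 0 * b9 + 0 * b10 + 0 * b11) = a1
    push_cast; ring
  · rw [Matrix.mulVec, dotProduct, sum_idx]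
    change 0 * a0 + 0 * a1 + ((1 + 0) * b0 + (0 + 0) * b1 + (0 + 0) * b2 + (0 + 0) * b3 + 0 * b4 + (0 + 0) * b5 + (0 + 0) * b6 + 0 * b7 + (0 + 0) * b8 + (0 + 0) * b9 + (0 + 0) * b10 + (0 + 0) * b11) = b0
    push_cast; ring
  · rw [Matrix.mulVec, dotProduct, sum_idx]
    change 0 * a0 + 0 * a1 + ((0 + 0) * b0 + (1 + 0) * b1 + (0 + 0) * b2 + (0 + 0) * b3 + 0 * b4 + (0 + 0) * b5 + (0 + 0) * b6 + 0 * b7 + (0 + 0) * b8 + (0 + 0) * b9 + (0 + 0) * b10 + (0 + 0) * b11) = b1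
    push_cast; ring
  · rw [Matrix.mulVec, dotProduct, sum_idx]
    change 0 * a0 + 0 * a1 + ((0 + 0) * b0 + (0 + (((-1:ℤ):K) * t^1 + 0)) * b1 + (1 + 0) * b2 + (0 + 0) * b3 + 0 * b4 + (0 + 0) * b5 + (0 + 0) * b6 + 0 * b7 + (0 + 0) * b8 + (0 + 0) * b9 + (0 + 0) * b10 + (0 + 0) * b11) = b2 - t * b1
    push_cast; ring
  · rw [Matrix.mulVec, dotProduct, sum_idx]
    change 0 * a0 + 0 * a1 + ((0 + 0) * b0 + (0 + (((-1:ℤ):K) * t^2 + 0)) * b1 + (0 + (((2:ℤ):K) * t^1 + 0)) * b2 + (1 + 0) * b3 + 0 * b4 + (0 + 0) * b5 + (0 + 0) * b6 + 0 * b7 + (0 + 0) * b8 + (0 + 0) * b9 + (0 + 0) * b10 + (0 + 0) * b11) = b3 - t^2 * b1 + 2 * t * b2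
    push_cast; ring
  · rw [Matrix.mulVec, dotProduct, sum_idx]
    change 0 * a0 + 0 * a1 + ((0 + 0) * b0 + (0 + 0) * b1 + (0 + 0) * b2 + (0 + 0) * b3 + 1 * b4 + (0 + 0) * b5 + (0 + 0) * b6 + 0 * b7 + (0 + 0) * b8 + (0 + 0) * b9 + (0 + 0) * b10 + (0 + 0) * b11) = b4
    push_cast; ring
  · rw [Matrix.mulVec, dotProduct, sum_idx]
    change 0 * a0 + 0 * a1 + ((0 + 0) * b0 + (0 + (((-1:ℤ):K) * t^3 + 0)) * b1 + (0 + (((3:ℤ):K) * t^2 + 0)) * b2 + (0 + (((3:ℤ):K) * t^1 + 0)) * b3 + 0 * b4 + (1 + 0) * b5 + (0 + 0) * b6 + 0 * b7 + (0 + 0) * b8 + (0 + 0) * b9 + (0 + 0) * b10 + (0 + 0) * b11) = b5 - t^3 * b1 + 3 * t^2 * b2 + 3 * t * b3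
    push_cast; ring
  · rw [Matrix.mulVec, dotProduct, sum_idx]
    change 0 * a0 + 0 * a1 + ((0 + 0) * b0 + (0 + 0) * b1 + (0 + 0) * b2 + (0 + 0) * b3 + 0 * b4 + (0 + 0) * b5 + (1 + 0) * b6 + 0 * b7 + (0 + 0) * b8 + (0 + 0) * b9 + (0 + 0) * b10 + (0 + 0) * b11) = b6
    push_cast; ring
  · rw [Matrix.mulVec, dotProduct, sum_idx]
    change (-(((2:ℤ):K)) * t) * a0 + (-(((-1:ℤ):K)) * t) * a1 + ((0 + 0) * b0 + (0 + 0) * b1 + (0 + 0) * b2 + (0 + 0) * b3 + (-(t^2)) * b4 + (0 + 0) * b5 + (0 + 0) * b6 + 1 * b7 + (0 + 0) * b8 + (0 + 0) * b9 + (0 + 0) * b10 + (0 + 0) * b11) = b7 - 2 * t * a0 + t * a1 - t^2 * b4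
    push_cast; ring
  · rw [Matrix.mulVec, dotProduct, sum_idx]
    change 0 * a0 + 0 * a1 + ((0 + 0) * b0 + (0 + 0) * b1 + (0 + 0) * b2 + (0 + 0) * b3 + 0 * b4 + (0 + 0) * b5 + (0 + (((-1:ℤ):K) * t^1 + 0)) * b6 + 0 * b7 + (1 + 0) * b8 + (0 + 0) * b9 + (0 + 0) * b10 + (0 + 0) * b11) = b8 - t * b6
    push_cast; ring
  · rw [Matrix.mulVec, dotProduct, sum_idx]
    change 0 * a0 + 0 * a1 + ((0 + 0) * b0 + (0 + 0) * b1 + (0 + 0) * b2 + (0 + 0) * b3 + 0 * b4 + (0 + 0) * b5 + (0 + (((1:ℤ):K) * t^2 + 0)) * b6 + 0 * b7 + (0 + (((-2:ℤ):K) * t^1 + 0)) * b8 + (1 + 0) * b9 + (0 + 0) * b10 + (0 + 0) * b11) = b9 + t^2 * b6 - 2 * t * b8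
    push_cast; ring
  · rw [Matrix.mulVec, dotProduct, sum_idx]
    change 0 * a0 + 0 * a1 + ((0 + 0) * b0 + (0 + 0) * b1 + (0 + 0) * b2 + (0 + 0) * b3 + 0 * b4 + (0 + 0) * b5 + (0 + (((1:ℤ):K) * t^3 + 0)) * b6 + 0 * b7 + (0 + (((-3:ℤ):K) * t^2 + 0)) * b8 + (0 + (((3:ℤ):K) * t^1 + 0)) * b9 + (1 + 0) * b10 + (0 + 0) * b11) = b10 + t^3 * b6 - 3 * t^2 * b8 + 3 * t * b9
    push_cast; ring
  · rw [Matrix.mulVec, dotProduct, sum_idx]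
    change 0 * a0 + 0 * a1 + ((0 + 0) * b0 + (0 + 0) * b1 + (0 + 0) * b2 + (0 + 0) * b3 + 0 * b4 + (0 + 0) * b5 + (0 + 0) * b6 + 0 * b7 + (0 + 0) * b8 + (0 + 0) * b9 + (0 + 0) * b10 + (1 + 0) * b11) = b11
    push_cast; ring

theorem x8_mk (t a0 a1 b0 b1 b2 b3 b4 b5 b6 b7 b8 b9 b10 b11 : K) :
    (chevG2.x K 8 t) *ᵥ mk a0 a1 b0 b1 b2 b3 b4 b5 b6 b7 b8 b9 b10 b11 =
      mk (a0 + t * b3)
        (a1 + 3 * t * b3)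
        (b0)
        (b1)
        (b2 - t * b0)
        (b3)
        (b4 + t^2 * b0 - 2 * t * b2)
        (b5)
        (b6 + t^3 * b0 - 3 * t^2 * b2 + 3 * t * b4)
        (b7 - t * b5)
        (b8 + t * a0 - t * a1 - t^2 * b3)
        (b9 - t^2 * b5 + 2 * t * b7)
        (b10)
        (b11 - t^3 * b5 + 3 * t^2 * b7 + 3 * t * b9) := by
  apply mk_ext
  · rw [Matrix.mulVec, dotProduct, sum_idx]
    change 1 * a0 + 0 * a1 + (0 * b0 + 0 * b1 + 0 * b2 + ((((1:ℤ):K)) * t) * b3 + 0 * b4 + 0 * b5 + 0 * b6 + 0 * b7 + 0 * b8 + 0 * b9 + 0 * b10 + 0 * b11) = a0 + t * b3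
    push_cast; ring
  · rw [Matrix.mulVec, dotProduct, sum_idx]
    change 0 * a0 + 1 * a1 + (0 * b0 + 0 * b1 + 0 * b2 + ((((3:ℤ):K)) * t) * b3 + 0 * b4 + 0 * b5 + 0 * b6 + 0 * b7 + 0 * b8 + 0 * b9 + 0 * b10 + 0 * b11) = a1 + 3 * t * b3
    push_cast; ring
  · rw [Matrix.mulVec, dotProduct, sum_idx]
    change 0 * a0 + 0 * a1 + ((1 + 0) * b0 + (0 + 0) * b1 + (0 + 0) * b2 + 0 * b3 + (0 + 0) * b4 + (0 + 0) * b5 + (0 + 0) * b6 + (0 + 0) * b7 + 0 * b8 + (0 + 0) * b9 + (0 + 0) * b10 + (0 + 0) * b11) = b0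
    push_cast; ring
  · rw [Matrix.mulVec, dotProduct, sum_idx]
    change 0 * a0 + 0 * a1 + ((0 + 0) * b0 + (1 + 0) * b1 + (0 + 0) * b2 + 0 * b3 + (0 + 0) * b4 + (0 + 0) * b5 + (0 + 0) * b6 + (0 + 0) * b7 + 0 * b8 + (0 + 0) * b9 + (0 + 0) * b10 + (0 + 0) * b11) = b1
    push_cast; ring
  · rw [Matrix.mulVec, dotProduct, sum_idx]
    change 0 * a0 + 0 * a1 + ((0 + (((-1:ℤ):K) * t^1 + 0)) * b0 + (0 + 0) * b1 + (1 + 0) * b2 + 0 * b3 + (0 + 0) * b4 + (0 + 0) * b5 + (0 + 0) * b6 + (0 + 0) * b7 + 0 * b8 + (0 + 0) * b9 + (0 + 0) * b10 + (0 + 0) * b11) = b2 - t * b0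
    push_cast; ring
  · rw [Matrix.mulVec, dotProduct, sum_idx]
    change 0 * a0 + 0 * a1 + ((0 + 0) * b0 + (0 + 0) * b1 + (0 + 0) * b2 + 1 * b3 + (0 + 0) * b4 + (0 + 0) * b5 + (0 + 0) * b6 + (0 + 0) * b7 + 0 * b8 + (0 + 0) * b9 + (0 + 0) * b10 + (0 + 0) * b11) = b3
    push_cast; ring
  · rw [Matrix.mulVec, dotProduct, sum_idx]
    change 0 * a0 + 0 * a1 + ((0 + (((1:ℤ):K) * t^2 + 0)) * b0 + (0 + 0) * b1 + (0 + (((-2:ℤ):K) * t^1 + 0)) * b2 + 0 * b3 + (1 + 0) * b4 + (0 + 0) * b5 + (0 + 0) * b6 + (0 + 0) * b7 + 0 * b8 + (0 + 0) * b9 + (0 + 0) * b10 + (0 + 0) * b11) = b4 + t^2 * b0 - 2 * t * b2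
    push_cast; ring
  · rw [Matrix.mulVec, dotProduct, sum_idx]
    change 0 * a0 + 0 * a1 + ((0 + 0) * b0 + (0 + 0) * b1 + (0 + 0) * b2 + 0 * b3 + (0 + 0) * b4 + (1 + 0) * b5 + (0 + 0) * b6 + (0 + 0) * b7 + 0 * b8 + (0 + 0) * b9 + (0 + 0) * b10 + (0 + 0) * b11) = b5
    push_cast; ring
  · rw [Matrix.mulVec, dotProduct, sum_idx]
    change 0 * a0 + 0 * a1 + ((0 + (((1:ℤ):K) * t^3 + 0)) * b0 + (0 + 0) * b1 + (0 + (((-3:ℤ):K) * t^2 + 0)) * b2 + 0 * b3 + (0 + (((3:ℤ):K) * t^1 + 0)) * b4 + (0 + 0) * b5 + (1 + 0) * b6 + (0 + 0) * b7 + 0 * b8 + (0 + 0) * b9 + (0 + 0) * b10 + (0 + 0) * b11) = b6 + t^3 * b0 - 3 * t^2 * b2 + 3 * t * b4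
    push_cast; ring
  · rw [Matrix.mulVec, dotProduct, sum_idx]
    change 0 * a0 + 0 * a1 + ((0 + 0) * b0 + (0 + 0) * b1 + (0 + 0) * b2 + 0 * b3 + (0 + 0) * b4 + (0 + (((-1:ℤ):K) * t^1 + 0)) * b5 + (0 + 0) * b6 + (1 + 0) * b7 + 0 * b8 + (0 + 0) * b9 + (0 + 0) * b10 + (0 + 0) * b11) = b7 - t * b5
    push_cast; ring
  · rw [Matrix.mulVec, dotProduct, sum_idx]
    change (-(((-1:ℤ):K)) * t) * a0 + (-(((1:ℤ):K)) * t) * a1 + ((0 + 0) * b0 + (0 + 0) * b1 + (0 + 0) * b2 + (-(t^2)) * b3 + (0 + 0) * b4 + (0 + 0) * b5 + (0 + 0) * b6 + (0 + 0) * b7 + 1 * b8 + (0 + 0) * b9 + (0 + 0) * b10 + (0 + 0) * b11) = b8 + t * a0 - t * a1 - t^2 * b3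
    push_cast; ring
  · rw [Matrix.mulVec, dotProduct, sum_idx]
    change 0 * a0 + 0 * a1 + ((0 + 0) * b0 + (0 + 0) * b1 + (0 + 0) * b2 + 0 * b3 + (0 + 0) * b4 + (0 + (((-1:ℤ):K) * t^2 + 0)) * b5 + (0 + 0) * b6 + (0 + (((2:ℤ):K) * t^1 + 0)) * b7 + 0 * b8 + (1 + 0) * b9 + (0 + 0) * b10 + (0 + 0) * b11) = b9 - t^2 * b5 + 2 * t * b7
    push_cast; ring
  · rw [Matrix.mulVec, dotProduct, sum_idx]
    change 0 * a0 + 0 * a1 + ((0 + 0) * b0 + (0 + 0) * b1 + (0 + 0) * b2 + 0 * b3 + (0 + 0) * b4 + (0 + 0) * b5 + (0 + 0) * b6 + (0 + 0) * b7 + 0 * b8 + (0 + 0) * b9 + (1 + 0) * b10 + (0 + 0) * b11) = b10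
    push_cast; ring
  · rw [Matrix.mulVec, dotProduct, sum_idx]
    change 0 * a0 + 0 * a1 + ((0 + 0) * b0 + (0 + 0) * b1 + (0 + 0) * b2 + 0 * b3 + (0 + 0) * b4 + (0 + (((-1:ℤ):K) * t^3 + 0)) * b5 + (0 + 0) * b6 + (0 + (((3:ℤ):K) * t^2 + 0)) * b7 + 0 * b8 + (0 + (((3:ℤ):K) * t^1 + 0)) * b9 + (0 + 0) * b10 + (1 + 0) * b11) = b11 - t^3 * b5 + 3 * t^2 * b7 + 3 * t * b9
    push_cast; ring

theorem x9_mk (t a0 a1 b0 b1 b2 b3 b4 b5 b6 b7 b8 b9 b10 b11 : K) :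
    (chevG2.x K 9 t) *ᵥ mk a0 a1 b0 b1 b2 b3 b4 b5 b6 b7 b8 b9 b10 b11 =
      mk (a0 + 2 * t * b2)
        (a1 + 3 * t * b2)
        (b0)
        (b1)
        (b2)
        (b3 + t * b0)
        (b4 + t * b1)
        (b5)
        (b6)
        (b7 - t^2 * b0 - 2 * t * b3)
        (b8 + t^2 * b1 + 2 * t * b4)
        (b9 - t * a0 - t^2 * b2)
        (b10 + t^3 * b0 + 3 * t^2 * b3 - 3 * t * b7)
        (b11 - t^3 * b1 - 3 * t^2 * b4 - 3 * t * b8) := by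
  apply mk_ext
  · rw [Matrix.mulVec, dotProduct, sum_idx]
    change 1 * a0 + 0 * a1 + (0 * b0 + 0 * b1 + ((((2:ℤ):K)) * t) * b2 + 0 * b3 + 0 * b4 + 0 * b5 + 0 * b6 + 0 * b7 + 0 * b8 + 0 * b9 + 0 * b10 + 0 * b11) = a0 + 2 * t * b2
    push_cast; ring
  · rw [Matrix.mulVec, dotProduct, sum_idx]
    change 0 * a0 + 1 * a1 + (0 * b0 + 0 * b1 + ((((3:ℤ):K)) * t) * b2 + 0 * b3 + 0 * b4 + 0 * b5 + 0 * b6 + 0 * b7 + 0 * b8 + 0 * b9 + 0 * b10 + 0 * b11) = a1 + 3 * t * b2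
    push_cast; ring
  · rw [Matrix.mulVec, dotProduct, sum_idx]
    change 0 * a0 + 0 * a1 + ((1 + 0) * b0 + (0 + 0) * b1 + 0 * b2 + (0 + 0) * b3 + (0 + 0) * b4 + (0 + 0) * b5 + (0 + 0) * b6 + (0 + 0) * b7 + (0 + 0) * b8 + 0 * b9 + (0 + 0) * b10 + (0 + 0) * b11) = b0
    push_cast; ring
  · rw [Matrix.mulVec, dotProduct, sum_idx]
    change 0 * a0 + 0 * a1 + ((0 + 0) * b0 + (1 + 0) * b1 + 0 * b2 + (0 + 0) * b3 + (0 + 0) * b4 + (0 + 0) * b5 + (0 + 0) * b6 + (0 + 0) * b7 + (0 + 0) * b8 + 0 * b9 + (0 + 0) * b10 + (0 + 0) * b11) = b1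
    push_cast; ring
  · rw [Matrix.mulVec, dotProduct, sum_idx]
    change 0 * a0 + 0 * a1 + ((0 + 0) * b0 + (0 + 0) * b1 + 1 * b2 + (0 + 0) * b3 + (0 + 0) * b4 + (0 + 0) * b5 + (0 + 0) * b6 + (0 + 0) * b7 + (0 + 0) * b8 + 0 * b9 + (0 + 0) * b10 + (0 + 0) * b11) = b2
    push_cast; ring
  · rw [Matrix.mulVec, dotProduct, sum_idx]
    change 0 * a0 + 0 * a1 + ((0 + (((1:ℤ):K) * t^1 + 0)) * b0 + (0 + 0) * b1 + 0 * b2 + (1 + 0) * b3 + (0 + 0) * b4 + (0 + 0) * b5 + (0 + 0) * b6 + (0 + 0) * b7 + (0 + 0) * b8 + 0 * b9 + (0 + 0) * b10 + (0 + 0) * b11) = b3 + t * b0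
    push_cast; ring
  · rw [Matrix.mulVec, dotProduct, sum_idx]
    change 0 * a0 + 0 * a1 + ((0 + 0) * b0 + (0 + (((1:ℤ):K) * t^1 + 0)) * b1 + 0 * b2 + (0 + 0) * b3 + (1 + 0) * b4 + (0 + 0) * b5 + (0 + 0) * b6 + (0 + 0) * b7 + (0 + 0) * b8 + 0 * b9 + (0 + 0) * b10 + (0 + 0) * b11) = b4 + t * b1
    push_cast; ring
  · rw [Matrix.mulVec, dotProduct, sum_idx]
    change 0 * a0 + 0 * a1 + ((0 + 0) * b0 + (0 + 0) * b1 + 0 * b2 + (0 + 0) * b3 + (0 + 0) * b4 + (1 + 0) * b5 + (0 + 0) * b6 + (0 + 0) * b7 + (0 + 0) * b8 + 0 * b9 + (0 + 0) * b10 + (0 + 0) * b11) = b5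
    push_cast; ring
  · rw [Matrix.mulVec, dotProduct, sum_idx]
    change 0 * a0 + 0 * a1 + ((0 + 0) * b0 + (0 + 0) * b1 + 0 * b2 + (0 + 0) * b3 + (0 + 0) * b4 + (0 + 0) * b5 + (1 + 0) * b6 + (0 + 0) * b7 + (0 + 0) * b8 + 0 * b9 + (0 + 0) * b10 + (0 + 0) * b11) = b6
    push_cast; ring
  · rw [Matrix.mulVec, dotProduct, sum_idx]
    change 0 * a0 + 0 * a1 + ((0 + (((-1:ℤ):K) * t^2 + 0)) * b0 + (0 + 0) * b1 + 0 * b2 + (0 + (((-2:ℤ):K) * t^1 + 0)) * b3 + (0 + 0) * b4 + (0 + 0) * b5 + (0 + 0) * b6 + (1 + 0) * b7 + (0 + 0) * b8 + 0 * b9 + (0 + 0) * b10 + (0 + 0) * b11) = b7 - t^2 * b0 - 2 * t * b3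
    push_cast; ring
  · rw [Matrix.mulVec, dotProduct, sum_idx]
    change 0 * a0 + 0 * a1 + ((0 + 0) * b0 + (0 + (((1:ℤ):K) * t^2 + 0)) * b1 + 0 * b2 + (0 + 0) * b3 + (0 + (((2:ℤ):K) * t^1 + 0)) * b4 + (0 + 0) * b5 + (0 + 0) * b6 + (0 + 0) * b7 + (1 + 0) * b8 + 0 * b9 + (0 + 0) * b10 + (0 + 0) * b11) = b8 + t^2 * b1 + 2 * t * b4
    push_cast; ring
  · rw [Matrix.mulVec, dotProduct, sum_idx]
    change (-(((1:ℤ):K)) * t) * a0 + (-(((0:ℤ):K)) * t) * a1 + ((0 + 0) * b0 + (0 + 0) * b1 + (-(t^2)) * b2 + (0 + 0) * b3 + (0 + 0) * b4 + (0 + 0) * b5 + (0 + 0) * b6 + (0 + 0) * b7 + (0 + 0) * b8 + 1 * b9 + (0 + 0) * b10 + (0 + 0) * b11) = b9 - t * a0 - t^2 * b2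
    push_cast; ring
  · rw [Matrix.mulVec, dotProduct, sum_idx]
    change 0 * a0 + 0 * a1 + ((0 + (((1:ℤ):K) * t^3 + 0)) * b0 + (0 + 0) * b1 + 0 * b2 + (0 + (((3:ℤ):K) * t^2 + 0)) * b3 + (0 + 0) * b4 + (0 + 0) * b5 + (0 + 0) * b6 + (0 + (((-3:ℤ):K) * t^1 + 0)) * b7 + (0 + 0) * b8 + 0 * b9 + (1 + 0) * b10 + (0 + 0) * b11) = b10 + t^3 * b0 + 3 * t^2 * b3 - 3 * t * b7
    push_cast; ring
  · rw [Matrix.mulVec, dotProduct, sum_idx]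
    change 0 * a0 + 0 * a1 + ((0 + 0) * b0 + (0 + (((-1:ℤ):K) * t^3 + 0)) * b1 + 0 * b2 + (0 + 0) * b3 + (0 + (((-3:ℤ):K) * t^2 + 0)) * b4 + (0 + 0) * b5 + (0 + 0) * b6 + (0 + 0) * b7 + (0 + (((-3:ℤ):K) * t^1 + 0)) * b8 + 0 * b9 + (0 + 0) * b10 + (1 + 0) * b11) = b11 - t^3 * b1 - 3 * t^2 * b4 - 3 * t * b8
    push_cast; ring

theorem x10_mk (t a0 a1 b0 b1 b2 b3 b4 b5 b6 b7 b8 b9 b10 b11 : K) :
    (chevG2.x K 10 t) *ᵥ mk a0 a1 b0 b1 b2 b3 b4 b5 b6 b7 b8 b9 b10 b11 =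
      mk (a0 + t * b1)
        (a1 + t * b1)
        (b0)
        (b1)
        (b2)
        (b3)
        (b4)
        (b5 + t * b0)
        (b6)
        (b7 + t * b2)
        (b8)
        (b9 - t * b4)
        (b10 - 3 * t * a0 + t * a1 - t^2 * b1)
        (b11 - t * b6) := by
  apply mk_ext
  · rw [Matrix.mulVec, dotProduct, sum_idx]
    change 1 * a0 + 0 * a1 + (0 * b0 + ((((1:ℤ):K)) * t) * b1 + 0 * b2 + 0 * b3 + 0 * b4 + 0 * b5 + 0 * b6 + 0 * b7 + 0 * b8 + 0 * b9 + 0 * b10 + 0 * b11) = a0 + t * b1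
    push_cast; ring
  · rw [Matrix.mulVec, dotProduct, sum_idx]
    change 0 * a0 + 1 * a1 + (0 * b0 + ((((1:ℤ):K)) * t) * b1 + 0 * b2 + 0 * b3 + 0 * b4 + 0 * b5 + 0 * b6 + 0 * b7 + 0 * b8 + 0 * b9 + 0 * b10 + 0 * b11) = a1 + t * b1
    push_cast; ring
  · rw [Matrix.mulVec, dotProduct, sum_idx]
    change 0 * a0 + 0 * a1 + ((1 + 0) * b0 + 0 * b1 + (0 + 0) * b2 + (0 + 0) * b3 + (0 + 0) * b4 + (0 + 0) * b5 + (0 + 0) * b6 + (0 + 0) * b7 + (0 + 0) * b8 + (0 + 0) * b9 + 0 * b10 + (0 + 0) * b11) = b0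
    push_cast; ring
  · rw [Matrix.mulVec, dotProduct, sum_idx]
    change 0 * a0 + 0 * a1 + ((0 + 0) * b0 + 1 * b1 + (0 + 0) * b2 + (0 + 0) * b3 + (0 + 0) * b4 + (0 + 0) * b5 + (0 + 0) * b6 + (0 + 0) * b7 + (0 + 0) * b8 + (0 + 0) * b9 + 0 * b10 + (0 + 0) * b11) = b1
    push_cast; ring
  · rw [Matrix.mulVec, dotProduct, sum_idx]
    change 0 * a0 + 0 * a1 + ((0 + 0) * b0 + 0 * b1 + (1 + 0) * b2 + (0 + 0) * b3 + (0 + 0) * b4 + (0 + 0) * b5 + (0 + 0) * b6 + (0 + 0) * b7 + (0 + 0) * b8 + (0 + 0) * b9 + 0 * b10 + (0 + 0) * b11) = b2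
    push_cast; ring
  · rw [Matrix.mulVec, dotProduct, sum_idx]
    change 0 * a0 + 0 * a1 + ((0 + 0) * b0 + 0 * b1 + (0 + 0) * b2 + (1 + 0) * b3 + (0 + 0) * b4 + (0 + 0) * b5 + (0 + 0) * b6 + (0 + 0) * b7 + (0 + 0) * b8 + (0 + 0) * b9 + 0 * b10 + (0 + 0) * b11) = b3
    push_cast; ring
  · rw [Matrix.mulVec, dotProduct, sum_idx]
    change 0 * a0 + 0 * a1 + ((0 + 0) * b0 + 0 * b1 + (0 + 0) * b2 + (0 + 0) * b3 + (1 + 0) * b4 + (0 + 0) * b5 + (0 + 0) * b6 + (0 + 0) * b7 + (0 + 0) * b8 + (0 + 0) * b9 + 0 * b10 + (0 + 0) * b11) = b4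
    push_cast; ring
  · rw [Matrix.mulVec, dotProduct, sum_idx]
    change 0 * a0 + 0 * a1 + ((0 + (((1:ℤ):K) * t^1 + 0)) * b0 + 0 * b1 + (0 + 0) * b2 + (0 + 0) * b3 + (0 + 0) * b4 + (1 + 0) * b5 + (0 + 0) * b6 + (0 + 0) * b7 + (0 + 0) * b8 + (0 + 0) * b9 + 0 * b10 + (0 + 0) * b11) = b5 + t * b0
    push_cast; ring
  · rw [Matrix.mulVec, dotProduct, sum_idx]
    change 0 * a0 + 0 * a1 + ((0 + 0) * b0 + 0 * b1 + (0 + 0) * b2 + (0 + 0) * b3 + (0 + 0) * b4 + (0 + 0) * b5 + (1 + 0) * b6 + (0 + 0) * b7 + (0 + 0) * b8 + (0 + 0) * b9 + 0 * b10 + (0 + 0) * b11) = b6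
    push_cast; ring
  · rw [Matrix.mulVec, dotProduct, sum_idx]
    change 0 * a0 + 0 * a1 + ((0 + 0) * b0 + 0 * b1 + (0 + (((1:ℤ):K) * t^1 + 0)) * b2 + (0 + 0) * b3 + (0 + 0) * b4 + (0 + 0) * b5 + (0 + 0) * b6 + (1 + 0) * b7 + (0 + 0) * b8 + (0 + 0) * b9 + 0 * b10 + (0 + 0) * b11) = b7 + t * b2
    push_cast; ring
  · rw [Matrix.mulVec, dotProduct, sum_idx]
    change 0 * a0 + 0 * a1 + ((0 + 0) * b0 + 0 * b1 + (0 + 0) * b2 + (0 + 0) * b3 + (0 + 0) * b4 + (0 + 0) * b5 + (0 + 0) * b6 + (0 + 0) * b7 + (1 + 0) * b8 + (0 + 0) * b9 + 0 * b10 + (0 + 0) * b11) = b8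
    push_cast; ring
  · rw [Matrix.mulVec, dotProduct, sum_idx]
    change 0 * a0 + 0 * a1 + ((0 + 0) * b0 + 0 * b1 + (0 + 0) * b2 + (0 + 0) * b3 + (0 + (((-1:ℤ):K) * t^1 + 0)) * b4 + (0 + 0) * b5 + (0 + 0) * b6 + (0 + 0) * b7 + (0 + 0) * b8 + (1 + 0) * b9 + 0 * b10 + (0 + 0) * b11) = b9 - t * b4
    push_cast; ring
  · rw [Matrix.mulVec, dotProduct, sum_idx]
    change (-(((3:ℤ):K)) * t) * a0 + (-(((-1:ℤ):K)) * t) * a1 + ((0 + 0) * b0 + (-(t^2)) * b1 + (0 + 0) * b2 + (0 + 0) * b3 + (0 + 0) * b4 + (0 + 0) * b5 + (0 + 0) * b6 + (0 + 0) * b7 + (0 + 0) * b8 + (0 + 0) * b9 + 1 * b10 + (0 + 0) * b11) = b10 - 3 * t * a0 + t * a1 - t^2 * b1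
    push_cast; ring
  · rw [Matrix.mulVec, dotProduct, sum_idx]
    change 0 * a0 + 0 * a1 + ((0 + 0) * b0 + 0 * b1 + (0 + 0) * b2 + (0 + 0) * b3 + (0 + 0) * b4 + (0 + 0) * b5 + (0 + (((-1:ℤ):K) * t^1 + 0)) * b6 + (0 + 0) * b7 + (0 + 0) * b8 + (0 + 0) * b9 + 0 * b10 + (1 + 0) * b11) = b11 - t * b6
    push_cast; ring

theorem x11_mk (t a0 a1 b0 b1 b2 b3 b4 b5 b6 b7 b8 b9 b10 b11 : K) :
    (chevG2.x K 11 t) *ᵥ mk a0 a1 b0 b1 b2 b3 b4 b5 b6 b7 b8 b9 b10 b11 =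
      mk (a0 + t * b0)
        (a1 + 2 * t * b0)
        (b0)
        (b1)
        (b2)
        (b3)
        (b4)
        (b5)
        (b6 + t * b1)
        (b7)
        (b8 + t * b2)
        (b9 - t * b3)
        (b10 - t * b5)
        (b11 - t * a1 - t^2 * b0) := by
  apply mk_ext
  · rw [Matrix.mulVec, dotProduct, sum_idx]
    change 1 * a0 + 0 * a1 + (((((1:ℤ):K)) * t) * b0 + 0 * b1 + 0 * b2 + 0 * b3 + 0 * b4 + 0 * b5 + 0 * b6 + 0 * b7 + 0 * b8 + 0 * b9 + 0 * b10 + 0 * b11) = a0 + t * b0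
    push_cast; ring
  · rw [Matrix.mulVec, dotProduct, sum_idx]
    change 0 * a0 + 1 * a1 + (((((2:ℤ):K)) * t) * b0 + 0 * b1 + 0 * b2 + 0 * b3 + 0 * b4 + 0 * b5 + 0 * b6 + 0 * b7 + 0 * b8 + 0 * b9 + 0 * b10 + 0 * b11) = a1 + 2 * t * b0
    push_cast; ring
  · rw [Matrix.mulVec, dotProduct, sum_idx]
    change 0 * a0 + 0 * a1 + (1 * b0 + (0 + 0) * b1 + (0 + 0) * b2 + (0 + 0) * b3 + (0 + 0) * b4 + (0 + 0) * b5 + (0 + 0) * b6 + (0 + 0) * b7 + (0 + 0) * b8 + (0 + 0) * b9 + (0 + 0) * b10 + 0 * b11) = b0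
    push_cast; ring
  · rw [Matrix.mulVec, dotProduct, sum_idx]
    change 0 * a0 + 0 * a1 + (0 * b0 + (1 + 0) * b1 + (0 + 0) * b2 + (0 + 0) * b3 + (0 + 0) * b4 + (0 + 0) * b5 + (0 + 0) * b6 + (0 + 0) * b7 + (0 + 0) * b8 + (0 + 0) * b9 + (0 + 0) * b10 + 0 * b11) = b1
    push_cast; ring
  · rw [Matrix.mulVec, dotProduct, sum_idx]
    change 0 * a0 + 0 * a1 + (0 * b0 + (0 + 0) * b1 + (1 + 0) * b2 + (0 + 0) * b3 + (0 + 0) * b4 + (0 + 0) * b5 + (0 + 0) * b6 + (0 + 0) * b7 + (0 + 0) * b8 + (0 + 0) * b9 + (0 + 0) * b10 + 0 * b11) = b2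
    push_cast; ring
  · rw [Matrix.mulVec, dotProduct, sum_idx]
    change 0 * a0 + 0 * a1 + (0 * b0 + (0 + 0) * b1 + (0 + 0) * b2 + (1 + 0) * b3 + (0 + 0) * b4 + (0 + 0) * b5 + (0 + 0) * b6 + (0 + 0) * b7 + (0 + 0) * b8 + (0 + 0) * b9 + (0 + 0) * b10 + 0 * b11) = b3
    push_cast; ring
  · rw [Matrix.mulVec, dotProduct, sum_idx]
    change 0 * a0 + 0 * a1 + (0 * b0 + (0 + 0) * b1 + (0 + 0) * b2 + (0 + 0) * b3 + (1 + 0) * b4 + (0 + 0) * b5 + (0 + 0) * b6 + (0 + 0) * b7 + (0 + 0) * b8 + (0 + 0) * b9 + (0 + 0) * b10 + 0 * b11) = b4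
    push_cast; ring
  · rw [Matrix.mulVec, dotProduct, sum_idx]
    change 0 * a0 + 0 * a1 + (0 * b0 + (0 + 0) * b1 + (0 + 0) * b2 + (0 + 0) * b3 + (0 + 0) * b4 + (1 + 0) * b5 + (0 + 0) * b6 + (0 + 0) * b7 + (0 + 0) * b8 + (0 + 0) * b9 + (0 + 0) * b10 + 0 * b11) = b5
    push_cast; ring
  · rw [Matrix.mulVec, dotProduct, sum_idx]
    change 0 * a0 + 0 * a1 + (0 * b0 + (0 + (((1:ℤ):K) * t^1 + 0)) * b1 + (0 + 0) * b2 + (0 + 0) * b3 + (0 + 0) * b4 + (0 + 0) * b5 + (1 + 0) * b6 + (0 + 0) * b7 + (0 + 0) * b8 + (0 + 0) * b9 + (0 + 0) * b10 + 0 * b11) = b6 + t * b1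
    push_cast; ring
  · rw [Matrix.mulVec, dotProduct, sum_idx]
    change 0 * a0 + 0 * a1 + (0 * b0 + (0 + 0) * b1 + (0 + 0) * b2 + (0 + 0) * b3 + (0 + 0) * b4 + (0 + 0) * b5 + (0 + 0) * b6 + (1 + 0) * b7 + (0 + 0) * b8 + (0 + 0) * b9 + (0 + 0) * b10 + 0 * b11) = b7
    push_cast; ring
  · rw [Matrix.mulVec, dotProduct, sum_idx]
    change 0 * a0 + 0 * a1 + (0 * b0 + (0 + 0) * b1 + (0 + (((1:ℤ):K) * t^1 + 0)) * b2 + (0 + 0) * b3 + (0 + 0) * b4 + (0 + 0) * b5 + (0 + 0) * b6 + (0 + 0) * b7 + (1 + 0) * b8 + (0 + 0) * b9 + (0 + 0) * b10 + 0 * b11) = b8 + t * b2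
    push_cast; ring
  · rw [Matrix.mulVec, dotProduct, sum_idx]
    change 0 * a0 + 0 * a1 + (0 * b0 + (0 + 0) * b1 + (0 + 0) * b2 + (0 + (((-1:ℤ):K) * t^1 + 0)) * b3 + (0 + 0) * b4 + (0 + 0) * b5 + (0 + 0) * b6 + (0 + 0) * b7 + (0 + 0) * b8 + (1 + 0) * b9 + (0 + 0) * b10 + 0 * b11) = b9 - t * b3
    push_cast; ring
  · rw [Matrix.mulVec, dotProduct, sum_idx]
    change 0 * a0 + 0 * a1 + (0 * b0 + (0 + 0) * b1 + (0 + 0) * b2 + (0 + 0) * b3 + (0 + 0) * b4 + (0 + (((-1:ℤ):K) * t^1 + 0)) * b5 + (0 + 0) * b6 + (0 + 0) * b7 + (0 + 0) * b8 + (0 + 0) * b9 + (1 + 0) * b10 + 0 * b11) = b10 - t * b5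
    push_cast; ring
  · rw [Matrix.mulVec, dotProduct, sum_idx]
    change (-(((0:ℤ):K)) * t) * a0 + (-(((1:ℤ):K)) * t) * a1 + ((-(t^2)) * b0 + (0 + 0) * b1 + (0 + 0) * b2 + (0 + 0) * b3 + (0 + 0) * b4 + (0 + 0) * b5 + (0 + 0) * b6 + (0 + 0) * b7 + (0 + 0) * b8 + (0 + 0) * b9 + (0 + 0) * b10 + 1 * b11) = b11 - t * a1 - t^2 * b0
    push_cast; ring

end Cfsg.Agent.LieRecognition.G2Elem
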