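import Mathlib
import Cfsg.Agent.LieRecognition.FieldAutBasis

/-!
Field-theoretic lemmas for Higman's theorem on Suzuki 2-groups (second part): products of two field
automorphisms determine the automorphisms, and the projections of a `F_2[F^*]`-module onto the
components `x ↦ k / σ k` are given by subsets of `F^*`.
-/

set_option autoImplicit false

namespace Cfsg.Agent.LieRecognition.HigmanField

variable {F : Type*} [Field F] [Finite F]

/-- Two automorphisms of a finite field that agree on a generator of the unit group are equal. -/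
theorem eq_of_generator {g : Fˣ} (hg : ∀ x : Fˣ, x ∈ Subgroup.zpowers g) {a c : F ≃+* F}
    (h : a (g : F) = c (g : F)) : a = c := by
  ext x
  by_cases hx : x = 0
  · rw [hx, map_zero, map_zero]
  obtain ⟨i, hi⟩ := Subgroup.mem_zpowers_iff.mp (hg (Units.mk0 x hx))
  have h1 : x = (g : F) ^ i := by
    have := congrArg Units.val hi
    simpa using this.symm
  rw [h1, map_zpow₀, map_zpow₀, h]

/-- A product of two automorphisms determines them up to order. -/
theorem eq_or_swap {a b c d : F ≃+* F} (h : ∀ x : F, a x * b x = c x * d x) :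
    (a = c ∧ b = d) ∨ (a = d ∧ b = c) := by
  obtain ⟨g, hg⟩ := IsCyclic.exists_generator (α := Fˣ)
  have hadd : ∀ x : F, a x + b x = c x + d x := by
    intro x
    have h1 := h (x + 1)
    have h0 := h x
    simp only [map_add, map_one] at h1
    linear_combination h1 - h0
  have hcancel : ∀ a b c d : F ≃+* F, (∀ x : F, a x * b x = c x * d x) → a = c → b = d := by
    intro a b c d h hac
    subst hac
    ext x
    by_cases hx : x = 0
    · rw [hx, map_zero, map_zero]
    have hax : a x ≠ 0 := by simpa using hx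
    exact mul_left_cancel₀ hax (h x)
  have hprod : (a (g : F) - c (g : F)) * (a (g : F) - d (g : F)) = 0 := by
    have h1 := h (g : F)
    have h2 := hadd (g : F)
    linear_combination (-1 : F) * h1 + a (g : F) * h2
  rcases mul_eq_zero.mp hprod with h1 | h1
  · left
    have hac := eq_of_generator hg (sub_eq_zero.mp h1)
    exact ⟨hac, hcancel a b c d h hac⟩
  · right
    have had := eq_of_generator hg (sub_eq_zero.mp h1)
    exact ⟨had, hcancel a b d c (fun x => by rw [h x, mul_comm]) had⟩

variable [CharP F 2]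

theorem add_self' (x : F) : x + x = 0 := CharTwo.add_self_eq_zero x

/-- The sum over all automorphisms takes values `0` and `1`. -/
theorem trace_mem [Fintype (F ≃+* F)] (z : F) : (∑ τ : F ≃+* F, τ z) = 0 ∨ (∑ τ : F ≃+* F, τ z) = 1 := by
  have : Fact (Nat.Prime 2) := ⟨Nat.prime_two⟩
  have h1 : (∑ τ : F ≃+* F, τ z) ^ 2 = ∑ τ : F ≃+* F, τ z := by
    have h2 : ∀ y : F, y ^ 2 = frobeniusEquiv F 2 y := fun y => by
      rw [frobeniusEquiv_apply, frobenius_def]
    rw [h2, map_sum]
    exact Fintype.sum_equiv (Equiv.mulLeft (frobeniusEquiv F 2)) _ _ (fun τ => rfl)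
  have h3 : (∑ τ : F ≃+* F, τ z) * ((∑ τ : F ≃+* F, τ z) - 1) = 0 := by
    rw [mul_sub, mul_one, ← pow_two, h1, sub_self]
  rcases mul_eq_zero.mp h3 with h | h
  · exact Or.inl h
  · exact Or.inr (sub_eq_zero.mp h)

/-- The projection onto the component `σ₀`. -/
theorem exists_projection (σ₀ : F ≃+* F) (hσ₀ : σ₀ ≠ 1) :
    ∃ S : Finset Fˣ, ∀ σ : F ≃+* F,
      ((∑ k ∈ S, (k : F) / σ (k : F)) = 1 ∧ σ = σ₀) ∨ ((∑ k ∈ S, (k : F) / σ (k : F)) = 0 ∧ σ ≠ σ₀) := by
  classical
  have : Fact (Nat.Prime 2) := ⟨Nat.prime_two⟩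
  let _ : Fintype F := Fintype.ofFinite F
  have : Finite (F ≃+* F) := Finite.of_injective (fun σ : F ≃+* F => (σ : F → F)) DFunLike.coe_injective
  let _ : Fintype (F ≃+* F) := Fintype.ofFinite _
  let t : Fˣ → F := fun k => ∑ τ : F ≃+* F, τ (σ₀ (k : F) / (k : F))
  let S : Finset Fˣ := Finset.univ.filter (fun k => t k = 1)
  refine ⟨S, fun σ => ?_⟩
  let ψ : (F ≃+* F) → (Fˣ →* F) := fun τ =>
    { toFun := fun k => τ (σ₀ (k : F) / (k : F)) * ((k : F) / σ (k : F))
      map_one' := by simp
      map_mul' := by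
        intro x y
        simp only [Units.val_mul, map_mul, map_div₀]
        field_simp }
  have hψ : ∀ τ (k : Fˣ), ψ τ k = τ (σ₀ (k : F) / (k : F)) * ((k : F) / σ (k : F)) := fun τ k => rfl
  have h1 : (∑ k ∈ S, (k : F) / σ (k : F)) = ∑ τ, ∑ k : Fˣ, ψ τ k := by
    rw [Finset.sum_comm, Finset.sum_filter]
    refine Finset.sum_congr rfl fun k _ => ?_
    simp only [hψ]
    rw [← Finset.sum_mul]
    change _ = t k * _
    split_ifs with h
    · rw [h, one_mul]
    · rcases trace_mem (σ₀ (k : F) / (k : F)) with h' | h'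
      · change _ = t k * _
        have : t k = 0 := h'
        rw [this, zero_mul]
      · exact absurd h' h
  have hψ1 : ∀ τ, ψ τ = 1 ↔ (τ = 1 ∧ σ = σ₀) := by
    intro τ
    constructor
    · intro h
      have h2 : ∀ x : F, (σ₀.trans τ) x * (1 : F ≃+* F) x = τ x * σ x := by
        intro x
        by_cases hx : x = 0
        · rw [hx]; simp
        have h3 := DFunLike.congr_fun h (Units.mk0 x hx)
        rw [hψ] at h3
        simp only [Units.val_mk0, MonoidHom.one_apply, map_div₀] at h3
        have hτ : τ x ≠ 0 := by simpa using hx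
        have hσ : σ x ≠ 0 := by simpa using hx
        change τ (σ₀ x) * x = τ x * σ x
        field_simp at h3
        exact h3
      rcases eq_or_swap h2 with ⟨h3, h4⟩ | ⟨h3, h4⟩
      · exfalso
        apply hσ₀
        ext x
        have h5 := DFunLike.congr_fun h3 x
        change τ (σ₀ x) = τ x at h5
        exact τ.injective h5
      · refine ⟨h4.symm, ?_⟩
        rw [← h3, ← h4]
        ext x
        rfl
    · rintro ⟨rfl, rfl⟩
      ext k
      rw [hψ]
      simp only [RingAut.one_apply, MonoidHom.one_apply]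
      have hk : (k : F) ≠ 0 := k.ne_zero
      have hσ : σ (k : F) ≠ 0 := by simpa using hk
      field_simp
  have h2 : ∀ τ, (∑ k : Fˣ, ψ τ k) = if (τ = 1 ∧ σ = σ₀) then 1 else 0 := by
    intro τ
    split_ifs with h
    · have := (hψ1 τ).mpr h
      rw [this]
      simp only [MonoidHom.one_apply, Finset.sum_const, Finset.card_univ, nsmul_eq_mul, mul_one]
      have hc := Fintype.card_units (α := F)
      have hpos : 0 < Fintype.card F := Fintype.card_pos
      have h3 : ((Fintype.card Fˣ + 1 : ℕ) : F) = 0 := by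
        rw [hc, Nat.sub_add_cancel hpos]
        exact FiniteField.cast_card_eq_zero F
      push_cast at h3
      rw [add_eq_zero_iff_eq_neg] at h3
      rw [h3, CharTwo.neg_eq]
    · exact sum_hom_units_eq_zero (ψ τ) (fun h' => h ((hψ1 τ).mp h'))
  rw [h1]
  simp only [h2]
  by_cases h : σ = σ₀
  · left
    refine ⟨?_, h⟩
    simp [h]
  · right
    refine ⟨?_, h⟩
    simp [h]

end Cfsg.Agent.LieRecognition.HigmanField
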