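import Cfsg.Agent.LieRecognition.HigmanData
import Cfsg.Agent.LieRecognition.HigmanField
import Cfsg.Agent.LieRecognition.HigmanCentral

/-!
Higman's theorem on Suzuki 2-groups, second part: the action of the group on a homocyclic invariant subgroup `R` of
exponent four, in coordinates.
-/

set_option autoImplicit false

namespace Cfsg.Agent.LieRecognition.HigmanCoeff

open Cfsg.Agent.LieRecognition.HigmanData Cfsg.Agent.LieRecognition.HigmanField

section Basic

variable {F P : Type*} [Group P] [Finite P] [Field F] [Finite F] [CharP F 2] [MulDistribMulAction Fˣ P]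
  {δ : F → P}

omit [Finite P] [Finite F] [CharP F 2] in
theorem δ_zero (hδ : SingerData F P δ) : δ 0 = 1 := by
  have := hδ.add 0 0
  rw [add_zero] at this
  exact (mul_eq_left.mp this.symm)

omit [Finite P] [Finite F] [CharP F 2] in
theorem δ_eq_one (hδ : SingerData F P δ) {a : F} : δ a = 1 ↔ a = 0 := by
  rw [← δ_zero hδ]
  exact ⟨fun h => hδ.inj h, fun h => by rw [h]⟩

omit [Finite P] [Finite F] [CharP F 2] in
theorem inv_central (hδ : SingerData F P δ) {x : P} (hx : x * x = 1) (y : P) : x * y = y * x := by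
  obtain ⟨a, rfl⟩ := (hδ.inv x).mp hx
  exact hδ.central a y

omit [Finite P] [Finite F] [CharP F 2] in
theorem trans (hδ : SingerData F P δ) : ∀ x y : P, x ≠ 1 → x * x = 1 → y ≠ 1 → y * y = 1 →
    ∃ k : Fˣ, k • x = y := by
  intro x y hx hx2 hy hy2
  obtain ⟨a, rfl⟩ := (hδ.inv x).mp hx2
  obtain ⟨b, rfl⟩ := (hδ.inv y).mp hy2
  have ha : a ≠ 0 := fun h => hx ((δ_eq_one hδ).mpr h)
  have hb : b ≠ 0 := fun h => hy ((δ_eq_one hδ).mpr h)
  refine ⟨Units.mk0 b hb / Units.mk0 a ha, ?_⟩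
  rw [hδ.smul]
  congr 1
  simp [ha]

omit [Finite P] in
theorem unit_sq (k : Fˣ) : ∃ m : Fˣ, m * m = k := by
  have : Fact (Nat.Prime 2) := ⟨Nat.prime_two⟩
  obtain ⟨m, hm⟩ := (frobeniusEquiv F 2).surjective (k : F)
  rw [frobeniusEquiv_apply, frobenius_def, pow_two] at hm
  have hm0 : m ≠ 0 := by
    rintro rfl
    rw [mul_zero] at hm
    exact k.ne_zero hm.symm
  exact ⟨Units.mk0 m hm0, Units.ext hm⟩

omit [Finite F] [CharP F 2] in
/-- `F^*` acts without fixed points. -/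
theorem fpf (hδ : SingerData F P δ) (hp : IsPGroup 2 P) {k : Fˣ} {x : P} (h : k • x = x) : k = 1 ∨ x = 1 := by
  classical
  by_cases hx : x = 1
  · exact Or.inr hx
  left
  obtain ⟨n, hn⟩ := hp x
  have hex : ∃ m, x ^ (2 ^ m) = 1 := ⟨n, hn⟩
  obtain ⟨m, hm1, hm2⟩ : ∃ m, x ^ (2 ^ m) = 1 ∧ ∀ l < m, ¬ x ^ (2 ^ l) = 1 :=
    ⟨Nat.find hex, Nat.find_spec hex, fun l hl => Nat.find_min hex hl⟩
  obtain ⟨m, rfl⟩ : ∃ m', m = m' + 1 := by
    rcases m with _ | m
    · exfalso
      rw [pow_zero, pow_one] at hm1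
      exact hx hm1
    · exact ⟨m, rfl⟩
  have h2 : x ^ (2 ^ m) * x ^ (2 ^ m) = 1 := by
    rw [← pow_add, ← hm1]
    congr 1
    ring
  obtain ⟨a, ha⟩ := (hδ.inv _).mp h2
  have ha0 : a ≠ 0 := by
    intro h0
    apply hm2 m (Nat.lt_succ_self m)
    rw [← ha, h0, δ_zero hδ]
  have h3 : k • x ^ (2 ^ m) = x ^ (2 ^ m) := by rw [smul_pow', h]
  rw [← ha, hδ.smul] at h3
  have h4 := hδ.inj h3
  have h5 : (k : F) = 1 := by
    have := mul_right_cancel₀ ha0 (h4.trans (one_mul a).symm)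
    exact this
  exact Units.ext h5

omit [Finite F] [CharP F 2] in
/-- Fixed-point-freeness on invariant sections. -/
theorem fpf_mem (hδ : SingerData F P δ) (hp : IsPGroup 2 P) {C : Subgroup P}
    (hC : ∀ (k : Fˣ), ∀ x ∈ C, k • x ∈ C) {k : Fˣ} (hk : k ≠ 1) {x : P} (h : x⁻¹ * k • x ∈ C) : x ∈ C := by
  let f : C → C := fun y => ⟨(y : P)⁻¹ * k • (y : P), C.mul_mem (C.inv_mem y.2) (hC k _ y.2)⟩
  have key : ∀ x y : P, x⁻¹ * k • x = y⁻¹ * k • y → x = y := by
    intro x y hxy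
    have h1 : k • (y * x⁻¹) = y * x⁻¹ := by
      rw [smul_mul', smul_inv']
      have h2 : y * (x⁻¹ * k • x) = k • y := by rw [hxy]; group
      rw [← h2]
      group
    rcases fpf hδ hp h1 with h2 | h2
    · exact absurd h2 hk
    · exact (mul_inv_eq_one.mp h2).symm
  have hf : Function.Injective f := by
    intro x y hxy
    exact Subtype.ext (key _ _ (congrArg Subtype.val hxy))
  obtain ⟨y, hy⟩ := (Finite.surjective_of_injective hf) ⟨_, h⟩
  have := key y x (congrArg Subtype.val hy)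
  rw [← this]
  exact y.2

/-- An invariant subgroup with a central element of order 4 is abelian. -/
theorem abelian_of_central (hδ : SingerData F P δ) (hp : IsPGroup 2 P) {C : Subgroup P}
    (hC : ∀ (k : Fˣ), ∀ x ∈ C, k • x ∈ C) {r : P} (hr : r ∈ C) (hr2 : r * r ≠ 1) (hr4 : r * r * (r * r) = 1)
    (hrc : ∀ x ∈ C, r * x = x * r) : ∀ x ∈ C, ∀ y ∈ C, x * y = y * x := by
  let act : MulDistribMulAction Fˣ C :=
    { smul := fun k x => ⟨k • (x : P), hC k _ x.2⟩
      one_smul := fun x => Subtype.ext (one_smul _ (x : P))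
      mul_smul := fun k l x => Subtype.ext (mul_smul k l (x : P))
      smul_mul := fun k x y => Subtype.ext (smul_mul' k (x : P) (y : P))
      smul_one := fun k => Subtype.ext (smul_one k) }
  have hact : ∀ (k : Fˣ) (x : C), ((k • x : C) : P) = k • (x : P) := fun k x => rfl
  have hT : ∀ x y : C, x ≠ 1 → x * x = 1 → y ≠ 1 → y * y = 1 → ∃ k : Fˣ, k • x = y := by
    intro x y hx hx2 hy hy2
    obtain ⟨k, hk⟩ := trans hδ (x : P) (y : P) (fun h => hx (Subtype.ext h)) (congrArg Subtype.val hx2)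
      (fun h => hy (Subtype.ext h)) (congrArg Subtype.val hy2)
    exact ⟨k, Subtype.ext hk⟩
  have h4 : ∀ x : C, x ^ 4 = 1 → ∀ y, x * y = y * x := by
    rintro ⟨x, hxC⟩ hx4 ⟨y, hyC⟩
    apply Subtype.ext
    change x * y = y * x
    have hx4' : x * x * (x * x) = 1 := by
      have := congrArg Subtype.val hx4
      change x ^ 4 = 1 at this
      rw [← this]
      simp only [pow_succ, pow_zero, one_mul, mul_assoc]
    by_cases hx2 : x * x = 1
    · exact inv_central hδ hx2 y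
    obtain ⟨k, hk⟩ := trans hδ (r * r) (x * x) hr2 hr4 hx2 hx4'
    have hkr : k • r ∈ C := hC k r hr
    have hkc : ∀ z ∈ C, (k • r) * z = z * (k • r) := by
      intro z hz
      have h1 := hrc (k⁻¹ • z) (hC k⁻¹ z hz)
      have h2 := congrArg (fun t => k • t) h1
      simpa only [smul_mul', smul_inv_smul] using h2
    have h5 : (x * (k • r)⁻¹) * (x * (k • r)⁻¹) = 1 := by
      have h6 := hkc x hxC
      have h7 : (k • r)⁻¹ * x = x * (k • r)⁻¹ := by
        rw [inv_mul_eq_iff_eq_mul, ← mul_assoc, h6, mul_inv_cancel_right]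
      calc (x * (k • r)⁻¹) * (x * (k • r)⁻¹) = x * ((k • r)⁻¹ * x) * (k • r)⁻¹ := by group
        _ = x * (x * (k • r)⁻¹) * (k • r)⁻¹ := by rw [h7]
        _ = (x * x) * ((k • r) * (k • r))⁻¹ := by group
        _ = 1 := by rw [← smul_mul', hk, mul_inv_cancel]
    have h8 := inv_central hδ h5 y
    have h9 : x = (x * (k • r)⁻¹) * (k • r) := by group
    calc x * y = (x * (k • r)⁻¹) * ((k • r) * y) := by group
      _ = (x * (k • r)⁻¹) * (y * (k • r)) := by rw [hkc y hyC]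
      _ = ((x * (k • r)⁻¹) * y) * (k • r) := by group
      _ = (y * (x * (k • r)⁻¹)) * (k • r) := by rw [h8]
      _ = y * x := by group
  have hab := Cfsg.Agent.LieRecognition.HigmanCentral.abelian_of_invariant (P := C) (K := Fˣ)
    (hp.to_subgroup C) (fun a b => mul_comm a b) unit_sq hT h4 (Nat.card (⊤ : Subgroup C)) ⊤ rfl
    (fun _ _ _ => Subgroup.mem_top _)
  intro x hx y hy
  exact congrArg Subtype.val (hab ⟨x, hx⟩ (Subgroup.mem_top _) ⟨y, hy⟩ (Subgroup.mem_top _))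

end Basic

/-- `R` is an invariant subgroup, homocyclic of exponent 4, `C` is its centraliser, abelian and containing all
squares; `R` consists of the elements of `C` of order dividing 4. -/
structure Setup (F P : Type*) [Group P] [Field F] [MulDistribMulAction Fˣ P] (δ : F → P) (R C : Subgroup P) :
    Prop where
  RC : R ≤ C
  Cab : ∀ x ∈ C, ∀ y ∈ C, x * y = y * x
  Rinv : ∀ (k : Fˣ), ∀ x ∈ R, k • x ∈ R
  Cinv : ∀ (k : Fˣ), ∀ x ∈ C, k • x ∈ C
  sq : ∀ x, x * x ∈ C
  R_of : ∀ c ∈ C, c * c * (c * c) = 1 → c ∈ R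
  R4 : ∀ r ∈ R, r * r * (r * r) = 1
  comm : ∀ r ∈ R, ∀ x, (r⁻¹ * x⁻¹ * r * x) * (r⁻¹ * x⁻¹ * r * x) = 1
  root : ∀ u : F, ∃ r ∈ R, r * r = δ u
  cent : ∀ x, (∀ r ∈ R, r * x = x * r) → x ∈ C

section Coeff

variable {F P : Type*} [Group P] [Finite P] [Field F] [Finite F] [CharP F 2] [MulDistribMulAction Fˣ P]
  {δ : F → P} {R C : Subgroup P}

theorem exists_coeff [Fintype (F ≃+* F)] (hδ : SingerData F P δ) (hp : IsPGroup 2 P) (hS : Setup F P δ R C) :
    ∃ a : (F ≃+* F) → P → F,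
      (∀ x, ∀ r ∈ R, ∀ u, r * r = δ u → r⁻¹ * x⁻¹ * r * x = δ (∑ σ, a σ x * σ u)) ∧
      (∀ σ x y, a σ (x * y) = a σ x + a σ y) ∧
      (∀ σ (k : Fˣ) x, a σ (k • x) = ((k : F) / σ (k : F)) * a σ x) ∧
      (∀ x, (∀ σ, a σ x = 0) ↔ x ∈ C) ∧
      (∀ (σ : F ≃+* F) (k : Fˣ), k ≠ 1 → σ (k : F) = (k : F) → ∀ x, a σ x = 0) := by
  classical
  have : Fact (Nat.Prime 2) := ⟨Nat.prime_two⟩
  choose ρ hρR hρ2 using hS.root
  have hex : ∀ x u, ∃ t, δ t = (ρ u)⁻¹ * x⁻¹ * ρ u * x := fun x u => (hδ.inv _).mp (hS.comm _ (hρR u) x)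
  choose T hT using hex
  have hT' : ∀ x, ∀ r ∈ R, ∀ u, r * r = δ u → r⁻¹ * x⁻¹ * r * x = δ (T x u) := by
    intro x r hr u hru
    have hab := hS.Cab _ (hS.RC (R.inv_mem (hρR u))) _ (hS.RC hr)
    have hz : ((ρ u)⁻¹ * r) * ((ρ u)⁻¹ * r) = 1 := by
      calc ((ρ u)⁻¹ * r) * ((ρ u)⁻¹ * r) = ((ρ u)⁻¹ * r) * (r * (ρ u)⁻¹) := by rw [hab]
        _ = (ρ u)⁻¹ * (r * r) * (ρ u)⁻¹ := by group
        _ = 1 := by rw [hru, ← hρ2 u]; group
    have hc := inv_central hδ hz
    have hr' : r = ρ u * ((ρ u)⁻¹ * r) := by group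
    set z := (ρ u)⁻¹ * r with hzdef
    rw [hT, hr']
    have h1 : z⁻¹ * ((ρ u)⁻¹ * x⁻¹ * ρ u * (z * x)) = (ρ u)⁻¹ * x⁻¹ * ρ u * x := by
      rw [hc x, ← mul_assoc _ x z, ← hc]
      group
    rw [← h1]
    group
  have hTadd : ∀ x u v, T x (u + v) = T x u + T x v := by
    intro x u v
    apply hδ.inj
    have hsq : (ρ u * ρ v) * (ρ u * ρ v) = δ (u + v) := by
      rw [hδ.add, ← hρ2 u, ← hρ2 v]
      have := hS.Cab _ (hS.RC (hρR v)) _ (hS.RC (hρR u))
      calc (ρ u * ρ v) * (ρ u * ρ v) = ρ u * (ρ v * ρ u) * ρ v := by group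
        _ = ρ u * (ρ u * ρ v) * ρ v := by rw [this]
        _ = _ := by group
    rw [← hT' x _ (R.mul_mem (hρR u) (hρR v)) _ hsq, hδ.add, hT x v]
    have hc := hδ.central (T x u) (ρ v)
    have h1 : (ρ u * ρ v)⁻¹ * x⁻¹ * (ρ u * ρ v) * x = (ρ v)⁻¹ * (δ (T x u)) * (x⁻¹ * ρ v * x) := by
      rw [hT x u]; group
    rw [h1]
    have h2 := hδ.central (T x u) ((ρ v)⁻¹)
    rw [← h2]
    group
  have hTmul : ∀ x y u, T (x * y) u = T x u + T y u := by
    intro x y u
    apply hδ.inj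
    rw [hT, hδ.add]
    have h1 : (ρ u)⁻¹ * (x * y)⁻¹ * ρ u * (x * y) = ((ρ u)⁻¹ * y⁻¹ * ρ u) * (δ (T x u) * y) := by
      rw [hT x u]; group
    rw [h1, hδ.central, ← mul_assoc, ← hT y u, ← hδ.central]
  have hTk : ∀ (k : Fˣ) x u, T (k • x) ((k : F) * u) = (k : F) * T x u := by
    intro k x u
    apply hδ.inj
    have hsq : (k • ρ u) * (k • ρ u) = δ ((k : F) * u) := by
      rw [← smul_mul', hρ2, hδ.smul]
    rw [← hT' (k • x) _ (hS.Rinv k _ (hρR u)) _ hsq, ← hδ.smul, hT x u]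
    simp only [smul_mul', smul_inv']
  have hTC : ∀ x, (∀ u, T x u = 0) ↔ x ∈ C := by
    intro x
    constructor
    · intro h
      apply hS.cent
      intro r hr
      obtain ⟨u, hu⟩ := (hδ.inv (r * r)).mp (hS.R4 r hr)
      have h1 := hT' x r hr u hu.symm
      rw [h u, δ_zero hδ] at h1
      calc r * x = x * r * (r⁻¹ * x⁻¹ * r * x) := by group
        _ = x * r := by rw [h1, mul_one]
    · intro hx u
      rw [← δ_eq_one hδ, hT]
      have := hS.Cab _ (hS.RC (hρR u)) _ hx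
      rw [mul_assoc, this]; group
  choose a ha ha' using fun x => FieldAutBasis.existsUnique_coeff 2 (AddMonoidHom.mk' (T x) (hTadd x))
  have ha : ∀ x u, T x u = ∑ σ, a x σ * σ u := ha
  have hamul : ∀ σ x y, a (x * y) σ = a x σ + a y σ := by
    intro σ x y
    have h1 := ha' (x * y) (a x + a y) (fun u => by
      change T (x * y) u = _
      rw [hTmul, ha x u, ha y u, ← Finset.sum_add_distrib]
      refine Finset.sum_congr rfl fun τ _ => ?_
      rw [Pi.add_apply, add_mul])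
    rw [← h1]
    rfl
  have hasmul : ∀ σ (k : Fˣ) x, a (k • x) σ = ((k : F) / σ (k : F)) * a x σ := by
    intro σ k x
    have h1 := ha' (k • x) (fun σ => ((k : F) / σ (k : F)) * a x σ) (fun u => by
      change T (k • x) u = _
      have h2 : u = (k : F) * ((k : F)⁻¹ * u) := by
        rw [mul_inv_cancel_left₀ k.ne_zero]
      rw [h2, hTk, ha x, Finset.mul_sum, ← h2]
      refine Finset.sum_congr rfl fun τ _ => ?_
      rw [map_mul, map_inv₀]
      field_simp)
    exact (congrFun h1 σ).symm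
  refine ⟨fun σ x => a x σ, ?_, hamul, hasmul, ?_, ?_⟩
  · intro x r hr u hu
    rw [hT' x r hr u hu, ha]
  · intro x
    rw [← hTC x]
    constructor
    · intro h u
      rw [ha]
      simp only [h, zero_mul, Finset.sum_const_zero]
    · intro h
      have h1 := ha' x 0 (fun u => by
        change T x u = _
        rw [h u]
        simp)
      intro σ
      exact (congrFun h1 σ).symm
  · intro σ k hk hσ x
    have hinj : Function.Injective (fun x : P => x⁻¹ * k • x) := by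
      intro x y hxy
      change x⁻¹ * k • x = y⁻¹ * k • y at hxy
      have h1 : k • (y * x⁻¹) = y * x⁻¹ := by
        rw [smul_mul', smul_inv']
        have h2 : y * (x⁻¹ * k • x) = k • y := by rw [hxy]; group
        rw [← h2]
        group
      rcases fpf hδ hp h1 with h2 | h2
      · exact absurd h2 hk
      · exact (mul_inv_eq_one.mp h2).symm
    obtain ⟨y, hy⟩ := Finite.surjective_of_injective hinj x
    change y⁻¹ * k • y = x at hy
    have h1 : a (k • y) σ = a y σ := by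
      rw [hasmul, hσ, div_self k.ne_zero, one_mul]
    have h2 : a (k • y) σ = a y σ + a x σ := by
      rw [← hamul, ← hy]
      congr 1
      group
    rw [h1] at h2
    exact (add_eq_left.mp h2.symm)

end Coeff

end Cfsg.Agent.LieRecognition.HigmanCoeff
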