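import Cfsg.Agent.LieRecognition.HigmanCoeff

/-!
Higman's theorem on Suzuki 2-groups, second part: all commutators are involutions or trivial.
-/

set_option autoImplicit false

namespace Cfsg.Agent.LieRecognition.HigmanSquares

open Cfsg.Agent.LieRecognition.HigmanData Cfsg.Agent.LieRecognition.HigmanField
  Cfsg.Agent.LieRecognition.HigmanCoeff

variable {F P : Type*} [Group P] [Finite P] [Field F] [Finite F] [CharP F 2] [MulDistribMulAction Fˣ P]
  {δ : F → P} {R C : Subgroup P}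

theorem exists_unit_ne_one (hcard : 2 < Nat.card F) : ∃ k : Fˣ, k ≠ 1 := by
  classical
  let _ : Fintype F := Fintype.ofFinite F
  rw [Nat.card_eq_fintype_card] at hcard
  have h1 : 1 < Fintype.card Fˣ := by
    rw [Fintype.card_units]; omega
  obtain ⟨k, hk⟩ := Fintype.exists_ne_of_one_lt_card h1 1
  exact ⟨k, hk⟩

theorem comm_sq_eq_one (hδ : SingerData F P δ) (hp : IsPGroup 2 P) (hcard : 2 < Nat.card F)
    (hS : Setup F P δ R C) : ∀ x y : P, (x⁻¹ * y⁻¹ * x * y) * (x⁻¹ * y⁻¹ * x * y) = 1 := by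
  classical
  have : Finite (F ≃+* F) := Finite.of_injective (fun σ : F ≃+* F => (σ : F → F)) DFunLike.coe_injective
  let _ : Fintype (F ≃+* F) := Fintype.ofFinite _
  by_cases hPC : ∀ x, x ∈ C
  · intro x y
    have := hS.Cab x (hPC x) y (hPC y)
    have h1 : x⁻¹ * y⁻¹ * x * y = 1 := by
      rw [mul_assoc, this]; group
    rw [h1, mul_one]
  obtain ⟨k₁, hk₁⟩ := exists_unit_ne_one hcard
  obtain ⟨a, haT, hamul, hasmul, haC, hafix⟩ := exists_coeff hδ hp hS
  have ha1 : ∀ x, a 1 x = 0 := hafix 1 k₁ hk₁ rfl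
  have haone : ∀ σ, a σ 1 = 0 := by
    intro σ
    have := hamul σ 1 1
    rw [mul_one] at this
    exact add_eq_left.mp this.symm
  have hfix : ∀ σ x, a σ x ≠ 0 → ∀ k : F, σ k = k → k ≠ 0 → k = 1 := by
    intro σ x hx k hk hk0
    by_contra hk1
    exact hx (hafix σ (Units.mk0 k hk0) (fun h => hk1 (congrArg Units.val h)) hk x)
  -- commutators lie in `C`
  have hcommC : ∀ x y, x⁻¹ * y⁻¹ * x * y ∈ C := by
    intro x y
    have h1 := C.mul_mem (C.mul_mem (hS.sq x⁻¹) (hS.sq (x * y⁻¹))) (hS.sq y)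
    have h2 : x⁻¹ * x⁻¹ * (x * y⁻¹ * (x * y⁻¹)) * (y * y) = x⁻¹ * y⁻¹ * x * y := by group
    rwa [h2] at h1
  have hnorm : ∀ x, ∀ c ∈ C, x⁻¹ * c * x ∈ C := by
    intro x c hc
    have h1 := C.mul_mem hc (hcommC c x)
    have h2 : c * (c⁻¹ * x⁻¹ * c * x) = x⁻¹ * c * x := by group
    rwa [h2] at h1
  -- the projections
  have hproj : ∀ σ, σ ≠ 1 → ∀ x, ∃ x', (∀ τ, τ ≠ σ → a τ x' = 0) ∧ a σ x' = a σ x := by
    intro σ hσ x
    obtain ⟨S, hSS⟩ := exists_projection σ hσ
    have hex : ∀ S : Finset Fˣ, ∃ x', ∀ τ, a τ x' = (∑ k ∈ S, (k : F) / τ (k : F)) * a τ x := by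
      intro S
      induction S using Finset.induction_on with
      | empty => exact ⟨1, fun τ => by rw [haone]; simp⟩
      | insert k S hk ih =>
        obtain ⟨x', hx'⟩ := ih
        refine ⟨(k • x) * x', fun τ => ?_⟩
        rw [hamul, hasmul, hx', Finset.sum_insert hk, add_mul]
    obtain ⟨x', hx'⟩ := hex S
    refine ⟨x', fun τ hτ => ?_, ?_⟩
    · rw [hx']
      rcases hSS τ with ⟨_, h⟩ | ⟨h, _⟩
      · exact absurd h hτ
      · rw [h, zero_mul]
    · rw [hx']
      rcases hSS σ with ⟨h, _⟩ | ⟨_, h⟩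
      · rw [h, one_mul]
      · exact absurd rfl h
  have hsum : ∀ σ x, (∀ τ, τ ≠ σ → a τ x = 0) → ∀ u, (∑ τ, a τ x * τ u) = a σ x * σ u := by
    intro σ x hx u
    rw [Finset.sum_eq_single σ]
    · intro τ _ hτ
      rw [hx τ hτ, zero_mul]
    · intro h
      exact absurd (Finset.mem_univ σ) h
  have hT : ∀ σ x, (∀ τ, τ ≠ σ → a τ x = 0) → ∀ r ∈ R, ∀ u, r * r = δ u →
      r⁻¹ * x⁻¹ * r * x = δ (a σ x * σ u) := by
    intro σ x hx r hr u hu
    rw [haT x r hr u hu, hsum σ x hx]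
  have hne : ∀ σ x, (∀ τ, τ ≠ σ → a τ x = 0) → x ∉ C → a σ x ≠ 0 := by
    intro σ x hx hxC h0
    apply hxC
    rw [← haC]
    intro τ
    by_cases hτ : τ = σ
    · rw [hτ, h0]
    · exact hx τ hτ
  -- a nontrivial pure element
  obtain ⟨σ₀, x₀, hx₀, hx₀ne⟩ : ∃ σ₀ x₀, (∀ τ, τ ≠ σ₀ → a τ x₀ = 0) ∧ a σ₀ x₀ ≠ 0 := by
    push Not at hPC
    obtain ⟨x, hx⟩ := hPC
    have : ∃ σ, a σ x ≠ 0 := by
      by_contra hcon
      push Not at hcon
      exact hx ((haC x).mp hcon)
    obtain ⟨σ, hσ⟩ := this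
    have hσ1 : σ ≠ 1 := by
      rintro rfl
      exact hσ (ha1 x)
    obtain ⟨x', hx', hx'2⟩ := hproj σ hσ1 x
    exact ⟨σ, x', hx', by rwa [hx'2]⟩
  -- Step 4: `C` has exponent four
  have hC4 : ∀ c ∈ C, c * c * (c * c) = 1 := by
    by_contra hcon
    push Not at hcon
    obtain ⟨c, hc, hc4⟩ := hcon
    obtain ⟨n, hn⟩ := hp c
    have hex : ∃ m, c ^ (2 ^ m) = 1 := ⟨n, hn⟩
    obtain ⟨m, hm1, hm2⟩ : ∃ m, c ^ (2 ^ m) = 1 ∧ ∀ l < m, ¬ c ^ (2 ^ l) = 1 :=
      ⟨Nat.find hex, Nat.find_spec hex, fun l hl => Nat.find_min hex hl⟩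
    have hc4' : c ^ 4 ≠ 1 := by
      intro h
      apply hc4
      rw [← h]
      simp only [pow_succ, pow_zero, one_mul, mul_assoc]
    obtain ⟨m, rfl⟩ : ∃ m', m = m' + 3 := by
      rcases m with _ | _ | _ | m
      · exfalso
        apply hc4'
        rw [pow_zero, pow_one] at hm1
        rw [hm1, one_pow]
      · exfalso
        apply hc4'
        rw [zero_add, pow_one] at hm1
        rw [show 4 = 2 * 2 by rfl, pow_mul, hm1, one_pow]
      · exfalso
        apply hc4'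
        rw [← hm1]
        rfl
      · exact ⟨m, rfl⟩
    set d := c ^ (2 ^ m) with hd
    have hdC : d ∈ C := C.pow_mem hc _
    have hd8 : (d * d) * (d * d) * ((d * d) * (d * d)) = 1 := by
      rw [← hm1, hd]
      simp only [← pow_add]
      congr 1
      ring
    have hd4 : (d * d) * (d * d) ≠ 1 := by
      intro h
      apply hm2 (m + 2) (by omega)
      rw [← h, hd]
      simp only [← pow_add]
      congr 1
      ring
    have hpt : ∀ u : F, u ≠ 0 → a σ₀ x₀ * σ₀ u = u := by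
      intro u hu
      have hδu : δ u ≠ 1 := fun h => hu ((δ_eq_one hδ).mp h)
      obtain ⟨k, hk⟩ := trans hδ ((d * d) * (d * d)) (δ u) hd4 hd8 hδu ((hδ.inv _).mpr ⟨u, rfl⟩)
      set e := k • d with he
      have heC : e ∈ C := hS.Cinv k d hdC
      have he4 : (e * e) * (e * e) = δ u := by
        rw [he, ← smul_mul', ← smul_mul', hk]
      have heR : e * e ∈ R := by
        apply hS.R_of _ (C.mul_mem heC heC)
        rw [he4]
        exact (hδ.inv _).mpr ⟨u, rfl⟩
      have h1 := hT σ₀ x₀ hx₀ (e * e) heR u he4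
      set y := e⁻¹ * x₀⁻¹ * e * x₀ with hy
      have hyC : y ∈ C := hcommC e x₀
      have h2 : (e * e)⁻¹ * x₀⁻¹ * (e * e) * x₀ = y * y := by
        have h3 := hS.Cab _ (C.inv_mem heC) _ hyC
        calc (e * e)⁻¹ * x₀⁻¹ * (e * e) * x₀ = e⁻¹ * y * (x₀⁻¹ * e * x₀) := by rw [hy]; group
          _ = y * e⁻¹ * (x₀⁻¹ * e * x₀) := by rw [h3]
          _ = y * y := by rw [hy]; group
      rw [h2] at h1
      have hyR : y ∈ R := by
        apply hS.R_of _ hyC
        rw [h1]
        exact (hδ.inv _).mpr ⟨_, rfl⟩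
      have h4 := hT σ₀ x₀ hx₀ y hyR _ h1
      have h5 : x₀⁻¹ * y * x₀ = y⁻¹ := by
        have h6 := hS.Cab _ (C.inv_mem (hS.sq x₀)) _ heC
        calc x₀⁻¹ * y * x₀ = (x₀⁻¹ * e⁻¹ * x₀) * ((x₀ * x₀)⁻¹ * e) * (x₀ * x₀) := by rw [hy]; group
          _ = (x₀⁻¹ * e⁻¹ * x₀) * (e * (x₀ * x₀)⁻¹) * (x₀ * x₀) := by rw [h6]
          _ = y⁻¹ := by rw [hy]; group
      have h7 : y⁻¹ * x₀⁻¹ * y * x₀ = y * y := by
        have h8 : y⁻¹ * x₀⁻¹ * y * x₀ = y⁻¹ * y⁻¹ := by
          rw [← h5]; group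
        have h9 := hS.R4 y hyR
        rw [h8, ← mul_inv_rev]
        exact inv_eq_of_mul_eq_one_left h9
      rw [h7, h1] at h4
      have h10 := hδ.inj h4
      have h11 := mul_left_cancel₀ hx₀ne h10
      have h12 := σ₀.injective h11
      exact h12.symm
    have h1 := hpt 1 one_ne_zero
    rw [map_one, mul_one] at h1
    have h2 := hpt (k₁ : F) k₁.ne_zero
    rw [h1, one_mul] at h2
    exact hk₁ (Units.ext (hfix σ₀ x₀ hx₀ne _ h2 k₁.ne_zero))
  have hCR : ∀ c ∈ C, c ∈ R := fun c hc => hS.R_of c hc (hC4 c hc)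
  -- the form `β`
  have hβex : ∀ x y, ∃ t, δ t = (x⁻¹ * y⁻¹ * x * y) * (x⁻¹ * y⁻¹ * x * y) := by
    intro x y
    exact (hδ.inv _).mp (hC4 _ (hcommC x y))
  choose β hβ using hβex
  have hβmul : ∀ x x' y, β (x * x') y = β x y + β x' y := by
    intro x x' y
    apply hδ.inj
    rw [hδ.add, hβ, hβ, hβ]
    set c := x⁻¹ * y⁻¹ * x * y with hc
    set c' := x'⁻¹ * y⁻¹ * x' * y with hc'
    have hcC : c ∈ C := hcommC x y
    have hc'C : c' ∈ C := hcommC x' y
    set e := c⁻¹ * x'⁻¹ * c * x' with he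
    have hee : e * e = 1 := hS.comm c (hCR c hcC) x'
    have heC : e ∈ C := hcommC c x'
    have h1 : (x * x')⁻¹ * y⁻¹ * (x * x') * y = c * e * c' := by
      rw [hc, he, hc', hc]; group
    rw [h1]
    have h2 := hS.Cab _ (C.mul_mem hcC heC) _ hc'C
    have h3 := hS.Cab _ hcC _ heC
    have h4 := hS.Cab _ hcC _ hc'C
    calc c * e * c' * (c * e * c') = c * e * (c' * (c * e)) * c' := by group
      _ = c * e * (c * e * c') * c' := by rw [← h2]
      _ = c * (e * c) * e * c' * c' := by group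
      _ = c * (c * e) * e * c' * c' := by rw [← h3]
      _ = c * c * (e * e) * (c' * c') := by group
      _ = c * c * (c' * c') := by rw [hee, mul_one]
  have hβsymm : ∀ x y, β x y = 0 → β y x = 0 := by
    intro x y h
    rw [← δ_eq_one hδ, hβ] at h ⊢
    have h1 : y⁻¹ * x⁻¹ * y * x = (x⁻¹ * y⁻¹ * x * y)⁻¹ := by group
    rw [h1, ← mul_inv_rev, h, inv_one]
  have hβC : ∀ x y, x ∈ C → β x y = 0 := by
    intro x y hx
    rw [← δ_eq_one hδ, hβ]
    exact hS.comm x (hCR x hx) y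
  -- Step 5
  have hsqE : ∀ σ x, (∀ τ, τ ≠ σ → a τ x = 0) → x * x * (x * x) = 1 := by
    intro σ x hx
    by_cases hxC : x ∈ C
    · exact hC4 x hxC
    have hxR : x * x ∈ R := hCR _ (hS.sq x)
    obtain ⟨u, hu⟩ := (hδ.inv _).mp (hS.R4 _ hxR)
    have h1 := hT σ x hx (x * x) hxR u hu.symm
    have h2 : (x * x)⁻¹ * x⁻¹ * (x * x) * x = 1 := by group
    rw [h2] at h1
    have h3 := (δ_eq_one hδ).mp h1.symm
    rcases mul_eq_zero.mp h3 with h4 | h4
    · exact absurd h4 (hne σ x hx hxC)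
    · have h5 : u = 0 := by simpa using h4
      rw [← hu, h5, δ_zero hδ]
  have hfixβ : ∀ σ x y, (∀ τ, τ ≠ σ → a τ x = 0) → a σ x * σ (β x y) = β x y := by
    intro σ x y hx
    set c := x⁻¹ * y⁻¹ * x * y with hc
    have hcR : c ∈ R := hCR _ (hcommC x y)
    have h1 := hT σ x hx c hcR _ (hβ x y).symm
    have hxx := inv_central hδ (hsqE σ x hx)
    have h2 : x⁻¹ * c * x = c⁻¹ := by
      rw [eq_inv_iff_mul_eq_one]
      have h3 : x⁻¹ * c * x * c = (x * x)⁻¹ * (y⁻¹ * ((x * x) * y)) := by rw [hc]; group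
      rw [h3, hxx y]
      group
    have h4 : c⁻¹ * x⁻¹ * c * x = c * c := by
      have h5 : c⁻¹ * x⁻¹ * c * x = c⁻¹ * c⁻¹ := by
        rw [← h2]; group
      rw [h5, ← mul_inv_rev]
      exact inv_eq_of_mul_eq_one_left (hS.R4 c hcR)
    rw [h4, ← hβ x y] at h1
    exact (hδ.inj h1).symm
  have hfixβ' : ∀ τ x y, (∀ τ', τ' ≠ τ → a τ' y = 0) → a τ y * τ (β x y) = β x y := by
    intro τ x y hy
    have h1 : β y x = β x y := by
      apply hδ.inj
      have h4 := hC4 _ (hcommC x y)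
      rw [hβ, hβ]
      have h2 : y⁻¹ * x⁻¹ * y * x = (x⁻¹ * y⁻¹ * x * y)⁻¹ := by group
      rw [h2, ← mul_inv_rev]
      exact inv_eq_of_mul_eq_one_left h4
    rw [← h1]
    exact hfixβ τ y x hy
  have hβpure : ∀ σ τ x y, (∀ τ', τ' ≠ σ → a τ' x = 0) → (∀ τ', τ' ≠ τ → a τ' y = 0) → β x y = 0 := by
    intro σ τ x y hx hy
    by_contra hu
    have hxC : x ∉ C := fun h => hu (hβC x y h)
    have hyC : y ∉ C := fun h => hu (hβsymm y x (hβC y x h))
    have hax := hne σ x hx hxC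
    have hay := hne τ y hy hyC
    set u := β x y with hudef
    have hσu : σ u ≠ 0 := by simpa using hu
    have h1 : a σ x * σ u = u := hfixβ σ x y hx
    have h2 : a τ y * τ u = u := hfixβ' τ x y hy
    have hx' : ∀ τ', τ' ≠ σ → a τ' (k₁ • x) = 0 := by
      intro τ' hτ'
      rw [hasmul, hx τ' hτ', mul_zero]
    have hk₁σ : (k₁ : F) / σ (k₁ : F) ≠ 1 := by
      intro h
      have hσk : σ (k₁ : F) ≠ 0 := by simp
      rw [div_eq_one_iff_eq hσk] at h
      exact hk₁ (Units.ext (hfix σ x hax _ h.symm k₁.ne_zero))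
    by_cases hu' : β (k₁ • x) y = 0
    · have h3 : β (x * k₁ • x) y = u := by rw [hβmul, hu', add_zero]
      have hxx : ∀ τ', τ' ≠ σ → a τ' (x * k₁ • x) = 0 := by
        intro τ' hτ'
        rw [hamul, hx τ' hτ', hx' τ' hτ', add_zero]
      have h4 := hfixβ σ (x * k₁ • x) y hxx
      rw [h3] at h4
      have h5 : a σ (x * k₁ • x) = a σ x := by
        apply mul_right_cancel₀ hσu
        rw [h4, h1]
      rw [hamul] at h5
      have h6 := add_eq_left.mp h5
      rw [hasmul] at h6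
      rcases mul_eq_zero.mp h6 with h7 | h7
      · have : σ (k₁ : F) ≠ 0 := by simp
        rw [div_eq_zero_iff] at h7
        rcases h7 with h8 | h8
        · exact k₁.ne_zero h8
        · exact this h8
      · exact hax h7
    · have h3 : a τ y * τ (β (k₁ • x) y) = β (k₁ • x) y := hfixβ' τ _ y hy
      have h4 : β (k₁ • x) y = u := by
        have h5 : τ (β (k₁ • x) y / u) = β (k₁ • x) y / u := by
          rw [map_div₀]
          have hτu : τ u ≠ 0 := by simpa using hu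
          rw [div_eq_div_iff hτu hu]
          apply mul_left_cancel₀ hay
          calc a τ y * (τ (β (k₁ • x) y) * u) = (a τ y * τ (β (k₁ • x) y)) * u := by ring
            _ = β (k₁ • x) y * u := by rw [h3]
            _ = β (k₁ • x) y * (a τ y * τ u) := by rw [h2]
            _ = _ := by ring
        have h6 := hfix τ y hay _ h5 (div_ne_zero hu' hu)
        rwa [div_eq_one_iff_eq hu] at h6
      have h5 := hfixβ σ _ y hx'
      rw [h4] at h5
      have h6 : a σ (k₁ • x) = a σ x := by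
        apply mul_right_cancel₀ hσu
        rw [h5, h1]
      rw [hasmul] at h6
      apply hk₁σ
      apply mul_right_cancel₀ hax
      rw [h6, one_mul]
  -- Step 6
  let N : Subgroup P := Subgroup.closure {x | ∃ σ, ∀ τ, τ ≠ σ → a τ x = 0}
  have hCN : ∀ c ∈ C, c ∈ N := by
    intro c hc
    apply Subgroup.subset_closure
    exact ⟨1, fun τ _ => (haC c).mpr hc τ⟩
  have hN : ∀ y, y ∈ N := by
    intro y
    have hex : ∀ S : Finset (F ≃+* F), ∃ y' ∈ N, ∀ τ, a τ y' = if τ ∈ S then a τ y else 0 := by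
      intro S
      induction S using Finset.induction_on with
      | empty => exact ⟨1, N.one_mem, fun τ => by rw [haone]; simp⟩
      | insert σ S hσ ih =>
        obtain ⟨y', hy'N, hy'⟩ := ih
        by_cases hσ1 : σ = 1
        · refine ⟨y', hy'N, fun τ => ?_⟩
          rw [hy']
          by_cases hτ : τ = σ
          · subst hτ
            rw [if_neg hσ, if_pos (Finset.mem_insert_self _ _), hσ1, ha1]
          · simp [Finset.mem_insert, hτ]
        · obtain ⟨z, hz1, hz2⟩ := hproj σ hσ1 y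
          refine ⟨y' * z, N.mul_mem hy'N (Subgroup.subset_closure ⟨σ, hz1⟩), fun τ => ?_⟩
          rw [hamul, hy']
          by_cases hτ : τ = σ
          · subst hτ
            rw [if_neg hσ, if_pos (Finset.mem_insert_self _ _), zero_add, hz2]
          · rw [hz1 τ hτ, add_zero]
            simp [Finset.mem_insert, hτ]
    obtain ⟨y', hy'N, hy'⟩ := hex Finset.univ
    have h1 : y'⁻¹ * y ∈ C := by
      rw [← haC]
      intro τ
      have h2 : a τ (y' * (y'⁻¹ * y)) = a τ y := by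
        congr 1
        group
      rw [hamul, hy' τ, if_pos (Finset.mem_univ τ)] at h2
      exact add_eq_left.mp h2
    have h3 := N.mul_mem hy'N (hCN _ h1)
    rwa [mul_inv_cancel_left] at h3
  have hβone : ∀ y, β 1 y = 0 := fun y => hβC 1 y C.one_mem
  have hβinv : ∀ x y, β x y = 0 → β x⁻¹ y = 0 := by
    intro x y h
    have h1 := hβmul x x⁻¹ y
    rw [mul_inv_cancel, hβone, h, zero_add] at h1
    exact h1.symm
  have hstep : ∀ y, (∃ σ, ∀ τ, τ ≠ σ → a τ y = 0) → ∀ x ∈ N, β x y = 0 := by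
    rintro y ⟨τ, hy⟩ x hx
    refine Subgroup.closure_induction (p := fun x _ => β x y = 0) ?_ ?_ ?_ ?_ hx
    · rintro x ⟨σ, hx⟩
      exact hβpure σ τ x y hx hy
    · exact hβone y
    · intro x x' _ _ h1 h2
      rw [hβmul, h1, h2, add_zero]
    · intro x _ h
      exact hβinv x y h
  have hall : ∀ x y, β x y = 0 := by
    intro x y
    refine Subgroup.closure_induction (p := fun x _ => β x y = 0) ?_ ?_ ?_ ?_ (hN x)
    · rintro x hx
      exact hβsymm y x (hstep x hx y (hN y))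
    · exact hβone y
    · intro x x' _ _ h1 h2
      rw [hβmul, h1, h2, add_zero]
    · intro x _ h
      exact hβinv x y h
  intro x y
  rw [← hβ x y, hall x y, δ_zero hδ]

end Cfsg.Agent.LieRecognition.HigmanSquares
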