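import Cfsg.Agent.LieRecognition.ReeTab

set_option autoImplicit false
set_option linter.unusedSimpArgs false

/-!
# The root elements of `G₂` in characteristic 3 acting on explicit vectors (generated)
-/

namespace Cfsg.Agent.LieRecognition.ReeAct

open Cfsg.Lie Cfsg.Agent.LieRecognition.ReeTab
open scoped Matrix

variable {K : Type*} [Field K]

/-- The vector of the 14-dimensional module with the given coordinates `h₁, h₂; e_0, …, e_11`. -/
def mk (a0 a1 b0 b1 b2 b3 b4 b5 b6 b7 b8 b9 b10 b11 : K) : chevG2.Idx → K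
  | Sum.inl i => (![a0, a1] : Fin 2 → K) i
  | Sum.inr i => (![b0, b1, b2, b3, b4, b5, b6, b7, b8, b9, b10, b11] : Fin 12 → K) i

theorem forall_idx {P : chevG2.Idx → Prop} (h0 : P (Sum.inl (0 : Fin 2))) (h1 : P (Sum.inl (1 : Fin 2)))
    (k0 : P (Sum.inr (0 : Fin 12))) (k1 : P (Sum.inr (1 : Fin 12))) (k2 : P (Sum.inr (2 : Fin 12)))
    (k3 : P (Sum.inr (3 : Fin 12))) (k4 : P (Sum.inr (4 : Fin 12))) (k5 : P (Sum.inr (5 : Fin 12)))
    (k6 : P (Sum.inr (6 : Fin 12))) (k7 : P (Sum.inr (7 : Fin 12))) (k8 : P (Sum.inr (8 : Fin 12)))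
    (k9 : P (Sum.inr (9 : Fin 12))) (k10 : P (Sum.inr (10 : Fin 12))) (k11 : P (Sum.inr (11 : Fin 12)))
    (i : chevG2.Idx) : P i := by
  rcases i with i | i
  · have : ∀ i : Fin 2, P (Sum.inl i) := by
      intro i
      fin_cases i
      · exact h0
      · exact h1
    exact this i
  · have : ∀ i : Fin 12, P (Sum.inr i) := by
      intro i
      fin_cases i
      · exact k0
      · exact k1
      · exact k2
      · exact k3
      · exact k4
      · exact k5
      · exact k6
      · exact k7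
      · exact k8
      · exact k9
      · exact k10
      · exact k11
    exact this i

omit [Field K] in
theorem exists_mk (w : chevG2.Idx → K) :
    ∃ a0 a1 b0 b1 b2 b3 b4 b5 b6 b7 b8 b9 b10 b11 : K, w = mk a0 a1 b0 b1 b2 b3 b4 b5 b6 b7 b8 b9 b10 b11 := by
  refine ⟨w (Sum.inl (0 : Fin 2)), w (Sum.inl (1 : Fin 2)), w (Sum.inr (0 : Fin 12)), w (Sum.inr (1 : Fin 12)),
    w (Sum.inr (2 : Fin 12)), w (Sum.inr (3 : Fin 12)), w (Sum.inr (4 : Fin 12)), w (Sum.inr (5 : Fin 12)),
    w (Sum.inr (6 : Fin 12)), w (Sum.inr (7 : Fin 12)), w (Sum.inr (8 : Fin 12)), w (Sum.inr (9 : Fin 12)),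
    w (Sum.inr (10 : Fin 12)), w (Sum.inr (11 : Fin 12)), ?_⟩
  funext i
  refine forall_idx (P := fun i => w i = mk _ _ _ _ _ _ _ _ _ _ _ _ _ _ i) ?_ ?_ ?_ ?_ ?_ ?_ ?_ ?_ ?_ ?_ ?_ ?_ ?_ ?_ i
  all_goals rfl

variable [CharP K 3]

theorem x0 (t a0 a1 b0 b1 b2 b3 b4 b5 b6 b7 b8 b9 b10 b11 : K) :
    chevG2.x K 0 t *ᵥ mk a0 a1 b0 b1 b2 b3 b4 b5 b6 b7 b8 b9 b10 b11 = mk
      (-b11*t + a0)
      (b11*t + a1)
      (-b11*t^2 + a1*t + b0)
      (b6*t + b1)
      (b8*t + b2)
      (-b9*t + b3)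
      (b4)
      (-b10*t + b5)
      (b6)
      (b7)
      (b8)
      (b9)
      (b10)
      (b11) := by
  funext row
  rw [x_mulVec_row K 0 (by decide)]
  refine forall_idx (P := fun row => ((rowTab (⟨0, by decide⟩ : Fin chevG2.nroots) row).map fun e => ((e.2.2 : ℤ) : K) * t ^ e.2.1 * (mk a0 a1 b0 b1 b2 b3 b4 b5 b6 b7 b8 b9 b10 b11) (idx e.1)).sum = mk _ _ _ _ _ _ _ _ _ _ _ _ _ _ row) ?_ ?_ ?_ ?_ ?_ ?_ ?_ ?_ ?_ ?_ ?_ ?_ ?_ ?_ row
  · have h : rowTab (⟨0, by decide⟩ : Fin chevG2.nroots) (Sum.inl (0 : Fin 2)) = [(0, 0, 1), (13, 1, -1)] := by decide +kernel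
    simp only [h, List.map_cons, List.map_nil, List.sum_cons, List.sum_nil, Int.cast_one, Int.cast_neg, pow_zero, mul_one, one_mul, add_zero]
    show a0 + (-1 * t ^ 1 * b11) = -b11*t + a0
    ring
  · have h : rowTab (⟨0, by decide⟩ : Fin chevG2.nroots) (Sum.inl (1 : Fin 2)) = [(1, 0, 1), (13, 1, 1)] := by decide +kernel
    simp only [h, List.map_cons, List.map_nil, List.sum_cons, List.sum_nil, Int.cast_one, Int.cast_neg, pow_zero, mul_one, one_mul, add_zero]
    show a1 + (t ^ 1 * b11) = b11*t + a1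
    ring
  · have h : rowTab (⟨0, by decide⟩ : Fin chevG2.nroots) (Sum.inr (0 : Fin 12)) = [(1, 1, 1), (2, 0, 1), (13, 2, -1)] := by decide +kernel
    simp only [h, List.map_cons, List.map_nil, List.sum_cons, List.sum_nil, Int.cast_one, Int.cast_neg, pow_zero, mul_one, one_mul, add_zero]
    show t ^ 1 * a1 + (b0 + (-1 * t ^ 2 * b11)) = -b11*t^2 + a1*t + b0
    ring
  · have h : rowTab (⟨0, by decide⟩ : Fin chevG2.nroots) (Sum.inr (1 : Fin 12)) = [(3, 0, 1), (8, 1, 1)] := by decide +kernel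
    simp only [h, List.map_cons, List.map_nil, List.sum_cons, List.sum_nil, Int.cast_one, Int.cast_neg, pow_zero, mul_one, one_mul, add_zero]
    show b1 + (t ^ 1 * b6) = b6*t + b1
    ring
  · have h : rowTab (⟨0, by decide⟩ : Fin chevG2.nroots) (Sum.inr (2 : Fin 12)) = [(4, 0, 1), (10, 1, 1)] := by decide +kernel
    simp only [h, List.map_cons, List.map_nil, List.sum_cons, List.sum_nil, Int.cast_one, Int.cast_neg, pow_zero, mul_one, one_mul, add_zero]
    show b2 + (t ^ 1 * b8) = b8*t + b2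
    ring
  · have h : rowTab (⟨0, by decide⟩ : Fin chevG2.nroots) (Sum.inr (3 : Fin 12)) = [(5, 0, 1), (11, 1, -1)] := by decide +kernel
    simp only [h, List.map_cons, List.map_nil, List.sum_cons, List.sum_nil, Int.cast_one, Int.cast_neg, pow_zero, mul_one, one_mul, add_zero]
    show b3 + (-1 * t ^ 1 * b9) = -b9*t + b3
    ring
  · have h : rowTab (⟨0, by decide⟩ : Fin chevG2.nroots) (Sum.inr (4 : Fin 12)) = [(6, 0, 1)] := by decide +kernel
    simp only [h, List.map_cons, List.map_nil, List.sum_cons, List.sum_nil, Int.cast_one, Int.cast_neg, pow_zero, mul_one, one_mul, add_zero]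
    show b4 = b4
    ring
  · have h : rowTab (⟨0, by decide⟩ : Fin chevG2.nroots) (Sum.inr (5 : Fin 12)) = [(7, 0, 1), (12, 1, -1)] := by decide +kernel
    simp only [h, List.map_cons, List.map_nil, List.sum_cons, List.sum_nil, Int.cast_one, Int.cast_neg, pow_zero, mul_one, one_mul, add_zero]
    show b5 + (-1 * t ^ 1 * b10) = -b10*t + b5
    ring
  · have h : rowTab (⟨0, by decide⟩ : Fin chevG2.nroots) (Sum.inr (6 : Fin 12)) = [(8, 0, 1)] := by decide +kernel
    simp only [h, List.map_cons, List.map_nil, List.sum_cons, List.sum_nil, Int.cast_one, Int.cast_neg, pow_zero, mul_one, one_mul, add_zero]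
    show b6 = b6
    ring
  · have h : rowTab (⟨0, by decide⟩ : Fin chevG2.nroots) (Sum.inr (7 : Fin 12)) = [(9, 0, 1)] := by decide +kernel
    simp only [h, List.map_cons, List.map_nil, List.sum_cons, List.sum_nil, Int.cast_one, Int.cast_neg, pow_zero, mul_one, one_mul, add_zero]
    show b7 = b7
    ring
  · have h : rowTab (⟨0, by decide⟩ : Fin chevG2.nroots) (Sum.inr (8 : Fin 12)) = [(10, 0, 1)] := by decide +kernel
    simp only [h, List.map_cons, List.map_nil, List.sum_cons, List.sum_nil, Int.cast_one, Int.cast_neg, pow_zero, mul_one, one_mul, add_zero]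
    show b8 = b8
    ring
  · have h : rowTab (⟨0, by decide⟩ : Fin chevG2.nroots) (Sum.inr (9 : Fin 12)) = [(11, 0, 1)] := by decide +kernel
    simp only [h, List.map_cons, List.map_nil, List.sum_cons, List.sum_nil, Int.cast_one, Int.cast_neg, pow_zero, mul_one, one_mul, add_zero]
    show b9 = b9
    ring
  · have h : rowTab (⟨0, by decide⟩ : Fin chevG2.nroots) (Sum.inr (10 : Fin 12)) = [(12, 0, 1)] := by decide +kernel
    simp only [h, List.map_cons, List.map_nil, List.sum_cons, List.sum_nil, Int.cast_one, Int.cast_neg, pow_zero, mul_one, one_mul, add_zero]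
    show b10 = b10
    ring
  · have h : rowTab (⟨0, by decide⟩ : Fin chevG2.nroots) (Sum.inr (11 : Fin 12)) = [(13, 0, 1)] := by decide +kernel
    simp only [h, List.map_cons, List.map_nil, List.sum_cons, List.sum_nil, Int.cast_one, Int.cast_neg, pow_zero, mul_one, one_mul, add_zero]
    show b11 = b11
    ring

theorem x1 (t a0 a1 b0 b1 b2 b3 b4 b5 b6 b7 b8 b9 b10 b11 : K) :
    chevG2.x K 1 t *ᵥ mk a0 a1 b0 b1 b2 b3 b4 b5 b6 b7 b8 b9 b10 b11 = mk
      (-b10*t + a0)
      (-b10*t + a1)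
      (b5*t + b0)
      (-b10*t^2 - a1*t + b1)
      (b7*t + b2)
      (b3)
      (-b9*t + b4)
      (b5)
      (-b11*t + b6)
      (b7)
      (b8)
      (b9)
      (b10)
      (b11) := by
  funext row
  rw [x_mulVec_row K 1 (by decide)]
  refine forall_idx (P := fun row => ((rowTab (⟨1, by decide⟩ : Fin chevG2.nroots) row).map fun e => ((e.2.2 : ℤ) : K) * t ^ e.2.1 * (mk a0 a1 b0 b1 b2 b3 b4 b5 b6 b7 b8 b9 b10 b11) (idx e.1)).sum = mk _ _ _ _ _ _ _ _ _ _ _ _ _ _ row) ?_ ?_ ?_ ?_ ?_ ?_ ?_ ?_ ?_ ?_ ?_ ?_ ?_ ?_ row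
  · have h : rowTab (⟨1, by decide⟩ : Fin chevG2.nroots) (Sum.inl (0 : Fin 2)) = [(0, 0, 1), (12, 1, -1)] := by decide +kernel
    simp only [h, List.map_cons, List.map_nil, List.sum_cons, List.sum_nil, Int.cast_one, Int.cast_neg, pow_zero, mul_one, one_mul, add_zero]
    show a0 + (-1 * t ^ 1 * b10) = -b10*t + a0
    ring
  · have h : rowTab (⟨1, by decide⟩ : Fin chevG2.nroots) (Sum.inl (1 : Fin 2)) = [(1, 0, 1), (12, 1, -1)] := by decide +kernel
    simp only [h, List.map_cons, List.map_nil, List.sum_cons, List.sum_nil, Int.cast_one, Int.cast_neg, pow_zero, mul_one, one_mul, add_zero]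
    show a1 + (-1 * t ^ 1 * b10) = -b10*t + a1
    ring
  · have h : rowTab (⟨1, by decide⟩ : Fin chevG2.nroots) (Sum.inr (0 : Fin 12)) = [(2, 0, 1), (7, 1, 1)] := by decide +kernel
    simp only [h, List.map_cons, List.map_nil, List.sum_cons, List.sum_nil, Int.cast_one, Int.cast_neg, pow_zero, mul_one, one_mul, add_zero]
    show b0 + (t ^ 1 * b5) = b5*t + b0
    ring
  · have h : rowTab (⟨1, by decide⟩ : Fin chevG2.nroots) (Sum.inr (1 : Fin 12)) = [(1, 1, -1), (3, 0, 1), (12, 2, -1)] := by decide +kernel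
    simp only [h, List.map_cons, List.map_nil, List.sum_cons, List.sum_nil, Int.cast_one, Int.cast_neg, pow_zero, mul_one, one_mul, add_zero]
    show -1 * t ^ 1 * a1 + (b1 + (-1 * t ^ 2 * b10)) = -b10*t^2 - a1*t + b1
    ring
  · have h : rowTab (⟨1, by decide⟩ : Fin chevG2.nroots) (Sum.inr (2 : Fin 12)) = [(4, 0, 1), (9, 1, 1)] := by decide +kernel
    simp only [h, List.map_cons, List.map_nil, List.sum_cons, List.sum_nil, Int.cast_one, Int.cast_neg, pow_zero, mul_one, one_mul, add_zero]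
    show b2 + (t ^ 1 * b7) = b7*t + b2
    ring
  · have h : rowTab (⟨1, by decide⟩ : Fin chevG2.nroots) (Sum.inr (3 : Fin 12)) = [(5, 0, 1)] := by decide +kernel
    simp only [h, List.map_cons, List.map_nil, List.sum_cons, List.sum_nil, Int.cast_one, Int.cast_neg, pow_zero, mul_one, one_mul, add_zero]
    show b3 = b3
    ring
  · have h : rowTab (⟨1, by decide⟩ : Fin chevG2.nroots) (Sum.inr (4 : Fin 12)) = [(6, 0, 1), (11, 1, -1)] := by decide +kernel
    simp only [h, List.map_cons, List.map_nil, List.sum_cons, List.sum_nil, Int.cast_one, Int.cast_neg, pow_zero, mul_one, one_mul, add_zero]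
    show b4 + (-1 * t ^ 1 * b9) = -b9*t + b4
    ring
  · have h : rowTab (⟨1, by decide⟩ : Fin chevG2.nroots) (Sum.inr (5 : Fin 12)) = [(7, 0, 1)] := by decide +kernel
    simp only [h, List.map_cons, List.map_nil, List.sum_cons, List.sum_nil, Int.cast_one, Int.cast_neg, pow_zero, mul_one, one_mul, add_zero]
    show b5 = b5
    ring
  · have h : rowTab (⟨1, by decide⟩ : Fin chevG2.nroots) (Sum.inr (6 : Fin 12)) = [(8, 0, 1), (13, 1, -1)] := by decide +kernel
    simp only [h, List.map_cons, List.map_nil, List.sum_cons, List.sum_nil, Int.cast_one, Int.cast_neg, pow_zero, mul_one, one_mul, add_zero]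
    show b6 + (-1 * t ^ 1 * b11) = -b11*t + b6
    ring
  · have h : rowTab (⟨1, by decide⟩ : Fin chevG2.nroots) (Sum.inr (7 : Fin 12)) = [(9, 0, 1)] := by decide +kernel
    simp only [h, List.map_cons, List.map_nil, List.sum_cons, List.sum_nil, Int.cast_one, Int.cast_neg, pow_zero, mul_one, one_mul, add_zero]
    show b7 = b7
    ring
  · have h : rowTab (⟨1, by decide⟩ : Fin chevG2.nroots) (Sum.inr (8 : Fin 12)) = [(10, 0, 1)] := by decide +kernel
    simp only [h, List.map_cons, List.map_nil, List.sum_cons, List.sum_nil, Int.cast_one, Int.cast_neg, pow_zero, mul_one, one_mul, add_zero]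
    show b8 = b8
    ring
  · have h : rowTab (⟨1, by decide⟩ : Fin chevG2.nroots) (Sum.inr (9 : Fin 12)) = [(11, 0, 1)] := by decide +kernel
    simp only [h, List.map_cons, List.map_nil, List.sum_cons, List.sum_nil, Int.cast_one, Int.cast_neg, pow_zero, mul_one, one_mul, add_zero]
    show b9 = b9
    ring
  · have h : rowTab (⟨1, by decide⟩ : Fin chevG2.nroots) (Sum.inr (10 : Fin 12)) = [(12, 0, 1)] := by decide +kernel
    simp only [h, List.map_cons, List.map_nil, List.sum_cons, List.sum_nil, Int.cast_one, Int.cast_neg, pow_zero, mul_one, one_mul, add_zero]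
    show b10 = b10
    ring
  · have h : rowTab (⟨1, by decide⟩ : Fin chevG2.nroots) (Sum.inr (11 : Fin 12)) = [(13, 0, 1)] := by decide +kernel
    simp only [h, List.map_cons, List.map_nil, List.sum_cons, List.sum_nil, Int.cast_one, Int.cast_neg, pow_zero, mul_one, one_mul, add_zero]
    show b11 = b11
    ring

theorem x2 (t a0 a1 b0 b1 b2 b3 b4 b5 b6 b7 b8 b9 b10 b11 : K) :
    chevG2.x K 2 t *ᵥ mk a0 a1 b0 b1 b2 b3 b4 b5 b6 b7 b8 b9 b10 b11 = mk
      (b9*t + a0)
      (a1)
      (b10*t^3 + b0)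
      (-b11*t^3 + b1)
      (-b9*t^2 + a0*t + b2)
      (b10*t^2 + b7*t + b3)
      (-b11*t^2 - b8*t + b4)
      (b5)
      (b6)
      (-b10*t + b7)
      (-b11*t + b8)
      (b9)
      (b10)
      (b11) := by
  funext row
  rw [x_mulVec_row K 2 (by decide)]
  refine forall_idx (P := fun row => ((rowTab (⟨2, by decide⟩ : Fin chevG2.nroots) row).map fun e => ((e.2.2 : ℤ) : K) * t ^ e.2.1 * (mk a0 a1 b0 b1 b2 b3 b4 b5 b6 b7 b8 b9 b10 b11) (idx e.1)).sum = mk _ _ _ _ _ _ _ _ _ _ _ _ _ _ row) ?_ ?_ ?_ ?_ ?_ ?_ ?_ ?_ ?_ ?_ ?_ ?_ ?_ ?_ row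
  · have h : rowTab (⟨2, by decide⟩ : Fin chevG2.nroots) (Sum.inl (0 : Fin 2)) = [(0, 0, 1), (11, 1, 1)] := by decide +kernel
    simp only [h, List.map_cons, List.map_nil, List.sum_cons, List.sum_nil, Int.cast_one, Int.cast_neg, pow_zero, mul_one, one_mul, add_zero]
    show a0 + (t ^ 1 * b9) = b9*t + a0
    ring
  · have h : rowTab (⟨2, by decide⟩ : Fin chevG2.nroots) (Sum.inl (1 : Fin 2)) = [(1, 0, 1)] := by decide +kernel
    simp only [h, List.map_cons, List.map_nil, List.sum_cons, List.sum_nil, Int.cast_one, Int.cast_neg, pow_zero, mul_one, one_mul, add_zero]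
    show a1 = a1
    ring
  · have h : rowTab (⟨2, by decide⟩ : Fin chevG2.nroots) (Sum.inr (0 : Fin 12)) = [(2, 0, 1), (12, 3, 1)] := by decide +kernel
    simp only [h, List.map_cons, List.map_nil, List.sum_cons, List.sum_nil, Int.cast_one, Int.cast_neg, pow_zero, mul_one, one_mul, add_zero]
    show b0 + (t ^ 3 * b10) = b10*t^3 + b0
    ring
  · have h : rowTab (⟨2, by decide⟩ : Fin chevG2.nroots) (Sum.inr (1 : Fin 12)) = [(3, 0, 1), (13, 3, -1)] := by decide +kernel
    simp only [h, List.map_cons, List.map_nil, List.sum_cons, List.sum_nil, Int.cast_one, Int.cast_neg, pow_zero, mul_one, one_mul, add_zero]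
    show b1 + (-1 * t ^ 3 * b11) = -b11*t^3 + b1
    ring
  · have h : rowTab (⟨2, by decide⟩ : Fin chevG2.nroots) (Sum.inr (2 : Fin 12)) = [(0, 1, 1), (4, 0, 1), (11, 2, -1)] := by decide +kernel
    simp only [h, List.map_cons, List.map_nil, List.sum_cons, List.sum_nil, Int.cast_one, Int.cast_neg, pow_zero, mul_one, one_mul, add_zero]
    show t ^ 1 * a0 + (b2 + (-1 * t ^ 2 * b9)) = -b9*t^2 + a0*t + b2
    ring
  · have h : rowTab (⟨2, by decide⟩ : Fin chevG2.nroots) (Sum.inr (3 : Fin 12)) = [(5, 0, 1), (9, 1, 1), (12, 2, 1)] := by decide +kernel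
    simp only [h, List.map_cons, List.map_nil, List.sum_cons, List.sum_nil, Int.cast_one, Int.cast_neg, pow_zero, mul_one, one_mul, add_zero]
    show b3 + (t ^ 1 * b7 + (t ^ 2 * b10)) = b10*t^2 + b7*t + b3
    ring
  · have h : rowTab (⟨2, by decide⟩ : Fin chevG2.nroots) (Sum.inr (4 : Fin 12)) = [(6, 0, 1), (10, 1, -1), (13, 2, -1)] := by decide +kernel
    simp only [h, List.map_cons, List.map_nil, List.sum_cons, List.sum_nil, Int.cast_one, Int.cast_neg, pow_zero, mul_one, one_mul, add_zero]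
    show b4 + (-1 * t ^ 1 * b8 + (-1 * t ^ 2 * b11)) = -b11*t^2 - b8*t + b4
    ring
  · have h : rowTab (⟨2, by decide⟩ : Fin chevG2.nroots) (Sum.inr (5 : Fin 12)) = [(7, 0, 1)] := by decide +kernel
    simp only [h, List.map_cons, List.map_nil, List.sum_cons, List.sum_nil, Int.cast_one, Int.cast_neg, pow_zero, mul_one, one_mul, add_zero]
    show b5 = b5
    ring
  · have h : rowTab (⟨2, by decide⟩ : Fin chevG2.nroots) (Sum.inr (6 : Fin 12)) = [(8, 0, 1)] := by decide +kernel
    simp only [h, List.map_cons, List.map_nil, List.sum_cons, List.sum_nil, Int.cast_one, Int.cast_neg, pow_zero, mul_one, one_mul, add_zero]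
    show b6 = b6
    ring
  · have h : rowTab (⟨2, by decide⟩ : Fin chevG2.nroots) (Sum.inr (7 : Fin 12)) = [(9, 0, 1), (12, 1, -1)] := by decide +kernel
    simp only [h, List.map_cons, List.map_nil, List.sum_cons, List.sum_nil, Int.cast_one, Int.cast_neg, pow_zero, mul_one, one_mul, add_zero]
    show b7 + (-1 * t ^ 1 * b10) = -b10*t + b7
    ring
  · have h : rowTab (⟨2, by decide⟩ : Fin chevG2.nroots) (Sum.inr (8 : Fin 12)) = [(10, 0, 1), (13, 1, -1)] := by decide +kernel
    simp only [h, List.map_cons, List.map_nil, List.sum_cons, List.sum_nil, Int.cast_one, Int.cast_neg, pow_zero, mul_one, one_mul, add_zero]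
    show b8 + (-1 * t ^ 1 * b11) = -b11*t + b8
    ring
  · have h : rowTab (⟨2, by decide⟩ : Fin chevG2.nroots) (Sum.inr (9 : Fin 12)) = [(11, 0, 1)] := by decide +kernel
    simp only [h, List.map_cons, List.map_nil, List.sum_cons, List.sum_nil, Int.cast_one, Int.cast_neg, pow_zero, mul_one, one_mul, add_zero]
    show b9 = b9
    ring
  · have h : rowTab (⟨2, by decide⟩ : Fin chevG2.nroots) (Sum.inr (10 : Fin 12)) = [(12, 0, 1)] := by decide +kernel
    simp only [h, List.map_cons, List.map_nil, List.sum_cons, List.sum_nil, Int.cast_one, Int.cast_neg, pow_zero, mul_one, one_mul, add_zero]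
    show b10 = b10
    ring
  · have h : rowTab (⟨2, by decide⟩ : Fin chevG2.nroots) (Sum.inr (11 : Fin 12)) = [(13, 0, 1)] := by decide +kernel
    simp only [h, List.map_cons, List.map_nil, List.sum_cons, List.sum_nil, Int.cast_one, Int.cast_neg, pow_zero, mul_one, one_mul, add_zero]
    show b11 = b11
    ring

theorem x3 (t a0 a1 b0 b1 b2 b3 b4 b5 b6 b7 b8 b9 b10 b11 : K) :
    chevG2.x K 3 t *ᵥ mk a0 a1 b0 b1 b2 b3 b4 b5 b6 b7 b8 b9 b10 b11 = mk
      (-b8*t + a0)
      (a1)
      (b6*t^3 + b0)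
      (b1)
      (-b6*t^2 + b4*t + b2)
      (-b8*t^2 - a0*t + a1*t + b3)
      (b6*t + b4)
      (-b11*t^3 + b5)
      (b6)
      (b11*t^2 - b9*t + b7)
      (b8)
      (b11*t + b9)
      (b10)
      (b11) := by
  funext row
  rw [x_mulVec_row K 3 (by decide)]
  refine forall_idx (P := fun row => ((rowTab (⟨3, by decide⟩ : Fin chevG2.nroots) row).map fun e => ((e.2.2 : ℤ) : K) * t ^ e.2.1 * (mk a0 a1 b0 b1 b2 b3 b4 b5 b6 b7 b8 b9 b10 b11) (idx e.1)).sum = mk _ _ _ _ _ _ _ _ _ _ _ _ _ _ row) ?_ ?_ ?_ ?_ ?_ ?_ ?_ ?_ ?_ ?_ ?_ ?_ ?_ ?_ row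
  · have h : rowTab (⟨3, by decide⟩ : Fin chevG2.nroots) (Sum.inl (0 : Fin 2)) = [(0, 0, 1), (10, 1, -1)] := by decide +kernel
    simp only [h, List.map_cons, List.map_nil, List.sum_cons, List.sum_nil, Int.cast_one, Int.cast_neg, pow_zero, mul_one, one_mul, add_zero]
    show a0 + (-1 * t ^ 1 * b8) = -b8*t + a0
    ring
  · have h : rowTab (⟨3, by decide⟩ : Fin chevG2.nroots) (Sum.inl (1 : Fin 2)) = [(1, 0, 1)] := by decide +kernel
    simp only [h, List.map_cons, List.map_nil, List.sum_cons, List.sum_nil, Int.cast_one, Int.cast_neg, pow_zero, mul_one, one_mul, add_zero]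
    show a1 = a1
    ring
  · have h : rowTab (⟨3, by decide⟩ : Fin chevG2.nroots) (Sum.inr (0 : Fin 12)) = [(2, 0, 1), (8, 3, 1)] := by decide +kernel
    simp only [h, List.map_cons, List.map_nil, List.sum_cons, List.sum_nil, Int.cast_one, Int.cast_neg, pow_zero, mul_one, one_mul, add_zero]
    show b0 + (t ^ 3 * b6) = b6*t^3 + b0
    ring
  · have h : rowTab (⟨3, by decide⟩ : Fin chevG2.nroots) (Sum.inr (1 : Fin 12)) = [(3, 0, 1)] := by decide +kernel
    simp only [h, List.map_cons, List.map_nil, List.sum_cons, List.sum_nil, Int.cast_one, Int.cast_neg, pow_zero, mul_one, one_mul, add_zero]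
    show b1 = b1
    ring
  · have h : rowTab (⟨3, by decide⟩ : Fin chevG2.nroots) (Sum.inr (2 : Fin 12)) = [(4, 0, 1), (6, 1, 1), (8, 2, -1)] := by decide +kernel
    simp only [h, List.map_cons, List.map_nil, List.sum_cons, List.sum_nil, Int.cast_one, Int.cast_neg, pow_zero, mul_one, one_mul, add_zero]
    show b2 + (t ^ 1 * b4 + (-1 * t ^ 2 * b6)) = -b6*t^2 + b4*t + b2
    ring
  · have h : rowTab (⟨3, by decide⟩ : Fin chevG2.nroots) (Sum.inr (3 : Fin 12)) = [(0, 1, -1), (1, 1, 1), (5, 0, 1), (10, 2, -1)] := by decide +kernel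
    simp only [h, List.map_cons, List.map_nil, List.sum_cons, List.sum_nil, Int.cast_one, Int.cast_neg, pow_zero, mul_one, one_mul, add_zero]
    show -1 * t ^ 1 * a0 + (t ^ 1 * a1 + (b3 + (-1 * t ^ 2 * b8))) = -b8*t^2 - a0*t + a1*t + b3
    ring
  · have h : rowTab (⟨3, by decide⟩ : Fin chevG2.nroots) (Sum.inr (4 : Fin 12)) = [(6, 0, 1), (8, 1, 1)] := by decide +kernel
    simp only [h, List.map_cons, List.map_nil, List.sum_cons, List.sum_nil, Int.cast_one, Int.cast_neg, pow_zero, mul_one, one_mul, add_zero]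
    show b4 + (t ^ 1 * b6) = b6*t + b4
    ring
  · have h : rowTab (⟨3, by decide⟩ : Fin chevG2.nroots) (Sum.inr (5 : Fin 12)) = [(7, 0, 1), (13, 3, -1)] := by decide +kernel
    simp only [h, List.map_cons, List.map_nil, List.sum_cons, List.sum_nil, Int.cast_one, Int.cast_neg, pow_zero, mul_one, one_mul, add_zero]
    show b5 + (-1 * t ^ 3 * b11) = -b11*t^3 + b5
    ring
  · have h : rowTab (⟨3, by decide⟩ : Fin chevG2.nroots) (Sum.inr (6 : Fin 12)) = [(8, 0, 1)] := by decide +kernel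
    simp only [h, List.map_cons, List.map_nil, List.sum_cons, List.sum_nil, Int.cast_one, Int.cast_neg, pow_zero, mul_one, one_mul, add_zero]
    show b6 = b6
    ring
  · have h : rowTab (⟨3, by decide⟩ : Fin chevG2.nroots) (Sum.inr (7 : Fin 12)) = [(9, 0, 1), (11, 1, -1), (13, 2, 1)] := by decide +kernel
    simp only [h, List.map_cons, List.map_nil, List.sum_cons, List.sum_nil, Int.cast_one, Int.cast_neg, pow_zero, mul_one, one_mul, add_zero]
    show b7 + (-1 * t ^ 1 * b9 + (t ^ 2 * b11)) = b11*t^2 - b9*t + b7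
    ring
  · have h : rowTab (⟨3, by decide⟩ : Fin chevG2.nroots) (Sum.inr (8 : Fin 12)) = [(10, 0, 1)] := by decide +kernel
    simp only [h, List.map_cons, List.map_nil, List.sum_cons, List.sum_nil, Int.cast_one, Int.cast_neg, pow_zero, mul_one, one_mul, add_zero]
    show b8 = b8
    ring
  · have h : rowTab (⟨3, by decide⟩ : Fin chevG2.nroots) (Sum.inr (9 : Fin 12)) = [(11, 0, 1), (13, 1, 1)] := by decide +kernel
    simp only [h, List.map_cons, List.map_nil, List.sum_cons, List.sum_nil, Int.cast_one, Int.cast_neg, pow_zero, mul_one, one_mul, add_zero]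
    show b9 + (t ^ 1 * b11) = b11*t + b9
    ring
  · have h : rowTab (⟨3, by decide⟩ : Fin chevG2.nroots) (Sum.inr (10 : Fin 12)) = [(12, 0, 1)] := by decide +kernel
    simp only [h, List.map_cons, List.map_nil, List.sum_cons, List.sum_nil, Int.cast_one, Int.cast_neg, pow_zero, mul_one, one_mul, add_zero]
    show b10 = b10
    ring
  · have h : rowTab (⟨3, by decide⟩ : Fin chevG2.nroots) (Sum.inr (11 : Fin 12)) = [(13, 0, 1)] := by decide +kernel
    simp only [h, List.map_cons, List.map_nil, List.sum_cons, List.sum_nil, Int.cast_one, Int.cast_neg, pow_zero, mul_one, one_mul, add_zero]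
    show b11 = b11
    ring

theorem x4 (t a0 a1 b0 b1 b2 b3 b4 b5 b6 b7 b8 b9 b10 b11 : K) :
    chevG2.x K 4 t *ᵥ mk a0 a1 b0 b1 b2 b3 b4 b5 b6 b7 b8 b9 b10 b11 = mk
      (-b7*t + a0)
      (a1)
      (b0)
      (-b5*t^3 + b1)
      (b5*t^2 - b3*t + b2)
      (b5*t + b3)
      (-b7*t^2 - a0*t - a1*t + b4)
      (b5)
      (b10*t^3 + b6)
      (b7)
      (-b10*t^2 + b9*t + b8)
      (b10*t + b9)
      (b10)
      (b11) := by
  funext row
  rw [x_mulVec_row K 4 (by decide)]
  refine forall_idx (P := fun row => ((rowTab (⟨4, by decide⟩ : Fin chevG2.nroots) row).map fun e => ((e.2.2 : ℤ) : K) * t ^ e.2.1 * (mk a0 a1 b0 b1 b2 b3 b4 b5 b6 b7 b8 b9 b10 b11) (idx e.1)).sum = mk _ _ _ _ _ _ _ _ _ _ _ _ _ _ row) ?_ ?_ ?_ ?_ ?_ ?_ ?_ ?_ ?_ ?_ ?_ ?_ ?_ ?_ row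
  · have h : rowTab (⟨4, by decide⟩ : Fin chevG2.nroots) (Sum.inl (0 : Fin 2)) = [(0, 0, 1), (9, 1, -1)] := by decide +kernel
    simp only [h, List.map_cons, List.map_nil, List.sum_cons, List.sum_nil, Int.cast_one, Int.cast_neg, pow_zero, mul_one, one_mul, add_zero]
    show a0 + (-1 * t ^ 1 * b7) = -b7*t + a0
    ring
  · have h : rowTab (⟨4, by decide⟩ : Fin chevG2.nroots) (Sum.inl (1 : Fin 2)) = [(1, 0, 1)] := by decide +kernel
    simp only [h, List.map_cons, List.map_nil, List.sum_cons, List.sum_nil, Int.cast_one, Int.cast_neg, pow_zero, mul_one, one_mul, add_zero]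
    show a1 = a1
    ring
  · have h : rowTab (⟨4, by decide⟩ : Fin chevG2.nroots) (Sum.inr (0 : Fin 12)) = [(2, 0, 1)] := by decide +kernel
    simp only [h, List.map_cons, List.map_nil, List.sum_cons, List.sum_nil, Int.cast_one, Int.cast_neg, pow_zero, mul_one, one_mul, add_zero]
    show b0 = b0
    ring
  · have h : rowTab (⟨4, by decide⟩ : Fin chevG2.nroots) (Sum.inr (1 : Fin 12)) = [(3, 0, 1), (7, 3, -1)] := by decide +kernel
    simp only [h, List.map_cons, List.map_nil, List.sum_cons, List.sum_nil, Int.cast_one, Int.cast_neg, pow_zero, mul_one, one_mul, add_zero]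
    show b1 + (-1 * t ^ 3 * b5) = -b5*t^3 + b1
    ring
  · have h : rowTab (⟨4, by decide⟩ : Fin chevG2.nroots) (Sum.inr (2 : Fin 12)) = [(4, 0, 1), (5, 1, -1), (7, 2, 1)] := by decide +kernel
    simp only [h, List.map_cons, List.map_nil, List.sum_cons, List.sum_nil, Int.cast_one, Int.cast_neg, pow_zero, mul_one, one_mul, add_zero]
    show b2 + (-1 * t ^ 1 * b3 + (t ^ 2 * b5)) = b5*t^2 - b3*t + b2
    ring
  · have h : rowTab (⟨4, by decide⟩ : Fin chevG2.nroots) (Sum.inr (3 : Fin 12)) = [(5, 0, 1), (7, 1, 1)] := by decide +kernel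
    simp only [h, List.map_cons, List.map_nil, List.sum_cons, List.sum_nil, Int.cast_one, Int.cast_neg, pow_zero, mul_one, one_mul, add_zero]
    show b3 + (t ^ 1 * b5) = b5*t + b3
    ring
  · have h : rowTab (⟨4, by decide⟩ : Fin chevG2.nroots) (Sum.inr (4 : Fin 12)) = [(0, 1, -1), (1, 1, -1), (6, 0, 1), (9, 2, -1)] := by decide +kernel
    simp only [h, List.map_cons, List.map_nil, List.sum_cons, List.sum_nil, Int.cast_one, Int.cast_neg, pow_zero, mul_one, one_mul, add_zero]
    show -1 * t ^ 1 * a0 + (-1 * t ^ 1 * a1 + (b4 + (-1 * t ^ 2 * b7))) = -b7*t^2 - a0*t - a1*t + b4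
    ring
  · have h : rowTab (⟨4, by decide⟩ : Fin chevG2.nroots) (Sum.inr (5 : Fin 12)) = [(7, 0, 1)] := by decide +kernel
    simp only [h, List.map_cons, List.map_nil, List.sum_cons, List.sum_nil, Int.cast_one, Int.cast_neg, pow_zero, mul_one, one_mul, add_zero]
    show b5 = b5
    ring
  · have h : rowTab (⟨4, by decide⟩ : Fin chevG2.nroots) (Sum.inr (6 : Fin 12)) = [(8, 0, 1), (12, 3, 1)] := by decide +kernel
    simp only [h, List.map_cons, List.map_nil, List.sum_cons, List.sum_nil, Int.cast_one, Int.cast_neg, pow_zero, mul_one, one_mul, add_zero]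
    show b6 + (t ^ 3 * b10) = b10*t^3 + b6
    ring
  · have h : rowTab (⟨4, by decide⟩ : Fin chevG2.nroots) (Sum.inr (7 : Fin 12)) = [(9, 0, 1)] := by decide +kernel
    simp only [h, List.map_cons, List.map_nil, List.sum_cons, List.sum_nil, Int.cast_one, Int.cast_neg, pow_zero, mul_one, one_mul, add_zero]
    show b7 = b7
    ring
  · have h : rowTab (⟨4, by decide⟩ : Fin chevG2.nroots) (Sum.inr (8 : Fin 12)) = [(10, 0, 1), (11, 1, 1), (12, 2, -1)] := by decide +kernel
    simp only [h, List.map_cons, List.map_nil, List.sum_cons, List.sum_nil, Int.cast_one, Int.cast_neg, pow_zero, mul_one, one_mul, add_zero]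
    show b8 + (t ^ 1 * b9 + (-1 * t ^ 2 * b10)) = -b10*t^2 + b9*t + b8
    ring
  · have h : rowTab (⟨4, by decide⟩ : Fin chevG2.nroots) (Sum.inr (9 : Fin 12)) = [(11, 0, 1), (12, 1, 1)] := by decide +kernel
    simp only [h, List.map_cons, List.map_nil, List.sum_cons, List.sum_nil, Int.cast_one, Int.cast_neg, pow_zero, mul_one, one_mul, add_zero]
    show b9 + (t ^ 1 * b10) = b10*t + b9
    ring
  · have h : rowTab (⟨4, by decide⟩ : Fin chevG2.nroots) (Sum.inr (10 : Fin 12)) = [(12, 0, 1)] := by decide +kernel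
    simp only [h, List.map_cons, List.map_nil, List.sum_cons, List.sum_nil, Int.cast_one, Int.cast_neg, pow_zero, mul_one, one_mul, add_zero]
    show b10 = b10
    ring
  · have h : rowTab (⟨4, by decide⟩ : Fin chevG2.nroots) (Sum.inr (11 : Fin 12)) = [(13, 0, 1)] := by decide +kernel
    simp only [h, List.map_cons, List.map_nil, List.sum_cons, List.sum_nil, Int.cast_one, Int.cast_neg, pow_zero, mul_one, one_mul, add_zero]
    show b11 = b11
    ring

theorem x5 (t a0 a1 b0 b1 b2 b3 b4 b5 b6 b7 b8 b9 b10 b11 : K) :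
    chevG2.x K 5 t *ᵥ mk a0 a1 b0 b1 b2 b3 b4 b5 b6 b7 b8 b9 b10 b11 = mk
      (a0)
      (-b6*t + a1)
      (-b1*t + b0)
      (b1)
      (b2)
      (-b4*t + b3)
      (b4)
      (-b6*t^2 - a1*t + b5)
      (b6)
      (b8*t + b7)
      (b8)
      (b9)
      (b11*t + b10)
      (b11) := by
  funext row
  rw [x_mulVec_row K 5 (by decide)]
  refine forall_idx (P := fun row => ((rowTab (⟨5, by decide⟩ : Fin chevG2.nroots) row).map fun e => ((e.2.2 : ℤ) : K) * t ^ e.2.1 * (mk a0 a1 b0 b1 b2 b3 b4 b5 b6 b7 b8 b9 b10 b11) (idx e.1)).sum = mk _ _ _ _ _ _ _ _ _ _ _ _ _ _ row) ?_ ?_ ?_ ?_ ?_ ?_ ?_ ?_ ?_ ?_ ?_ ?_ ?_ ?_ row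
  · have h : rowTab (⟨5, by decide⟩ : Fin chevG2.nroots) (Sum.inl (0 : Fin 2)) = [(0, 0, 1)] := by decide +kernel
    simp only [h, List.map_cons, List.map_nil, List.sum_cons, List.sum_nil, Int.cast_one, Int.cast_neg, pow_zero, mul_one, one_mul, add_zero]
    show a0 = a0
    ring
  · have h : rowTab (⟨5, by decide⟩ : Fin chevG2.nroots) (Sum.inl (1 : Fin 2)) = [(1, 0, 1), (8, 1, -1)] := by decide +kernel
    simp only [h, List.map_cons, List.map_nil, List.sum_cons, List.sum_nil, Int.cast_one, Int.cast_neg, pow_zero, mul_one, one_mul, add_zero]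
    show a1 + (-1 * t ^ 1 * b6) = -b6*t + a1
    ring
  · have h : rowTab (⟨5, by decide⟩ : Fin chevG2.nroots) (Sum.inr (0 : Fin 12)) = [(2, 0, 1), (3, 1, -1)] := by decide +kernel
    simp only [h, List.map_cons, List.map_nil, List.sum_cons, List.sum_nil, Int.cast_one, Int.cast_neg, pow_zero, mul_one, one_mul, add_zero]
    show b0 + (-1 * t ^ 1 * b1) = -b1*t + b0
    ring
  · have h : rowTab (⟨5, by decide⟩ : Fin chevG2.nroots) (Sum.inr (1 : Fin 12)) = [(3, 0, 1)] := by decide +kernel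
    simp only [h, List.map_cons, List.map_nil, List.sum_cons, List.sum_nil, Int.cast_one, Int.cast_neg, pow_zero, mul_one, one_mul, add_zero]
    show b1 = b1
    ring
  · have h : rowTab (⟨5, by decide⟩ : Fin chevG2.nroots) (Sum.inr (2 : Fin 12)) = [(4, 0, 1)] := by decide +kernel
    simp only [h, List.map_cons, List.map_nil, List.sum_cons, List.sum_nil, Int.cast_one, Int.cast_neg, pow_zero, mul_one, one_mul, add_zero]
    show b2 = b2
    ring
  · have h : rowTab (⟨5, by decide⟩ : Fin chevG2.nroots) (Sum.inr (3 : Fin 12)) = [(5, 0, 1), (6, 1, -1)] := by decide +kernel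
    simp only [h, List.map_cons, List.map_nil, List.sum_cons, List.sum_nil, Int.cast_one, Int.cast_neg, pow_zero, mul_one, one_mul, add_zero]
    show b3 + (-1 * t ^ 1 * b4) = -b4*t + b3
    ring
  · have h : rowTab (⟨5, by decide⟩ : Fin chevG2.nroots) (Sum.inr (4 : Fin 12)) = [(6, 0, 1)] := by decide +kernel
    simp only [h, List.map_cons, List.map_nil, List.sum_cons, List.sum_nil, Int.cast_one, Int.cast_neg, pow_zero, mul_one, one_mul, add_zero]
    show b4 = b4
    ring
  · have h : rowTab (⟨5, by decide⟩ : Fin chevG2.nroots) (Sum.inr (5 : Fin 12)) = [(1, 1, -1), (7, 0, 1), (8, 2, -1)] := by decide +kernel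
    simp only [h, List.map_cons, List.map_nil, List.sum_cons, List.sum_nil, Int.cast_one, Int.cast_neg, pow_zero, mul_one, one_mul, add_zero]
    show -1 * t ^ 1 * a1 + (b5 + (-1 * t ^ 2 * b6)) = -b6*t^2 - a1*t + b5
    ring
  · have h : rowTab (⟨5, by decide⟩ : Fin chevG2.nroots) (Sum.inr (6 : Fin 12)) = [(8, 0, 1)] := by decide +kernel
    simp only [h, List.map_cons, List.map_nil, List.sum_cons, List.sum_nil, Int.cast_one, Int.cast_neg, pow_zero, mul_one, one_mul, add_zero]
    show b6 = b6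
    ring
  · have h : rowTab (⟨5, by decide⟩ : Fin chevG2.nroots) (Sum.inr (7 : Fin 12)) = [(9, 0, 1), (10, 1, 1)] := by decide +kernel
    simp only [h, List.map_cons, List.map_nil, List.sum_cons, List.sum_nil, Int.cast_one, Int.cast_neg, pow_zero, mul_one, one_mul, add_zero]
    show b7 + (t ^ 1 * b8) = b8*t + b7
    ring
  · have h : rowTab (⟨5, by decide⟩ : Fin chevG2.nroots) (Sum.inr (8 : Fin 12)) = [(10, 0, 1)] := by decide +kernel
    simp only [h, List.map_cons, List.map_nil, List.sum_cons, List.sum_nil, Int.cast_one, Int.cast_neg, pow_zero, mul_one, one_mul, add_zero]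
    show b8 = b8
    ring
  · have h : rowTab (⟨5, by decide⟩ : Fin chevG2.nroots) (Sum.inr (9 : Fin 12)) = [(11, 0, 1)] := by decide +kernel
    simp only [h, List.map_cons, List.map_nil, List.sum_cons, List.sum_nil, Int.cast_one, Int.cast_neg, pow_zero, mul_one, one_mul, add_zero]
    show b9 = b9
    ring
  · have h : rowTab (⟨5, by decide⟩ : Fin chevG2.nroots) (Sum.inr (10 : Fin 12)) = [(12, 0, 1), (13, 1, 1)] := by decide +kernel
    simp only [h, List.map_cons, List.map_nil, List.sum_cons, List.sum_nil, Int.cast_one, Int.cast_neg, pow_zero, mul_one, one_mul, add_zero]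
    show b10 + (t ^ 1 * b11) = b11*t + b10
    ring
  · have h : rowTab (⟨5, by decide⟩ : Fin chevG2.nroots) (Sum.inr (11 : Fin 12)) = [(13, 0, 1)] := by decide +kernel
    simp only [h, List.map_cons, List.map_nil, List.sum_cons, List.sum_nil, Int.cast_one, Int.cast_neg, pow_zero, mul_one, one_mul, add_zero]
    show b11 = b11
    ring

theorem x6 (t a0 a1 b0 b1 b2 b3 b4 b5 b6 b7 b8 b9 b10 b11 : K) :
    chevG2.x K 6 t *ᵥ mk a0 a1 b0 b1 b2 b3 b4 b5 b6 b7 b8 b9 b10 b11 = mk
      (a0)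
      (b5*t + a1)
      (b0)
      (-b0*t + b1)
      (b2)
      (b3)
      (-b3*t + b4)
      (b5)
      (-b5*t^2 + a1*t + b6)
      (b7)
      (b7*t + b8)
      (b9)
      (b10)
      (b10*t + b11) := by
  funext row
  rw [x_mulVec_row K 6 (by decide)]
  refine forall_idx (P := fun row => ((rowTab (⟨6, by decide⟩ : Fin chevG2.nroots) row).map fun e => ((e.2.2 : ℤ) : K) * t ^ e.2.1 * (mk a0 a1 b0 b1 b2 b3 b4 b5 b6 b7 b8 b9 b10 b11) (idx e.1)).sum = mk _ _ _ _ _ _ _ _ _ _ _ _ _ _ row) ?_ ?_ ?_ ?_ ?_ ?_ ?_ ?_ ?_ ?_ ?_ ?_ ?_ ?_ row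
  · have h : rowTab (⟨6, by decide⟩ : Fin chevG2.nroots) (Sum.inl (0 : Fin 2)) = [(0, 0, 1)] := by decide +kernel
    simp only [h, List.map_cons, List.map_nil, List.sum_cons, List.sum_nil, Int.cast_one, Int.cast_neg, pow_zero, mul_one, one_mul, add_zero]
    show a0 = a0
    ring
  · have h : rowTab (⟨6, by decide⟩ : Fin chevG2.nroots) (Sum.inl (1 : Fin 2)) = [(1, 0, 1), (7, 1, 1)] := by decide +kernel
    simp only [h, List.map_cons, List.map_nil, List.sum_cons, List.sum_nil, Int.cast_one, Int.cast_neg, pow_zero, mul_one, one_mul, add_zero]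
    show a1 + (t ^ 1 * b5) = b5*t + a1
    ring
  · have h : rowTab (⟨6, by decide⟩ : Fin chevG2.nroots) (Sum.inr (0 : Fin 12)) = [(2, 0, 1)] := by decide +kernel
    simp only [h, List.map_cons, List.map_nil, List.sum_cons, List.sum_nil, Int.cast_one, Int.cast_neg, pow_zero, mul_one, one_mul, add_zero]
    show b0 = b0
    ring
  · have h : rowTab (⟨6, by decide⟩ : Fin chevG2.nroots) (Sum.inr (1 : Fin 12)) = [(2, 1, -1), (3, 0, 1)] := by decide +kernel
    simp only [h, List.map_cons, List.map_nil, List.sum_cons, List.sum_nil, Int.cast_one, Int.cast_neg, pow_zero, mul_one, one_mul, add_zero]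
    show -1 * t ^ 1 * b0 + (b1) = -b0*t + b1
    ring
  · have h : rowTab (⟨6, by decide⟩ : Fin chevG2.nroots) (Sum.inr (2 : Fin 12)) = [(4, 0, 1)] := by decide +kernel
    simp only [h, List.map_cons, List.map_nil, List.sum_cons, List.sum_nil, Int.cast_one, Int.cast_neg, pow_zero, mul_one, one_mul, add_zero]
    show b2 = b2
    ring
  · have h : rowTab (⟨6, by decide⟩ : Fin chevG2.nroots) (Sum.inr (3 : Fin 12)) = [(5, 0, 1)] := by decide +kernel
    simp only [h, List.map_cons, List.map_nil, List.sum_cons, List.sum_nil, Int.cast_one, Int.cast_neg, pow_zero, mul_one, one_mul, add_zero]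
    show b3 = b3
    ring
  · have h : rowTab (⟨6, by decide⟩ : Fin chevG2.nroots) (Sum.inr (4 : Fin 12)) = [(5, 1, -1), (6, 0, 1)] := by decide +kernel
    simp only [h, List.map_cons, List.map_nil, List.sum_cons, List.sum_nil, Int.cast_one, Int.cast_neg, pow_zero, mul_one, one_mul, add_zero]
    show -1 * t ^ 1 * b3 + (b4) = -b3*t + b4
    ring
  · have h : rowTab (⟨6, by decide⟩ : Fin chevG2.nroots) (Sum.inr (5 : Fin 12)) = [(7, 0, 1)] := by decide +kernel
    simp only [h, List.map_cons, List.map_nil, List.sum_cons, List.sum_nil, Int.cast_one, Int.cast_neg, pow_zero, mul_one, one_mul, add_zero]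
    show b5 = b5
    ring
  · have h : rowTab (⟨6, by decide⟩ : Fin chevG2.nroots) (Sum.inr (6 : Fin 12)) = [(1, 1, 1), (7, 2, -1), (8, 0, 1)] := by decide +kernel
    simp only [h, List.map_cons, List.map_nil, List.sum_cons, List.sum_nil, Int.cast_one, Int.cast_neg, pow_zero, mul_one, one_mul, add_zero]
    show t ^ 1 * a1 + (-1 * t ^ 2 * b5 + (b6)) = -b5*t^2 + a1*t + b6
    ring
  · have h : rowTab (⟨6, by decide⟩ : Fin chevG2.nroots) (Sum.inr (7 : Fin 12)) = [(9, 0, 1)] := by decide +kernel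
    simp only [h, List.map_cons, List.map_nil, List.sum_cons, List.sum_nil, Int.cast_one, Int.cast_neg, pow_zero, mul_one, one_mul, add_zero]
    show b7 = b7
    ring
  · have h : rowTab (⟨6, by decide⟩ : Fin chevG2.nroots) (Sum.inr (8 : Fin 12)) = [(9, 1, 1), (10, 0, 1)] := by decide +kernel
    simp only [h, List.map_cons, List.map_nil, List.sum_cons, List.sum_nil, Int.cast_one, Int.cast_neg, pow_zero, mul_one, one_mul, add_zero]
    show t ^ 1 * b7 + (b8) = b7*t + b8
    ring
  · have h : rowTab (⟨6, by decide⟩ : Fin chevG2.nroots) (Sum.inr (9 : Fin 12)) = [(11, 0, 1)] := by decide +kernel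
    simp only [h, List.map_cons, List.map_nil, List.sum_cons, List.sum_nil, Int.cast_one, Int.cast_neg, pow_zero, mul_one, one_mul, add_zero]
    show b9 = b9
    ring
  · have h : rowTab (⟨6, by decide⟩ : Fin chevG2.nroots) (Sum.inr (10 : Fin 12)) = [(12, 0, 1)] := by decide +kernel
    simp only [h, List.map_cons, List.map_nil, List.sum_cons, List.sum_nil, Int.cast_one, Int.cast_neg, pow_zero, mul_one, one_mul, add_zero]
    show b10 = b10
    ring
  · have h : rowTab (⟨6, by decide⟩ : Fin chevG2.nroots) (Sum.inr (11 : Fin 12)) = [(12, 1, 1), (13, 0, 1)] := by decide +kernel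
    simp only [h, List.map_cons, List.map_nil, List.sum_cons, List.sum_nil, Int.cast_one, Int.cast_neg, pow_zero, mul_one, one_mul, add_zero]
    show t ^ 1 * b10 + (b11) = b10*t + b11
    ring

theorem x7 (t a0 a1 b0 b1 b2 b3 b4 b5 b6 b7 b8 b9 b10 b11 : K) :
    chevG2.x K 7 t *ᵥ mk a0 a1 b0 b1 b2 b3 b4 b5 b6 b7 b8 b9 b10 b11 = mk
      (b4*t + a0)
      (a1)
      (b0)
      (b1)
      (-b1*t + b2)
      (-b1*t^2 - b2*t + b3)
      (b4)
      (-b1*t^3 + b5)
      (b6)
      (-b4*t^2 + a0*t + a1*t + b7)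
      (-b6*t + b8)
      (b6*t^2 + b8*t + b9)
      (b6*t^3 + b10)
      (b11) := by
  funext row
  rw [x_mulVec_row K 7 (by decide)]
  refine forall_idx (P := fun row => ((rowTab (⟨7, by decide⟩ : Fin chevG2.nroots) row).map fun e => ((e.2.2 : ℤ) : K) * t ^ e.2.1 * (mk a0 a1 b0 b1 b2 b3 b4 b5 b6 b7 b8 b9 b10 b11) (idx e.1)).sum = mk _ _ _ _ _ _ _ _ _ _ _ _ _ _ row) ?_ ?_ ?_ ?_ ?_ ?_ ?_ ?_ ?_ ?_ ?_ ?_ ?_ ?_ row
  · have h : rowTab (⟨7, by decide⟩ : Fin chevG2.nroots) (Sum.inl (0 : Fin 2)) = [(0, 0, 1), (6, 1, 1)] := by decide +kernel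
    simp only [h, List.map_cons, List.map_nil, List.sum_cons, List.sum_nil, Int.cast_one, Int.cast_neg, pow_zero, mul_one, one_mul, add_zero]
    show a0 + (t ^ 1 * b4) = b4*t + a0
    ring
  · have h : rowTab (⟨7, by decide⟩ : Fin chevG2.nroots) (Sum.inl (1 : Fin 2)) = [(1, 0, 1)] := by decide +kernel
    simp only [h, List.map_cons, List.map_nil, List.sum_cons, List.sum_nil, Int.cast_one, Int.cast_neg, pow_zero, mul_one, one_mul, add_zero]
    show a1 = a1
    ring
  · have h : rowTab (⟨7, by decide⟩ : Fin chevG2.nroots) (Sum.inr (0 : Fin 12)) = [(2, 0, 1)] := by decide +kernel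
    simp only [h, List.map_cons, List.map_nil, List.sum_cons, List.sum_nil, Int.cast_one, Int.cast_neg, pow_zero, mul_one, one_mul, add_zero]
    show b0 = b0
    ring
  · have h : rowTab (⟨7, by decide⟩ : Fin chevG2.nroots) (Sum.inr (1 : Fin 12)) = [(3, 0, 1)] := by decide +kernel
    simp only [h, List.map_cons, List.map_nil, List.sum_cons, List.sum_nil, Int.cast_one, Int.cast_neg, pow_zero, mul_one, one_mul, add_zero]
    show b1 = b1
    ring
  · have h : rowTab (⟨7, by decide⟩ : Fin chevG2.nroots) (Sum.inr (2 : Fin 12)) = [(3, 1, -1), (4, 0, 1)] := by decide +kernel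
    simp only [h, List.map_cons, List.map_nil, List.sum_cons, List.sum_nil, Int.cast_one, Int.cast_neg, pow_zero, mul_one, one_mul, add_zero]
    show -1 * t ^ 1 * b1 + (b2) = -b1*t + b2
    ring
  · have h : rowTab (⟨7, by decide⟩ : Fin chevG2.nroots) (Sum.inr (3 : Fin 12)) = [(3, 2, -1), (4, 1, -1), (5, 0, 1)] := by decide +kernel
    simp only [h, List.map_cons, List.map_nil, List.sum_cons, List.sum_nil, Int.cast_one, Int.cast_neg, pow_zero, mul_one, one_mul, add_zero]
    show -1 * t ^ 2 * b1 + (-1 * t ^ 1 * b2 + (b3)) = -b1*t^2 - b2*t + b3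
    ring
  · have h : rowTab (⟨7, by decide⟩ : Fin chevG2.nroots) (Sum.inr (4 : Fin 12)) = [(6, 0, 1)] := by decide +kernel
    simp only [h, List.map_cons, List.map_nil, List.sum_cons, List.sum_nil, Int.cast_one, Int.cast_neg, pow_zero, mul_one, one_mul, add_zero]
    show b4 = b4
    ring
  · have h : rowTab (⟨7, by decide⟩ : Fin chevG2.nroots) (Sum.inr (5 : Fin 12)) = [(3, 3, -1), (7, 0, 1)] := by decide +kernel
    simp only [h, List.map_cons, List.map_nil, List.sum_cons, List.sum_nil, Int.cast_one, Int.cast_neg, pow_zero, mul_one, one_mul, add_zero]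
    show -1 * t ^ 3 * b1 + (b5) = -b1*t^3 + b5
    ring
  · have h : rowTab (⟨7, by decide⟩ : Fin chevG2.nroots) (Sum.inr (6 : Fin 12)) = [(8, 0, 1)] := by decide +kernel
    simp only [h, List.map_cons, List.map_nil, List.sum_cons, List.sum_nil, Int.cast_one, Int.cast_neg, pow_zero, mul_one, one_mul, add_zero]
    show b6 = b6
    ring
  · have h : rowTab (⟨7, by decide⟩ : Fin chevG2.nroots) (Sum.inr (7 : Fin 12)) = [(0, 1, 1), (1, 1, 1), (6, 2, -1), (9, 0, 1)] := by decide +kernel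
    simp only [h, List.map_cons, List.map_nil, List.sum_cons, List.sum_nil, Int.cast_one, Int.cast_neg, pow_zero, mul_one, one_mul, add_zero]
    show t ^ 1 * a0 + (t ^ 1 * a1 + (-1 * t ^ 2 * b4 + (b7))) = -b4*t^2 + a0*t + a1*t + b7
    ring
  · have h : rowTab (⟨7, by decide⟩ : Fin chevG2.nroots) (Sum.inr (8 : Fin 12)) = [(8, 1, -1), (10, 0, 1)] := by decide +kernel
    simp only [h, List.map_cons, List.map_nil, List.sum_cons, List.sum_nil, Int.cast_one, Int.cast_neg, pow_zero, mul_one, one_mul, add_zero]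
    show -1 * t ^ 1 * b6 + (b8) = -b6*t + b8
    ring
  · have h : rowTab (⟨7, by decide⟩ : Fin chevG2.nroots) (Sum.inr (9 : Fin 12)) = [(8, 2, 1), (10, 1, 1), (11, 0, 1)] := by decide +kernel
    simp only [h, List.map_cons, List.map_nil, List.sum_cons, List.sum_nil, Int.cast_one, Int.cast_neg, pow_zero, mul_one, one_mul, add_zero]
    show t ^ 2 * b6 + (t ^ 1 * b8 + (b9)) = b6*t^2 + b8*t + b9
    ring
  · have h : rowTab (⟨7, by decide⟩ : Fin chevG2.nroots) (Sum.inr (10 : Fin 12)) = [(8, 3, 1), (12, 0, 1)] := by decide +kernel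
    simp only [h, List.map_cons, List.map_nil, List.sum_cons, List.sum_nil, Int.cast_one, Int.cast_neg, pow_zero, mul_one, one_mul, add_zero]
    show t ^ 3 * b6 + (b10) = b6*t^3 + b10
    ring
  · have h : rowTab (⟨7, by decide⟩ : Fin chevG2.nroots) (Sum.inr (11 : Fin 12)) = [(13, 0, 1)] := by decide +kernel
    simp only [h, List.map_cons, List.map_nil, List.sum_cons, List.sum_nil, Int.cast_one, Int.cast_neg, pow_zero, mul_one, one_mul, add_zero]
    show b11 = b11
    ring

theorem x8 (t a0 a1 b0 b1 b2 b3 b4 b5 b6 b7 b8 b9 b10 b11 : K) :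
    chevG2.x K 8 t *ᵥ mk a0 a1 b0 b1 b2 b3 b4 b5 b6 b7 b8 b9 b10 b11 = mk
      (b3*t + a0)
      (a1)
      (b0)
      (b1)
      (-b0*t + b2)
      (b3)
      (b0*t^2 + b2*t + b4)
      (b5)
      (b0*t^3 + b6)
      (-b5*t + b7)
      (-b3*t^2 + a0*t - a1*t + b8)
      (-b5*t^2 - b7*t + b9)
      (b10)
      (-b5*t^3 + b11) := by
  funext row
  rw [x_mulVec_row K 8 (by decide)]
  refine forall_idx (P := fun row => ((rowTab (⟨8, by decide⟩ : Fin chevG2.nroots) row).map fun e => ((e.2.2 : ℤ) : K) * t ^ e.2.1 * (mk a0 a1 b0 b1 b2 b3 b4 b5 b6 b7 b8 b9 b10 b11) (idx e.1)).sum = mk _ _ _ _ _ _ _ _ _ _ _ _ _ _ row) ?_ ?_ ?_ ?_ ?_ ?_ ?_ ?_ ?_ ?_ ?_ ?_ ?_ ?_ row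
  · have h : rowTab (⟨8, by decide⟩ : Fin chevG2.nroots) (Sum.inl (0 : Fin 2)) = [(0, 0, 1), (5, 1, 1)] := by decide +kernel
    simp only [h, List.map_cons, List.map_nil, List.sum_cons, List.sum_nil, Int.cast_one, Int.cast_neg, pow_zero, mul_one, one_mul, add_zero]
    show a0 + (t ^ 1 * b3) = b3*t + a0
    ring
  · have h : rowTab (⟨8, by decide⟩ : Fin chevG2.nroots) (Sum.inl (1 : Fin 2)) = [(1, 0, 1)] := by decide +kernel
    simp only [h, List.map_cons, List.map_nil, List.sum_cons, List.sum_nil, Int.cast_one, Int.cast_neg, pow_zero, mul_one, one_mul, add_zero]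
    show a1 = a1
    ring
  · have h : rowTab (⟨8, by decide⟩ : Fin chevG2.nroots) (Sum.inr (0 : Fin 12)) = [(2, 0, 1)] := by decide +kernel
    simp only [h, List.map_cons, List.map_nil, List.sum_cons, List.sum_nil, Int.cast_one, Int.cast_neg, pow_zero, mul_one, one_mul, add_zero]
    show b0 = b0
    ring
  · have h : rowTab (⟨8, by decide⟩ : Fin chevG2.nroots) (Sum.inr (1 : Fin 12)) = [(3, 0, 1)] := by decide +kernel
    simp only [h, List.map_cons, List.map_nil, List.sum_cons, List.sum_nil, Int.cast_one, Int.cast_neg, pow_zero, mul_one, one_mul, add_zero]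
    show b1 = b1
    ring
  · have h : rowTab (⟨8, by decide⟩ : Fin chevG2.nroots) (Sum.inr (2 : Fin 12)) = [(2, 1, -1), (4, 0, 1)] := by decide +kernel
    simp only [h, List.map_cons, List.map_nil, List.sum_cons, List.sum_nil, Int.cast_one, Int.cast_neg, pow_zero, mul_one, one_mul, add_zero]
    show -1 * t ^ 1 * b0 + (b2) = -b0*t + b2
    ring
  · have h : rowTab (⟨8, by decide⟩ : Fin chevG2.nroots) (Sum.inr (3 : Fin 12)) = [(5, 0, 1)] := by decide +kernel
    simp only [h, List.map_cons, List.map_nil, List.sum_cons, List.sum_nil, Int.cast_one, Int.cast_neg, pow_zero, mul_one, one_mul, add_zero]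
    show b3 = b3
    ring
  · have h : rowTab (⟨8, by decide⟩ : Fin chevG2.nroots) (Sum.inr (4 : Fin 12)) = [(2, 2, 1), (4, 1, 1), (6, 0, 1)] := by decide +kernel
    simp only [h, List.map_cons, List.map_nil, List.sum_cons, List.sum_nil, Int.cast_one, Int.cast_neg, pow_zero, mul_one, one_mul, add_zero]
    show t ^ 2 * b0 + (t ^ 1 * b2 + (b4)) = b0*t^2 + b2*t + b4
    ring
  · have h : rowTab (⟨8, by decide⟩ : Fin chevG2.nroots) (Sum.inr (5 : Fin 12)) = [(7, 0, 1)] := by decide +kernel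
    simp only [h, List.map_cons, List.map_nil, List.sum_cons, List.sum_nil, Int.cast_one, Int.cast_neg, pow_zero, mul_one, one_mul, add_zero]
    show b5 = b5
    ring
  · have h : rowTab (⟨8, by decide⟩ : Fin chevG2.nroots) (Sum.inr (6 : Fin 12)) = [(2, 3, 1), (8, 0, 1)] := by decide +kernel
    simp only [h, List.map_cons, List.map_nil, List.sum_cons, List.sum_nil, Int.cast_one, Int.cast_neg, pow_zero, mul_one, one_mul, add_zero]
    show t ^ 3 * b0 + (b6) = b0*t^3 + b6
    ring
  · have h : rowTab (⟨8, by decide⟩ : Fin chevG2.nroots) (Sum.inr (7 : Fin 12)) = [(7, 1, -1), (9, 0, 1)] := by decide +kernel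
    simp only [h, List.map_cons, List.map_nil, List.sum_cons, List.sum_nil, Int.cast_one, Int.cast_neg, pow_zero, mul_one, one_mul, add_zero]
    show -1 * t ^ 1 * b5 + (b7) = -b5*t + b7
    ring
  · have h : rowTab (⟨8, by decide⟩ : Fin chevG2.nroots) (Sum.inr (8 : Fin 12)) = [(0, 1, 1), (1, 1, -1), (5, 2, -1), (10, 0, 1)] := by decide +kernel
    simp only [h, List.map_cons, List.map_nil, List.sum_cons, List.sum_nil, Int.cast_one, Int.cast_neg, pow_zero, mul_one, one_mul, add_zero]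
    show t ^ 1 * a0 + (-1 * t ^ 1 * a1 + (-1 * t ^ 2 * b3 + (b8))) = -b3*t^2 + a0*t - a1*t + b8
    ring
  · have h : rowTab (⟨8, by decide⟩ : Fin chevG2.nroots) (Sum.inr (9 : Fin 12)) = [(7, 2, -1), (9, 1, -1), (11, 0, 1)] := by decide +kernel
    simp only [h, List.map_cons, List.map_nil, List.sum_cons, List.sum_nil, Int.cast_one, Int.cast_neg, pow_zero, mul_one, one_mul, add_zero]
    show -1 * t ^ 2 * b5 + (-1 * t ^ 1 * b7 + (b9)) = -b5*t^2 - b7*t + b9
    ring
  · have h : rowTab (⟨8, by decide⟩ : Fin chevG2.nroots) (Sum.inr (10 : Fin 12)) = [(12, 0, 1)] := by decide +kernel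
    simp only [h, List.map_cons, List.map_nil, List.sum_cons, List.sum_nil, Int.cast_one, Int.cast_neg, pow_zero, mul_one, one_mul, add_zero]
    show b10 = b10
    ring
  · have h : rowTab (⟨8, by decide⟩ : Fin chevG2.nroots) (Sum.inr (11 : Fin 12)) = [(7, 3, -1), (13, 0, 1)] := by decide +kernel
    simp only [h, List.map_cons, List.map_nil, List.sum_cons, List.sum_nil, Int.cast_one, Int.cast_neg, pow_zero, mul_one, one_mul, add_zero]
    show -1 * t ^ 3 * b5 + (b11) = -b5*t^3 + b11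
    ring

theorem x9 (t a0 a1 b0 b1 b2 b3 b4 b5 b6 b7 b8 b9 b10 b11 : K) :
    chevG2.x K 9 t *ᵥ mk a0 a1 b0 b1 b2 b3 b4 b5 b6 b7 b8 b9 b10 b11 = mk
      (-b2*t + a0)
      (a1)
      (b0)
      (b1)
      (b2)
      (b0*t + b3)
      (b1*t + b4)
      (b5)
      (b6)
      (-b0*t^2 + b3*t + b7)
      (b1*t^2 - b4*t + b8)
      (-b2*t^2 - a0*t + b9)
      (b0*t^3 + b10)
      (-b1*t^3 + b11) := by
  funext row
  rw [x_mulVec_row K 9 (by decide)]
  refine forall_idx (P := fun row => ((rowTab (⟨9, by decide⟩ : Fin chevG2.nroots) row).map fun e => ((e.2.2 : ℤ) : K) * t ^ e.2.1 * (mk a0 a1 b0 b1 b2 b3 b4 b5 b6 b7 b8 b9 b10 b11) (idx e.1)).sum = mk _ _ _ _ _ _ _ _ _ _ _ _ _ _ row) ?_ ?_ ?_ ?_ ?_ ?_ ?_ ?_ ?_ ?_ ?_ ?_ ?_ ?_ row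
  · have h : rowTab (⟨9, by decide⟩ : Fin chevG2.nroots) (Sum.inl (0 : Fin 2)) = [(0, 0, 1), (4, 1, -1)] := by decide +kernel
    simp only [h, List.map_cons, List.map_nil, List.sum_cons, List.sum_nil, Int.cast_one, Int.cast_neg, pow_zero, mul_one, one_mul, add_zero]
    show a0 + (-1 * t ^ 1 * b2) = -b2*t + a0
    ring
  · have h : rowTab (⟨9, by decide⟩ : Fin chevG2.nroots) (Sum.inl (1 : Fin 2)) = [(1, 0, 1)] := by decide +kernel
    simp only [h, List.map_cons, List.map_nil, List.sum_cons, List.sum_nil, Int.cast_one, Int.cast_neg, pow_zero, mul_one, one_mul, add_zero]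
    show a1 = a1
    ring
  · have h : rowTab (⟨9, by decide⟩ : Fin chevG2.nroots) (Sum.inr (0 : Fin 12)) = [(2, 0, 1)] := by decide +kernel
    simp only [h, List.map_cons, List.map_nil, List.sum_cons, List.sum_nil, Int.cast_one, Int.cast_neg, pow_zero, mul_one, one_mul, add_zero]
    show b0 = b0
    ring
  · have h : rowTab (⟨9, by decide⟩ : Fin chevG2.nroots) (Sum.inr (1 : Fin 12)) = [(3, 0, 1)] := by decide +kernel
    simp only [h, List.map_cons, List.map_nil, List.sum_cons, List.sum_nil, Int.cast_one, Int.cast_neg, pow_zero, mul_one, one_mul, add_zero]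
    show b1 = b1
    ring
  · have h : rowTab (⟨9, by decide⟩ : Fin chevG2.nroots) (Sum.inr (2 : Fin 12)) = [(4, 0, 1)] := by decide +kernel
    simp only [h, List.map_cons, List.map_nil, List.sum_cons, List.sum_nil, Int.cast_one, Int.cast_neg, pow_zero, mul_one, one_mul, add_zero]
    show b2 = b2
    ring
  · have h : rowTab (⟨9, by decide⟩ : Fin chevG2.nroots) (Sum.inr (3 : Fin 12)) = [(2, 1, 1), (5, 0, 1)] := by decide +kernel
    simp only [h, List.map_cons, List.map_nil, List.sum_cons, List.sum_nil, Int.cast_one, Int.cast_neg, pow_zero, mul_one, one_mul, add_zero]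
    show t ^ 1 * b0 + (b3) = b0*t + b3
    ring
  · have h : rowTab (⟨9, by decide⟩ : Fin chevG2.nroots) (Sum.inr (4 : Fin 12)) = [(3, 1, 1), (6, 0, 1)] := by decide +kernel
    simp only [h, List.map_cons, List.map_nil, List.sum_cons, List.sum_nil, Int.cast_one, Int.cast_neg, pow_zero, mul_one, one_mul, add_zero]
    show t ^ 1 * b1 + (b4) = b1*t + b4
    ring
  · have h : rowTab (⟨9, by decide⟩ : Fin chevG2.nroots) (Sum.inr (5 : Fin 12)) = [(7, 0, 1)] := by decide +kernel
    simp only [h, List.map_cons, List.map_nil, List.sum_cons, List.sum_nil, Int.cast_one, Int.cast_neg, pow_zero, mul_one, one_mul, add_zero]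
    show b5 = b5
    ring
  · have h : rowTab (⟨9, by decide⟩ : Fin chevG2.nroots) (Sum.inr (6 : Fin 12)) = [(8, 0, 1)] := by decide +kernel
    simp only [h, List.map_cons, List.map_nil, List.sum_cons, List.sum_nil, Int.cast_one, Int.cast_neg, pow_zero, mul_one, one_mul, add_zero]
    show b6 = b6
    ring
  · have h : rowTab (⟨9, by decide⟩ : Fin chevG2.nroots) (Sum.inr (7 : Fin 12)) = [(2, 2, -1), (5, 1, 1), (9, 0, 1)] := by decide +kernel
    simp only [h, List.map_cons, List.map_nil, List.sum_cons, List.sum_nil, Int.cast_one, Int.cast_neg, pow_zero, mul_one, one_mul, add_zero]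
    show -1 * t ^ 2 * b0 + (t ^ 1 * b3 + (b7)) = -b0*t^2 + b3*t + b7
    ring
  · have h : rowTab (⟨9, by decide⟩ : Fin chevG2.nroots) (Sum.inr (8 : Fin 12)) = [(3, 2, 1), (6, 1, -1), (10, 0, 1)] := by decide +kernel
    simp only [h, List.map_cons, List.map_nil, List.sum_cons, List.sum_nil, Int.cast_one, Int.cast_neg, pow_zero, mul_one, one_mul, add_zero]
    show t ^ 2 * b1 + (-1 * t ^ 1 * b4 + (b8)) = b1*t^2 - b4*t + b8
    ring
  · have h : rowTab (⟨9, by decide⟩ : Fin chevG2.nroots) (Sum.inr (9 : Fin 12)) = [(0, 1, -1), (4, 2, -1), (11, 0, 1)] := by decide +kernel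
    simp only [h, List.map_cons, List.map_nil, List.sum_cons, List.sum_nil, Int.cast_one, Int.cast_neg, pow_zero, mul_one, one_mul, add_zero]
    show -1 * t ^ 1 * a0 + (-1 * t ^ 2 * b2 + (b9)) = -b2*t^2 - a0*t + b9
    ring
  · have h : rowTab (⟨9, by decide⟩ : Fin chevG2.nroots) (Sum.inr (10 : Fin 12)) = [(2, 3, 1), (12, 0, 1)] := by decide +kernel
    simp only [h, List.map_cons, List.map_nil, List.sum_cons, List.sum_nil, Int.cast_one, Int.cast_neg, pow_zero, mul_one, one_mul, add_zero]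
    show t ^ 3 * b0 + (b10) = b0*t^3 + b10
    ring
  · have h : rowTab (⟨9, by decide⟩ : Fin chevG2.nroots) (Sum.inr (11 : Fin 12)) = [(3, 3, -1), (13, 0, 1)] := by decide +kernel
    simp only [h, List.map_cons, List.map_nil, List.sum_cons, List.sum_nil, Int.cast_one, Int.cast_neg, pow_zero, mul_one, one_mul, add_zero]
    show -1 * t ^ 3 * b1 + (b11) = -b1*t^3 + b11
    ring

theorem x10 (t a0 a1 b0 b1 b2 b3 b4 b5 b6 b7 b8 b9 b10 b11 : K) :
    chevG2.x K 10 t *ᵥ mk a0 a1 b0 b1 b2 b3 b4 b5 b6 b7 b8 b9 b10 b11 = mk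
      (b1*t + a0)
      (b1*t + a1)
      (b0)
      (b1)
      (b2)
      (b3)
      (b4)
      (b0*t + b5)
      (b6)
      (b2*t + b7)
      (b8)
      (-b4*t + b9)
      (-b1*t^2 + a1*t + b10)
      (-b6*t + b11) := by
  funext row
  rw [x_mulVec_row K 10 (by decide)]
  refine forall_idx (P := fun row => ((rowTab (⟨10, by decide⟩ : Fin chevG2.nroots) row).map fun e => ((e.2.2 : ℤ) : K) * t ^ e.2.1 * (mk a0 a1 b0 b1 b2 b3 b4 b5 b6 b7 b8 b9 b10 b11) (idx e.1)).sum = mk _ _ _ _ _ _ _ _ _ _ _ _ _ _ row) ?_ ?_ ?_ ?_ ?_ ?_ ?_ ?_ ?_ ?_ ?_ ?_ ?_ ?_ row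
  · have h : rowTab (⟨10, by decide⟩ : Fin chevG2.nroots) (Sum.inl (0 : Fin 2)) = [(0, 0, 1), (3, 1, 1)] := by decide +kernel
    simp only [h, List.map_cons, List.map_nil, List.sum_cons, List.sum_nil, Int.cast_one, Int.cast_neg, pow_zero, mul_one, one_mul, add_zero]
    show a0 + (t ^ 1 * b1) = b1*t + a0
    ring
  · have h : rowTab (⟨10, by decide⟩ : Fin chevG2.nroots) (Sum.inl (1 : Fin 2)) = [(1, 0, 1), (3, 1, 1)] := by decide +kernel
    simp only [h, List.map_cons, List.map_nil, List.sum_cons, List.sum_nil, Int.cast_one, Int.cast_neg, pow_zero, mul_one, one_mul, add_zero]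
    show a1 + (t ^ 1 * b1) = b1*t + a1
    ring
  · have h : rowTab (⟨10, by decide⟩ : Fin chevG2.nroots) (Sum.inr (0 : Fin 12)) = [(2, 0, 1)] := by decide +kernel
    simp only [h, List.map_cons, List.map_nil, List.sum_cons, List.sum_nil, Int.cast_one, Int.cast_neg, pow_zero, mul_one, one_mul, add_zero]
    show b0 = b0
    ring
  · have h : rowTab (⟨10, by decide⟩ : Fin chevG2.nroots) (Sum.inr (1 : Fin 12)) = [(3, 0, 1)] := by decide +kernel
    simp only [h, List.map_cons, List.map_nil, List.sum_cons, List.sum_nil, Int.cast_one, Int.cast_neg, pow_zero, mul_one, one_mul, add_zero]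
    show b1 = b1
    ring
  · have h : rowTab (⟨10, by decide⟩ : Fin chevG2.nroots) (Sum.inr (2 : Fin 12)) = [(4, 0, 1)] := by decide +kernel
    simp only [h, List.map_cons, List.map_nil, List.sum_cons, List.sum_nil, Int.cast_one, Int.cast_neg, pow_zero, mul_one, one_mul, add_zero]
    show b2 = b2
    ring
  · have h : rowTab (⟨10, by decide⟩ : Fin chevG2.nroots) (Sum.inr (3 : Fin 12)) = [(5, 0, 1)] := by decide +kernel
    simp only [h, List.map_cons, List.map_nil, List.sum_cons, List.sum_nil, Int.cast_one, Int.cast_neg, pow_zero, mul_one, one_mul, add_zero]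
    show b3 = b3
    ring
  · have h : rowTab (⟨10, by decide⟩ : Fin chevG2.nroots) (Sum.inr (4 : Fin 12)) = [(6, 0, 1)] := by decide +kernel
    simp only [h, List.map_cons, List.map_nil, List.sum_cons, List.sum_nil, Int.cast_one, Int.cast_neg, pow_zero, mul_one, one_mul, add_zero]
    show b4 = b4
    ring
  · have h : rowTab (⟨10, by decide⟩ : Fin chevG2.nroots) (Sum.inr (5 : Fin 12)) = [(2, 1, 1), (7, 0, 1)] := by decide +kernel
    simp only [h, List.map_cons, List.map_nil, List.sum_cons, List.sum_nil, Int.cast_one, Int.cast_neg, pow_zero, mul_one, one_mul, add_zero]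
    show t ^ 1 * b0 + (b5) = b0*t + b5
    ring
  · have h : rowTab (⟨10, by decide⟩ : Fin chevG2.nroots) (Sum.inr (6 : Fin 12)) = [(8, 0, 1)] := by decide +kernel
    simp only [h, List.map_cons, List.map_nil, List.sum_cons, List.sum_nil, Int.cast_one, Int.cast_neg, pow_zero, mul_one, one_mul, add_zero]
    show b6 = b6
    ring
  · have h : rowTab (⟨10, by decide⟩ : Fin chevG2.nroots) (Sum.inr (7 : Fin 12)) = [(4, 1, 1), (9, 0, 1)] := by decide +kernel
    simp only [h, List.map_cons, List.map_nil, List.sum_cons, List.sum_nil, Int.cast_one, Int.cast_neg, pow_zero, mul_one, one_mul, add_zero]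
    show t ^ 1 * b2 + (b7) = b2*t + b7
    ring
  · have h : rowTab (⟨10, by decide⟩ : Fin chevG2.nroots) (Sum.inr (8 : Fin 12)) = [(10, 0, 1)] := by decide +kernel
    simp only [h, List.map_cons, List.map_nil, List.sum_cons, List.sum_nil, Int.cast_one, Int.cast_neg, pow_zero, mul_one, one_mul, add_zero]
    show b8 = b8
    ring
  · have h : rowTab (⟨10, by decide⟩ : Fin chevG2.nroots) (Sum.inr (9 : Fin 12)) = [(6, 1, -1), (11, 0, 1)] := by decide +kernel
    simp only [h, List.map_cons, List.map_nil, List.sum_cons, List.sum_nil, Int.cast_one, Int.cast_neg, pow_zero, mul_one, one_mul, add_zero]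
    show -1 * t ^ 1 * b4 + (b9) = -b4*t + b9
    ring
  · have h : rowTab (⟨10, by decide⟩ : Fin chevG2.nroots) (Sum.inr (10 : Fin 12)) = [(1, 1, 1), (3, 2, -1), (12, 0, 1)] := by decide +kernel
    simp only [h, List.map_cons, List.map_nil, List.sum_cons, List.sum_nil, Int.cast_one, Int.cast_neg, pow_zero, mul_one, one_mul, add_zero]
    show t ^ 1 * a1 + (-1 * t ^ 2 * b1 + (b10)) = -b1*t^2 + a1*t + b10
    ring
  · have h : rowTab (⟨10, by decide⟩ : Fin chevG2.nroots) (Sum.inr (11 : Fin 12)) = [(8, 1, -1), (13, 0, 1)] := by decide +kernel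
    simp only [h, List.map_cons, List.map_nil, List.sum_cons, List.sum_nil, Int.cast_one, Int.cast_neg, pow_zero, mul_one, one_mul, add_zero]
    show -1 * t ^ 1 * b6 + (b11) = -b6*t + b11
    ring

theorem x11 (t a0 a1 b0 b1 b2 b3 b4 b5 b6 b7 b8 b9 b10 b11 : K) :
    chevG2.x K 11 t *ᵥ mk a0 a1 b0 b1 b2 b3 b4 b5 b6 b7 b8 b9 b10 b11 = mk
      (b0*t + a0)
      (-b0*t + a1)
      (b0)
      (b1)
      (b2)
      (b3)
      (b4)
      (b5)
      (b1*t + b6)
      (b7)
      (b2*t + b8)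
      (-b3*t + b9)
      (-b5*t + b10)
      (-b0*t^2 - a1*t + b11) := by
  funext row
  rw [x_mulVec_row K 11 (by decide)]
  refine forall_idx (P := fun row => ((rowTab (⟨11, by decide⟩ : Fin chevG2.nroots) row).map fun e => ((e.2.2 : ℤ) : K) * t ^ e.2.1 * (mk a0 a1 b0 b1 b2 b3 b4 b5 b6 b7 b8 b9 b10 b11) (idx e.1)).sum = mk _ _ _ _ _ _ _ _ _ _ _ _ _ _ row) ?_ ?_ ?_ ?_ ?_ ?_ ?_ ?_ ?_ ?_ ?_ ?_ ?_ ?_ row
  · have h : rowTab (⟨11, by decide⟩ : Fin chevG2.nroots) (Sum.inl (0 : Fin 2)) = [(0, 0, 1), (2, 1, 1)] := by decide +kernel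
    simp only [h, List.map_cons, List.map_nil, List.sum_cons, List.sum_nil, Int.cast_one, Int.cast_neg, pow_zero, mul_one, one_mul, add_zero]
    show a0 + (t ^ 1 * b0) = b0*t + a0
    ring
  · have h : rowTab (⟨11, by decide⟩ : Fin chevG2.nroots) (Sum.inl (1 : Fin 2)) = [(1, 0, 1), (2, 1, -1)] := by decide +kernel
    simp only [h, List.map_cons, List.map_nil, List.sum_cons, List.sum_nil, Int.cast_one, Int.cast_neg, pow_zero, mul_one, one_mul, add_zero]
    show a1 + (-1 * t ^ 1 * b0) = -b0*t + a1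
    ring
  · have h : rowTab (⟨11, by decide⟩ : Fin chevG2.nroots) (Sum.inr (0 : Fin 12)) = [(2, 0, 1)] := by decide +kernel
    simp only [h, List.map_cons, List.map_nil, List.sum_cons, List.sum_nil, Int.cast_one, Int.cast_neg, pow_zero, mul_one, one_mul, add_zero]
    show b0 = b0
    ring
  · have h : rowTab (⟨11, by decide⟩ : Fin chevG2.nroots) (Sum.inr (1 : Fin 12)) = [(3, 0, 1)] := by decide +kernel
    simp only [h, List.map_cons, List.map_nil, List.sum_cons, List.sum_nil, Int.cast_one, Int.cast_neg, pow_zero, mul_one, one_mul, add_zero]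
    show b1 = b1
    ring
  · have h : rowTab (⟨11, by decide⟩ : Fin chevG2.nroots) (Sum.inr (2 : Fin 12)) = [(4, 0, 1)] := by decide +kernel
    simp only [h, List.map_cons, List.map_nil, List.sum_cons, List.sum_nil, Int.cast_one, Int.cast_neg, pow_zero, mul_one, one_mul, add_zero]
    show b2 = b2
    ring
  · have h : rowTab (⟨11, by decide⟩ : Fin chevG2.nroots) (Sum.inr (3 : Fin 12)) = [(5, 0, 1)] := by decide +kernel
    simp only [h, List.map_cons, List.map_nil, List.sum_cons, List.sum_nil, Int.cast_one, Int.cast_neg, pow_zero, mul_one, one_mul, add_zero]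
    show b3 = b3
    ring
  · have h : rowTab (⟨11, by decide⟩ : Fin chevG2.nroots) (Sum.inr (4 : Fin 12)) = [(6, 0, 1)] := by decide +kernel
    simp only [h, List.map_cons, List.map_nil, List.sum_cons, List.sum_nil, Int.cast_one, Int.cast_neg, pow_zero, mul_one, one_mul, add_zero]
    show b4 = b4
    ring
  · have h : rowTab (⟨11, by decide⟩ : Fin chevG2.nroots) (Sum.inr (5 : Fin 12)) = [(7, 0, 1)] := by decide +kernel
    simp only [h, List.map_cons, List.map_nil, List.sum_cons, List.sum_nil, Int.cast_one, Int.cast_neg, pow_zero, mul_one, one_mul, add_zero]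
    show b5 = b5
    ring
  · have h : rowTab (⟨11, by decide⟩ : Fin chevG2.nroots) (Sum.inr (6 : Fin 12)) = [(3, 1, 1), (8, 0, 1)] := by decide +kernel
    simp only [h, List.map_cons, List.map_nil, List.sum_cons, List.sum_nil, Int.cast_one, Int.cast_neg, pow_zero, mul_one, one_mul, add_zero]
    show t ^ 1 * b1 + (b6) = b1*t + b6
    ring
  · have h : rowTab (⟨11, by decide⟩ : Fin chevG2.nroots) (Sum.inr (7 : Fin 12)) = [(9, 0, 1)] := by decide +kernel
    simp only [h, List.map_cons, List.map_nil, List.sum_cons, List.sum_nil, Int.cast_one, Int.cast_neg, pow_zero, mul_one, one_mul, add_zero]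
    show b7 = b7
    ring
  · have h : rowTab (⟨11, by decide⟩ : Fin chevG2.nroots) (Sum.inr (8 : Fin 12)) = [(4, 1, 1), (10, 0, 1)] := by decide +kernel
    simp only [h, List.map_cons, List.map_nil, List.sum_cons, List.sum_nil, Int.cast_one, Int.cast_neg, pow_zero, mul_one, one_mul, add_zero]
    show t ^ 1 * b2 + (b8) = b2*t + b8
    ring
  · have h : rowTab (⟨11, by decide⟩ : Fin chevG2.nroots) (Sum.inr (9 : Fin 12)) = [(5, 1, -1), (11, 0, 1)] := by decide +kernel
    simp only [h, List.map_cons, List.map_nil, List.sum_cons, List.sum_nil, Int.cast_one, Int.cast_neg, pow_zero, mul_one, one_mul, add_zero]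
    show -1 * t ^ 1 * b3 + (b9) = -b3*t + b9
    ring
  · have h : rowTab (⟨11, by decide⟩ : Fin chevG2.nroots) (Sum.inr (10 : Fin 12)) = [(7, 1, -1), (12, 0, 1)] := by decide +kernel
    simp only [h, List.map_cons, List.map_nil, List.sum_cons, List.sum_nil, Int.cast_one, Int.cast_neg, pow_zero, mul_one, one_mul, add_zero]
    show -1 * t ^ 1 * b5 + (b10) = -b5*t + b10
    ring
  · have h : rowTab (⟨11, by decide⟩ : Fin chevG2.nroots) (Sum.inr (11 : Fin 12)) = [(1, 1, -1), (2, 2, -1), (13, 0, 1)] := by decide +kernel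
    simp only [h, List.map_cons, List.map_nil, List.sum_cons, List.sum_nil, Int.cast_one, Int.cast_neg, pow_zero, mul_one, one_mul, add_zero]
    show -1 * t ^ 1 * a1 + (-1 * t ^ 2 * b0 + (b11)) = -b0*t^2 - a1*t + b11
    ring

end Cfsg.Agent.LieRecognition.ReeAct
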