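import Cfsg.Prelude.Def_ChevStructure
import Cfsg.Agent.LieRecognition.ReeAct
import Cfsg.Agent.ChevalleyStructure.Ree.Gens
import Cfsg.Agent.ChevalleyStructure.HDiagG2

/-!
# The explicit elements of the small Ree groups and the subgroups `U`, `H`, `B` of `G₂`
-/

set_option autoImplicit false

namespace Cfsg.Agent.LieRecognition.ReeBorel

open Cfsg.Lie Cfsg.Agent.ChevalleyStructure Cfsg.Agent.ChevalleyStructure.Ree.Gens
open Cfsg.Agent.ChevalleyStructure.Ree.Checks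
open scoped Matrix

variable {K : Type*} [Field K]

theorem isPos {r : ℕ} (h6 : 6 ≤ r) (h12 : r < 12) : chevG2.IsPosRoot r := by
  interval_cases r <;> decide

theorem xU_mem_pos {r : ℕ} (h6 : 6 ≤ r) (h12 : r < 12) (t : K) : xU r t ∈ chevG2.posUnipotent K :=
  Subgroup.subset_closure ⟨r, t, isPos h6 h12, coe_xU r t⟩

theorem wordU_mem_pos (w : List (ℕ × K)) (hw : ∀ p ∈ w, 6 ≤ p.1 ∧ p.1 < 12) :
    wordU w ∈ chevG2.posUnipotent K := by
  induction w with
  | nil => simp [wordU]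
  | cons p w ih =>
    have h1 : wordU (p :: w) = xU p.1 p.2 * wordU w := by simp [wordU]
    rw [h1]
    exact mul_mem (xU_mem_pos (hw p (by simp)).1 (hw p (by simp)).2 p.2)
      (ih fun q hq => hw q (List.mem_cons_of_mem _ hq))

theorem wU_mem_pos (e : ℕ) (t u v : K) : wU e t u v ∈ chevG2.posUnipotent K := by
  apply wordU_mem_pos
  intro p hp
  simp only [reeWordU, List.mem_cons, List.not_mem_nil, or_false] at hp
  rcases hp with rfl | rfl | rfl | rfl | rfl | rfl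
  · exact (show (6 : ℕ) ≤ 7 ∧ (7 : ℕ) < 12 from ⟨by decide, by decide⟩)
  · exact (show (6 : ℕ) ≤ 6 ∧ (6 : ℕ) < 12 from ⟨by decide, by decide⟩)
  · exact (show (6 : ℕ) ≤ 8 ∧ (8 : ℕ) < 12 from ⟨by decide, by decide⟩)
  · exact (show (6 : ℕ) ≤ 9 ∧ (9 : ℕ) < 12 from ⟨by decide, by decide⟩)
  · exact (show (6 : ℕ) ≤ 10 ∧ (10 : ℕ) < 12 from ⟨by decide, by decide⟩)
  · exact (show (6 : ℕ) ≤ 11 ∧ (11 : ℕ) < 12 from ⟨by decide, by decide⟩)

theorem cartan_root : ∀ s : Fin 12,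
    2 * SparseHDiag.cartanRS chevG2 7 s.val + 3 * SparseHDiag.cartanRS chevG2 6 s.val = rootA s.val ∧
    SparseHDiag.cartanRS chevG2 7 s.val + 2 * SparseHDiag.cartanRS chevG2 6 s.val = rootB s.val := by
  decide +kernel

theorem hU_mem_diag (α β : Kˣ) : hU α β ∈ chevG2.diagonalSubgroup K := by
  have h1 : ∀ (r : ℕ) (t : Kˣ), r < 12 → wordU (chevG2.hWord r (t : K)) ∈ chevG2.diagonalSubgroup K :=
    fun r t hr => Subgroup.subset_closure ⟨r, t, hr, t.ne_zero, coe_wordU _⟩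
  have h2 : hU α β = wordU (chevG2.hWord 7 ((α ^ 2 * β : Kˣ) : K)) *
      wordU (chevG2.hWord 6 ((α ^ 3 * β ^ 2 : Kˣ) : K)) := by
    apply Units.ext
    rw [Units.val_mul, coe_wordU, coe_wordU, coe_hU]
    have e7 : chevG2.wordMat K (chevG2.hWord 7 ((α ^ 2 * β : Kˣ) : K)) =
        Matrix.diagonal (SparseHDiag.hVal chevG2 7 ((α ^ 2 * β : Kˣ) : K)) :=
      HDiagG2.hMat_chevG2 (by decide) (Units.ne_zero _)
    have e6 : chevG2.wordMat K (chevG2.hWord 6 ((α ^ 3 * β ^ 2 : Kˣ) : K)) =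
        Matrix.diagonal (SparseHDiag.hVal chevG2 6 ((α ^ 3 * β ^ 2 : Kˣ) : K)) :=
      HDiagG2.hMat_chevG2 (by decide) (Units.ne_zero _)
    rw [e7, e6, Matrix.diagonal_mul_diagonal, hMat]
    congr 1
    funext i
    rcases i with i | s
    · simp [SparseHDiag.hVal]
    · have hc := cartan_root s
      show (α : K) ^ rootA s.val * (β : K) ^ rootB s.val = ((α ^ 2 * β : Kˣ) : K) ^ SparseHDiag.cartanRS chevG2 7 s.val *
        ((α ^ 3 * β ^ 2 : Kˣ) : K) ^ SparseHDiag.cartanRS chevG2 6 s.val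
      rw [← hc.1, ← hc.2, ← Units.val_zpow_eq_zpow_val, ← Units.val_zpow_eq_zpow_val,
        ← Units.val_zpow_eq_zpow_val, ← Units.val_zpow_eq_zpow_val, ← Units.val_mul, ← Units.val_mul]
      congr 1
      rw [mul_zpow, mul_zpow, zpow_add, zpow_add, zpow_mul, zpow_mul, zpow_mul]
      simp only [zpow_ofNat]
      rw [← zpow_natCast α 2, ← zpow_natCast α 3, ← zpow_natCast β 2]
      exact mul_mul_mul_comm _ _ _ _
  rw [h2]
  exact mul_mem (h1 _ _ (by decide)) (h1 _ _ (by decide))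

theorem tU_mem_diag (e : ℕ) (α : Kˣ) : tU e α ∈ chevG2.diagonalSubgroup K := hU_mem_diag _ _

theorem wU_mem_borel (e : ℕ) (t u v : K) : wU e t u v ∈ chevG2.borelSubgroup K :=
  (le_sup_left : chevG2.posUnipotent K ≤ chevG2.borelSubgroup K) (wU_mem_pos e t u v)

theorem tU_mem_borel (e : ℕ) (α : Kˣ) : tU e α ∈ chevG2.borelSubgroup K :=
  (le_sup_right : chevG2.diagonalSubgroup K ≤ chevG2.borelSubgroup K) (tU_mem_diag e α)

/-- the stabiliser of a line -/
def lineStab (v : chevG2.Idx → K) (hv : v ≠ 0) : Subgroup (GL chevG2.Idx K) where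
  carrier := {g | ∃ c : K, (g : Matrix chevG2.Idx chevG2.Idx K) *ᵥ v = c • v}
  one_mem' := ⟨1, by simp⟩
  mul_mem' := by
    rintro g g' ⟨c, hc⟩ ⟨c', hc'⟩
    exact ⟨c * c', by
      rw [Units.val_mul, ← Matrix.mulVec_mulVec, hc', Matrix.mulVec_smul, hc, smul_smul, mul_comm]⟩
  inv_mem' := by
    rintro g ⟨c, hc⟩
    have h1 : v = c • (((g⁻¹ : GL chevG2.Idx K) : Matrix chevG2.Idx chevG2.Idx K) *ᵥ v) := by
      have h2 : ((g⁻¹ : GL chevG2.Idx K) : Matrix chevG2.Idx chevG2.Idx K) *ᵥ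
          ((g : Matrix chevG2.Idx chevG2.Idx K) *ᵥ v) = v := by
        rw [Matrix.mulVec_mulVec, ← Units.val_mul, inv_mul_cancel, Units.val_one, Matrix.one_mulVec]
      rw [hc, Matrix.mulVec_smul] at h2
      exact h2.symm
    have hc0 : c ≠ 0 := by
      rintro rfl
      rw [zero_smul] at h1
      exact hv h1
    refine ⟨c⁻¹, ?_⟩
    conv_rhs => rw [h1]
    rw [smul_smul, inv_mul_cancel₀ hc0, one_smul]

/-- the highest root vector -/
def vTop (K : Type*) [Field K] : chevG2.Idx → K := ReeAct.mk 0 0 0 0 0 0 0 0 0 0 0 0 0 1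

theorem vTop_ne : vTop K ≠ 0 := by
  intro h
  have := congrFun h (Sum.inr (11 : Fin 12))
  exact one_ne_zero this

theorem borel_le_lineStab [CharP K 3] : chevG2.borelSubgroup K ≤ lineStab (vTop K) vTop_ne := by
  apply sup_le
  · rw [ChevalleyDatum.posUnipotent, Subgroup.closure_le]
    rintro g ⟨r, t, hr, hg⟩
    refine ⟨1, ?_⟩
    rw [hg, one_smul, vTop]
    have h12 : r < 12 := hr.1
    have h6 : 6 ≤ r := by
      by_contra hlt
      have : ¬ chevG2.IsPosRoot r := by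
        interval_cases r <;> decide
      exact this hr
    interval_cases r
    · rw [ReeAct.x6]; simp
    · rw [ReeAct.x7]; simp
    · rw [ReeAct.x8]; simp
    · rw [ReeAct.x9]; simp
    · rw [ReeAct.x10]; simp
    · rw [ReeAct.x11]; simp
  · rw [ChevalleyDatum.diagonalSubgroup, Subgroup.closure_le]
    rintro g ⟨r, t, hr, ht, hg⟩
    rw [HDiagG2.hMat_chevG2 hr ht] at hg
    refine ⟨SparseHDiag.hVal chevG2 r t (Sum.inr (11 : Fin 12)), ?_⟩
    rw [hg, vTop]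
    funext i
    rw [Matrix.mulVec_diagonal]
    refine ReeAct.forall_idx (P := fun i => SparseHDiag.hVal chevG2 r t i * ReeAct.mk 0 0 0 0 0 0 0 0 0 0 0 0 0 1 i =
      (SparseHDiag.hVal chevG2 r t (Sum.inr (11 : Fin 12)) • ReeAct.mk 0 0 0 0 0 0 0 0 0 0 0 0 0 1) i)
      ?_ ?_ ?_ ?_ ?_ ?_ ?_ ?_ ?_ ?_ ?_ ?_ ?_ ?_ i
    all_goals
      first
        | rfl
        | (show SparseHDiag.hVal chevG2 r t _ * (0 : K) = SparseHDiag.hVal chevG2 r t _ * (0 : K)
           rw [mul_zero, mul_zero])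

theorem nU_notMem_borel [CharP K 3] : nU K ∉ chevG2.borelSubgroup K := by
  intro h
  obtain ⟨c, hc⟩ := borel_le_lineStab h
  have h1 := congrFun hc (Sum.inr (0 : Fin 12))
  have h2 : (c • vTop K) (Sum.inr (0 : Fin 12)) = 0 := by
    show c * (0 : K) = 0
    rw [mul_zero]
  rw [h2] at h1
  have h3 : (nMat K *ᵥ vTop K) (Sum.inr (0 : Fin 12)) = -1 := by
    show ∑ c, nMat K (Sum.inr (0 : Fin 12)) c * vTop K c = -1
    rw [ReeTab.sum_idx]
    have e : ReeTab.allIdx.map (fun c => nMat K (Sum.inr (0 : Fin 12)) c * vTop K c) =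
        [0 * 0, 0 * 0, 0 * 0, 0 * 0, 0 * 0, 0 * 0, 0 * 0, 0 * 0, 0 * 0, 0 * 0, 0 * 0, 0 * 0, 0 * 0, -1 * 1] := rfl
    rw [e]
    simp
  rw [coe_nU, h3] at h1
  exact one_ne_zero (neg_eq_zero.1 h1)

end Cfsg.Agent.LieRecognition.ReeBorel
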