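import Cfsg.Agent.ChevalleyStructure.Ree.Data
import Cfsg.Agent.LieRecognition.ReeBorel

/-!
# `B¹ = G¹ ∩ B` in the small Ree groups
-/

set_option autoImplicit false

namespace Cfsg.Agent.LieRecognition.ReeBorelData

open Cfsg.Lie
open Cfsg.Agent.ChevalleyStructure.Ree.Gens
open Cfsg.Agent.ChevalleyStructure.Ree.Normal
open Cfsg.Agent.ChevalleyStructure.Ree.Data

variable {K : Type*} [Field K] {θ : K →+* K} {m : ℕ} (c : Ctx θ (3 ^ m))

/-- The elements of `²G₂(K)` that lie in the Borel subgroup of `G₂(K)` are the `U t u v * h a`. -/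
theorem mem_borel_iff [CharP K 3] (g : ↥(twistedG2 K (3 ^ m))) :
    (g : GL chevG2.Idx K) ∈ chevG2.borelSubgroup K ↔ ∃ t u v a, g = U K (3 ^ m) t u v * T c a := by
  constructor
  · intro hg
    rcases (data c).bruhat g with h | ⟨t, u, v, a, t', u', v', h⟩
    · exact h
    · exfalso
      apply ReeBorel.nU_notMem_borel (K := K)
      have h1 : nU K = (wU (3 ^ m) t u v * tU (3 ^ m) a)⁻¹ * (g : GL chevG2.Idx K) * (wU (3 ^ m) t' u' v')⁻¹ := by
        rw [h]
        simp only [Subgroup.coe_mul, coe_U, coe_T, coe_N]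
        group
      rw [h1]
      exact mul_mem (mul_mem (inv_mem (mul_mem (ReeBorel.wU_mem_borel _ _ _ _) (ReeBorel.tU_mem_borel _ _))) hg)
        (inv_mem (ReeBorel.wU_mem_borel _ _ _ _))
  · rintro ⟨t, u, v, a, rfl⟩
    rw [Subgroup.coe_mul, coe_U, coe_T]
    exact mul_mem (ReeBorel.wU_mem_borel _ _ _ _) (ReeBorel.tU_mem_borel _ _)

theorem mem_borelSub_iff [CharP K 3] (g : ↥(twistedG2 K (3 ^ m))) :
    g ∈ (chevG2.borelSubgroup K ⊓ twistedG2 K (3 ^ m)).subgroupOf (twistedG2 K (3 ^ m)) ↔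
      ∃ t u v a, g = U K (3 ^ m) t u v * T c a := by
  rw [Subgroup.mem_subgroupOf, Subgroup.mem_inf, ← mem_borel_iff c]
  exact ⟨fun h => h.1, fun h => ⟨h, g.2⟩⟩

end Cfsg.Agent.LieRecognition.ReeBorelData
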