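import Cfsg.Agent.LieRecognition.ReeSevenGroup

set_option autoImplicit false

/-!
The invariant cross product and bilinear form on the 7-dimensional module of `G₂` in characteristic 3.
-/

namespace Cfsg.Agent.LieRecognition.ReeCross

open Cfsg.Lie ReeSevenTable ReeSevenEntries ReeSeven ReeSevenGroup

open scoped Matrix

variable {K : Type*} [Field K]

/-- the bilinear form -/
def bf (x y : Fin 7 → K) : K :=
  -(x 0 * y 0) + x 1 * y 4 + x 4 * y 1 + x 2 * y 5 + x 5 * y 2 + x 3 * y 6 + x 6 * y 3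

/-- the cross product -/
def cr (x y : Fin 7 → K) : Fin 7 → K :=
  ![x 1 * y 4 + x 2 * y 5 - x 3 * y 6 - x 4 * y 1 - x 5 * y 2 + x 6 * y 3,
    -(x 0 * y 1) + x 1 * y 0 + x 3 * y 5 - x 5 * y 3,
    -(x 0 * y 2) + x 2 * y 0 - x 3 * y 4 + x 4 * y 3,
    x 0 * y 3 + x 1 * y 2 - x 2 * y 1 - x 3 * y 0,
    x 0 * y 4 + x 2 * y 6 - x 4 * y 0 - x 6 * y 2,
    x 0 * y 5 - x 1 * y 6 - x 5 * y 0 + x 6 * y 1,
    -(x 0 * y 6) - x 4 * y 5 + x 5 * y 4 + x 6 * y 0]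

theorem bf_comm (x y : Fin 7 → K) : bf x y = bf y x := by
  simp only [bf]; ring

theorem bf_add_left (x x' y : Fin 7 → K) : bf (x + x') y = bf x y + bf x' y := by
  simp only [bf, Pi.add_apply]; ring

theorem bf_smul_left (c : K) (x y : Fin 7 → K) : bf (c • x) y = c * bf x y := by
  simp only [bf, Pi.smul_apply, smul_eq_mul]; ring

theorem bf_neg_left (x y : Fin 7 → K) : bf (-x) y = -bf x y := by
  simp only [bf, Pi.neg_apply]; ring

theorem bf_sub_left (x x' y : Fin 7 → K) : bf (x - x') y = bf x y - bf x' y := by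
  simp only [bf, Pi.sub_apply]; ring

theorem bf_add_right (x y y' : Fin 7 → K) : bf x (y + y') = bf x y + bf x y' := by
  simp only [bf, Pi.add_apply]; ring

theorem bf_smul_right (c : K) (x y : Fin 7 → K) : bf x (c • y) = c * bf x y := by
  simp only [bf, Pi.smul_apply, smul_eq_mul]; ring

theorem bf_neg_right (x y : Fin 7 → K) : bf x (-y) = -bf x y := by
  simp only [bf, Pi.neg_apply]; ring

theorem bf_sub_right (x y y' : Fin 7 → K) : bf x (y - y') = bf x y - bf x y' := by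
  simp only [bf, Pi.sub_apply]; ring

theorem bf_zero_right (x : Fin 7 → K) : bf x 0 = 0 := by simp [bf]

theorem bf_zero_left (x : Fin 7 → K) : bf 0 x = 0 := by simp [bf]

theorem cr_anti (x y : Fin 7 → K) : cr x y = - cr y x := by
  funext i; fin_cases i <;> simp [cr] <;> ring

theorem bf_cr (x y z : Fin 7 → K) : bf (cr x y) z = bf x (cr y z) := by
  simp [bf, cr]; ring

theorem cr_add_right (x y y' : Fin 7 → K) : cr x (y + y') = cr x y + cr x y' := by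
  funext i; fin_cases i <;> simp [cr] <;> ring

theorem cr_smul_right (c : K) (x y : Fin 7 → K) : cr x (c • y) = c • cr x y := by
  funext i; fin_cases i <;> simp [cr] <;> ring

theorem cr_add_left (x x' y : Fin 7 → K) : cr (x + x') y = cr x y + cr x' y := by
  funext i; fin_cases i <;> simp [cr] <;> ring

theorem cr_smul_left (c : K) (x y : Fin 7 → K) : cr (c • x) y = c • cr x y := by
  funext i; fin_cases i <;> simp [cr] <;> ring

/-- nondegeneracy -/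
theorem exists_bf_ne {x : Fin 7 → K} (hx : x ≠ 0) : ∃ y, bf x y ≠ 0 := by
  by_contra hcon
  push Not at hcon
  apply hx
  funext i
  fin_cases i
  · simpa [bf, Pi.single_apply] using hcon (Pi.single 0 1)
  · simpa [bf, Pi.single_apply] using hcon (Pi.single 4 1)
  · simpa [bf, Pi.single_apply] using hcon (Pi.single 5 1)
  · simpa [bf, Pi.single_apply] using hcon (Pi.single 6 1)
  · simpa [bf, Pi.single_apply] using hcon (Pi.single 1 1)
  · simpa [bf, Pi.single_apply] using hcon (Pi.single 2 1)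
  · simpa [bf, Pi.single_apply] using hcon (Pi.single 3 1)

section CharThree
variable [CharP K 3]

theorem three_eq_zero : (3 : K) = 0 := by exact_mod_cast CharP.cast_eq_zero K 3

theorem cr_cr (x y : Fin 7 → K) : cr x (cr x y) = bf x y • x - bf x x • y := by
  have h3 : (3 : K) = 0 := three_eq_zero
  funext i
  fin_cases i
  · simp [cr, bf]
    linear_combination (0) * h3
  · simp [cr, bf]
    linear_combination (-x 1*x 3*y 6 - x 1*x 5*y 2 + x 3*x 6*y 1 + x 2*x 5*y 1) * h3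
  · simp [cr, bf]
    linear_combination (-x 2*x 3*y 6 - x 2*x 4*y 1 + x 3*x 6*y 2 + x 1*x 4*y 2) * h3
  · simp [cr, bf]
    linear_combination (-x 1*x 3*y 4 + x 1*x 4*y 3 - x 2*x 3*y 5 + x 2*x 5*y 3) * h3
  · simp [cr, bf]
    linear_combination (-x 2*x 4*y 5 + x 2*x 5*y 4 - x 4*x 6*y 3 + x 3*x 6*y 4) * h3
  · simp [cr, bf]
    linear_combination (x 1*x 4*y 5 - x 1*x 5*y 4 - x 5*x 6*y 3 + x 3*x 6*y 5) * h3
  · simp [cr, bf]
    linear_combination (x 1*x 4*y 6 - x 4*x 6*y 1 + x 2*x 5*y 6 - x 5*x 6*y 2) * h3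

/-- linearised form of `cr_cr` -/
theorem cr_cr_add (x y z : Fin 7 → K) :
    cr x (cr y z) + cr y (cr x z) = bf x z • y + bf y z • x - (2 * bf x y) • z := by
  have h1 := cr_cr (x + y) z
  rw [cr_add_left, cr_add_left, cr_add_right, cr_add_right, cr_cr, cr_cr, bf_add_left, bf_add_left,
    bf_add_right, bf_add_right, bf_comm y x] at h1
  have h2 : cr x (cr y z) + cr y (cr x z) =
      (bf x z • x - bf x x • z + cr x (cr y z) + (cr y (cr x z) + (bf y z • y - bf y y • z))) -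
      (bf x z • x - bf x x • z + (bf y z • y - bf y y • z)) := by abel
  rw [h2, h1]
  module

/-! ### invariance -/

/-- explicit structure constants -/
def ct (k a b : Fin 7) : ℤ :=
  (![!![0,0,0,0,0,0,0; 0,-1,0,0,0,0,0; 0,0,-1,0,0,0,0; 0,0,0,1,0,0,0; 0,0,0,0,1,0,0; 0,0,0,0,0,1,0; 0,0,0,0,0,0,-1],
     !![0,0,0,0,1,0,0; 1,0,0,0,0,0,0; 0,0,0,0,0,0,0; 0,0,1,0,0,0,0; 0,0,0,0,0,0,0; 0,0,0,0,0,0,-1; 0,0,0,0,0,0,0],
     !![0,0,0,0,0,1,0; 0,0,0,0,0,0,0; 1,0,0,0,0,0,0; 0,-1,0,0,0,0,0; 0,0,0,0,0,0,1; 0,0,0,0,0,0,0; 0,0,0,0,0,0,0],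
     !![0,0,0,0,0,0,-1; 0,0,0,0,0,1,0; 0,0,0,0,-1,0,0; -1,0,0,0,0,0,0; 0,0,0,0,0,0,0; 0,0,0,0,0,0,0; 0,0,0,0,0,0,0],
     !![0,-1,0,0,0,0,0; 0,0,0,0,0,0,0; 0,0,0,1,0,0,0; 0,0,0,0,0,0,0; -1,0,0,0,0,0,0; 0,0,0,0,0,0,0; 0,0,0,0,0,-1,0],
     !![0,0,-1,0,0,0,0; 0,0,0,-1,0,0,0; 0,0,0,0,0,0,0; 0,0,0,0,0,0,0; 0,0,0,0,0,0,0; -1,0,0,0,0,0,0; 0,0,0,0,1,0,0],
     !![0,0,0,1,0,0,0; 0,0,0,0,0,0,0; 0,0,0,0,0,0,0; 0,0,0,0,0,0,0; 0,0,-1,0,0,0,0; 0,1,0,0,0,0,0; 1,0,0,0,0,0,0]] :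
    Fin 7 → Matrix (Fin 7) (Fin 7) ℤ) k a b

theorem ct_ok : ∀ k a b : Fin 7, (((an k a b : ℕ) : ℤ) - ct k a b) % 3 = 0 := by decide +kernel

theorem am_eq (k a b : Fin 7) : am K (Sum.inl k) a b = (ct k a b : K) := by
  have h := ct_ok k a b
  have h3 : ((((an k a b : ℕ) : ℤ) - ct k a b : ℤ) : K) = 0 :=
    (CharP.intCast_eq_zero_iff K 3 _).2 (Int.dvd_of_emod_eq_zero (by exact_mod_cast h))
  push_cast at h3
  exact sub_eq_zero.1 h3

theorem cr_eq (x y : Fin 7 → K) : (∑ k, x k • am K (Sum.inl k)) *ᵥ y = cr x y := by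
  funext i
  simp only [Matrix.mulVec, dotProduct, Matrix.sum_apply, Matrix.smul_apply, am_eq, smul_eq_mul]
  fin_cases i <;> simp [cr, ct, Fin.sum_univ_succ] <;> ring

/-- explicit form -/
def bt (a b : Fin 7) : ℤ :=
  !![-1,0,0,0,0,0,0; 0,0,0,0,1,0,0; 0,0,0,0,0,1,0; 0,0,0,0,0,0,1; 0,1,0,0,0,0,0; 0,0,1,0,0,0,0; 0,0,0,1,0,0,0] a b

theorem bt_ok : ∀ a b : Fin 7, (((bn a b : ℕ) : ℤ) - bt a b) % 3 = 0 := by decide +kernel

theorem bm_eq (a b : Fin 7) : bm K a b = (bt a b : K) := by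
  have h := bt_ok a b
  have h3 : ((((bn a b : ℕ) : ℤ) - bt a b : ℤ) : K) = 0 :=
    (CharP.intCast_eq_zero_iff K 3 _).2 (Int.dvd_of_emod_eq_zero (by exact_mod_cast h))
  push_cast at h3
  exact sub_eq_zero.1 h3

theorem bf_eq (x y : Fin 7 → K) : x ⬝ᵥ (bm K *ᵥ y) = bf x y := by
  simp only [Matrix.mulVec, dotProduct, bm_eq]
  simp [bf, bt, Fin.sum_univ_succ]
  ring

theorem good_bf {M : Matrix chevG2.Idx chevG2.Idx K} (hM : Good M) (x y : Fin 7 → K) :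
    bf (wb M *ᵥ x) (wb M *ᵥ y) = bf x y := by
  have h : bf x y = x ⬝ᵥ (((wb M)ᵀ * bm K * wb M) *ᵥ y) := by rw [hM.bil, bf_eq]
  rw [h, ← bf_eq, ← Matrix.mulVec_mulVec, ← Matrix.mulVec_mulVec, Matrix.dotProduct_mulVec x,
    Matrix.vecMul_transpose]

theorem good_cr {M : Matrix chevG2.Idx chevG2.Idx K} (hM : Good M) (x y : Fin 7 → K) :
    wb M *ᵥ cr x y = cr (wb M *ᵥ x) (wb M *ᵥ y) := by
  have h : ∀ k, wb M * am K (Sum.inl k) = (∑ i, wb M i k • am K (Sum.inl i)) * wb M := by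
    intro k
    rw [hM.eqv, Fintype.sum_sum_type]
    simp only [hM.zero, zero_smul, Finset.sum_const_zero, add_zero, wb_apply]
  rw [← cr_eq, ← cr_eq, Matrix.mulVec_mulVec, Matrix.mulVec_mulVec, Matrix.mul_sum]
  simp only [Matrix.mul_smul, h, ← Matrix.smul_mul]
  rw [← Matrix.sum_mul]
  congr 2
  simp only [Finset.smul_sum, smul_smul, Matrix.mulVec, dotProduct, Finset.sum_smul]
  rw [Finset.sum_comm]
  exact Finset.sum_congr rfl fun i _ => Finset.sum_congr rfl fun j _ => by rw [mul_comm]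

end CharThree

end Cfsg.Agent.LieRecognition.ReeCross
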