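/-
Cubes of the elements of the unipotent group `U¹` of the small Ree groups (characteristic three), from the explicit
action of the root elements in `G2Elem`.
-/
import Cfsg.Agent.LieRecognition.G2Elem
set_option autoImplicit false
set_option linter.unusedSectionVars false
set_option linter.unusedTactic false
set_option linter.unreachableTactic false
open Cfsg Cfsg.Lie
open scoped Matrix
open Cfsg.Agent.LieRecognition.G2Elem

namespace Cfsg.Agent.LieRecognition.ReeCube
variable {K : Type*} [Field K]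

theorem mk_sub (a0 a1 b0 b1 b2 b3 b4 b5 b6 b7 b8 b9 b10 b11 a0' a1' b0' b1' b2' b3' b4' b5' b6' b7' b8' b9' b10' b11' : K) :
    mk a0 a1 b0 b1 b2 b3 b4 b5 b6 b7 b8 b9 b10 b11 - mk a0' a1' b0' b1' b2' b3' b4' b5' b6' b7' b8' b9' b10' b11' =
    mk (a0 - a0') (a1 - a1') (b0 - b0') (b1 - b1') (b2 - b2') (b3 - b3') (b4 - b4') (b5 - b5') (b6 - b6') (b7 - b7')
      (b8 - b8') (b9 - b9') (b10 - b10') (b11 - b11') := by
  apply mk_ext <;> rfl

/-- The product of root elements in the order used by `reeWordU`. -/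
def gMat (A t p s u v : K) : Matrix chevG2.Idx chevG2.Idx K :=
  chevG2.x K 7 A * (chevG2.x K 6 t * (chevG2.x K 8 p * (chevG2.x K 9 s * (chevG2.x K 10 u * chevG2.x K 11 v))))

theorem wordMat_reeWordU (e : ℕ) (t u v : K) :
    chevG2.wordMat K (reeWordU e t u v) = gMat (t ^ e) t (t ^ (e + 1) + u ^ e) (t ^ (2 * e + 1) + v ^ e) u v := by
  change (List.map (fun p : ℕ × K => chevG2.x K p.1 p.2) [(7, t ^ e), (6, t), (8, t ^ (e + 1) + u ^ e),
    (9, t ^ (2 * e + 1) + v ^ e), (10, u), (11, v)]).prod = _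
  simp only [List.map_cons, List.map_nil, List.prod_cons, List.prod_nil, mul_one, gMat]

theorem x6_zero : chevG2.x K 6 0 = 1 := by
  apply mat_ext; intros; rw [x6_mk, Matrix.one_mulVec]; apply mk_congr <;> ring
theorem x7_zero : chevG2.x K 7 0 = 1 := by
  apply mat_ext; intros; rw [x7_mk, Matrix.one_mulVec]; apply mk_congr <;> ring
theorem x8_zero : chevG2.x K 8 0 = 1 := by
  apply mat_ext; intros; rw [x8_mk, Matrix.one_mulVec]; apply mk_congr <;> ring
theorem x9_zero : chevG2.x K 9 0 = 1 := by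
  apply mat_ext; intros; rw [x9_mk, Matrix.one_mulVec]; apply mk_congr <;> ring
theorem x10_zero : chevG2.x K 10 0 = 1 := by
  apply mat_ext; intros; rw [x10_mk, Matrix.one_mulVec]; apply mk_congr <;> ring
theorem x11_zero : chevG2.x K 11 0 = 1 := by
  apply mat_ext; intros; rw [x11_mk, Matrix.one_mulVec]; apply mk_congr <;> ring

theorem x8_add (a b : K) : chevG2.x K 8 a * chevG2.x K 8 b = chevG2.x K 8 (a + b) := by
  apply mat_ext; intros; simp only [← Matrix.mulVec_mulVec, x8_mk]; apply mk_congr <;> ring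
theorem x9_add (a b : K) : chevG2.x K 9 a * chevG2.x K 9 b = chevG2.x K 9 (a + b) := by
  apply mat_ext; intros; simp only [← Matrix.mulVec_mulVec, x9_mk]; apply mk_congr <;> ring
theorem x10_add (a b : K) : chevG2.x K 10 a * chevG2.x K 10 b = chevG2.x K 10 (a + b) := by
  apply mat_ext; intros; simp only [← Matrix.mulVec_mulVec, x10_mk]; apply mk_congr <;> ring
theorem x11_add (a b : K) : chevG2.x K 11 a * chevG2.x K 11 b = chevG2.x K 11 (a + b) := by
  apply mat_ext; intros; simp only [← Matrix.mulVec_mulVec, x11_mk]; apply mk_congr <;> ring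

section char3
variable [CharP K 3]

theorem comm_8_9 (a b : K) : Commute (chevG2.x K 8 a) (chevG2.x K 9 b) := by
  apply mat_ext; intros; simp only [← Matrix.mulVec_mulVec, x8_mk, x9_mk]
  apply mk_congr <;> rw [← sub_eq_zero] <;> ring_nf <;> reduce_mod_char!
theorem comm_8_10 (a b : K) : Commute (chevG2.x K 8 a) (chevG2.x K 10 b) := by
  apply mat_ext; intros; simp only [← Matrix.mulVec_mulVec, x8_mk, x10_mk]
  apply mk_congr <;> rw [← sub_eq_zero] <;> ring_nf <;> reduce_mod_char!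
theorem comm_8_11 (a b : K) : Commute (chevG2.x K 8 a) (chevG2.x K 11 b) := by
  apply mat_ext; intros; simp only [← Matrix.mulVec_mulVec, x8_mk, x11_mk]
  apply mk_congr <;> rw [← sub_eq_zero] <;> ring_nf <;> reduce_mod_char!
theorem comm_9_10 (a b : K) : Commute (chevG2.x K 9 a) (chevG2.x K 10 b) := by
  apply mat_ext; intros; simp only [← Matrix.mulVec_mulVec, x9_mk, x10_mk]
  apply mk_congr <;> rw [← sub_eq_zero] <;> ring_nf <;> reduce_mod_char!
theorem comm_9_11 (a b : K) : Commute (chevG2.x K 9 a) (chevG2.x K 11 b) := by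
  apply mat_ext; intros; simp only [← Matrix.mulVec_mulVec, x9_mk, x11_mk]
  apply mk_congr <;> rw [← sub_eq_zero] <;> ring_nf <;> reduce_mod_char!
theorem comm_10_11 (a b : K) : Commute (chevG2.x K 10 a) (chevG2.x K 11 b) := by
  apply mat_ext; intros; simp only [← Matrix.mulVec_mulVec, x10_mk, x11_mk]
  apply mk_congr <;> rw [← sub_eq_zero] <;> ring_nf <;> reduce_mod_char!

theorem three_mul_eq_zero (a : K) : a + (a + a) = 0 := by
  have h3 : (3 : K) = 0 := by exact_mod_cast CharP.cast_eq_zero K 3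
  linear_combination a * h3

theorem x8_cube (a : K) : chevG2.x K 8 a ^ 3 = 1 := by
  rw [pow_succ', pow_two, x8_add, x8_add, three_mul_eq_zero, x8_zero]
theorem x9_cube (a : K) : chevG2.x K 9 a ^ 3 = 1 := by
  rw [pow_succ', pow_two, x9_add, x9_add, three_mul_eq_zero, x9_zero]
theorem x10_cube (a : K) : chevG2.x K 10 a ^ 3 = 1 := by
  rw [pow_succ', pow_two, x10_add, x10_add, three_mul_eq_zero, x10_zero]
theorem x11_cube (a : K) : chevG2.x K 11 a ^ 3 = 1 := by
  rw [pow_succ', pow_two, x11_add, x11_add, three_mul_eq_zero, x11_zero]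

/-- The elements with `t = 0` have cube one. -/
theorem gMat_zero_cube (p s u v : K) : gMat 0 0 p s u v ^ 3 = 1 := by
  have h : gMat 0 0 p s u v = chevG2.x K 8 p * (chevG2.x K 9 s * (chevG2.x K 10 u * chevG2.x K 11 v)) := by
    rw [gMat, x7_zero, x6_zero, one_mul, one_mul]
  rw [h, (((comm_8_9 p s).mul_right ((comm_8_10 p u).mul_right (comm_8_11 p v)))).mul_pow,
    ((comm_9_10 s u).mul_right (comm_9_11 s v)).mul_pow, (comm_10_11 u v).mul_pow, x8_cube, x9_cube, x10_cube, x11_cube]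
  simp

theorem g_mk (A t p s u v a0 a1 b6 b7 b8 b9 b10 b11 : K) :
   gMat A t p s u v *ᵥ mk a0 a1 0 0 0 0 0 0 b6 b7 b8 b9 b10 b11 =
    mk a0 a1 0 0 0 0 0 0 (t * a1 + b6) (a0 * A + A * a1 + b7)
      (a0 * p - p * a1 - A * t * a1 - A * b6 + t * b7 + b8)
      (-(a0 * s) + a0 * p * A - p * A * a1 - p * b7 + A * t * b7 + A * b8 + A ^ 2 * t * a1 + A ^ 2 * b6 + b9)
      (u * a1 + A ^ 3 * t * a1 + A ^ 3 * b6 + b10)
      (-(v * a1) + u * t * a1 - u * b6 + t * b10 + b11) := by
  rw [gMat]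
  simp only [← Matrix.mulVec_mulVec, x11_mk, x10_mk, x9_mk, x8_mk, x7_mk, x6_mk]
  apply mk_congr <;> rw [← sub_eq_zero] <;> ring_nf <;> reduce_mod_char!

theorem pow_three_sub_one {R : Type*} [Ring R] [CharP R 3] (x : R) (h : x ^ 3 = 1) : (x - 1) ^ 3 = 0 := by
  rw [sub_pow_char_of_commute _ (Commute.one_right x), h]; simp

theorem g_sub_one_mk (A t p s u v b6 b7 b8 b9 b10 b11 : K) :
   (gMat A t p s u v - 1) *ᵥ mk 0 0 0 0 0 0 0 0 b6 b7 b8 b9 b10 b11 =
    mk 0 0 0 0 0 0 0 0 0 0 (- A * b6 + t * b7)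
      (- p * b7 + A * t * b7 + A * b8 + A ^ 2 * b6) (A ^ 3 * b6) (- u * b6 + t * b10) := by
  rw [Matrix.sub_mulVec, Matrix.one_mulVec, g_mk, mk_sub]
  apply mk_congr <;> ring

theorem g_sub_one_h (A t p s u v : K) :
   (gMat A t p s u v - 1) *ᵥ mk 1 0 0 0 0 0 0 0 0 0 0 0 0 0 =
    mk 0 0 0 0 0 0 0 0 0 A p (-s + p * A) 0 0 := by
  rw [Matrix.sub_mulVec, Matrix.one_mulVec, g_mk, mk_sub]
  apply mk_congr <;> ring

/-- If the cube of the product is one, then `A² t = 0`. -/
theorem gMat_cube_ne (A t p s u v : K) (h : gMat A t p s u v ^ 3 = 1) : A ^ 2 * t = 0 := by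
  have h3 : (gMat A t p s u v - 1) ^ 3 = 0 := by
    have : Nonempty chevG2.Idx := ⟨ih 0⟩
    have hc : CharP (Matrix chevG2.Idx chevG2.Idx K) 3 := Matrix.charP 3
    exact pow_three_sub_one _ h
  have h4 : ((gMat A t p s u v - 1) ^ 3 *ᵥ mk 1 0 0 0 0 0 0 0 0 0 0 0 0 0) (ie 9) = 0 := by
    rw [h3, Matrix.zero_mulVec]; rfl
  rw [pow_succ', pow_two, ← Matrix.mulVec_mulVec, ← Matrix.mulVec_mulVec, g_sub_one_h, g_sub_one_mk, g_sub_one_mk] at h4
  have h5 : - p * 0 + A * t * 0 + A * (- A * 0 + t * A) + A ^ 2 * 0 = 0 := h4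
  linear_combination h5

end char3

end Cfsg.Agent.LieRecognition.ReeCube
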