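import Cfsg.Agent.LieRecognition.ReeAct

set_option autoImplicit false
set_option linter.unusedVariables false
set_option linter.unusedSectionVars false

/-!
# The 7-dimensional ideal of the Lie algebra of type `G₂` in characteristic 3 (partly generated)

`iota` embeds the ideal `I` (short roots and `h_a`), `pi` is the quotient map onto `L/I`, `br` the bracket
`L × I → I`, `pk` the Plücker map `Λ² I → L/I` (equivariant on commuting pairs), `qf` the quadratic form.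
-/

namespace Cfsg.Agent.LieRecognition.ReeEq

open Cfsg.Lie Cfsg.Agent.LieRecognition.ReeTab Cfsg.Agent.LieRecognition.ReeAct
open scoped Matrix

variable {K : Type*} [Field K]

/-- Embedding of the ideal `I`, basis `e_(2a+b), e_(a+b), e_a, h_a, e_(-a), e_(-a-b), e_(-2a-b)`. -/
def iota (v : Fin 7 → K) : chevG2.Idx → K := mk (v 3) 0 0 0 (v 6) (v 5) (v 4) 0 0 (v 2) (v 1) (v 0) 0 0

/-- The coordinates of a vector in the ideal `I`. -/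
def rho (w : chevG2.Idx → K) : Fin 7 → K :=
  ![w (idx 11), w (idx 10), w (idx 9), w (idx 0), w (idx 6), w (idx 5), w (idx 4)]

/-- The quotient map `L → L/I`, basis `e_(3a+2b), e_(3a+b), e_b, h_b, e_(-b), e_(-3a-b), e_(-3a-2b)`. -/
def pi (w : chevG2.Idx → K) : Fin 7 → K :=
  ![w (idx 13), w (idx 12), w (idx 8), w (idx 1), w (idx 7), w (idx 3), w (idx 2)]

/-- A section of `pi`. -/
def sec (q : Fin 7 → K) : chevG2.Idx → K := mk 0 (q 3) (q 6) (q 5) 0 0 0 (q 4) (q 2) 0 0 0 (q 1) (q 0)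

/-- The Lie bracket `L × I → I`. -/
def br (w : chevG2.Idx → K) (v : Fin 7 → K) : Fin 7 → K :=
  ![w (idx 0) * v 0 + w (idx 9) * v 1 - w (idx 10) * v 2 - w (idx 11) * v 3 - w (idx 12) * v 4 - w (idx 13) * v 5,
    -(w (idx 0) * v 1) + w (idx 1) * v 1 + w (idx 6) * v 0 + w (idx 8) * v 2 + w (idx 10) * v 3 - w (idx 11) * v 4 + w (idx 13) * v 6,
    -(w (idx 0) * v 2) - w (idx 1) * v 2 - w (idx 5) * v 0 + w (idx 7) * v 1 + w (idx 9) * v 3 + w (idx 11) * v 5 + w (idx 12) * v 6,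
    w (idx 4) * v 0 - w (idx 5) * v 1 - w (idx 6) * v 2 + w (idx 9) * v 4 + w (idx 10) * v 5 - w (idx 11) * v 6,
    w (idx 0) * v 4 + w (idx 1) * v 4 - w (idx 3) * v 0 - w (idx 4) * v 1 - w (idx 6) * v 3 - w (idx 8) * v 5 + w (idx 10) * v 6,
    w (idx 0) * v 5 - w (idx 1) * v 5 - w (idx 2) * v 0 + w (idx 4) * v 2 - w (idx 5) * v 3 - w (idx 7) * v 4 - w (idx 9) * v 6,
    -(w (idx 0) * v 6) + w (idx 2) * v 1 + w (idx 3) * v 2 + w (idx 4) * v 3 + w (idx 5) * v 4 - w (idx 6) * v 5]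

/-- The quadratic form on `I`. -/
def qf (v : Fin 7 → K) : K := v 0 * v 6 + v 1 * v 5 + v 2 * v 4 + v 3 ^ 2

/-- Plücker coordinates. -/
def pl (u v : Fin 7 → K) (i j : Fin 7) : K := u i * v j - u j * v i

/-- The Plücker map to `L/I`. -/
def pk (u v : Fin 7 → K) : Fin 7 → K :=
  ![pl u v 0 1, pl u v 0 2, -pl u v 1 4, pl u v 1 5 - pl u v 2 4, -pl u v 2 5, pl u v 4 6, pl u v 5 6]

theorem exists_vec (v : Fin 7 → K) : ∃ v1 v2 v3 v4 v5 v6 v7 : K, v = ![v1, v2, v3, v4, v5, v6, v7] := by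
  refine ⟨v 0, v 1, v 2, v 3, v 4, v 5, v 6, ?_⟩
  funext i
  fin_cases i <;> rfl

theorem vec_congr {a1 a2 a3 a4 a5 a6 a7 c1 c2 c3 c4 c5 c6 c7 : K} (h1 : a1 = c1) (h2 : a2 = c2) (h3 : a3 = c3)
    (h4 : a4 = c4) (h5 : a5 = c5) (h6 : a6 = c6) (h7 : a7 = c7) :
    (![a1, a2, a3, a4, a5, a6, a7] : Fin 7 → K) = ![c1, c2, c3, c4, c5, c6, c7] := by
  rw [h1, h2, h3, h4, h5, h6, h7]

theorem vec_inj {a1 a2 a3 a4 a5 a6 a7 c1 c2 c3 c4 c5 c6 c7 : K}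
    (h : (![a1, a2, a3, a4, a5, a6, a7] : Fin 7 → K) = ![c1, c2, c3, c4, c5, c6, c7]) :
    a1 = c1 ∧ a2 = c2 ∧ a3 = c3 ∧ a4 = c4 ∧ a5 = c5 ∧ a6 = c6 ∧ a7 = c7 :=
  ⟨congrFun h 0, congrFun h 1, congrFun h 2, congrFun h 3, congrFun h 4, congrFun h 5, congrFun h 6⟩

theorem zero_eq_vec : (0 : Fin 7 → K) = ![0, 0, 0, 0, 0, 0, 0] := by
  funext i
  fin_cases i <;> rfl

theorem mk_congr {a0 a1 b0 b1 b2 b3 b4 b5 b6 b7 b8 b9 b10 b11 c0 c1 d0 d1 d2 d3 d4 d5 d6 d7 d8 d9 d10 d11 : K}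
    (h0 : a0 = c0) (h1 : a1 = c1) (k0 : b0 = d0) (k1 : b1 = d1) (k2 : b2 = d2) (k3 : b3 = d3) (k4 : b4 = d4)
    (k5 : b5 = d5) (k6 : b6 = d6) (k7 : b7 = d7) (k8 : b8 = d8) (k9 : b9 = d9) (k10 : b10 = d10) (k11 : b11 = d11) :
    mk a0 a1 b0 b1 b2 b3 b4 b5 b6 b7 b8 b9 b10 b11 = mk c0 c1 d0 d1 d2 d3 d4 d5 d6 d7 d8 d9 d10 d11 := by
  rw [h0, h1, k0, k1, k2, k3, k4, k5, k6, k7, k8, k9, k10, k11]

theorem mk_add (a0 a1 b0 b1 b2 b3 b4 b5 b6 b7 b8 b9 b10 b11 c0 c1 d0 d1 d2 d3 d4 d5 d6 d7 d8 d9 d10 d11 : K) :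
    mk a0 a1 b0 b1 b2 b3 b4 b5 b6 b7 b8 b9 b10 b11 + mk c0 c1 d0 d1 d2 d3 d4 d5 d6 d7 d8 d9 d10 d11 =
      mk (a0 + c0) (a1 + c1) (b0 + d0) (b1 + d1) (b2 + d2) (b3 + d3) (b4 + d4) (b5 + d5) (b6 + d6) (b7 + d7)
        (b8 + d8) (b9 + d9) (b10 + d10) (b11 + d11) := by
  funext i
  refine forall_idx (P := fun i => (mk a0 a1 b0 b1 b2 b3 b4 b5 b6 b7 b8 b9 b10 b11 +
    mk c0 c1 d0 d1 d2 d3 d4 d5 d6 d7 d8 d9 d10 d11) i = mk _ _ _ _ _ _ _ _ _ _ _ _ _ _ i)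
    ?_ ?_ ?_ ?_ ?_ ?_ ?_ ?_ ?_ ?_ ?_ ?_ ?_ ?_ i
  all_goals rfl

theorem mk_smul (c a0 a1 b0 b1 b2 b3 b4 b5 b6 b7 b8 b9 b10 b11 : K) :
    c • mk a0 a1 b0 b1 b2 b3 b4 b5 b6 b7 b8 b9 b10 b11 =
      mk (c * a0) (c * a1) (c * b0) (c * b1) (c * b2) (c * b3) (c * b4) (c * b5) (c * b6) (c * b7)
        (c * b8) (c * b9) (c * b10) (c * b11) := by
  funext i
  refine forall_idx (P := fun i => (c • mk a0 a1 b0 b1 b2 b3 b4 b5 b6 b7 b8 b9 b10 b11) i =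
    mk _ _ _ _ _ _ _ _ _ _ _ _ _ _ i) ?_ ?_ ?_ ?_ ?_ ?_ ?_ ?_ ?_ ?_ ?_ ?_ ?_ ?_ i
  all_goals rfl

theorem iota_vec (v1 v2 v3 v4 v5 v6 v7 : K) : iota ![v1, v2, v3, v4, v5, v6, v7] = mk v4 0 0 0 v7 v6 v5 0 0 v3 v2 v1 0 0 := rfl

theorem rho_mk (a0 a1 b0 b1 b2 b3 b4 b5 b6 b7 b8 b9 b10 b11 : K) :
    rho (mk a0 a1 b0 b1 b2 b3 b4 b5 b6 b7 b8 b9 b10 b11) = ![b9, b8, b7, a0, b4, b3, b2] := rfl

theorem pi_mk (a0 a1 b0 b1 b2 b3 b4 b5 b6 b7 b8 b9 b10 b11 : K) :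
    pi (mk a0 a1 b0 b1 b2 b3 b4 b5 b6 b7 b8 b9 b10 b11) = ![b11, b10, b6, a1, b5, b1, b0] := rfl

theorem sec_vec (v1 v2 v3 v4 v5 v6 v7 : K) : sec ![v1, v2, v3, v4, v5, v6, v7] = mk 0 v4 v7 v6 0 0 0 v5 v3 0 0 0 v2 v1 := rfl

theorem br_mk (a0 a1 b0 b1 b2 b3 b4 b5 b6 b7 b8 b9 b10 b11 v1 v2 v3 v4 v5 v6 v7 : K) :
    br (mk a0 a1 b0 b1 b2 b3 b4 b5 b6 b7 b8 b9 b10 b11) ![v1, v2, v3, v4, v5, v6, v7] =
      ![a0 * v1 + b7 * v2 - b8 * v3 - b9 * v4 - b10 * v5 - b11 * v6,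
      -(a0 * v2) + a1 * v2 + b4 * v1 + b6 * v3 + b8 * v4 - b9 * v5 + b11 * v7,
      -(a0 * v3) - a1 * v3 - b3 * v1 + b5 * v2 + b7 * v4 + b9 * v6 + b10 * v7,
      b2 * v1 - b3 * v2 - b4 * v3 + b7 * v5 + b8 * v6 - b9 * v7,
      a0 * v5 + a1 * v5 - b1 * v1 - b2 * v2 - b4 * v4 - b6 * v6 + b8 * v7,
      a0 * v6 - a1 * v6 - b0 * v1 + b2 * v3 - b3 * v4 - b5 * v5 - b7 * v7,
      -(a0 * v7) + b0 * v2 + b1 * v3 + b2 * v4 + b3 * v5 - b4 * v6] := rfl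

theorem qf_vec (v1 v2 v3 v4 v5 v6 v7 : K) : qf ![v1, v2, v3, v4, v5, v6, v7] = v1 * v7 + v2 * v6 + v3 * v5 + v4 ^ 2 := rfl

theorem pk_vec (u1 u2 u3 u4 u5 u6 u7 v1 v2 v3 v4 v5 v6 v7 : K) :
    pk ![u1, u2, u3, u4, u5, u6, u7] ![v1, v2, v3, v4, v5, v6, v7] = ![u1 * v2 - u2 * v1, u1 * v3 - u3 * v1, -(u2 * v5 - u5 * v2),
      (u2 * v6 - u6 * v2) - (u3 * v5 - u5 * v3), -(u3 * v6 - u6 * v3), u5 * v7 - u7 * v5, u6 * v7 - u7 * v6] := rfl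

/-- The action on `I`. -/
def aI (M : Matrix chevG2.Idx chevG2.Idx K) (v : Fin 7 → K) : Fin 7 → K := rho (M *ᵥ iota v)

/-- The action on `L/I`. -/
def cQ (M : Matrix chevG2.Idx chevG2.Idx K) (q : Fin 7 → K) : Fin 7 → K := pi (M *ᵥ sec q)

/-- The basic invariance properties. -/
structure Good (M : Matrix chevG2.Idx chevG2.Idx K) : Prop where
  hinv : ∀ v, pi (M *ᵥ iota v) = 0
  hbr : ∀ w v, aI M (br w v) = br (M *ᵥ w) (aI M v)
  hqf : ∀ v, qf (aI M v) = qf v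
  hpk : ∀ u v, br (iota u) v = 0 → pk (aI M u) (aI M v) = cQ M (pk u v)

variable [CharP K 3]

theorem three_eq_zero : (3 : K) = 0 := by
  have h := CharP.cast_eq_zero K 3
  exact_mod_cast h

theorem aI_x0 (t v1 v2 v3 v4 v5 v6 v7 : K) : aI (chevG2.x K 0 t) ![v1, v2, v3, v4, v5, v6, v7] = ![v1, v2, v3, v4, v5, -t*v1 + v6, t*v2 + v7] := by
  rw [aI, iota_vec, x0, rho_mk]
  refine vec_congr ?_ ?_ ?_ ?_ ?_ ?_ ?_
  all_goals ring

theorem cQ_x0 (t v1 v2 v3 v4 v5 v6 v7 : K) : cQ (chevG2.x K 0 t) ![v1, v2, v3, v4, v5, v6, v7] = ![v1, v2, v3, t*v1 + v4, -t*v2 + v5, t*v3 + v6, -t^2*v1 + t*v4 + v7] := by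
  rw [cQ, sec_vec, x0, pi_mk]
  refine vec_congr ?_ ?_ ?_ ?_ ?_ ?_ ?_
  all_goals ring

theorem good0 (t : K) : Good (chevG2.x K 0 t) := by
  have h3 : (3 : K) = 0 := three_eq_zero
  constructor
  · intro v
    obtain ⟨v1, v2, v3, v4, v5, v6, v7, rfl⟩ := exists_vec v
    rw [iota_vec, x0, pi_mk, zero_eq_vec]
    refine vec_congr ?_ ?_ ?_ ?_ ?_ ?_ ?_
    · ring
    · ring
    · ring
    · ring
    · ring
    · ring
    · ring
  · intro w v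
    obtain ⟨a0, a1, b0, b1, b2, b3, b4, b5, b6, b7, b8, b9, b10, b11, rfl⟩ := exists_mk w
    obtain ⟨v1, v2, v3, v4, v5, v6, v7, rfl⟩ := exists_vec v
    rw [br_mk, aI_x0, x0, aI_x0, br_mk]
    refine vec_congr ?_ ?_ ?_ ?_ ?_ ?_ ?_
    · ring
    · linear_combination (-b11*t*v2) * h3
    · ring
    · ring
    · ring
    · linear_combination (-b11*t^2*v1 + b11*t*v6) * h3
    · ring
  · intro v
    obtain ⟨v1, v2, v3, v4, v5, v6, v7, rfl⟩ := exists_vec v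
    rw [aI_x0, qf_vec, qf_vec]
    ring
  · intro u v h
    obtain ⟨u1, u2, u3, u4, u5, u6, u7, rfl⟩ := exists_vec u
    obtain ⟨v1, v2, v3, v4, v5, v6, v7, rfl⟩ := exists_vec v
    rw [iota_vec, br_mk, zero_eq_vec] at h
    obtain ⟨k1, k2, k3, k4, k5, k6, k7⟩ := vec_inj h
    rw [aI_x0, aI_x0, pk_vec, pk_vec, cQ_x0]
    refine vec_congr ?_ ?_ ?_ ?_ ?_ ?_ ?_
    · ring
    · ring
    · ring
    · ring
    · ring
    · ring
    · linear_combination (t) * k4 + (-t*u2*v6 + t*u6*v2) * h3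

theorem aI_x1 (t v1 v2 v3 v4 v5 v6 v7 : K) : aI (chevG2.x K 1 t) ![v1, v2, v3, v4, v5, v6, v7] = ![v1, v2, v3, v4, -t*v1 + v5, v6, t*v3 + v7] := by
  rw [aI, iota_vec, x1, rho_mk]
  refine vec_congr ?_ ?_ ?_ ?_ ?_ ?_ ?_
  all_goals ring

theorem cQ_x1 (t v1 v2 v3 v4 v5 v6 v7 : K) : cQ (chevG2.x K 1 t) ![v1, v2, v3, v4, v5, v6, v7] = ![v1, v2, -t*v1 + v3, -t*v2 + v4, v5, -t^2*v2 - t*v4 + v6, t*v5 + v7] := by
  rw [cQ, sec_vec, x1, pi_mk]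
  refine vec_congr ?_ ?_ ?_ ?_ ?_ ?_ ?_
  all_goals ring

theorem good1 (t : K) : Good (chevG2.x K 1 t) := by
  have h3 : (3 : K) = 0 := three_eq_zero
  constructor
  · intro v
    obtain ⟨v1, v2, v3, v4, v5, v6, v7, rfl⟩ := exists_vec v
    rw [iota_vec, x1, pi_mk, zero_eq_vec]
    refine vec_congr ?_ ?_ ?_ ?_ ?_ ?_ ?_
    · ring
    · ring
    · ring
    · ring
    · ring
    · ring
    · ring
  · intro w v
    obtain ⟨a0, a1, b0, b1, b2, b3, b4, b5, b6, b7, b8, b9, b10, b11, rfl⟩ := exists_mk w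
    obtain ⟨v1, v2, v3, v4, v5, v6, v7, rfl⟩ := exists_vec v
    rw [br_mk, aI_x1, x1, aI_x1, br_mk]
    refine vec_congr ?_ ?_ ?_ ?_ ?_ ?_ ?_
    · ring
    · ring
    · linear_combination (-b10*t*v3) * h3
    · ring
    · linear_combination (-b10*t^2*v1 + b10*t*v5) * h3
    · ring
    · ring
  · intro v
    obtain ⟨v1, v2, v3, v4, v5, v6, v7, rfl⟩ := exists_vec v
    rw [aI_x1, qf_vec, qf_vec]
    ring
  · intro u v h
    obtain ⟨u1, u2, u3, u4, u5, u6, u7, rfl⟩ := exists_vec u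
    obtain ⟨v1, v2, v3, v4, v5, v6, v7, rfl⟩ := exists_vec v
    rw [iota_vec, br_mk, zero_eq_vec] at h
    obtain ⟨k1, k2, k3, k4, k5, k6, k7⟩ := vec_inj h
    rw [aI_x1, aI_x1, pk_vec, pk_vec, cQ_x1]
    refine vec_congr ?_ ?_ ?_ ?_ ?_ ?_ ?_
    · ring
    · ring
    · ring
    · ring
    · ring
    · linear_combination (t) * k4 + (-t*u3*v5 + t*u5*v3) * h3
    · ring

theorem aI_x2 (t v1 v2 v3 v4 v5 v6 v7 : K) : aI (chevG2.x K 2 t) ![v1, v2, v3, v4, v5, v6, v7] = ![v1, v2, v3, t*v1 + v4, -t*v2 + v5, t*v3 + v6, -t^2*v1 + t*v4 + v7] := by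
  rw [aI, iota_vec, x2, rho_mk]
  refine vec_congr ?_ ?_ ?_ ?_ ?_ ?_ ?_
  all_goals ring

theorem cQ_x2 (t v1 v2 v3 v4 v5 v6 v7 : K) : cQ (chevG2.x K 2 t) ![v1, v2, v3, v4, v5, v6, v7] = ![v1, v2, v3, v4, v5, -t^3*v1 + v6, t^3*v2 + v7] := by
  rw [cQ, sec_vec, x2, pi_mk]
  refine vec_congr ?_ ?_ ?_ ?_ ?_ ?_ ?_
  all_goals ring

theorem good2 (t : K) : Good (chevG2.x K 2 t) := by
  have h3 : (3 : K) = 0 := three_eq_zero
  constructor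
  · intro v
    obtain ⟨v1, v2, v3, v4, v5, v6, v7, rfl⟩ := exists_vec v
    rw [iota_vec, x2, pi_mk, zero_eq_vec]
    refine vec_congr ?_ ?_ ?_ ?_ ?_ ?_ ?_
    · ring
    · ring
    · ring
    · ring
    · ring
    · ring
    · ring
  · intro w v
    obtain ⟨a0, a1, b0, b1, b2, b3, b4, b5, b6, b7, b8, b9, b10, b11, rfl⟩ := exists_mk w
    obtain ⟨v1, v2, v3, v4, v5, v6, v7, rfl⟩ := exists_vec v
    rw [br_mk, aI_x2, x2, aI_x2, br_mk]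
    refine vec_congr ?_ ?_ ?_ ?_ ?_ ?_ ?_
    · ring
    · linear_combination (b11*t^2*v1) * h3
    · linear_combination (b10*t^2*v1) * h3
    · linear_combination (b7*t*v2 - b8*t*v3) * h3
    · linear_combination (-b11*t^3*v1 + a0*t*v2 - b8*t*v4) * h3
    · linear_combination (b10*t^3*v1 - a0*t*v3 + b7*t*v4) * h3
    · linear_combination (-a0*t^2*v1 + b9*t^2*v4) * h3
  · intro v
    obtain ⟨v1, v2, v3, v4, v5, v6, v7, rfl⟩ := exists_vec v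
    rw [aI_x2, qf_vec, qf_vec]
    linear_combination (t*v1*v4) * h3
  · intro u v h
    obtain ⟨u1, u2, u3, u4, u5, u6, u7, rfl⟩ := exists_vec u
    obtain ⟨v1, v2, v3, v4, v5, v6, v7, rfl⟩ := exists_vec v
    rw [iota_vec, br_mk, zero_eq_vec] at h
    obtain ⟨k1, k2, k3, k4, k5, k6, k7⟩ := vec_inj h
    rw [aI_x2, aI_x2, pk_vec, pk_vec, cQ_x2]
    refine vec_congr ?_ ?_ ?_ ?_ ?_ ?_ ?_
    · ring
    · ring
    · ring
    · ring
    · ring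
    · linear_combination (-t^2) * k2 + (-t) * k5
    · linear_combination (t^2) * k3 + (-t) * k6

theorem aI_x3 (t v1 v2 v3 v4 v5 v6 v7 : K) : aI (chevG2.x K 3 t) ![v1, v2, v3, v4, v5, v6, v7] = ![v1, v2, -t*v1 + v3, -t*v2 + v4, v5, -t^2*v2 - t*v4 + v6, t*v5 + v7] := by
  rw [aI, iota_vec, x3, rho_mk]
  refine vec_congr ?_ ?_ ?_ ?_ ?_ ?_ ?_
  all_goals ring

theorem cQ_x3 (t v1 v2 v3 v4 v5 v6 v7 : K) : cQ (chevG2.x K 3 t) ![v1, v2, v3, v4, v5, v6, v7] = ![v1, v2, v3, v4, -t^3*v1 + v5, v6, t^3*v3 + v7] := by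
  rw [cQ, sec_vec, x3, pi_mk]
  refine vec_congr ?_ ?_ ?_ ?_ ?_ ?_ ?_
  all_goals ring

theorem good3 (t : K) : Good (chevG2.x K 3 t) := by
  have h3 : (3 : K) = 0 := three_eq_zero
  constructor
  · intro v
    obtain ⟨v1, v2, v3, v4, v5, v6, v7, rfl⟩ := exists_vec v
    rw [iota_vec, x3, pi_mk, zero_eq_vec]
    refine vec_congr ?_ ?_ ?_ ?_ ?_ ?_ ?_
    · ring
    · ring
    · ring
    · ring
    · ring
    · ring
    · ring
  · intro w v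
    obtain ⟨a0, a1, b0, b1, b2, b3, b4, b5, b6, b7, b8, b9, b10, b11, rfl⟩ := exists_mk w
    obtain ⟨v1, v2, v3, v4, v5, v6, v7, rfl⟩ := exists_vec v
    rw [br_mk, aI_x3, x3, aI_x3, br_mk]
    refine vec_congr ?_ ?_ ?_ ?_ ?_ ?_ ?_
    · linear_combination (-b11*t^2*v2) * h3
    · ring
    · linear_combination (b11*t^3*v2 - a0*t*v1 + b9*t*v4) * h3
    · linear_combination (-b4*t*v1 + b9*t*v5) * h3
    · linear_combination (-b6*t^2*v2) * h3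
    · linear_combination (a0*t^2*v2 - a1*t^2*v2 - b8*t^2*v4) * h3
    · linear_combination (-b6*t^3*v2 + a0*t*v5 - b4*t*v4) * h3
  · intro v
    obtain ⟨v1, v2, v3, v4, v5, v6, v7, rfl⟩ := exists_vec v
    rw [aI_x3, qf_vec, qf_vec]
    linear_combination (-t*v2*v4) * h3
  · intro u v h
    obtain ⟨u1, u2, u3, u4, u5, u6, u7, rfl⟩ := exists_vec u
    obtain ⟨v1, v2, v3, v4, v5, v6, v7, rfl⟩ := exists_vec v
    rw [iota_vec, br_mk, zero_eq_vec] at h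
    obtain ⟨k1, k2, k3, k4, k5, k6, k7⟩ := vec_inj h
    rw [aI_x3, aI_x3, pk_vec, pk_vec, cQ_x3]
    refine vec_congr ?_ ?_ ?_ ?_ ?_ ?_ ?_
    · ring
    · ring
    · ring
    · linear_combination (-t) * k2
    · linear_combination (t^2) * k1 + (t) * k3
    · ring
    · linear_combination (-t^2) * k5 + (t) * k7

theorem aI_x4 (t v1 v2 v3 v4 v5 v6 v7 : K) : aI (chevG2.x K 4 t) ![v1, v2, v3, v4, v5, v6, v7] = ![v1, t*v1 + v2, v3, -t*v3 + v4, -t^2*v3 - t*v4 + v5, v6, -t*v6 + v7] := by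
  rw [aI, iota_vec, x4, rho_mk]
  refine vec_congr ?_ ?_ ?_ ?_ ?_ ?_ ?_
  all_goals ring

theorem cQ_x4 (t v1 v2 v3 v4 v5 v6 v7 : K) : cQ (chevG2.x K 4 t) ![v1, v2, v3, v4, v5, v6, v7] = ![v1, v2, t^3*v2 + v3, v4, v5, -t^3*v5 + v6, v7] := by
  rw [cQ, sec_vec, x4, pi_mk]
  refine vec_congr ?_ ?_ ?_ ?_ ?_ ?_ ?_
  all_goals ring

theorem good4 (t : K) : Good (chevG2.x K 4 t) := by
  have h3 : (3 : K) = 0 := three_eq_zero
  constructor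
  · intro v
    obtain ⟨v1, v2, v3, v4, v5, v6, v7, rfl⟩ := exists_vec v
    rw [iota_vec, x4, pi_mk, zero_eq_vec]
    refine vec_congr ?_ ?_ ?_ ?_ ?_ ?_ ?_
    · ring
    · ring
    · ring
    · ring
    · ring
    · ring
    · ring
  · intro w v
    obtain ⟨a0, a1, b0, b1, b2, b3, b4, b5, b6, b7, b8, b9, b10, b11, rfl⟩ := exists_mk w
    obtain ⟨v1, v2, v3, v4, v5, v6, v7, rfl⟩ := exists_vec v
    rw [br_mk, aI_x4, x4, aI_x4, br_mk]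
    refine vec_congr ?_ ?_ ?_ ?_ ?_ ?_ ?_
    · linear_combination (-b10*t^2*v3) * h3
    · linear_combination (-b10*t^3*v3 + a0*t*v1 - b9*t*v4) * h3
    · ring
    · linear_combination (b3*t*v1 - b9*t*v6) * h3
    · linear_combination (a0*t^2*v3 + a1*t^2*v3 - b7*t^2*v4) * h3
    · linear_combination (-b5*t^2*v3) * h3
    · linear_combination (b5*t^3*v3 - a0*t*v6 + b3*t*v4) * h3
  · intro v
    obtain ⟨v1, v2, v3, v4, v5, v6, v7, rfl⟩ := exists_vec v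
    rw [aI_x4, qf_vec, qf_vec]
    linear_combination (-t*v3*v4) * h3
  · intro u v h
    obtain ⟨u1, u2, u3, u4, u5, u6, u7, rfl⟩ := exists_vec u
    obtain ⟨v1, v2, v3, v4, v5, v6, v7, rfl⟩ := exists_vec v
    rw [iota_vec, br_mk, zero_eq_vec] at h
    obtain ⟨k1, k2, k3, k4, k5, k6, k7⟩ := vec_inj h
    rw [aI_x4, aI_x4, pk_vec, pk_vec, cQ_x4]
    refine vec_congr ?_ ?_ ?_ ?_ ?_ ?_ ?_
    · ring
    · ring
    · linear_combination (-t^2) * k1 + (t) * k2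
    · linear_combination (t) * k3
    · ring
    · linear_combination (t^2) * k6 + (t) * k7
    · ring

theorem aI_x5 (t v1 v2 v3 v4 v5 v6 v7 : K) : aI (chevG2.x K 5 t) ![v1, v2, v3, v4, v5, v6, v7] = ![v1, v2, t*v2 + v3, v4, v5, -t*v5 + v6, v7] := by
  rw [aI, iota_vec, x5, rho_mk]
  refine vec_congr ?_ ?_ ?_ ?_ ?_ ?_ ?_
  all_goals ring

theorem cQ_x5 (t v1 v2 v3 v4 v5 v6 v7 : K) : cQ (chevG2.x K 5 t) ![v1, v2, v3, v4, v5, v6, v7] = ![v1, t*v1 + v2, v3, -t*v3 + v4, -t^2*v3 - t*v4 + v5, v6, -t*v6 + v7] := by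
  rw [cQ, sec_vec, x5, pi_mk]
  refine vec_congr ?_ ?_ ?_ ?_ ?_ ?_ ?_
  all_goals ring

theorem good5 (t : K) : Good (chevG2.x K 5 t) := by
  have h3 : (3 : K) = 0 := three_eq_zero
  constructor
  · intro v
    obtain ⟨v1, v2, v3, v4, v5, v6, v7, rfl⟩ := exists_vec v
    rw [iota_vec, x5, pi_mk, zero_eq_vec]
    refine vec_congr ?_ ?_ ?_ ?_ ?_ ?_ ?_
    · ring
    · ring
    · ring
    · ring
    · ring
    · ring
    · ring
  · intro w v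
    obtain ⟨a0, a1, b0, b1, b2, b3, b4, b5, b6, b7, b8, b9, b10, b11, rfl⟩ := exists_mk w
    obtain ⟨v1, v2, v3, v4, v5, v6, v7, rfl⟩ := exists_vec v
    rw [br_mk, aI_x5, x5, aI_x5, br_mk]
    refine vec_congr ?_ ?_ ?_ ?_ ?_ ?_ ?_
    · ring
    · ring
    · linear_combination (a1*t*v2) * h3
    · ring
    · ring
    · linear_combination (-a1*t*v5) * h3
    · ring
  · intro v
    obtain ⟨v1, v2, v3, v4, v5, v6, v7, rfl⟩ := exists_vec v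
    rw [aI_x5, qf_vec, qf_vec]
    ring
  · intro u v h
    obtain ⟨u1, u2, u3, u4, u5, u6, u7, rfl⟩ := exists_vec u
    obtain ⟨v1, v2, v3, v4, v5, v6, v7, rfl⟩ := exists_vec v
    rw [iota_vec, br_mk, zero_eq_vec] at h
    obtain ⟨k1, k2, k3, k4, k5, k6, k7⟩ := vec_inj h
    rw [aI_x5, aI_x5, pk_vec, pk_vec, cQ_x5]
    refine vec_congr ?_ ?_ ?_ ?_ ?_ ?_ ?_
    · ring
    · ring
    · ring
    · linear_combination (-t*u2*v5 + t*u5*v2) * h3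
    · ring
    · ring
    · ring

theorem aI_x6 (t v1 v2 v3 v4 v5 v6 v7 : K) : aI (chevG2.x K 6 t) ![v1, v2, v3, v4, v5, v6, v7] = ![v1, t*v3 + v2, v3, v4, -t*v6 + v5, v6, v7] := by
  rw [aI, iota_vec, x6, rho_mk]
  refine vec_congr ?_ ?_ ?_ ?_ ?_ ?_ ?_
  all_goals ring

theorem cQ_x6 (t v1 v2 v3 v4 v5 v6 v7 : K) : cQ (chevG2.x K 6 t) ![v1, v2, v3, v4, v5, v6, v7] = ![t*v2 + v1, v2, -t^2*v5 + t*v4 + v3, t*v5 + v4, v5, -t*v7 + v6, v7] := by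
  rw [cQ, sec_vec, x6, pi_mk]
  refine vec_congr ?_ ?_ ?_ ?_ ?_ ?_ ?_
  all_goals ring

theorem good6 (t : K) : Good (chevG2.x K 6 t) := by
  have h3 : (3 : K) = 0 := three_eq_zero
  constructor
  · intro v
    obtain ⟨v1, v2, v3, v4, v5, v6, v7, rfl⟩ := exists_vec v
    rw [iota_vec, x6, pi_mk, zero_eq_vec]
    refine vec_congr ?_ ?_ ?_ ?_ ?_ ?_ ?_
    · ring
    · ring
    · ring
    · ring
    · ring
    · ring
    · ring
  · intro w v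
    obtain ⟨a0, a1, b0, b1, b2, b3, b4, b5, b6, b7, b8, b9, b10, b11, rfl⟩ := exists_mk w
    obtain ⟨v1, v2, v3, v4, v5, v6, v7, rfl⟩ := exists_vec v
    rw [br_mk, aI_x6, x6, aI_x6, br_mk]
    refine vec_congr ?_ ?_ ?_ ?_ ?_ ?_ ?_
    · ring
    · linear_combination (-a1*t*v3) * h3
    · ring
    · ring
    · linear_combination (a1*t*v6) * h3
    · ring
    · ring
  · intro v
    obtain ⟨v1, v2, v3, v4, v5, v6, v7, rfl⟩ := exists_vec v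
    rw [aI_x6, qf_vec, qf_vec]
    ring
  · intro u v h
    obtain ⟨u1, u2, u3, u4, u5, u6, u7, rfl⟩ := exists_vec u
    obtain ⟨v1, v2, v3, v4, v5, v6, v7, rfl⟩ := exists_vec v
    rw [iota_vec, br_mk, zero_eq_vec] at h
    obtain ⟨k1, k2, k3, k4, k5, k6, k7⟩ := vec_inj h
    rw [aI_x6, aI_x6, pk_vec, pk_vec, cQ_x6]
    refine vec_congr ?_ ?_ ?_ ?_ ?_ ?_ ?_
    · ring
    · ring
    · ring
    · linear_combination (t*u3*v6 - t*u6*v3) * h3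
    · ring
    · ring
    · ring

theorem aI_x7 (t v1 v2 v3 v4 v5 v6 v7 : K) : aI (chevG2.x K 7 t) ![v1, v2, v3, v4, v5, v6, v7] = ![t*v2 + v1, v2, -t^2*v5 + t*v4 + v3, t*v5 + v4, v5, -t*v7 + v6, v7] := by
  rw [aI, iota_vec, x7, rho_mk]
  refine vec_congr ?_ ?_ ?_ ?_ ?_ ?_ ?_
  all_goals ring

theorem cQ_x7 (t v1 v2 v3 v4 v5 v6 v7 : K) : cQ (chevG2.x K 7 t) ![v1, v2, v3, v4, v5, v6, v7] = ![v1, t^3*v3 + v2, v3, v4, -t^3*v6 + v5, v6, v7] := by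
  rw [cQ, sec_vec, x7, pi_mk]
  refine vec_congr ?_ ?_ ?_ ?_ ?_ ?_ ?_
  all_goals ring

theorem good7 (t : K) : Good (chevG2.x K 7 t) := by
  have h3 : (3 : K) = 0 := three_eq_zero
  constructor
  · intro v
    obtain ⟨v1, v2, v3, v4, v5, v6, v7, rfl⟩ := exists_vec v
    rw [iota_vec, x7, pi_mk, zero_eq_vec]
    refine vec_congr ?_ ?_ ?_ ?_ ?_ ?_ ?_
    · ring
    · ring
    · ring
    · ring
    · ring
    · ring
    · ring
  · intro w v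
    obtain ⟨a0, a1, b0, b1, b2, b3, b4, b5, b6, b7, b8, b9, b10, b11, rfl⟩ := exists_mk w
    obtain ⟨v1, v2, v3, v4, v5, v6, v7, rfl⟩ := exists_vec v
    rw [br_mk, aI_x7, x7, aI_x7, br_mk]
    refine vec_congr ?_ ?_ ?_ ?_ ?_ ?_ ?_
    · linear_combination (b6*t^3*v5 - a0*t*v2 + b8*t*v4) * h3
    · linear_combination (b6*t^2*v5) * h3
    · linear_combination (-a0*t^2*v5 - a1*t^2*v5 + b4*t^2*v4) * h3
    · linear_combination (-b2*t*v2 + b8*t*v7) * h3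
    · ring
    · linear_combination (-b1*t^3*v5 + a0*t*v7 - b2*t*v4) * h3
    · linear_combination (b1*t^2*v5) * h3
  · intro v
    obtain ⟨v1, v2, v3, v4, v5, v6, v7, rfl⟩ := exists_vec v
    rw [aI_x7, qf_vec, qf_vec]
    linear_combination (t*v4*v5) * h3
  · intro u v h
    obtain ⟨u1, u2, u3, u4, u5, u6, u7, rfl⟩ := exists_vec u
    obtain ⟨v1, v2, v3, v4, v5, v6, v7, rfl⟩ := exists_vec v
    rw [iota_vec, br_mk, zero_eq_vec] at h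
    obtain ⟨k1, k2, k3, k4, k5, k6, k7⟩ := vec_inj h
    rw [aI_x7, aI_x7, pk_vec, pk_vec, cQ_x7]
    refine vec_congr ?_ ?_ ?_ ?_ ?_ ?_ ?_
    · ring
    · linear_combination (-t) * k1 + (t^2) * k2
    · ring
    · linear_combination (-t) * k5
    · linear_combination (-t) * k6 + (-t^2) * k7
    · ring
    · ring

theorem aI_x8 (t v1 v2 v3 v4 v5 v6 v7 : K) : aI (chevG2.x K 8 t) ![v1, v2, v3, v4, v5, v6, v7] = ![-t*v3 + v1, -t^2*v6 + t*v4 + v2, v3, t*v6 + v4, t*v7 + v5, v6, v7] := by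
  rw [aI, iota_vec, x8, rho_mk]
  refine vec_congr ?_ ?_ ?_ ?_ ?_ ?_ ?_
  all_goals ring

theorem cQ_x8 (t v1 v2 v3 v4 v5 v6 v7 : K) : cQ (chevG2.x K 8 t) ![v1, v2, v3, v4, v5, v6, v7] = ![-t^3*v5 + v1, v2, t^3*v7 + v3, v4, v5, v6, v7] := by
  rw [cQ, sec_vec, x8, pi_mk]
  refine vec_congr ?_ ?_ ?_ ?_ ?_ ?_ ?_
  all_goals ring

theorem good8 (t : K) : Good (chevG2.x K 8 t) := by
  have h3 : (3 : K) = 0 := three_eq_zero
  constructor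
  · intro v
    obtain ⟨v1, v2, v3, v4, v5, v6, v7, rfl⟩ := exists_vec v
    rw [iota_vec, x8, pi_mk, zero_eq_vec]
    refine vec_congr ?_ ?_ ?_ ?_ ?_ ?_ ?_
    · ring
    · ring
    · ring
    · ring
    · ring
    · ring
    · ring
  · intro w v
    obtain ⟨a0, a1, b0, b1, b2, b3, b4, b5, b6, b7, b8, b9, b10, b11, rfl⟩ := exists_mk w
    obtain ⟨v1, v2, v3, v4, v5, v6, v7, rfl⟩ := exists_vec v
    rw [br_mk, aI_x8, x8, aI_x8, br_mk]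
    refine vec_congr ?_ ?_ ?_ ?_ ?_ ?_ ?_
    · linear_combination (-b5*t^3*v6 + a0*t*v3 - b7*t*v4) * h3
    · linear_combination (-a0*t^2*v6 + a1*t^2*v6 + b3*t^2*v4) * h3
    · linear_combination (b5*t^2*v6) * h3
    · linear_combination (b2*t*v3 - b7*t*v7) * h3
    · linear_combination (b0*t^3*v6 - a0*t*v7 + b2*t*v4) * h3
    · ring
    · linear_combination (b0*t^2*v6) * h3
  · intro v
    obtain ⟨v1, v2, v3, v4, v5, v6, v7, rfl⟩ := exists_vec v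
    rw [aI_x8, qf_vec, qf_vec]
    linear_combination (t*v4*v6) * h3
  · intro u v h
    obtain ⟨u1, u2, u3, u4, u5, u6, u7, rfl⟩ := exists_vec u
    obtain ⟨v1, v2, v3, v4, v5, v6, v7, rfl⟩ := exists_vec v
    rw [iota_vec, br_mk, zero_eq_vec] at h
    obtain ⟨k1, k2, k3, k4, k5, k6, k7⟩ := vec_inj h
    rw [aI_x8, aI_x8, pk_vec, pk_vec, cQ_x8]
    refine vec_congr ?_ ?_ ?_ ?_ ?_ ?_ ?_
    · linear_combination (-t) * k1 + (-t^2) * k3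
    · ring
    · linear_combination (-t) * k5 + (t^2) * k7
    · linear_combination (t) * k6
    · ring
    · ring
    · ring

theorem aI_x9 (t v1 v2 v3 v4 v5 v6 v7 : K) : aI (chevG2.x K 9 t) ![v1, v2, v3, v4, v5, v6, v7] = ![-t^2*v7 - t*v4 + v1, -t*v5 + v2, t*v6 + v3, -t*v7 + v4, v5, v6, v7] := by
  rw [aI, iota_vec, x9, rho_mk]
  refine vec_congr ?_ ?_ ?_ ?_ ?_ ?_ ?_
  all_goals ring

theorem cQ_x9 (t v1 v2 v3 v4 v5 v6 v7 : K) : cQ (chevG2.x K 9 t) ![v1, v2, v3, v4, v5, v6, v7] = ![-t^3*v6 + v1, t^3*v7 + v2, v3, v4, v5, v6, v7] := by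
  rw [cQ, sec_vec, x9, pi_mk]
  refine vec_congr ?_ ?_ ?_ ?_ ?_ ?_ ?_
  all_goals ring

theorem good9 (t : K) : Good (chevG2.x K 9 t) := by
  have h3 : (3 : K) = 0 := three_eq_zero
  constructor
  · intro v
    obtain ⟨v1, v2, v3, v4, v5, v6, v7, rfl⟩ := exists_vec v
    rw [iota_vec, x9, pi_mk, zero_eq_vec]
    refine vec_congr ?_ ?_ ?_ ?_ ?_ ?_ ?_
    · ring
    · ring
    · ring
    · ring
    · ring
    · ring
    · ring
  · intro w v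
    obtain ⟨a0, a1, b0, b1, b2, b3, b4, b5, b6, b7, b8, b9, b10, b11, rfl⟩ := exists_mk w
    obtain ⟨v1, v2, v3, v4, v5, v6, v7, rfl⟩ := exists_vec v
    rw [br_mk, aI_x9, x9, aI_x9, br_mk]
    refine vec_congr ?_ ?_ ?_ ?_ ?_ ?_ ?_
    · linear_combination (a0*t^2*v7 - b2*t^2*v4) * h3
    · linear_combination (b1*t^3*v7 - a0*t*v5 + b4*t*v4) * h3
    · linear_combination (-b0*t^3*v7 + a0*t*v6 - b3*t*v4) * h3
    · linear_combination (-b3*t*v5 + b4*t*v6) * h3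
    · linear_combination (-b1*t^2*v7) * h3
    · linear_combination (-b0*t^2*v7) * h3
    · ring
  · intro v
    obtain ⟨v1, v2, v3, v4, v5, v6, v7, rfl⟩ := exists_vec v
    rw [aI_x9, qf_vec, qf_vec]
    linear_combination (-t*v4*v7) * h3
  · intro u v h
    obtain ⟨u1, u2, u3, u4, u5, u6, u7, rfl⟩ := exists_vec u
    obtain ⟨v1, v2, v3, v4, v5, v6, v7, rfl⟩ := exists_vec v
    rw [iota_vec, br_mk, zero_eq_vec] at h
    obtain ⟨k1, k2, k3, k4, k5, k6, k7⟩ := vec_inj h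
    rw [aI_x9, aI_x9, pk_vec, pk_vec, cQ_x9]
    refine vec_congr ?_ ?_ ?_ ?_ ?_ ?_ ?_
    · linear_combination (t) * k2 + (t^2) * k5
    · linear_combination (t) * k3 + (-t^2) * k6
    · ring
    · ring
    · ring
    · ring
    · ring

theorem aI_x10 (t v1 v2 v3 v4 v5 v6 v7 : K) : aI (chevG2.x K 10 t) ![v1, v2, v3, v4, v5, v6, v7] = ![-t*v5 + v1, v2, t*v7 + v3, v4, v5, v6, v7] := by
  rw [aI, iota_vec, x10, rho_mk]
  refine vec_congr ?_ ?_ ?_ ?_ ?_ ?_ ?_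
  all_goals ring

theorem cQ_x10 (t v1 v2 v3 v4 v5 v6 v7 : K) : cQ (chevG2.x K 10 t) ![v1, v2, v3, v4, v5, v6, v7] = ![-t*v3 + v1, -t^2*v6 + t*v4 + v2, v3, t*v6 + v4, t*v7 + v5, v6, v7] := by
  rw [cQ, sec_vec, x10, pi_mk]
  refine vec_congr ?_ ?_ ?_ ?_ ?_ ?_ ?_
  all_goals ring

theorem good10 (t : K) : Good (chevG2.x K 10 t) := by
  have h3 : (3 : K) = 0 := three_eq_zero
  constructor
  · intro v
    obtain ⟨v1, v2, v3, v4, v5, v6, v7, rfl⟩ := exists_vec v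
    rw [iota_vec, x10, pi_mk, zero_eq_vec]
    refine vec_congr ?_ ?_ ?_ ?_ ?_ ?_ ?_
    · ring
    · ring
    · ring
    · ring
    · ring
    · ring
    · ring
  · intro w v
    obtain ⟨a0, a1, b0, b1, b2, b3, b4, b5, b6, b7, b8, b9, b10, b11, rfl⟩ := exists_mk w
    obtain ⟨v1, v2, v3, v4, v5, v6, v7, rfl⟩ := exists_vec v
    rw [br_mk, aI_x10, x10, aI_x10, br_mk]
    refine vec_congr ?_ ?_ ?_ ?_ ?_ ?_ ?_
    · ring
    · ring
    · linear_combination (b1*t^2*v7 + b1*t*v3) * h3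
    · ring
    · linear_combination (-b1*t*v5) * h3
    · ring
    · ring
  · intro v
    obtain ⟨v1, v2, v3, v4, v5, v6, v7, rfl⟩ := exists_vec v
    rw [aI_x10, qf_vec, qf_vec]
    ring
  · intro u v h
    obtain ⟨u1, u2, u3, u4, u5, u6, u7, rfl⟩ := exists_vec u
    obtain ⟨v1, v2, v3, v4, v5, v6, v7, rfl⟩ := exists_vec v
    rw [iota_vec, br_mk, zero_eq_vec] at h
    obtain ⟨k1, k2, k3, k4, k5, k6, k7⟩ := vec_inj h
    rw [aI_x10, aI_x10, pk_vec, pk_vec, cQ_x10]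
    refine vec_congr ?_ ?_ ?_ ?_ ?_ ?_ ?_
    · ring
    · linear_combination (-t) * k4 + (t*u3*v5 - t*u5*v3) * h3
    · ring
    · ring
    · ring
    · ring
    · ring

theorem aI_x11 (t v1 v2 v3 v4 v5 v6 v7 : K) : aI (chevG2.x K 11 t) ![v1, v2, v3, v4, v5, v6, v7] = ![-t*v6 + v1, t*v7 + v2, v3, v4, v5, v6, v7] := by
  rw [aI, iota_vec, x11, rho_mk]
  refine vec_congr ?_ ?_ ?_ ?_ ?_ ?_ ?_
  all_goals ring

theorem cQ_x11 (t v1 v2 v3 v4 v5 v6 v7 : K) : cQ (chevG2.x K 11 t) ![v1, v2, v3, v4, v5, v6, v7] = ![-t^2*v7 - t*v4 + v1, -t*v5 + v2, t*v6 + v3, -t*v7 + v4, v5, v6, v7] := by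
  rw [cQ, sec_vec, x11, pi_mk]
  refine vec_congr ?_ ?_ ?_ ?_ ?_ ?_ ?_
  all_goals ring

theorem good11 (t : K) : Good (chevG2.x K 11 t) := by
  have h3 : (3 : K) = 0 := three_eq_zero
  constructor
  · intro v
    obtain ⟨v1, v2, v3, v4, v5, v6, v7, rfl⟩ := exists_vec v
    rw [iota_vec, x11, pi_mk, zero_eq_vec]
    refine vec_congr ?_ ?_ ?_ ?_ ?_ ?_ ?_
    · ring
    · ring
    · ring
    · ring
    · ring
    · ring
    · ring
  · intro w v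
    obtain ⟨a0, a1, b0, b1, b2, b3, b4, b5, b6, b7, b8, b9, b10, b11, rfl⟩ := exists_mk w
    obtain ⟨v1, v2, v3, v4, v5, v6, v7, rfl⟩ := exists_vec v
    rw [br_mk, aI_x11, x11, aI_x11, br_mk]
    refine vec_congr ?_ ?_ ?_ ?_ ?_ ?_ ?_
    · ring
    · linear_combination (b0*t^2*v7 + b0*t*v2) * h3
    · ring
    · ring
    · ring
    · linear_combination (-b0*t*v6) * h3
    · ring
  · intro v
    obtain ⟨v1, v2, v3, v4, v5, v6, v7, rfl⟩ := exists_vec v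
    rw [aI_x11, qf_vec, qf_vec]
    ring
  · intro u v h
    obtain ⟨u1, u2, u3, u4, u5, u6, u7, rfl⟩ := exists_vec u
    obtain ⟨v1, v2, v3, v4, v5, v6, v7, rfl⟩ := exists_vec v
    rw [iota_vec, br_mk, zero_eq_vec] at h
    obtain ⟨k1, k2, k3, k4, k5, k6, k7⟩ := vec_inj h
    rw [aI_x11, aI_x11, pk_vec, pk_vec, cQ_x11]
    refine vec_congr ?_ ?_ ?_ ?_ ?_ ?_ ?_
    · linear_combination (-t) * k4 + (t*u2*v6 - t*u6*v2) * h3
    · ring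
    · ring
    · ring
    · ring
    · ring
    · ring

end Cfsg.Agent.LieRecognition.ReeEq
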