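import Cfsg.Agent.LieRecognition.ReeAbs

/-!
# All involutions of a small Ree group are conjugate (abstract form)

Besides the Bruhat normal form data we use two relations of `²G₂(3)`.
-/

set_option autoImplicit false

namespace Cfsg.Agent.LieRecognition.ReeInvolConj

open Cfsg.Agent.LieRecognition.ReeAbs

variable {K : Type*} [Field K] [Fintype K] {m : ℕ} {G : Type*} [Group G] {U : K → K → K → G}
  {h : Kˣ → G} {n : G}

/-- elements of the standard elementary abelian subgroup `⟨h (-1), n, n^U⟩` -/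
theorem mem_klein (D : Data m U h n) (h3 : (3 : K) = 0) (x : G)
    (hx : x ∈ Subgroup.closure ({h (-1), n, U 0 1 0 * n * U 0 (-1) 0} : Set G)) :
    x = 1 ∨ x = h (-1) ∨ x = n ∨ x = h (-1) * n ∨ x = U 0 1 0 * n * U 0 (-1) 0 ∨
      x = h (-1) * (U 0 1 0 * n * U 0 (-1) 0) ∨ x = n * (U 0 1 0 * n * U 0 (-1) 0) ∨
      x = h (-1) * (n * (U 0 1 0 * n * U 0 (-1) 0)) := by
  set a := h (-1) with ha
  set Y := U 0 1 0 * n * U 0 (-1) 0 with hY
  have haa : a * a = 1 := D.inv_sq
  have hnn : n * n = 1 := D.n_n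
  have hYY : Y * Y = 1 := by
    rw [hY, D.U_neg]
    calc U 0 1 0 * n * (U 0 1 0)⁻¹ * (U 0 1 0 * n * (U 0 1 0)⁻¹)
        = U 0 1 0 * (n * n) * (U 0 1 0)⁻¹ := by simp only [mul_assoc, inv_mul_cancel_left]
      _ = 1 := by rw [hnn, mul_one, mul_inv_cancel]
  have han : a * n = n * a := D.inv_mul_n
  have haU : ∀ s, a * U 0 s 0 = U 0 s 0 * a := by
    intro s
    rw [ha, D.inv_mul_U, neg_zero]
  have haY : a * Y = Y * a := by
    calc a * Y = (a * U 0 1 0) * n * U 0 (-1) 0 := by rw [hY]; simp only [mul_assoc]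
      _ = U 0 1 0 * (a * n) * U 0 (-1) 0 := by rw [haU]; simp only [mul_assoc]
      _ = U 0 1 0 * n * (a * U 0 (-1) 0) := by rw [han]; simp only [mul_assoc]
      _ = Y * a := by rw [haU, hY]; simp only [mul_assoc]
  have hnY : n * Y = Y * n := D.n_comm_conj h3
  have hna : n * a = a * n := han.symm
  have hYa : Y * a = a * Y := haY.symm
  have hYn : Y * n = n * Y := hnY.symm
  have key : ∀ y : G, (y = 1 ∨ y = a ∨ y = n ∨ y = a * n ∨ y = Y ∨ y = a * Y ∨ y = n * Y ∨
      y = a * (n * Y)) → ∀ z : G, (z = a ∨ z = n ∨ z = Y) →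
      (z * y = 1 ∨ z * y = a ∨ z * y = n ∨ z * y = a * n ∨ z * y = Y ∨ z * y = a * Y ∨
        z * y = n * Y ∨ z * y = a * (n * Y)) := by
    have haa' : ∀ w, a * (a * w) = w := fun w => by rw [← mul_assoc, haa, one_mul]
    have hnn' : ∀ w, n * (n * w) = w := fun w => by rw [← mul_assoc, hnn, one_mul]
    have hYY' : ∀ w, Y * (Y * w) = w := fun w => by rw [← mul_assoc, hYY, one_mul]
    have hna' : ∀ w, n * (a * w) = a * (n * w) := fun w => by rw [← mul_assoc, hna, mul_assoc]
    have hYa' : ∀ w, Y * (a * w) = a * (Y * w) := fun w => by rw [← mul_assoc, hYa, mul_assoc]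
    have hYn' : ∀ w, Y * (n * w) = n * (Y * w) := fun w => by rw [← mul_assoc, hYn, mul_assoc]
    intro y hy z hz
    rcases hz with rfl | rfl | rfl <;> rcases hy with rfl | rfl | rfl | rfl | rfl | rfl | rfl | rfl <;>
      simp only [mul_one, haa, hnn, hYY, haa', hnn', hYY', hna, hna', hYa, hYa', hYn, hYn', true_or,
        or_true]
  induction hx using Subgroup.closure_induction_left with
  | one => exact Or.inl rfl
  | mul_left z hz y hy ih =>
    exact key y ih z (by simpa using hz)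
  | inv_mul_cancel z hz y hy ih =>
    have hz' : z = a ∨ z = n ∨ z = Y := by simpa using hz
    have hzi : z⁻¹ = z := by
      rcases hz' with rfl | rfl | rfl
      · exact inv_eq_of_mul_eq_one_left haa
      · exact inv_eq_of_mul_eq_one_left hnn
      · exact inv_eq_of_mul_eq_one_left hYY
    rw [hzi]
    exact key y ih z hz'

/-- the standard elementary abelian subgroup is a Sylow 2-subgroup -/
theorem exists_sylow [Finite G] (D : Data m U h n) (hK : Fintype.card K = 3 ^ (2 * m + 1))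
    (hcard : Nat.card G = (3 ^ (2 * m + 1)) ^ 3 * (3 ^ (2 * m + 1) - 1) * ((3 ^ (2 * m + 1)) ^ 3 + 1)) :
    ∃ S₀ : Sylow 2 G, (S₀ : Subgroup G) =
      Subgroup.closure ({h (-1), n, U 0 1 0 * n * U 0 (-1) 0} : Set G) := by
  have hS : ∀ S : Sylow 2 G, Nat.card S = 8 := fun S => (D.sylow_two hK hcard S).1
  have hchar := charP_three hK
  have h3 : (3 : K) = 0 := by
    have := CharP.cast_eq_zero K 3
    simpa using this
  set a := h (-1) with ha
  set Y := U 0 1 0 * n * U 0 (-1) 0 with hY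
  have haa : a * a = 1 := D.inv_sq
  have hnn : n * n = 1 := D.n_n
  have hYY : Y * Y = 1 := by
    rw [hY, D.U_neg]
    calc U 0 1 0 * n * (U 0 1 0)⁻¹ * (U 0 1 0 * n * (U 0 1 0)⁻¹)
        = U 0 1 0 * (n * n) * (U 0 1 0)⁻¹ := by simp only [mul_assoc, inv_mul_cancel_left]
      _ = 1 := by rw [hnn, mul_one, mul_inv_cancel]
  have han : a * n = n * a := D.inv_mul_n
  have haU : ∀ s, a * U 0 s 0 = U 0 s 0 * a := by
    intro s
    rw [ha, D.inv_mul_U, neg_zero]
  have haY : a * Y = Y * a := by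
    calc a * Y = (a * U 0 1 0) * n * U 0 (-1) 0 := by rw [hY]; simp only [mul_assoc]
      _ = U 0 1 0 * (a * n) * U 0 (-1) 0 := by rw [haU]; simp only [mul_assoc]
      _ = U 0 1 0 * n * (a * U 0 (-1) 0) := by rw [han]; simp only [mul_assoc]
      _ = Y * a := by rw [haU, hY]; simp only [mul_assoc]
  have hnY : n * Y = Y * n := D.n_comm_conj h3
  set E : Subgroup G := Subgroup.closure {a, n, Y} with hE
  have hEc : E ≤ Subgroup.centralizer (E : Set G) := by
    rw [hE, Subgroup.centralizer_closure, Subgroup.closure_le]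
    intro x hx
    rw [SetLike.mem_coe, Subgroup.mem_centralizer_iff]
    intro y hy
    simp only [Set.mem_insert_iff, Set.mem_singleton_iff] at hx hy
    rcases hx with rfl | rfl | rfl <;> rcases hy with rfl | rfl | rfl <;>
      first | rfl | exact han | exact han.symm | exact haY | exact haY.symm | exact hnY | exact hnY.symm
  have hEcomm : ∀ x ∈ E, ∀ y ∈ E, y * x = x * y := by
    intro x hx y hy
    exact (Subgroup.mem_centralizer_iff.mp (hEc hx)) y hy
  have hE2 : ∀ x ∈ E, x * x = 1 := by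
    intro x hx
    rw [hE] at hx
    induction hx using Subgroup.closure_induction with
    | mem x hx =>
      simp only [Set.mem_insert_iff, Set.mem_singleton_iff] at hx
      rcases hx with rfl | rfl | rfl
      · exact haa
      · exact hnn
      · exact hYY
    | one => exact mul_one 1
    | mul x y hx hy ihx ihy =>
      rw [mul_assoc, ← mul_assoc y, hEcomm x hx y hy, mul_assoc x y y, ihy, mul_one, ihx]
    | inv x hx ih =>
      rw [← mul_inv_rev, ih, inv_one]
  have hEp : IsPGroup 2 E := by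
    intro x
    refine ⟨1, ?_⟩
    rw [pow_one, pow_two]
    exact Subtype.ext (hE2 x x.2)
  obtain ⟨S₀, hS₀⟩ := hEp.exists_le_sylow
  have hcE : 5 ≤ Nat.card E := by
    have n1 : (1 : G) = U 0 0 0 * h 1 := by rw [D.U_zero, D.h_one, one_mul]
    have n2 : a = U 0 0 0 * h (-1) := by rw [D.U_zero, one_mul]
    have n3 : n = U 0 0 0 * h 1 * n * U 0 0 0 := by simp [D.U_zero, D.h_one]
    have n4 : a * n = U 0 0 0 * h (-1) * n * U 0 0 0 := by simp [D.U_zero, ha]
    have n5 : Y = U 0 1 0 * h 1 * n * U 0 (-1) 0 := by rw [D.h_one, mul_one]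
    have d12 : a ≠ 1 := D.inv_ne_one hK
    have d13 : n ≠ 1 := D.n_ne_one
    have d23 : n ≠ a := by
      intro he
      rw [n3, n2] at he
      exact D.ne _ _ _ _ _ _ _ _ _ _ _ he.symm
    have d14 : a * n ≠ 1 := by
      intro he
      rw [n4, n1] at he
      exact D.ne _ _ _ _ _ _ _ _ _ _ _ he.symm
    have d24 : a * n ≠ a := by
      intro he
      exact d13 (mul_eq_left.mp he)
    have d34 : a * n ≠ n := by
      intro he
      exact d12 (mul_eq_right.mp he)
    have d15 : Y ≠ 1 := by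
      intro he
      rw [n5, n1] at he
      exact D.ne _ _ _ _ _ _ _ _ _ _ _ he.symm
    have d25 : Y ≠ a := by
      intro he
      rw [n5, n2] at he
      exact D.ne _ _ _ _ _ _ _ _ _ _ _ he.symm
    have d35 : Y ≠ n := by
      intro he
      have he' := n5.symm.trans (he.trans n3)
      have := (D.inj₂ _ _ _ _ _ _ _ _ _ _ _ _ _ _ he').2.1
      exact one_ne_zero this
    have d45 : Y ≠ a * n := by
      intro he
      rw [n5, n4] at he
      have := (D.inj₂ _ _ _ _ _ _ _ _ _ _ _ _ _ _ he).2.1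
      exact one_ne_zero this
    have hsub : ({Y, a * n, n, a, 1} : Set G) ⊆ (E : Set G) := by
      have m1 : a ∈ E := Subgroup.subset_closure (by simp)
      have m2 : n ∈ E := Subgroup.subset_closure (by simp)
      have m3 : Y ∈ E := Subgroup.subset_closure (by simp)
      intro x hx
      simp only [Set.mem_insert_iff, Set.mem_singleton_iff] at hx
      rcases hx with rfl | rfl | rfl | rfl | rfl
      · exact m3
      · exact E.mul_mem m1 m2
      · exact m2
      · exact m1
      · exact E.one_mem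
    have hcard5 : ({Y, a * n, n, a, 1} : Set G).ncard = 5 := by
      rw [Set.ncard_insert_of_notMem (by simp [d15, d25, d35, d45]),
        Set.ncard_insert_of_notMem (by
          simp only [Set.mem_insert_iff, Set.mem_singleton_iff, not_or]
          exact ⟨d34, d24, d14⟩),
        Set.ncard_insert_of_notMem (by
          simp only [Set.mem_insert_iff, Set.mem_singleton_iff, not_or]
          exact ⟨d23, d13⟩),
        Set.ncard_insert_of_notMem (by
          simp only [Set.mem_singleton_iff]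
          exact d12), Set.ncard_singleton]
    rw [← hcard5]
    exact Set.ncard_le_ncard hsub (Set.toFinite _)
  have hcE8 : Nat.card E = 8 := by
    have hd : Nat.card E ∣ 8 := by
      rw [← hS S₀]
      exact Subgroup.card_dvd_of_le hS₀
    have hle := Nat.le_of_dvd (by norm_num) hd
    interval_cases hc : Nat.card E <;> simp_all
  have hES : E = (S₀ : Subgroup G) := by
    apply Subgroup.eq_of_le_of_card_ge hS₀
    rw [hcE8]
    exact (hS S₀).le
  exact ⟨S₀, hES.symm⟩

/-- All involutions are conjugate. -/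
theorem isConj_of_involution [Finite G] (D : Data m U h n) (hK : Fintype.card K = 3 ^ (2 * m + 1))
    (hcard : Nat.card G = (3 ^ (2 * m + 1)) ^ 3 * (3 ^ (2 * m + 1) - 1) * ((3 ^ (2 * m + 1)) ^ 3 + 1))
    (r1 : n * (U 1 0 0)⁻¹ * n * U 1 0 0 * n = U 1 1 1 * h (-1))
    (r2 : n * (U 1 0 (-1))⁻¹ * (n * h (-1)) * U 1 0 (-1) * n = U 0 0 (-1) * h (-1))
    (x : G) (hx : x ≠ 1) (hx2 : x * x = 1) : IsConj (h (-1)) x := by
  have hchar := charP_three hK
  have h3 : (3 : K) = 0 := by
    have := CharP.cast_eq_zero K 3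
    simpa using this
  have hpow : ∀ s : K, s ^ 3 ^ (m + 1) = s ^ 3 ^ (m + 1) := fun _ => rfl
  have hone : (1 : K) ^ 3 ^ (m + 1) = 1 := one_pow _
  have hneg : (-1 : K) ^ 3 ^ (m + 1) = -1 := (odd_three_pow _).neg_one_pow
  have hzero : (0 : K) ^ 3 ^ (m + 1) = 0 := zero_pow (by positivity)
  -- the two elements of `B` are conjugate to the involution
  have c1 : IsConj (h (-1)) (U 1 1 1 * h (-1)) := by
    rw [isConj_iff]
    refine ⟨U (-1) 0 0, ?_⟩
    rw [mul_inv_eq_iff_eq_mul, mul_assoc, D.inv_mul_U, ← mul_assoc, D.U_mul]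
    congr 2
    · linear_combination -h3
    · rw [neg_neg, hone]; ring
    · rw [neg_neg, hone]; ring
  have c2 : IsConj (h (-1)) (U 0 0 (-1) * h (-1)) := by
    rw [isConj_iff]
    refine ⟨U 0 0 1, ?_⟩
    rw [mul_inv_eq_iff_eq_mul, mul_assoc, D.inv_mul_U, ← mul_assoc, D.U_mul]
    congr 2
    · ring
    · simp
    · simp
      linear_combination h3
  have cn : IsConj (h (-1)) n := by
    refine c1.trans ?_
    rw [isConj_iff]
    refine ⟨U 1 0 0 * n, ?_⟩
    rw [← r1, mul_inv_rev, D.n_inv]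
    calc U 1 0 0 * n * (n * (U 1 0 0)⁻¹ * n * U 1 0 0 * n) * (n * (U 1 0 0)⁻¹)
        = U 1 0 0 * (n * n) * (U 1 0 0)⁻¹ * n * U 1 0 0 * (n * n) * (U 1 0 0)⁻¹ := by
          simp only [mul_assoc]
      _ = n := by
          rw [D.n_n, mul_one, mul_one, mul_inv_cancel, one_mul, mul_inv_cancel_right]
  have cjn : IsConj (h (-1)) (n * h (-1)) := by
    refine c2.trans ?_
    rw [isConj_iff]
    refine ⟨U 1 0 (-1) * n, ?_⟩
    rw [← r2, mul_inv_rev, D.n_inv]
    calc U 1 0 (-1) * n * (n * (U 1 0 (-1))⁻¹ * (n * h (-1)) * U 1 0 (-1) * n) * (n * (U 1 0 (-1))⁻¹)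
        = U 1 0 (-1) * (n * n) * (U 1 0 (-1))⁻¹ * (n * h (-1)) * U 1 0 (-1) * (n * n) *
          (U 1 0 (-1))⁻¹ := by
          simp only [mul_assoc]
      _ = n * h (-1) := by
          rw [D.n_n, mul_one, mul_one, mul_inv_cancel, one_mul, mul_inv_cancel_right]
  -- every involution is conjugate into the standard Sylow subgroup
  obtain ⟨S₀, hS₀⟩ := exists_sylow D hK hcard
  have hp : IsPGroup 2 (Subgroup.zpowers x) := by
    rw [IsPGroup.iff_card]
    refine ⟨1, ?_⟩
    rw [Nat.card_zpowers, pow_one]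
    exact orderOf_eq_prime (by rw [pow_two, hx2]) hx
  obtain ⟨S, hS⟩ := hp.exists_le_sylow
  obtain ⟨g, hg⟩ := MulAction.exists_smul_eq G S S₀
  have hxg : g * x * g⁻¹ ∈ (S₀ : Subgroup G) := by
    rw [← hg]
    exact ⟨x, hS (Subgroup.mem_zpowers x), rfl⟩
  rw [hS₀] at hxg
  have hconj : IsConj x (g * x * g⁻¹) := isConj_iff.mpr ⟨g, rfl⟩
  suffices hsuff : IsConj (h (-1)) (g * x * g⁻¹) from hsuff.trans hconj.symm
  have hU : U 0 (-1) 0 = (U 0 1 0)⁻¹ := D.U_neg 1
  have hjU : h (-1) * U 0 1 0 = U 0 1 0 * h (-1) := by rw [D.inv_mul_U, neg_zero]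
  have hjU' : h (-1) * U 0 (-1) 0 = U 0 (-1) 0 * h (-1) := by rw [D.inv_mul_U, neg_zero]
  have e0' : U 0 (-1) 0 * U 0 (-1) 0 = U 0 1 0 := by
    rw [← D.U_add]
    congr 1
    linear_combination -h3
  have hnY : n * (U 0 1 0 * n * U 0 (-1) 0) = U 0 (-1) 0 * n * U 0 1 0 := by
    calc n * (U 0 1 0 * n * U 0 (-1) 0) = (n * U 0 1 0 * n) * U 0 (-1) 0 := by
          simp only [mul_assoc]
      _ = U 0 (-1) 0 * n * (U 0 (-1) 0 * U 0 (-1) 0) := by
          rw [D.n_U]; simp only [mul_assoc]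
      _ = _ := by rw [e0']
  rcases mem_klein D h3 _ hxg with he | he | he | he | he | he | he | he
  · exfalso
    apply hx
    rw [mul_inv_eq_one] at he
    exact mul_eq_left.mp he
  · rw [he]
  · rw [he]; exact cn
  · rw [he, D.inv_mul_n]; exact cjn
  · rw [he, hU]
    exact cn.trans (isConj_iff.mpr ⟨U 0 1 0, rfl⟩)
  · rw [he, ← mul_assoc, ← mul_assoc, hjU, mul_assoc (U 0 1 0), D.inv_mul_n, hU]
    exact cjn.trans (isConj_iff.mpr ⟨U 0 1 0, rfl⟩)
  · rw [he, hnY, hU]
    exact cn.trans (isConj_iff.mpr ⟨(U 0 1 0)⁻¹, by rw [inv_inv]⟩)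
  · rw [he, hnY, ← mul_assoc, ← mul_assoc, hjU', mul_assoc (U 0 (-1) 0), D.inv_mul_n, hU]
    exact cjn.trans (isConj_iff.mpr ⟨(U 0 1 0)⁻¹, by rw [inv_inv]⟩)

end Cfsg.Agent.LieRecognition.ReeInvolConj
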