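import Cfsg.Agent.LieRecognition.ReeWord

set_option autoImplicit false
set_option linter.unusedVariables false
set_option linter.unusedSectionVars false
set_option linter.unusedSimpArgs false

/-!
# The Ree–Tits ovoid

`Rel φ u v` is the relation characterising the points `⟨v⟩` of the Ree–Tits ovoid (`⟨u, v⟩` is the polar line
of `⟨v⟩`), where `φ` is a Tits endomorphism (`φ (φ x) = x ^ 3`) of the field `K` of characteristic 3.
-/

namespace Cfsg.Agent.LieRecognition.ReeOval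

open Cfsg.Lie Cfsg.Agent.LieRecognition.ReeTab Cfsg.Agent.LieRecognition.ReeAct Cfsg.Agent.LieRecognition.ReeEq
open Cfsg.Agent.LieRecognition.ReeWord
open scoped Matrix

variable {K : Type*} [Field K]

/-- Entrywise application of a ring endomorphism. -/
def mp (φ : K →+* K) (v : Fin 7 → K) : Fin 7 → K := fun i => φ (v i)

theorem mp_vec (φ : K →+* K) (v1 v2 v3 v4 v5 v6 v7 : K) :
    mp φ ![v1, v2, v3, v4, v5, v6, v7] = ![φ v1, φ v2, φ v3, φ v4, φ v5, φ v6, φ v7] := by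
  funext i
  fin_cases i <;> rfl

/-- The defining relation of the ovoid. -/
structure Rel (φ : K →+* K) (u v : Fin 7 → K) : Prop where
  hb : br (iota u) v = 0
  hp : pk u v = mp φ v
  hq : qf v = 0
  hq' : qf u = 0

/-- Compatibility of the action on `I` and on `L/I` with `φ`. -/
def Sig (φ : K →+* K) (M : Matrix chevG2.Idx chevG2.Idx K) : Prop := ∀ v, mp φ (aI M v) = cQ M (mp φ v)

theorem sig_one (φ : K →+* K) : Sig φ (1 : Matrix chevG2.Idx chevG2.Idx K) := by
  intro v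
  rw [aI_one, cQ_one]

theorem sig_mul {φ : K →+* K} {M N : Matrix chevG2.Idx chevG2.Idx K} (hM : Good M) (hN : Good N)
    (h1 : Sig φ M) (h2 : Sig φ N) : Sig φ (M * N) := by
  intro v
  rw [aI_mul M hN, cQ_mul hM, h1, h2]

theorem rel_map {φ : K →+* K} {M : Matrix chevG2.Idx chevG2.Idx K} (hM : Good M) (hs : Sig φ M)
    {u v : Fin 7 → K} (h : Rel φ u v) : Rel φ (aI M u) (aI M v) where
  hb := by rw [← mulVec_iota hM, ← hM.hbr, h.hb, aI_zero]
  hp := by rw [hM.hpk u v h.hb, h.hp, hs v]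
  hq := by rw [hM.hqf, h.hq]
  hq' := by rw [hM.hqf, h.hq']

/-- The relation in coordinates. -/
theorem rel_vec {φ : K →+* K} {u1 u2 u3 u4 u5 u6 u7 v1 v2 v3 v4 v5 v6 v7 : K}
    (h : Rel φ ![u1, u2, u3, u4, u5, u6, u7] ![v1, v2, v3, v4, v5, v6, v7]) :
    (u1 * v2 - u2 * v1 = φ v1 ∧ u1 * v3 - u3 * v1 = φ v2 ∧ -(u2 * v5 - u5 * v2) = φ v3 ∧
      (u2 * v6 - u6 * v2) - (u3 * v5 - u5 * v3) = φ v4 ∧ -(u3 * v6 - u6 * v3) = φ v5 ∧
      u5 * v7 - u7 * v5 = φ v6 ∧ u6 * v7 - u7 * v6 = φ v7) ∧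
    (-(u1 * v4) - u2 * v3 + u3 * v2 + u4 * v1 = 0 ∧ -(u1 * v5) + u2 * v4 - u4 * v2 + u5 * v1 = 0 ∧
      u1 * v6 + u3 * v4 - u4 * v3 - u6 * v1 = 0 ∧
      -(u1 * v7) + u2 * v6 + u3 * v5 - u5 * v3 - u6 * v2 + u7 * v1 = 0 ∧
      u2 * v7 + u4 * v5 - u5 * v4 - u7 * v2 = 0 ∧ -(u3 * v7) + u4 * v6 - u6 * v4 + u7 * v3 = 0 ∧
      -(u4 * v7) - u5 * v6 + u6 * v5 + u7 * v4 = 0) ∧
    v1 * v7 + v2 * v6 + v3 * v5 + v4 ^ 2 = 0 ∧ u1 * u7 + u2 * u6 + u3 * u5 + u4 ^ 2 = 0 := by
  obtain ⟨hb, hp, hq, hq'⟩ := h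
  rw [pk_vec, mp_vec] at hp
  rw [iota_vec, br_mk, zero_eq_vec] at hb
  rw [qf_vec] at hq hq'
  obtain ⟨k1, k2, k3, k4, k5, k6, k7⟩ := vec_inj hb
  refine ⟨vec_inj hp, ⟨?_, ?_, ?_, ?_, ?_, ?_, ?_⟩, hq, hq'⟩
  · linear_combination k1
  · linear_combination k2
  · linear_combination k3
  · linear_combination k4
  · linear_combination k5
  · linear_combination k6
  · linear_combination k7

theorem rel_of {φ : K →+* K} {u1 u2 u3 u4 u5 u6 u7 v1 v2 v3 v4 v5 v6 v7 : K}
    (h : (u1 * v2 - u2 * v1 = φ v1 ∧ u1 * v3 - u3 * v1 = φ v2 ∧ -(u2 * v5 - u5 * v2) = φ v3 ∧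
      (u2 * v6 - u6 * v2) - (u3 * v5 - u5 * v3) = φ v4 ∧ -(u3 * v6 - u6 * v3) = φ v5 ∧
      u5 * v7 - u7 * v5 = φ v6 ∧ u6 * v7 - u7 * v6 = φ v7) ∧
    (-(u1 * v4) - u2 * v3 + u3 * v2 + u4 * v1 = 0 ∧ -(u1 * v5) + u2 * v4 - u4 * v2 + u5 * v1 = 0 ∧
      u1 * v6 + u3 * v4 - u4 * v3 - u6 * v1 = 0 ∧
      -(u1 * v7) + u2 * v6 + u3 * v5 - u5 * v3 - u6 * v2 + u7 * v1 = 0 ∧
      u2 * v7 + u4 * v5 - u5 * v4 - u7 * v2 = 0 ∧ -(u3 * v7) + u4 * v6 - u6 * v4 + u7 * v3 = 0 ∧
      -(u4 * v7) - u5 * v6 + u6 * v5 + u7 * v4 = 0) ∧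
    v1 * v7 + v2 * v6 + v3 * v5 + v4 ^ 2 = 0 ∧ u1 * u7 + u2 * u6 + u3 * u5 + u4 ^ 2 = 0) :
    Rel φ ![u1, u2, u3, u4, u5, u6, u7] ![v1, v2, v3, v4, v5, v6, v7] := by
  obtain ⟨⟨e1, e2, e3, e4, e5, e6, e7⟩, ⟨k1, k2, k3, k4, k5, k6, k7⟩, hq, hq'⟩ := h
  constructor
  · rw [iota_vec, br_mk, zero_eq_vec]
    refine vec_congr ?_ ?_ ?_ ?_ ?_ ?_ ?_
    · linear_combination k1
    · linear_combination k2
    · linear_combination k3
    · linear_combination k4
    · linear_combination k5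
    · linear_combination k6
    · linear_combination k7
  · rw [pk_vec, mp_vec]
    exact vec_congr e1 e2 e3 e4 e5 e6 e7
  · rw [qf_vec]; exact hq
  · rw [qf_vec]; exact hq'

/-- Rescaling. -/
theorem rel_smul {φ : K →+* K} {u v : Fin 7 → K} (h : Rel φ u v) (c : K) (hc : c ≠ 0) :
    Rel φ ((φ c / c) • u) (c • v) := by
  obtain ⟨u1, u2, u3, u4, u5, u6, u7, rfl⟩ := exists_vec u
  obtain ⟨v1, v2, v3, v4, v5, v6, v7, rfl⟩ := exists_vec v
  obtain ⟨⟨e1, e2, e3, e4, e5, e6, e7⟩, ⟨k1, k2, k3, k4, k5, k6, k7⟩, hq, hq'⟩ := rel_vec h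
  have hd : φ c / c * c = φ c := div_mul_cancel₀ _ hc
  have h1 : ∀ (a : K) (w1 w2 w3 w4 w5 w6 w7 : K), a • (![w1, w2, w3, w4, w5, w6, w7] : Fin 7 → K) =
      ![a * w1, a * w2, a * w3, a * w4, a * w5, a * w6, a * w7] := by
    intro a w1 w2 w3 w4 w5 w6 w7
    funext i
    fin_cases i <;> rfl
  rw [h1, h1]
  generalize φ c / c = d at hd
  refine rel_of ⟨⟨?_, ?_, ?_, ?_, ?_, ?_, ?_⟩, ⟨?_, ?_, ?_, ?_, ?_, ?_, ?_⟩, ?_, ?_⟩
  · rw [map_mul, ← hd]; linear_combination (d * c) * e1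
  · rw [map_mul, ← hd]; linear_combination (d * c) * e2
  · rw [map_mul, ← hd]; linear_combination (d * c) * e3
  · rw [map_mul, ← hd]; linear_combination (d * c) * e4
  · rw [map_mul, ← hd]; linear_combination (d * c) * e5
  · rw [map_mul, ← hd]; linear_combination (d * c) * e6
  · rw [map_mul, ← hd]; linear_combination (d * c) * e7
  · linear_combination (d * c) * k1
  · linear_combination (d * c) * k2
  · linear_combination (d * c) * k3
  · linear_combination (d * c) * k4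
  · linear_combination (d * c) * k5
  · linear_combination (d * c) * k6
  · linear_combination (d * c) * k7
  · linear_combination c ^ 2 * hq
  · linear_combination d ^ 2 * hq'

/-- Reversal of the coordinates. -/
def rvs (v : Fin 7 → K) : Fin 7 → K := ![v 6, v 5, v 4, v 3, v 2, v 1, v 0]

theorem rvs_vec (v1 v2 v3 v4 v5 v6 v7 : K) :
    rvs ![v1, v2, v3, v4, v5, v6, v7] = ![v7, v6, v5, v4, v3, v2, v1] := rfl

theorem rvs_rvs (v : Fin 7 → K) : rvs (rvs v) = v := by
  obtain ⟨v1, v2, v3, v4, v5, v6, v7, rfl⟩ := exists_vec v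
  rfl

theorem neg_vec (v1 v2 v3 v4 v5 v6 v7 : K) :
    -(![v1, v2, v3, v4, v5, v6, v7] : Fin 7 → K) = ![-v1, -v2, -v3, -v4, -v5, -v6, -v7] := by
  funext i
  fin_cases i <;> rfl

theorem rel_rvs {φ : K →+* K} {u v : Fin 7 → K} (h : Rel φ u v) : Rel φ (-(rvs u)) (rvs v) := by
  obtain ⟨u1, u2, u3, u4, u5, u6, u7, rfl⟩ := exists_vec u
  obtain ⟨v1, v2, v3, v4, v5, v6, v7, rfl⟩ := exists_vec v
  obtain ⟨⟨e1, e2, e3, e4, e5, e6, e7⟩, ⟨k1, k2, k3, k4, k5, k6, k7⟩, hq, hq'⟩ := rel_vec h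
  rw [rvs_vec, rvs_vec, neg_vec]
  refine rel_of ⟨⟨?_, ?_, ?_, ?_, ?_, ?_, ?_⟩, ⟨?_, ?_, ?_, ?_, ?_, ?_, ?_⟩, ?_, ?_⟩
  · linear_combination e7
  · linear_combination e6
  · linear_combination e5
  · linear_combination e4
  · linear_combination e3
  · linear_combination e2
  · linear_combination e1
  · linear_combination k7
  · linear_combination k6
  · linear_combination k5
  · linear_combination k4
  · linear_combination k3
  · linear_combination k2
  · linear_combination k1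
  · linear_combination hq
  · linear_combination hq'

/-- A point of the ovoid with first coordinate `0` is the last basis point. -/
theorem dich {φ : K →+* K} {u v : Fin 7 → K} (h : Rel φ u v) (h0 : v 0 = 0) :
    v = ![0, 0, 0, 0, 0, 0, v 6] := by
  obtain ⟨u1, u2, u3, u4, u5, u6, u7, rfl⟩ := exists_vec u
  obtain ⟨v1, v2, v3, v4, v5, v6, v7, rfl⟩ := exists_vec v
  obtain ⟨⟨e1, e2, e3, e4, e5, e6, e7⟩, ⟨k1, k2, k3, k4, k5, k6, k7⟩, hq, hq'⟩ := rel_vec h
  obtain rfl : v1 = 0 := h0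
  have φ0 : ∀ a : K, φ a = 0 → a = 0 := fun a ha => by simpa using ha
  suffices hh : v2 = 0 ∧ v3 = 0 ∧ v4 = 0 ∧ v5 = 0 ∧ v6 = 0 by
    obtain ⟨rfl, rfl, rfl, rfl, rfl⟩ := hh
    rfl
  rw [map_zero] at e1
  by_cases hu1 : u1 = 0
  · subst hu1
    obtain rfl : v2 = 0 := φ0 _ (by linear_combination -e2)
    rw [map_zero] at e2
    by_cases hu2 : u2 = 0
    · subst hu2
      obtain rfl : v3 = 0 := φ0 _ (by linear_combination -e3)
      obtain rfl : v4 = 0 := by
        have : v4 ^ 2 = 0 := by linear_combination hq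
        exact pow_eq_zero_iff (two_ne_zero) |>.1 this
      rw [map_zero] at e3 e4
      by_cases hu3 : u3 = 0
      · subst hu3
        obtain rfl : v5 = 0 := φ0 _ (by linear_combination -e5)
        refine ⟨rfl, rfl, rfl, rfl, ?_⟩
        by_cases hu5 : u5 = 0
        · subst hu5
          exact φ0 _ (by linear_combination -e6)
        · have : u5 * v6 = 0 := by
            have hu4 : u4 = 0 := by
              have : u4 ^ 2 = 0 := by linear_combination hq'
              exact pow_eq_zero_iff (two_ne_zero) |>.1 this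
            rw [hu4] at k7
            linear_combination -k7
          rcases mul_eq_zero.1 this with h | h
          · exact absurd h hu5
          · exact h
      · obtain rfl : v5 = 0 := by
          have : u3 * v5 = 0 := by linear_combination -e4
          rcases mul_eq_zero.1 this with h | h
          · exact absurd h hu3
          · exact h
        rw [map_zero] at e5
        refine ⟨rfl, rfl, rfl, rfl, ?_⟩
        have : u3 * v6 = 0 := by linear_combination -e5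
        rcases mul_eq_zero.1 this with h | h
        · exact absurd h hu3
        · exact h
    · obtain rfl : v3 = 0 := by
        have : u2 * v3 = 0 := by linear_combination -k1
        rcases mul_eq_zero.1 this with h | h
        · exact absurd h hu2
        · exact h
      obtain rfl : v4 = 0 := by
        have : u2 * v4 = 0 := by linear_combination k2
        rcases mul_eq_zero.1 this with h | h
        · exact absurd h hu2
        · exact h
      rw [map_zero] at e3 e4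
      obtain rfl : v5 = 0 := by
        have : u2 * v5 = 0 := by linear_combination -e3
        rcases mul_eq_zero.1 this with h | h
        · exact absurd h hu2
        · exact h
      refine ⟨rfl, rfl, rfl, rfl, ?_⟩
      have : u2 * v6 = 0 := by linear_combination e4
      rcases mul_eq_zero.1 this with h | h
      · exact absurd h hu2
      · exact h
  · have canc : ∀ a : K, u1 * a = 0 → a = 0 := fun a ha => (mul_eq_zero.1 ha).resolve_left hu1
    obtain rfl : v2 = 0 := canc _ (by linear_combination e1)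
    rw [map_zero] at e2
    obtain rfl : v3 = 0 := canc _ (by linear_combination e2)
    obtain rfl : v4 = 0 := canc _ (by linear_combination -k1)
    obtain rfl : v5 = 0 := canc _ (by linear_combination -k2)
    obtain rfl : v6 = 0 := canc _ (by linear_combination k3)
    exact ⟨rfl, rfl, rfl, rfl, rfl⟩

/-- A point of the ovoid with last coordinate `0` is the first basis point. -/
theorem dich' {φ : K →+* K} {u v : Fin 7 → K} (h : Rel φ u v) (h0 : v 6 = 0) :
    v = ![v 0, 0, 0, 0, 0, 0, 0] := by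
  have h1 := dich (rel_rvs h) h0
  obtain ⟨v1, v2, v3, v4, v5, v6, v7, rfl⟩ := exists_vec v
  rw [rvs_vec] at h1
  obtain ⟨g1, g2, g3, g4, g5, g6, g7⟩ := vec_inj h1
  exact vec_congr rfl g6 g5 g4 g3 g2 g1

variable [CharP K 3]

/-- The affine points of the ovoid. -/
def pU (φ : K →+* K) (x y z : K) : Fin 7 → K :=
  ![x * φ x * φ y - x * (x * φ x + y) * (x * x * φ x + z) - (x * φ x + y) * φ y + x * φ z -
      (x * x * φ x + z) ^ 2,
    φ x * φ y - (x * x * φ x + z) * (x * φ x + y) + φ z,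
    -(x ^ 2 * (x * φ x + y)) - (x * x * φ x + z) * x + φ y,
    x * y - z, x * φ x + y, -x, 1]

theorem exists_of_rel {φ : K →+* K} (hφ : ∀ x, φ (φ x) = x ^ 3) {u v : Fin 7 → K} (h : Rel φ u v)
    (h7 : v 6 = 1) : ∃ x y z, v = pU φ x y z := by
  have h3 : (3 : K) = 0 := three_eq_zero
  obtain ⟨u1, u2, u3, u4, u5, u6, u7, rfl⟩ := exists_vec u
  obtain ⟨v1, v2, v3, v4, v5, v6, v7, rfl⟩ := exists_vec v
  obtain ⟨⟨e1, e2, e3, e4, e5, e6, e7⟩, ⟨k1, k2, k3, k4, k5, k6, k7⟩, hq, hq'⟩ := rel_vec h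
  obtain rfl : v7 = 1 := h7
  obtain ⟨x, hx⟩ : ∃ x, x = -v6 := ⟨_, rfl⟩
  obtain rfl : v6 = -x := by rw [hx]; ring
  obtain ⟨y, hy⟩ : ∃ y, y = v5 - x * φ x := ⟨_, rfl⟩
  obtain rfl : v5 = x * φ x + y := by rw [hy]; ring
  obtain ⟨z, hz⟩ : ∃ z, z = x * y - v4 := ⟨_, rfl⟩
  obtain rfl : v4 = x * y - z := by rw [hz]; ring
  refine ⟨x, y, z, ?_⟩
  simp only [map_add, map_mul, map_sub, map_neg, map_one, hφ] at e3 e4 e5 e6 e7
  obtain rfl : u6 = 1 + u7 * -x := by linear_combination e7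
  obtain rfl : u5 = -φ x + u7 * (x * φ x + y) := by linear_combination e6
  obtain rfl : u4 = -(-φ x + u7 * (x * φ x + y)) * -x + (1 + u7 * -x) * (x * φ x + y) + u7 * (x * y - z) := by
    linear_combination -k7
  obtain rfl : u3 = (-(-φ x + u7 * (x * φ x + y)) * -x + (1 + u7 * -x) * (x * φ x + y) + u7 * (x * y - z)) * -x -
      (1 + u7 * -x) * (x * y - z) + u7 * v3 := by
    linear_combination -k6
  obtain rfl : u2 = -(-(-φ x + u7 * (x * φ x + y)) * -x + (1 + u7 * -x) * (x * φ x + y) + u7 * (x * y - z)) *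
      (x * φ x + y) + (-φ x + u7 * (x * φ x + y)) * (x * y - z) + u7 * v2 := by
    linear_combination k5
  obtain rfl : v3 = -(x ^ 2 * (x * φ x + y)) - (x * x * φ x + z) * x + φ y := by
    linear_combination e5 + (φ x * x ^ 3 + x ^ 2 * y) * h3
  obtain rfl : v2 = φ x * φ y - (x * x * φ x + z) * (x * φ x + y) + φ z := by
    linear_combination -e4 + (φ x ^ 2 * x ^ 3 + 2 * φ x * x ^ 2 * y + x * y ^ 2 - φ x * φ y) * h3
  refine vec_congr ?_ rfl rfl rfl rfl rfl rfl
  linear_combination hq + (φ x ^ 2 * x ^ 4 + φ x * x ^ 3 * y + φ x * x ^ 2 * z + x * y * z) * h3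

end Cfsg.Agent.LieRecognition.ReeOval
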