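import Cfsg.Agent.LieRecognition.ReeSevenEntries

set_option autoImplicit false

/-!
The 7-dimensional representation of the Chevalley group `G₂` in characteristic 3 on the ideal `W` of the Lie
algebra spanned by the short root vectors: block structure, invariant bilinear form, equivariance of `ad`,
and the trace identity `tr (M | L) = tr (R²) - tr(R)² - tr(R)`, `R = M | W`.
-/

namespace Cfsg.Agent.LieRecognition.ReeSeven

open Cfsg.Lie ReeSevenTable ReeSevenEntries

open scoped Matrix

variable {K : Type*} [Field K]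

/-- the block on the short root ideal -/
def wb (M : Matrix chevG2.Idx chevG2.Idx K) : Matrix (Fin 7) (Fin 7) K :=
  Matrix.of fun i j => M (pos (Sum.inl i)) (pos (Sum.inl j))

/-- the block on the quotient by the short root ideal -/
def qb (M : Matrix chevG2.Idx chevG2.Idx K) : Matrix (Fin 7) (Fin 7) K :=
  Matrix.of fun i j => M (pos (Sum.inr i)) (pos (Sum.inr j))

/-- `ad` of the basis vectors on the short root ideal -/
def am (K : Type*) [Field K] (j : Fin 7 ⊕ Fin 7) : Matrix (Fin 7) (Fin 7) K :=
  Matrix.of fun a b => ((an (cd j) a b : ℕ) : K)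

/-- the invariant bilinear form -/
def bm (K : Type*) [Field K] : Matrix (Fin 7) (Fin 7) K := Matrix.of fun a b => ((bn a b : ℕ) : K)

omit [Field K] in
theorem wb_apply (M : Matrix chevG2.Idx chevG2.Idx K) (i j : Fin 7) :
    wb M i j = M (pos (Sum.inl i)) (pos (Sum.inl j)) := rfl

omit [Field K] in
theorem qb_apply (M : Matrix chevG2.Idx chevG2.Idx K) (i j : Fin 7) :
    qb M i j = M (pos (Sum.inr i)) (pos (Sum.inr j)) := rfl

theorem am_apply (j : Fin 7 ⊕ Fin 7) (a b : Fin 7) : am K j a b = ((an (cd j) a b : ℕ) : K) := rfl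

theorem bm_apply (a b : Fin 7) : bm K a b = ((bn a b : ℕ) : K) := rfl

structure Good (M : Matrix chevG2.Idx chevG2.Idx K) : Prop where
  zero : ∀ i j, M (pos (Sum.inr i)) (pos (Sum.inl j)) = 0
  bil : (wb M)ᵀ * bm K * wb M = bm K
  eqv : ∀ j, wb M * am K j = (∑ i, M (pos i) (pos j) • am K i) * wb M

theorem mul_pos (M N : Matrix chevG2.Idx chevG2.Idx K) (i j : Fin 7 ⊕ Fin 7) :
    (M * N) (pos i) (pos j) = ∑ k, M (pos i) (pos k) * N (pos k) (pos j) := by
  rw [Matrix.mul_apply]
  exact (pos_bijective.sum_comp (fun k => M (pos i) k * N k (pos j))).symm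

theorem one_pos (i j : Fin 7 ⊕ Fin 7) :
    (1 : Matrix chevG2.Idx chevG2.Idx K) (pos i) (pos j) = if i = j then 1 else 0 := by
  rw [Matrix.one_apply]
  simp only [pos_injective.eq_iff]

theorem wb_one : wb (1 : Matrix chevG2.Idx chevG2.Idx K) = 1 := by
  ext i j
  rw [wb_apply, one_pos, Matrix.one_apply]
  simp

theorem qb_one : qb (1 : Matrix chevG2.Idx chevG2.Idx K) = 1 := by
  ext i j
  rw [qb_apply, one_pos, Matrix.one_apply]
  simp

theorem wb_mul {M N : Matrix chevG2.Idx chevG2.Idx K}
    (hN : ∀ i j, N (pos (Sum.inr i)) (pos (Sum.inl j)) = 0) : wb (M * N) = wb M * wb N := by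
  ext i j
  rw [wb_apply, mul_pos, Fintype.sum_sum_type, Matrix.mul_apply]
  simp [hN, wb_apply]

theorem qb_mul {M N : Matrix chevG2.Idx chevG2.Idx K}
    (hM : ∀ i j, M (pos (Sum.inr i)) (pos (Sum.inl j)) = 0) : qb (M * N) = qb M * qb N := by
  ext i j
  rw [qb_apply, mul_pos, Fintype.sum_sum_type, Matrix.mul_apply]
  simp [hM, qb_apply]

theorem Good.one : Good (1 : Matrix chevG2.Idx chevG2.Idx K) where
  zero i j := by rw [one_pos]; simp
  bil := by rw [wb_one]; simp
  eqv j := by
    rw [wb_one, one_mul, mul_one]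
    simp only [one_pos]
    simp

theorem Good.mul {M N : Matrix chevG2.Idx chevG2.Idx K} (hM : Good M) (hN : Good N) : Good (M * N) where
  zero i j := by
    rw [mul_pos, Fintype.sum_sum_type]
    simp [hM.zero, hN.zero]
  bil := by
    rw [wb_mul hN.zero, Matrix.transpose_mul]
    calc (wb N)ᵀ * (wb M)ᵀ * bm K * (wb M * wb N)
        = (wb N)ᵀ * ((wb M)ᵀ * bm K * wb M) * wb N := by simp only [Matrix.mul_assoc]
      _ = bm K := by rw [hM.bil, hN.bil]
  eqv j := by
    rw [wb_mul hN.zero, Matrix.mul_assoc, hN.eqv, ← Matrix.mul_assoc, Matrix.mul_sum]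
    simp only [Matrix.mul_smul, hM.eqv, ← Matrix.mul_assoc]
    congr 1
    simp only [← Matrix.smul_mul, ← Matrix.sum_mul]
    congr 1
    simp only [Finset.smul_sum, smul_smul]
    rw [Finset.sum_comm]
    refine Finset.sum_congr rfl fun i _ => ?_
    rw [mul_pos, Finset.sum_smul]
    exact Finset.sum_congr rfl fun k _ => by rw [mul_comm]

theorem sum_range_fin {M : Type*} [AddCommMonoid M] (n : ℕ) (f : ℕ → M) :
    ∑ i ∈ Finset.range n, f i = ∑ i : Fin n, f i.val := Finset.sum_range f

theorem sum_range_cd {M : Type*} [AddCommMonoid M] (f : ℕ → M) :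
    ∑ i ∈ Finset.range 14, f i = ∑ i : Fin 7 ⊕ Fin 7, f (cd i) := by
  rw [Fintype.sum_sum_type]
  have h : ∑ i ∈ Finset.range (7 + 7), f i =
      ∑ i ∈ Finset.range 7, f i + ∑ i ∈ Finset.range 7, f (7 + i) := Finset.sum_range_add ..
  rw [show (14 : ℕ) = 7 + 7 from rfl, h, Finset.sum_range, Finset.sum_range]
  refine congrArg₂ _ rfl (Finset.sum_congr rfl fun i _ => ?_)
  exact congrArg f (add_comm _ _)

section CharThree

variable [CharP K 3]

theorem xMat_good (r : Fin chevG2.nroots) (t : K) : Good (chevG2.xMat K r t) where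
  zero i j := by
    rw [xMat_entry]
    have h := (allLt_iff _ _).1 ((allLt_iff _ _).1 (chkZero_all r.val r.2) i.val i.2) j.val j.2
    have h' : xc r.val (i.val + 7) j.val = 0 := by simpa using h
    change ((xc r.val (i.val + 7) j.val : ℕ) : K) * _ = 0
    rw [h']
    simp
  bil := by
    ext a b
    have h := (allLt_iff _ _).1 ((allLt_iff _ _).1 (chkB_all r.val r.2) a.val a.2) b.val b.2
    have h2 := ev_eq_zero t _ h
    rw [termsB, ev_append, ev_flatLt, sum_range_fin] at h2
    have h3 : ev t [(0, 2 * bn a.val b.val)] = - bm K a b := by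
      have h30 : (3 : K) = 0 := by exact_mod_cast CharP.cast_eq_zero K 3
      simp only [ev, List.map_cons, List.map_nil, List.sum_cons, List.sum_nil, bm_apply]
      push_cast
      linear_combination (bn a.val b.val : K) * h30
    rw [h3, add_neg_eq_zero] at h2
    rw [← h2, Matrix.mul_apply]
    simp only [Matrix.mul_apply, Matrix.transpose_apply, Finset.sum_mul]
    rw [Finset.sum_comm]
    refine Finset.sum_congr rfl fun c _ => ?_
    rw [ev_ite, ev_flatLt, sum_range_fin]
    have e1 : wb (chevG2.xMat K r t) c a = (xc r.val c.val a.val : K) * t ^ xd r.val c.val a.val :=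
      xMat_entry r t (Sum.inl c) (Sum.inl a)
    split_ifs with hc
    · rw [e1, hc]
      simp
    · refine Finset.sum_congr rfl fun d _ => ?_
      have e2 : wb (chevG2.xMat K r t) d b = (xc r.val d.val b.val : K) * t ^ xd r.val d.val b.val :=
        xMat_entry r t (Sum.inl d) (Sum.inl b)
      rw [ev_ite, e1, e2, bm_apply]
      split_ifs with hd
      · rw [hd]
        simp
      · simp only [ev, List.map_cons, List.map_nil, List.sum_cons, List.sum_nil]
        push_cast
        ring
  eqv j := by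
    ext a b
    have h := (allLt_iff _ _).1 ((allLt_iff _ _).1 ((allLt_iff _ _).1 (chkEquiv_all r.val r.2) (cd j)
      (by rcases j with j | j <;> simp [cd] <;> omega)) a.val a.2) b.val b.2
    have h2 := ev_eq_zero t _ h
    have h30 : (3 : K) = 0 := by exact_mod_cast CharP.cast_eq_zero K 3
    rw [terms, ev_append, ev_flatLt, ev_flatLt, sum_range_fin, sum_range_cd] at h2
    have h3 : (wb (chevG2.xMat K r t) * am K j) a b =
        ∑ i : Fin 7, ev t (if xc r.val a.val i.val = 0 then [] else
          [(xd r.val a.val i.val, xc r.val a.val i.val * an (cd j) i.val b.val)]) := by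
      rw [Matrix.mul_apply]
      refine Finset.sum_congr rfl fun c _ => ?_
      have e1 : wb (chevG2.xMat K r t) a c = (xc r.val a.val c.val : K) * t ^ xd r.val a.val c.val :=
        xMat_entry r t (Sum.inl a) (Sum.inl c)
      rw [ev_ite, e1, am_apply]
      split_ifs with hc
      · rw [hc]
        simp
      · simp only [ev, List.map_cons, List.map_nil, List.sum_cons, List.sum_nil]
        push_cast
        ring
    rw [h3, ← sub_eq_zero, ← h2, sub_eq_add_neg]
    congr 1
    simp only [Matrix.mul_apply, Matrix.sum_apply, Finset.sum_mul, Matrix.smul_apply, smul_eq_mul]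
    rw [Finset.sum_comm, ← Finset.sum_neg_distrib]
    refine Finset.sum_congr rfl fun i _ => ?_
    rw [ev_ite, ev_flatLt, sum_range_fin, xMat_entry]
    split_ifs with hc
    · rw [hc]
      simp
    · rw [← Finset.sum_neg_distrib]
      refine Finset.sum_congr rfl fun c _ => ?_
      have e2 : wb (chevG2.xMat K r t) c b = (xc r.val c.val b.val : K) * t ^ xd r.val c.val b.val :=
        xMat_entry r t (Sum.inl c) (Sum.inl b)
      rw [ev_ite, e2, am_apply]
      split_ifs with hd
      · rw [hd]
        simp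
      · simp only [ev, List.map_cons, List.map_nil, List.sum_cons, List.sum_nil]
        push_cast
        rw [pow_add]
        linear_combination (-(xc r.val (cd i) (cd j) : K) * t ^ xd r.val (cd i) (cd j) *
          (an (cd i) a.val c.val : K) * (xc r.val c.val b.val : K) * t ^ xd r.val c.val b.val) * h30

theorem x_good (r : ℕ) (t : K) : Good (chevG2.x K r t) := by
  unfold ChevalleyDatum.x
  split_ifs with h
  · exact xMat_good _ t
  · exact Good.one

theorem word_good (w : List (ℕ × K)) : Good (chevG2.wordMat K w) := by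
  induction w with
  | nil => exact Good.one
  | cons p w ih => exact (x_good p.1 p.2).mul ih

/-! ### the trace identity -/

theorem natCast_congr {a b : ℕ} (h : a % 3 = b % 3) : (a : K) = (b : K) :=
  (CharP.natCast_eq_natCast (R := K) 3).2 h

theorem bm_mul_bm : bm K * bm K = 1 := by
  ext a b
  have h := (allLt_iff _ _).1 ((allLt_iff _ _).1 chkBB_all a.val a.2) b.val b.2
  rw [beq_iff_eq, sumLt_eq, sum_range_fin] at h
  rw [Matrix.mul_apply, Matrix.one_apply]
  have h2 : ((∑ c : Fin 7, bn a.val c.val * bn c.val b.val : ℕ) : K) = ((if a.val = b.val then 1 else 0 : ℕ) : K) := by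
    apply natCast_congr
    rw [h]
    split_ifs <;> rfl
  push_cast at h2
  simp only [bm_apply, h2, Fin.ext_iff]

omit [CharP K 3] in
theorem bm_transpose : (bm K)ᵀ = bm K := by
  have h : ∀ a b : Fin 7, bn a.val b.val = bn b.val a.val := by decide +kernel
  ext a b
  rw [Matrix.transpose_apply, bm_apply, bm_apply, h]

/-- the dual matrices -/
def lm (K : Type*) [Field K] (j : Fin 7 ⊕ Fin 7) : Matrix (Fin 7) (Fin 7) K :=
  Matrix.of fun a b => ((ln (cd j) a b : ℕ) : K)

def nm (K : Type*) [Field K] (j : Fin 7) : Matrix (Fin 7) (Fin 7) K :=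
  Matrix.of fun a b => ((nn j a b : ℕ) : K)

omit [CharP K 3] in
theorem trace_mul_eq (X Y : Matrix (Fin 7) (Fin 7) K) :
    (X * Y).trace = ∑ a, ∑ b, X a b * Y b a := by
  simp only [Matrix.trace, Matrix.diag, Matrix.mul_apply]

theorem trace_lm_am (j i : Fin 7 ⊕ Fin 7) : (lm K j * am K i).trace = if i = j then 1 else 0 := by
  have hcd : ∀ i : Fin 7 ⊕ Fin 7, cd i < 14 := by
    intro i
    rcases i with i | i <;> simp [cd] <;> omega
  have hinj : Function.Injective cd := by
    have : ∀ x y, cd x = cd y → x = y := by decide +kernel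
    exact this
  have h := (allLt_iff _ _).1 ((allLt_iff _ _).1 chkDual_all (cd i) (hcd i)) (cd j) (hcd j)
  rw [beq_iff_eq, sumLt_eq, sum_range_fin] at h
  simp only [sumLt_eq, sum_range_fin] at h
  have h2 : ((∑ a : Fin 7, ∑ b : Fin 7, ln (cd j) a.val b.val * an (cd i) b.val a.val : ℕ) : K) =
      ((if cd i = cd j then 1 else 0 : ℕ) : K) := by
    apply natCast_congr
    rw [h]
    split_ifs <;> rfl
  push_cast at h2
  rw [trace_mul_eq]
  simp only [lm, am, Matrix.of_apply, h2, hinj.eq_iff]

theorem trace_am_nm (i j : Fin 7) : (am K (Sum.inl i) * nm K j).trace = if i = j then 1 else 0 := by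
  have h := (allLt_iff _ _).1 ((allLt_iff _ _).1 chkDualN_all i.val i.2) j.val j.2
  rw [beq_iff_eq, sumLt_eq, sum_range_fin] at h
  simp only [sumLt_eq, sum_range_fin] at h
  have h2 : ((∑ a : Fin 7, ∑ b : Fin 7, an i.val a.val b.val * nn j.val b.val a.val : ℕ) : K) =
      ((if i.val = j.val then 1 else 0 : ℕ) : K) := by
    apply natCast_congr
    rw [h]
    split_ifs <;> rfl
  push_cast at h2
  rw [trace_mul_eq]
  simp only [nm, am, Matrix.of_apply, cd, Sum.elim_inl, h2, Fin.ext_iff]

theorem theta (p q c d : Fin 7) :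
    ∑ j, lm K j q p * am K j c d + ∑ k, am K (Sum.inl k) q p * nm K k c d +
      (if p = c ∧ q = d then 1 else 0) = bm K c q * bm K p d := by
  have h := (allLt_iff _ _).1 ((allLt_iff _ _).1 ((allLt_iff _ _).1 ((allLt_iff _ _).1 chkTheta_all
    p.val p.2) q.val q.2) c.val c.2) d.val d.2
  rw [beq_iff_eq] at h
  simp only [sumLt_eq, sum_range_fin] at h
  have h2 := natCast_congr (K := K) h
  rw [← sum_range_fin 14 (fun j => ln j q.val p.val * an j c.val d.val), sum_range_cd] at h2
  push_cast at h2
  simp only [← Fin.ext_iff] at h2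
  exact h2

theorem trace4 (X R Y R' : Matrix (Fin 7) (Fin 7) K) :
    (X * (R * Y * R')).trace = ∑ q, ∑ p, ∑ d, ∑ c, X q p * Y c d * (R p c * R' d q) := by
  rw [trace_mul_eq]
  refine Finset.sum_congr rfl fun q _ => Finset.sum_congr rfl fun p _ => ?_
  rw [Matrix.mul_apply, Finset.mul_sum]
  refine Finset.sum_congr rfl fun d _ => ?_
  rw [Matrix.mul_apply, Finset.sum_mul, Finset.mul_sum]
  exact Finset.sum_congr rfl fun c _ => by ring

theorem trace_sum_eq (R R' : Matrix (Fin 7) (Fin 7) K) :
    ∑ j, (lm K j * (R * am K j * R')).trace + ∑ k, (am K (Sum.inl k) * (R * nm K k * R')).trace +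
      R.trace * R'.trace = (R * bm K * (bm K * R')ᵀ).trace := by
  have h1 : ∑ j, (lm K j * (R * am K j * R')).trace =
      ∑ q, ∑ p, ∑ d, ∑ c, (∑ j, lm K j q p * am K j c d) * (R p c * R' d q) := by
    simp only [trace4, Finset.sum_mul]
    rw [Finset.sum_comm]
    refine Finset.sum_congr rfl fun q _ => ?_
    rw [Finset.sum_comm]
    refine Finset.sum_congr rfl fun p _ => ?_
    rw [Finset.sum_comm]
    refine Finset.sum_congr rfl fun d _ => ?_
    rw [Finset.sum_comm]
  have h2 : ∑ k, (am K (Sum.inl k) * (R * nm K k * R')).trace =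
      ∑ q, ∑ p, ∑ d, ∑ c, (∑ k, am K (Sum.inl k) q p * nm K k c d) * (R p c * R' d q) := by
    simp only [trace4, Finset.sum_mul]
    rw [Finset.sum_comm]
    refine Finset.sum_congr rfl fun q _ => ?_
    rw [Finset.sum_comm]
    refine Finset.sum_congr rfl fun p _ => ?_
    rw [Finset.sum_comm]
    refine Finset.sum_congr rfl fun d _ => ?_
    rw [Finset.sum_comm]
  have h3 : R.trace * R'.trace =
      ∑ q, ∑ p, ∑ d, ∑ c, (if p = c ∧ q = d then 1 else 0) * (R p c * R' d q) := by
    simp only [Matrix.trace, Matrix.diag, Finset.sum_mul_sum]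
    rw [Finset.sum_comm]
    refine Finset.sum_congr rfl fun q _ => Finset.sum_congr rfl fun p _ => ?_
    simp [ite_and]
  have h4 : (R * bm K * (bm K * R')ᵀ).trace =
      ∑ q, ∑ p, ∑ d, ∑ c, (bm K c q * bm K p d) * (R p c * R' d q) := by
    rw [trace_mul_eq, Finset.sum_comm]
    refine Finset.sum_congr rfl fun q _ => Finset.sum_congr rfl fun p _ => ?_
    rw [Matrix.transpose_apply, Matrix.mul_apply, Matrix.mul_apply, Finset.sum_mul_sum, Finset.sum_comm]
    exact Finset.sum_congr rfl fun d _ => Finset.sum_congr rfl fun c _ => by ring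
  rw [h1, h2, h3, h4]
  simp only [← Finset.sum_add_distrib, ← add_mul, theta]

/-- `R⁻¹ = B Rᵀ B` -/
theorem Good.inv_eq {M N : Matrix chevG2.Idx chevG2.Idx K} (hM : Good M) (hN : Good N) (h : M * N = 1) :
    wb N = bm K * (wb M)ᵀ * bm K := by
  have h1 : wb M * wb N = 1 := by rw [← wb_mul hN.zero, h, wb_one]
  have h2 : bm K * (wb M)ᵀ * bm K * wb M = 1 := by
    have := hM.bil
    calc bm K * (wb M)ᵀ * bm K * wb M = bm K * ((wb M)ᵀ * bm K * wb M) := by simp only [Matrix.mul_assoc]
      _ = 1 := by rw [this, bm_mul_bm]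
  calc wb N = (bm K * (wb M)ᵀ * bm K * wb M) * wb N := by rw [h2, one_mul]
    _ = bm K * (wb M)ᵀ * bm K := by rw [Matrix.mul_assoc, h1, mul_one]

theorem Good.trace_inv {M N : Matrix chevG2.Idx chevG2.Idx K} (hM : Good M) (hN : Good N) (h : M * N = 1) :
    (wb N).trace = (wb M).trace := by
  rw [hM.inv_eq hN h, Matrix.trace_mul_comm, ← Matrix.mul_assoc, bm_mul_bm, one_mul, Matrix.trace_transpose]

/-- The trace identity `tr Λ²(W) = tr (L) + tr (W)` of the adjoint module `L` and the short root ideal `W`, in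
characteristic 3 (where `tr Λ²(R) = tr (R²) - tr (R)²`). -/
theorem Good.trace_eq {M N : Matrix chevG2.Idx chevG2.Idx K} (hM : Good M) (hN : Good N) (h : M * N = 1) :
    ∑ j, M (pos j) (pos j) + (wb M).trace + (wb M).trace * (wb M).trace = (wb M * wb M).trace := by
  have h1 : wb M * wb N = 1 := by rw [← wb_mul hN.zero, h, wb_one]
  have h1' : wb N * wb M = 1 := mul_eq_one_comm.1 h1
  have hT := hM.trace_inv hN h
  have key := trace_sum_eq (wb M) (wb N)
  have e1 : ∀ j, (lm K j * (wb M * am K j * wb N)).trace = M (pos j) (pos j) := by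
    intro j
    rw [hM.eqv, Matrix.mul_assoc, h1, mul_one, Matrix.mul_sum, Matrix.trace_sum]
    simp only [Matrix.mul_smul, Matrix.trace_smul, trace_lm_am, smul_eq_mul]
    simp
  have e2 : ∀ k, (am K (Sum.inl k) * (wb M * nm K k * wb N)).trace = wb N k k := by
    intro k
    have : (am K (Sum.inl k) * (wb M * nm K k * wb N)).trace =
        (wb N * am K (Sum.inl k) * wb M * nm K k).trace := by
      rw [← Matrix.mul_assoc, Matrix.trace_mul_comm]
      simp only [Matrix.mul_assoc]
    rw [this, hN.eqv, Matrix.mul_assoc (_) (wb N) (wb M), h1', mul_one, Fintype.sum_sum_type]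
    simp only [hN.zero, zero_smul, Finset.sum_const_zero, add_zero]
    rw [Matrix.sum_mul, Matrix.trace_sum]
    simp only [Matrix.smul_mul, Matrix.trace_smul, trace_am_nm, smul_eq_mul]
    simp [wb_apply]
  simp only [e1, e2] at key
  have e3 : bm K * wb N = (wb M)ᵀ * bm K := by
    rw [hM.inv_eq hN h, Matrix.mul_assoc, ← Matrix.mul_assoc (bm K) (bm K), bm_mul_bm, one_mul]
  rw [e3, Matrix.transpose_mul, Matrix.transpose_transpose, bm_transpose, Matrix.mul_assoc,
    ← Matrix.mul_assoc (bm K) (bm K), bm_mul_bm, one_mul] at key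
  rw [← key, hT]
  have : (∑ x, wb N x x) = (wb N).trace := rfl
  rw [this, hT]

end CharThree

end Cfsg.Agent.LieRecognition.ReeSeven
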