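import Mathlib
import Cfsg.Prelude.Def_LieTwisted

set_option autoImplicit false

/-!
Tables for the 7-dimensional representation of `G₂` in characteristic 3 on the ideal of the Lie algebra
generated by the short roots. Coordinates `0..6`: `h₁`, roots `a, a+b, 2a+b, -a, -a-b, -2a-b`;
coordinates `7..13`: `h₂`, roots `b, 3a+b, 3a+2b, -b, -3a-b, -3a-2b`.
All coefficients are natural numbers read modulo 3.
-/

namespace Cfsg.Agent.LieRecognition.ReeSevenTable

open Cfsg.Lie

def tX : ℕ := 0x100000000000000100000000000000100000000000a001006000000000601000000000050001000000006000001000000000000001000000000000001000000000000001000000000000601000000000050001000000000000001050000000000001100000000000000100000000000050100000000000000106000000000a0010500000000000010000000005000010000000000000010000000000000010000000000000010000000000000610000000000000010000000005000010050000000000011000000000000001000000000000001000000000000e010000000000d000100000000000000100000000000000100000000000000100000050000000100000050000000100000000000a00100609000000060100a00000005000100000000600000110000000000000010000000000000010000000000000e1000000000000001000000000d00001000000000000001000000060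000001000000000000001000009000000501000000a0000000106000000060a00105006000000000100000000050000110000000000000010000000000000e1000000000000001000000000000001d000000000000010000000000000010000000060000010000000a000006100000000000000100000000090000150000000600000100000000500a001500000000050001100000000000006100000000000000100000000000000150000000000000100000000000a001500000000050001000000000000001000000000000001000000000000061000000000000001000000000000001500000000000001000000000000001160000000000000100000000000000100a6000000000010000000000000510000000000000010000000000000610000000000000010000000000000016000000000000010000000000000010000000000000010000000000000510000000000000011000000000000001e000000000000010000000000000010000000000000010000000000000d100000000000000100000000090000160000000500000100000000000600100a6000050000010000000a000005100000000000000100000000000006110000d0000000001000000000000001e00000000000001000000000000001000000000000001000000000000001000000000000a0105000000000050100a0600000500010000000500000010000000000000010000090000006010000000000006011000d000000000010e000000000000100000000000000100000000000000100000000000000100000000000000100000000000000100a00500009000100050000a000001060000000000001000000600000001000000600000001000000000005001105000000000000100a060000000001000000000000001000000000000001000000000000601000000000000601000000000000001000050000000001000000000000001600000000000001000000000000001000000000000001000006000000001100a005000000001000500000000001060000000000001000000000000001000000000000001000000000005001000000000000001000500000000001060000000000001000000000000001000000000000001000000000000001000060000000001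
def tA : ℕ := 0x40080000000000000000000004000008000000000000000000020000000000000010000000000000002001000000000000000000000200000100000000000000800000000400000000000800040000000400080000001001002000000000000040040000200000000000080008080000000020000040000000800000000000002080040080000000001000002000100004000002000000001000000010402000100010001000200020000
def tN : ℕ := 0x80000002000000000000000000004000100000000000000000000000410000040000000000000000001000000008000000000000000200000000000800000000000020000000020000000000010000
def tB : ℕ := 0x40004000440004000400002
def tL : ℕ := 0x40080000000000000000000004000008000000000000010000000020000000002001000000000000000000000200000100000000000000000000400000000000000800004000400000008000800000000000000000000001002000000000000080000040000000000000040000000080000000000000000080040000000000000002000000000000000001000001000000000000002000000001000000000002000000000000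

/-- coefficient (mod 3) of the monomial entry `(i, j)` of `x_r(t)` -/
def xc (r i j : ℕ) : ℕ := (Nat.shiftRight tX (4 * (196 * r + 14 * i + j))) % 4
/-- degree in `t` of the monomial entry `(i, j)` of `x_r(t)` -/
def xd (r i j : ℕ) : ℕ := (Nat.shiftRight tX (4 * (196 * r + 14 * i + j) + 2)) % 4
/-- matrix entries of `ad` of the `j`-th basis vector on the ideal -/
def an (j a b : ℕ) : ℕ := (Nat.shiftRight tA (2 * (49 * j + 7 * a + b))) % 4
def nn (j a b : ℕ) : ℕ := (Nat.shiftRight tN (2 * (49 * j + 7 * a + b))) % 4
def ln (j a b : ℕ) : ℕ := (Nat.shiftRight tL (2 * (49 * j + 7 * a + b))) % 4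
/-- the invariant bilinear form -/
def bn (a b : ℕ) : ℕ := (Nat.shiftRight tB (2 * (7 * a + b))) % 4

def allLt : ℕ → (ℕ → Bool) → Bool
  | 0, _ => true
  | n + 1, f => f n && allLt n f

theorem allLt_iff (n : ℕ) (f : ℕ → Bool) : allLt n f = true ↔ ∀ i < n, f i = true := by
  induction n with
  | zero => simp [allLt]
  | succ n ih =>
    rw [allLt, Bool.and_eq_true, ih]
    constructor
    · rintro ⟨h1, h2⟩ i hi
      rcases Nat.lt_succ_iff_lt_or_eq.1 hi with h | rfl
      · exact h2 i h
      · exact h1
    · intro h
      exact ⟨h n (Nat.lt_succ_self n), fun i hi => h i (Nat.lt_succ_of_lt hi)⟩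

def sumLt : ℕ → (ℕ → ℕ) → ℕ
  | 0, _ => 0
  | n + 1, f => f n + sumLt n f

theorem sumLt_eq (n : ℕ) (f : ℕ → ℕ) : sumLt n f = ∑ i ∈ Finset.range n, f i := by
  induction n with
  | zero => rfl
  | succ n ih => rw [sumLt, ih, Finset.sum_range_succ, add_comm]

/-- evaluation of a sparse polynomial with natural coefficients -/
def ev {F : Type*} [Field F] (t : F) (l : List (ℕ × ℕ)) : F := (l.map fun p => (p.2 : F) * t ^ p.1).sum

/-- all nonzero (mod 3) terms have the same degree and the coefficients add up to 0 mod 3 -/
def chk (l : List (ℕ × ℕ)) : Bool :=
  match l.filter (fun p => p.2 % 3 != 0) with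
  | [] => true
  | p :: l' => l'.all (fun q => q.1 == p.1) && (p.2 + (l'.map (·.2)).sum) % 3 == 0

theorem ev_filter {F : Type*} [Field F] [CharP F 3] (t : F) (l : List (ℕ × ℕ)) :
    ev t (l.filter (fun p => p.2 % 3 != 0)) = ev t l := by
  induction l with
  | nil => rfl
  | cons p l ih =>
    by_cases h : p.2 % 3 = 0
    · rw [List.filter_cons_of_neg (by simp [h]), ih]
      have : (p.2 : F) = 0 := (CharP.cast_eq_zero_iff F 3 _).2 (Nat.dvd_of_mod_eq_zero h)
      simp [ev, this]
    · rw [List.filter_cons_of_pos (by simp [h])]
      simp only [ev, List.map_cons, List.sum_cons] at ih ⊢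
      rw [ih]

theorem ev_same {F : Type*} [Field F] (t : F) (d : ℕ) (l : List (ℕ × ℕ))
    (h : ∀ q ∈ l, q.1 = d) : ev t l = (((l.map (·.2)).sum : ℕ) : F) * t ^ d := by
  induction l with
  | nil => simp [ev]
  | cons p l ih =>
    have h1 := ih fun q hq => h q (List.mem_cons_of_mem _ hq)
    simp only [ev, List.map_cons, List.sum_cons, Nat.cast_add, add_mul] at h1 ⊢
    rw [h1, h p List.mem_cons_self]

theorem ev_eq_zero {F : Type*} [Field F] [CharP F 3] (t : F) (l : List (ℕ × ℕ)) (h : chk l = true) :
    ev t l = 0 := by
  rw [← ev_filter]
  unfold chk at h
  split at h
  · rename_i h'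
    rw [h']; rfl
  · rename_i p l' h'
    rw [h']
    rw [Bool.and_eq_true, List.all_eq_true] at h
    rw [ev_same t p.1 (p :: l')]
    · have : (((List.map (fun x => x.2) (p :: l')).sum : ℕ) : F) = 0 := by
        rw [List.map_cons, List.sum_cons]
        exact (CharP.cast_eq_zero_iff F 3 _).2 (Nat.dvd_of_mod_eq_zero (by simpa using h.2))
      rw [this, zero_mul]
    · intro q hq
      rcases List.mem_cons.1 hq with rfl | hq
      · rfl
      · simpa using h.1 q hq

theorem ev_append {F : Type*} [Field F] (t : F) (l l' : List (ℕ × ℕ)) :
    ev t (l ++ l') = ev t l + ev t l' := by
  simp [ev]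

def flatLt : ℕ → (ℕ → List (ℕ × ℕ)) → List (ℕ × ℕ)
  | 0, _ => []
  | n + 1, f => f n ++ flatLt n f

theorem ev_flatLt {F : Type*} [Field F] (t : F) (n : ℕ) (f : ℕ → List (ℕ × ℕ)) :
    ev t (flatLt n f) = ∑ i ∈ Finset.range n, ev t (f i) := by
  induction n with
  | zero => rfl
  | succ n ih => rw [flatLt, ev_append, ih, Finset.sum_range_succ, add_comm]

theorem ev_ite {F : Type*} [Field F] [CharP F 3] (t : F) (c : ℕ) (l : List (ℕ × ℕ)) :
    ev t (if c = 0 then [] else l) = if c = 0 then 0 else ev t l := by
  split_ifs <;> rfl

/-- left minus right hand side of the equivariance relation -/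
def terms (r j a b : ℕ) : List (ℕ × ℕ) :=
  flatLt 7 (fun c => if xc r a c = 0 then [] else [(xd r a c, xc r a c * an j c b)]) ++
  flatLt 14 (fun i => if xc r i j = 0 then [] else
    flatLt 7 (fun c => if an i a c = 0 then [] else
      [(xd r i j + xd r c b, 2 * (xc r i j * an i a c * xc r c b))]))

def chkEquiv (r : ℕ) : Bool :=
  allLt 14 fun j => allLt 7 fun a => allLt 7 fun b => chk (terms r j a b)

def chkZero (r : ℕ) : Bool := allLt 7 fun i => allLt 7 fun j => xc r (i + 7) j == 0

def termsB (r a b : ℕ) : List (ℕ × ℕ) :=
  flatLt 7 (fun c => if xc r c a = 0 then [] else
    flatLt 7 (fun d => if bn c d = 0 then [] else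
      [(xd r c a + xd r d b, xc r c a * bn c d * xc r d b)])) ++ [(0, 2 * bn a b)]

def chkB (r : ℕ) : Bool := allLt 7 fun a => allLt 7 fun b => chk (termsB r a b)

theorem chkEquiv_all : ∀ r < 12, chkEquiv r = true := by decide +kernel

theorem chkZero_all : ∀ r < 12, chkZero r = true := by decide +kernel

theorem chkB_all : ∀ r < 12, chkB r = true := by decide +kernel

/-- dual bases: `∑ tr(Λ_j X) A_j + ∑ tr(L_k X) n_k = X^* - X` -/
def chkTheta : Bool :=
  allLt 7 fun p => allLt 7 fun q => allLt 7 fun c => allLt 7 fun d =>
    (sumLt 14 (fun j => ln j q p * an j c d) + sumLt 7 (fun k => an k q p * nn k c d) +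
      (if p = c ∧ q = d then 1 else 0)) % 3 == (bn c q * bn p d) % 3

theorem chkTheta_all : chkTheta = true := by decide +kernel

def chkDual : Bool :=
  allLt 14 fun i => allLt 14 fun j =>
    (sumLt 7 fun a => sumLt 7 fun b => ln j a b * an i b a) % 3 == if i = j then 1 else 0

theorem chkDual_all : chkDual = true := by decide +kernel

def chkDualN : Bool :=
  allLt 7 fun i => allLt 7 fun j =>
    (sumLt 7 fun a => sumLt 7 fun b => an i a b * nn j b a) % 3 == if i = j then 1 else 0

theorem chkDualN_all : chkDualN = true := by decide +kernel

def chkBB : Bool :=
  allLt 7 fun a => allLt 7 fun b =>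
    (sumLt 7 fun c => bn a c * bn c b) % 3 == if a = b then 1 else 0

theorem chkBB_all : chkBB = true := by decide +kernel

end Cfsg.Agent.LieRecognition.ReeSevenTable
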