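import Cfsg.Agent.LieRecognition.ReeSplit
import Cfsg.Agent.LieRecognition.ReeClass

/-!
# The local data of the small Ree groups in the form used by `ReeClass`
-/

set_option autoImplicit false

namespace Cfsg.Agent.LieRecognition.ReeSplitLocal

open Cfsg.Agent.LieRecognition.ReeAbs Cfsg.Agent.LieRecognition.ReeSylowThree
open Cfsg.Agent.LieRecognition.ReeSplit

variable {K : Type*} [Field K] {G : Type*} [Group G]
variable {m : ℕ} {U : K → K → K → G} {h : Kˣ → G} {n : G}

theorem local_of_data [Fintype K] (D : Data m U h n) (hK : Fintype.card K = 3 ^ (2 * m + 1)) :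
    ReeClass.Local G (3 ^ (2 * m + 1)) (uSub D) (bSub D) (hSub D) (aSub D) (nSub D) where
  card_G := by rw [card_eq D, hK]
  card_U := by rw [card_uSub D, hK]
  card_B := by rw [card_bSub D, hK]
  B_U := fun _ hg _ hx => inv_conj_mem_uSub D hg hx
  TI_U := fun _ hx hx1 _ hg => mem_bSub_of_inv_conj_mem D hx hx1 hg
  U_exp := fun _ hv => pow_nine D hK hv
  cent_U := fun _ hx hx1 _ hc => ⟨pow_eighteen_of_commute D hK hx hx1 hc,
    fun ho => mem_uSub_of_commute_of_odd D hK hx hx1 hc ho⟩
  card_H := by rw [card_hSub D, hK]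
  A_le := aSub_le D
  card_A := card_aSub D hK
  card_N := by rw [card_nSub D, hK]
  odd_H := fun _ hx ho => mem_aSub_of_odd D hK hx ho
  cent_A := by
    intro x hx hx1 y hc
    obtain ⟨a, rfl, ha⟩ := sq_ne_one_of_mem_aSub D hK hx hx1
    rw [← centralizer_h D hK ha, Subgroup.mem_centralizer_singleton_iff]
    exact hc
  N_A := fun _ hg _ hx => inv_conj_mem_of_mem_nSub D (aSub_le D) hg hx
  TI_A := fun _ hx hx1 _ hg => mem_nSub_of_inv_conj_mem D hK hx hx1 (aSub_le D hg)

end Cfsg.Agent.LieRecognition.ReeSplitLocal
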