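import Mathlib
import Cfsg.Prelude.Def_ChevStructure
import Cfsg.Prelude.Def_LieTwisted

set_option autoImplicit false

/-!
# Explicit action of the root elements of `G₂` in characteristic 3

Kernel-evaluated table of the matrices `x_r(t)` of `chevG2` with coefficients reduced modulo 3.
-/

namespace Cfsg.Agent.LieRecognition.ReeTab

open Cfsg.Lie
open scoped Matrix

/-- The polynomial entry (row, col) of `x_r(t)` as a list of (exponent, coefficient). -/
def ent (D : ChevalleyDatum) (r : Fin D.nroots) (row col : D.Idx) : List (ℕ × ℤ) :=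
  match col with
  | Sum.inl i =>
    (match row with
     | Sum.inl i' => if i' = i then [(0, 1)] else []
     | Sum.inr u => if u = r then [(1, - ((D.cartanSR.getD i.val #[]).getD r.val 0))] else [])
  | Sum.inr s =>
    if s = r then (match row with | Sum.inr u => if u = r then [(0, 1)] else [] | Sum.inl _ => [])
    else if s.val = D.negIdx.getD r.val 0 then
      (match row with
       | Sum.inl i => [(1, (D.coroot.getD r.val #[]).getD i.val 0)]
       | Sum.inr u => if u = s then [(0, 1)] else if u = r then [(2, -1)] else [])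
    else
      (match row with
       | Sum.inl _ => []
       | Sum.inr u => (if u = s then [(0, 1)] else []) ++ D.chainCoeff r.val s.val u.val)

/-- Evaluation of a list of (exponent, coefficient). -/
def ev {F : Type*} [Field F] (t : F) (l : List (ℕ × ℤ)) : F := (l.map fun km => ((km.2 : ℤ) : F) * t ^ km.1).sum

theorem xMat_apply (D : ChevalleyDatum) (F : Type*) [Field F] (r : Fin D.nroots) (t : F) (row col : D.Idx) :
    D.xMat F r t row col = ev t (ent D r row col) := by
  rcases col with i | s
  · rcases row with i' | u
    · by_cases h : i' = i <;> simp [ChevalleyDatum.xMat, ent, ev, h]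
    · by_cases h : u = r <;> simp [ChevalleyDatum.xMat, ent, ev, h]
  · rcases row with i' | u
    · by_cases h : s = r
      · simp [ChevalleyDatum.xMat, ent, ev, h]
      · by_cases h2 : s.val = D.negIdx.getD r.val 0
        · simp only [ChevalleyDatum.xMat, Matrix.of_apply, ent, if_neg h, if_pos h2, ev, List.map_cons,
            List.map_nil, List.sum_cons, List.sum_nil, add_zero, pow_one]
        · simp only [ChevalleyDatum.xMat, Matrix.of_apply, ent, if_neg h, if_neg h2, ev,
            List.map_nil, List.sum_nil]
    · by_cases h : s = r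
      · by_cases h' : u = r <;> simp [ChevalleyDatum.xMat, ent, ev, h, h']
      · by_cases h2 : s.val = D.negIdx.getD r.val 0
        · by_cases h3 : u = s
          · simp only [ChevalleyDatum.xMat, Matrix.of_apply, ent, if_neg h, if_pos h2, ev, if_pos h3,
              List.map_cons, List.map_nil, List.sum_cons, List.sum_nil, add_zero, pow_zero, Int.cast_one, mul_one]
          · by_cases h4 : u = r
            · simp only [ChevalleyDatum.xMat, Matrix.of_apply, ent, if_neg h, if_pos h2, ev, if_neg h3,
                if_pos h4, List.map_cons, List.map_nil, List.sum_cons, List.sum_nil, add_zero, Int.cast_neg,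
                Int.cast_one, neg_mul, one_mul]
            · simp only [ChevalleyDatum.xMat, Matrix.of_apply, ent, if_neg h, if_pos h2, ev, if_neg h3,
                if_neg h4, List.map_nil, List.sum_nil]
        · by_cases h3 : u = s
          · simp only [ChevalleyDatum.xMat, Matrix.of_apply, ent, if_neg h, if_neg h2, ev, if_pos h3,
              List.map_append, List.map_cons, List.map_nil, List.sum_append, List.sum_cons, List.sum_nil,
              add_zero, pow_zero, Int.cast_one, mul_one]
          · simp only [ChevalleyDatum.xMat, Matrix.of_apply, ent, if_neg h, if_neg h2, ev, if_neg h3,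
              List.nil_append, zero_add]

/-- All coordinates of `chevG2`. -/
def allIdx : List chevG2.Idx :=
  [Sum.inl (0 : Fin 2), Sum.inl (1 : Fin 2), Sum.inr (0 : Fin 12), Sum.inr (1 : Fin 12), Sum.inr (2 : Fin 12),
    Sum.inr (3 : Fin 12), Sum.inr (4 : Fin 12), Sum.inr (5 : Fin 12), Sum.inr (6 : Fin 12), Sum.inr (7 : Fin 12),
    Sum.inr (8 : Fin 12), Sum.inr (9 : Fin 12), Sum.inr (10 : Fin 12), Sum.inr (11 : Fin 12)]

theorem sum_idx {F : Type*} [Field F] (f : chevG2.Idx → F) : ∑ c, f c = (allIdx.map f).sum := by
  have h : ∑ c, f c = (∑ i : Fin 2, f (Sum.inl i)) + ∑ i : Fin 12, f (Sum.inr i) :=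
    Fintype.sum_sum_type f
  rw [h]
  simp only [allIdx, Fin.sum_univ_succ, List.map_cons, List.map_nil, List.sum_cons, List.sum_nil,
    Finset.univ_eq_empty, Finset.sum_empty, add_zero, add_assoc, Fin.succ_zero_eq_one]
  rfl

/-- The coordinate with a given number `0, …, 13`. -/
def idx (n : ℕ) : chevG2.Idx := allIdx.getD n (Sum.inl (0 : Fin 2))

theorem allIdx_eq : allIdx = (List.range 14).map idx := rfl

/-- The nonzero terms (column number, exponent, coefficient mod 3) of a row of `x_r(t)`. -/
def rowTab (r : Fin chevG2.nroots) (row : chevG2.Idx) : List (ℕ × ℕ × ℤ) :=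
  (List.range 14).flatMap fun n => (ent chevG2 r row (idx n)).filterMap fun km =>
    if km.2.bmod 3 = 0 then none else some (n, km.1, km.2.bmod 3)

theorem cast_bmod {F : Type*} [Field F] [CharP F 3] (c : ℤ) : ((c.bmod 3 : ℤ) : F) = (c : F) := by
  have h : c.bmod 3 ≡ c [ZMOD 3] := by
    have := Int.bmod_emod (x := c) (m := 3)
    exact this
  exact (CharP.intCast_eq_intCast F 3).2 h

theorem sum_filterMap {F : Type*} [Field F] [CharP F 3] (t x : F) (n : ℕ) (l : List (ℕ × ℤ)) :
    ((l.filterMap fun km => if km.2.bmod 3 = 0 then none else some (n, km.1, km.2.bmod 3)).map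
      fun e : ℕ × ℕ × ℤ => ((e.2.2 : ℤ) : F) * t ^ e.2.1 * x).sum = ev t l * x := by
  induction l with
  | nil => simp [ev]
  | cons a l ih =>
    have hev : ev t (a :: l) = ((a.2 : ℤ) : F) * t ^ a.1 + ev t l := by simp [ev]
    rw [hev, add_mul, ← ih]
    by_cases h : a.2.bmod 3 = 0
    · have h' : ((a.2 : ℤ) : F) = 0 := by rw [← cast_bmod, h, Int.cast_zero]
      simp [h, h']
    · simp only [List.filterMap_cons, h, if_false, List.map_cons, List.sum_cons, cast_bmod]

theorem mulVec_row (F : Type*) [Field F] [CharP F 3] (r : Fin chevG2.nroots) (t : F) (w : chevG2.Idx → F)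
    (row : chevG2.Idx) :
    (chevG2.xMat F r t *ᵥ w) row =
      ((rowTab r row).map fun e => ((e.2.2 : ℤ) : F) * t ^ e.2.1 * w (idx e.1)).sum := by
  have h1 : (chevG2.xMat F r t *ᵥ w) row = ∑ c, ev t (ent chevG2 r row c) * w c := by
    simp only [Matrix.mulVec, dotProduct, xMat_apply]
  rw [h1, sum_idx, rowTab, allIdx_eq, List.map_map]
  generalize List.range 14 = L
  induction L with
  | nil => simp
  | cons a L ih =>
    rw [List.map_cons, List.sum_cons, List.flatMap_cons, List.map_append, List.sum_append, ← ih]
    congr 1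
    rw [Function.comp_apply, ← sum_filterMap t (w (idx a)) a]
    congr 1
    apply List.map_congr_left
    intro e he
    rw [List.mem_filterMap] at he
    obtain ⟨km, _, hkm⟩ := he
    by_cases h : km.2.bmod 3 = 0
    · simp [h] at hkm
    · simp only [h, if_false, Option.some.injEq] at hkm
      rw [← hkm]

theorem x_mulVec_row (F : Type*) [Field F] [CharP F 3] (r : ℕ) (hr : r < chevG2.nroots) (t : F)
    (w : chevG2.Idx → F) (row : chevG2.Idx) :
    (chevG2.x F r t *ᵥ w) row =
      ((rowTab ⟨r, hr⟩ row).map fun e => ((e.2.2 : ℤ) : F) * t ^ e.2.1 * w (idx e.1)).sum := by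
  rw [ChevalleyDatum.x, dif_pos hr, mulVec_row]

end Cfsg.Agent.LieRecognition.ReeTab
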