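import Cfsg.Agent.LieRecognition.ReeSylowThree

/-!
# Groups with the Bruhat normal form of the small Ree groups: the three point stabilisers
-/

set_option autoImplicit false
set_option linter.unusedSectionVars false

namespace Cfsg.Agent.LieRecognition.ReeThree

open Cfsg.Agent.LieRecognition.ReeAbs Cfsg.Agent.LieRecognition.ReeSylowThree
open scoped Pointwise

variable {K : Type*} [Field K] {G : Type*} [Group G]
variable {m : ℕ} {U : K → K → K → G} {h : Kˣ → G} {n : G}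

section field

variable [Fintype K]

theorem pow_card' (hK : Fintype.card K = 3 ^ (2 * m + 1)) (a : Kˣ) (j : ℕ) :
    a ^ (j * 3 ^ (2 * m + 1)) = a ^ j := by
  rw [pow_mul, units_pow_card hK]

theorem one_of_pow_a (hK : Fintype.card K = 3 ^ (2 * m + 1)) (a : Kˣ) (h1 : a ^ (3 ^ (m + 1)) = 1) : a = 1 :=
  eq_one_of_pow_three hK (m + 1) a h1

theorem sq_of_pow_b (hK : Fintype.card K = 3 ^ (2 * m + 1)) (a : Kˣ) (h1 : a ^ (3 ^ (m + 1) + 3) = 1) :
    a = 1 ∨ a = -1 := by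
  have h2 : a ^ (3 ^ m + 1) = 1 := by
    apply eq_one_of_pow_three hK 1
    rw [← pow_mul, ← h1]
    congr 1
    ring
  have h3 : a ^ (3 ^ m) = a⁻¹ := by
    rw [eq_inv_iff_mul_eq_one, ← pow_succ]
    exact h2
  have h4 : a ^ (3 ^ (2 * m + 1)) = a ^ 3 := by
    have : 3 ^ (2 * m + 1) = 3 ^ m * 3 ^ m * 3 := by ring
    rw [this, pow_mul, pow_mul, h3, inv_pow, h3, inv_inv]
  rw [units_pow_card hK] at h4
  have h5 : a * a = 1 := by
    have h6 : a * (a * a) = a * 1 := by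
      rw [mul_one]
      conv_rhs => rw [h4]
      rw [pow_succ, pow_two, mul_assoc]
    exact mul_left_cancel h6
  have h6 : (a : K) * a = 1 := by rw [← Units.val_mul, h5, Units.val_one]
  rcases mul_self_eq_one_iff.1 h6 with h7 | h7
  · left; ext; exact h7
  · right; ext; rw [h7]; simp

theorem one_of_pow_c (hK : Fintype.card K = 3 ^ (2 * m + 1)) (a : Kˣ) (h1 : a ^ (2 * 3 ^ (m + 1) + 3) = 1) :
    a = 1 := by
  have h2 : a ^ (2 * 3 ^ m + 1) = 1 := by
    apply eq_one_of_pow_three hK 1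
    rw [← pow_mul, ← h1]
    congr 1
    ring
  -- `b = a ^ (3 ^ m)`, `a = b⁻²`
  have h3 : a = (a ^ (3 ^ m))⁻¹ * (a ^ (3 ^ m))⁻¹ := by
    rw [← mul_inv, eq_inv_iff_mul_eq_one, ← pow_add, ← pow_succ', ← h2]
    congr 1
    ring
  have h4 : a ^ (3 ^ m) = (a ^ (3 ^ m * 3 ^ m))⁻¹ * (a ^ (3 ^ m * 3 ^ m))⁻¹ := by
    conv_lhs => rw [h3]
    rw [mul_pow, inv_pow, ← pow_mul]
  have h5 : a ^ (3 ^ m * 3 ^ m * 3) = a := by
    have : 3 ^ m * 3 ^ m * 3 = 3 ^ (2 * m + 1) := by ring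
    rw [this, units_pow_card hK]
  -- cube everything
  have h6 : (a ^ (3 ^ m)) ^ 3 = a⁻¹ * a⁻¹ := by
    rw [h4, mul_pow, inv_pow, ← pow_mul, h5]
  have h7 : a ^ 3 = a ^ 4 := by
    have h8 : a ^ 3 = ((a ^ (3 ^ m)) ^ 3)⁻¹ * ((a ^ (3 ^ m)) ^ 3)⁻¹ := by
      conv_lhs => rw [h3]
      rw [mul_pow, inv_pow]
    rw [h8, h6]
    group
  have h9 : a ^ 3 * 1 = a ^ 3 * a := by
    rw [mul_one, ← pow_succ, ← h7]
  exact (mul_left_cancel h9).symm

end field

/-- the number of units fixing a nonzero triple -/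
theorem unit_of_fix [Fintype K] (hK : Fintype.card K = 3 ^ (2 * m + 1)) (a : Kˣ) (t u v : K)
    (hne : ¬ (t = 0 ∧ u = 0 ∧ v = 0)) (h1 : (a : K) ^ (3 ^ (m + 1)) * t = t)
    (h2 : (a : K) ^ (3 ^ (m + 1) + 3) * u = u) (h3 : (a : K) ^ (2 * 3 ^ (m + 1) + 3) * v = v) :
    a = 1 ∨ a = -1 := by
  have canc : ∀ (j : ℕ) (w : K), w ≠ 0 → (a : K) ^ j * w = w → a ^ j = 1 := by
    intro j w hw hj
    ext
    rw [Units.val_pow_eq_pow_val, Units.val_one]
    exact mul_right_cancel₀ hw (by rw [hj, one_mul])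
  by_cases ht : t = 0
  · by_cases hu : u = 0
    · have hv : v ≠ 0 := fun hv => hne ⟨ht, hu, hv⟩
      exact Or.inl (one_of_pow_c hK a (canc _ v hv h3))
    · exact sq_of_pow_b hK a (canc _ u hu h2)
  · exact Or.inl (one_of_pow_a hK a (canc _ t ht h1))

section cosets

variable (D : Data m U h n) (B : Subgroup G) (hB : ∀ g, g ∈ B ↔ ∃ t u v a, g = U t u v * h a)

include D hB

theorem U_mem (t u v : K) : U t u v ∈ B := (hB _).2 ⟨t, u, v, 1, by rw [D.h_one, mul_one]⟩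

theorem h_mem (a : Kˣ) : h a ∈ B := (hB _).2 ⟨0, 0, 0, a, by rw [D.U_zero, one_mul]⟩

theorem UhnB (t u v : K) (a : Kˣ) (b : G) (hb : b ∈ B) :
    ((U t u v * h a * n * b : G) : G ⧸ B) = ((U t u v * n : G) : G ⧸ B) := by
  rw [QuotientGroup.eq]
  have e : (U t u v * h a * n * b)⁻¹ * (U t u v * n) = b⁻¹ * h a := by
    rw [mul_inv_rev, mul_inv_rev, mul_inv_rev, D.n_inv]
    have h1 : n * ((h a)⁻¹ * n) = h a := by
      rw [← D.h_inv, D.n_h', inv_inv, ← mul_assoc, D.n_n, one_mul]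
    calc b⁻¹ * (n * ((h a)⁻¹ * (U t u v)⁻¹)) * (U t u v * n) = b⁻¹ * (n * ((h a)⁻¹ * n)) := by
          simp only [mul_assoc, inv_mul_cancel_left]
      _ = b⁻¹ * h a := by rw [h1]
  rw [e]
  exact B.mul_mem (B.inv_mem hb) (h_mem D B hB a)

theorem coset_cases (x : G ⧸ B) : x = ((1 : G) : G ⧸ B) ∨ ∃ t u v, x = ((U t u v * n : G) : G ⧸ B) := by
  induction x using QuotientGroup.induction_on with
  | H g =>
    rcases D.bruhat g with ⟨t, u, v, a, rfl⟩ | ⟨t, u, v, a, t', u', v', rfl⟩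
    · left
      rw [QuotientGroup.eq, mul_one]
      exact B.inv_mem ((hB _).2 ⟨t, u, v, a, rfl⟩)
    · right
      exact ⟨t, u, v, UhnB D B hB t u v a _ (U_mem D B hB t' u' v')⟩

theorem n_notMem : n ∉ B := by
  intro hn
  obtain ⟨t, u, v, a, he⟩ := (hB _).1 hn
  refine D.ne t u v a 0 0 0 1 0 0 0 ?_
  rw [← he, D.U_zero, D.h_one, one_mul, one_mul, mul_one]

theorem one_ne (t u v : K) : ((1 : G) : G ⧸ B) ≠ ((U t u v * n : G) : G ⧸ B) := by
  intro he
  rw [QuotientGroup.eq, inv_one, one_mul] at he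
  apply n_notMem D B hB
  have := B.mul_mem (B.inv_mem (U_mem D B hB t u v)) he
  rwa [inv_mul_cancel_left] at this

theorem Un_inj (t u v t' u' v' : K) (he : ((U t u v * n : G) : G ⧸ B) = ((U t' u' v' * n : G) : G ⧸ B)) :
    t = t' ∧ u = u' ∧ v = v' := by
  rw [QuotientGroup.eq] at he
  obtain ⟨x, y, z, a, hb⟩ := (hB _).1 he
  have h1 : U t' u' v' * n = U t u v * n * (U x y z * h a) := by
    rw [← hb, mul_inv_cancel_left]
  -- move `h a` to the left
  have h2 : U t' u' v' * h 1 * n * U 0 0 0 = U t u v * h a⁻¹ * n * U ((a⁻¹ : Kˣ) ^ (3 ^ (m + 1)) * x)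
      ((a⁻¹ : Kˣ) ^ (3 ^ (m + 1) + 3) * y) ((a⁻¹ : Kˣ) ^ (2 * 3 ^ (m + 1) + 3) * z) := by
    have h3 : U x y z * h a = h a * U (((a⁻¹ : Kˣ) : K) ^ (3 ^ (m + 1)) * x)
        (((a⁻¹ : Kˣ) : K) ^ (3 ^ (m + 1) + 3) * y) (((a⁻¹ : Kˣ) : K) ^ (2 * 3 ^ (m + 1) + 3) * z) := by
      rw [D.h_U]
      have e : ∀ (j : ℕ) (w : K), (a : K) ^ j * (((a⁻¹ : Kˣ) : K) ^ j * w) = w := by
        intro j w
        rw [← mul_assoc, ← mul_pow, Units.mul_inv, one_pow, one_mul]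
      rw [e, e, e]
    rw [D.h_one, D.U_zero, mul_one, mul_one, h1, h3]
    simp only [mul_assoc]
    rw [← mul_assoc n (h a), D.n_h, mul_assoc]
  obtain ⟨h4, h5, h6, -⟩ := D.inj₂ _ _ _ _ _ _ _ _ _ _ _ _ _ _ h2
  exact ⟨h4.symm, h5.symm, h6.symm⟩

theorem two_transitive (x y : G ⧸ B) (hxy : x ≠ y) :
    ∃ g : G, g • x = ((1 : G) : G ⧸ B) ∧ g • y = ((n : G) : G ⧸ B) := by
  obtain ⟨g, rfl⟩ := QuotientGroup.mk_surjective x
  rcases coset_cases D B hB (g⁻¹ • y) with h1 | ⟨t, u, v, h1⟩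
  · exfalso
    apply hxy
    rw [inv_smul_eq_iff] at h1
    rw [h1]
    show _ = ((g * 1 : G) : G ⧸ B)
    rw [mul_one]
  · refine ⟨(U t u v)⁻¹ * g⁻¹, ?_, ?_⟩
    · show (((U t u v)⁻¹ * g⁻¹ * g : G) : G ⧸ B) = _
      rw [QuotientGroup.eq]
      simpa using U_mem D B hB t u v
    · rw [mul_smul, h1]
      show (((U t u v)⁻¹ * (U t u v * n) : G) : G ⧸ B) = _
      rw [inv_mul_cancel_left]

theorem mem_stab_one (g : G) : g ∈ MulAction.stabilizer G ((1 : G) : G ⧸ B) ↔ g ∈ B := by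
  rw [MulAction.mem_stabilizer_iff]
  show ((g * 1 : G) : G ⧸ B) = ((1 : G) : G ⧸ B) ↔ _
  rw [mul_one, QuotientGroup.eq, mul_one]
  exact inv_mem_iff

theorem mem_stab_two (g : G) : g ∈ MulAction.stabilizer G ((1 : G) : G ⧸ B) ⊓
    MulAction.stabilizer G ((n : G) : G ⧸ B) ↔ ∃ a, g = h a := by
  rw [Subgroup.mem_inf, mem_stab_one D B hB, MulAction.mem_stabilizer_iff]
  constructor
  · rintro ⟨h1, h2⟩
    obtain ⟨t, u, v, a, rfl⟩ := (hB _).1 h1
    have h3 : ((U t u v * h a * n * 1 : G) : G ⧸ B) = ((U t u v * n : G) : G ⧸ B) :=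
      UhnB D B hB t u v a 1 B.one_mem
    have h4 : ((U t u v * n : G) : G ⧸ B) = ((U 0 0 0 * n : G) : G ⧸ B) := by
      rw [← h3, mul_one, D.U_zero, one_mul]
      exact h2
    obtain ⟨rfl, rfl, rfl⟩ := Un_inj D B hB _ _ _ _ _ _ h4
    exact ⟨a, by rw [D.U_zero, one_mul]⟩
  · rintro ⟨a, rfl⟩
    refine ⟨h_mem D B hB a, ?_⟩
    show ((h a * n : G) : G ⧸ B) = _
    have := UhnB D B hB 0 0 0 a 1 B.one_mem
    rw [D.U_zero, one_mul, one_mul, mul_one] at this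
    exact this

theorem h_smul (a : Kˣ) (t u v : K) : h a • ((U t u v * n : G) : G ⧸ B) =
    ((U ((a : K) ^ (3 ^ (m + 1)) * t) ((a : K) ^ (3 ^ (m + 1) + 3) * u)
      ((a : K) ^ (2 * 3 ^ (m + 1) + 3) * v) * n : G) : G ⧸ B) := by
  show ((h a * (U t u v * n) : G) : G ⧸ B) = _
  rw [← mul_assoc, D.h_U]
  have := UhnB D B hB ((a : K) ^ (3 ^ (m + 1)) * t) ((a : K) ^ (3 ^ (m + 1) + 3) * u)
      ((a : K) ^ (2 * 3 ^ (m + 1) + 3) * v) a 1 B.one_mem
  rw [mul_one] at this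
  exact this

theorem h_mem_stab_iff (a : Kˣ) (t u v : K) : h a ∈ MulAction.stabilizer G ((U t u v * n : G) : G ⧸ B) ↔
    (a : K) ^ (3 ^ (m + 1)) * t = t ∧ (a : K) ^ (3 ^ (m + 1) + 3) * u = u ∧
      (a : K) ^ (2 * 3 ^ (m + 1) + 3) * v = v := by
  rw [MulAction.mem_stabilizer_iff, h_smul D B hB]
  constructor
  · intro he
    exact Un_inj D B hB _ _ _ _ _ _ he
  · rintro ⟨h1, h2, h3⟩
    rw [h1, h2, h3]

theorem card_conj (g : G) (x y z : G ⧸ B) :
    Nat.card ↥(MulAction.stabilizer G (g • x) ⊓ MulAction.stabilizer G (g • y) ⊓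
      MulAction.stabilizer G (g • z)) =
    Nat.card ↥(MulAction.stabilizer G x ⊓ MulAction.stabilizer G y ⊓ MulAction.stabilizer G z) := by
  have hinj : Function.Injective (MulAut.conj g).toMonoidHom := (MulAut.conj g).injective
  rw [MulAction.stabilizer_smul_eq_stabilizer_map_conj, MulAction.stabilizer_smul_eq_stabilizer_map_conj,
    MulAction.stabilizer_smul_eq_stabilizer_map_conj, ← Subgroup.map_inf _ _ _ hinj,
    ← Subgroup.map_inf _ _ _ hinj]
  exact Nat.card_congr ((Subgroup.equivMapOfInjective _ _ hinj).toEquiv.symm)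

omit hB in
theorem neg_one_ne' [Fintype K] (hK : Fintype.card K = 3 ^ (2 * m + 1)) : h (-1) ≠ h 1 := by
  rw [D.h_one]
  exact D.inv_ne_one hK

theorem card_le_two_aux [Fintype K] (hK : Fintype.card K = 3 ^ (2 * m + 1)) (t u v : K)
    (hne : ¬ (t = 0 ∧ u = 0 ∧ v = 0)) :
    Nat.card ↥(MulAction.stabilizer G ((1 : G) : G ⧸ B) ⊓ MulAction.stabilizer G ((n : G) : G ⧸ B) ⊓
      MulAction.stabilizer G ((U t u v * n : G) : G ⧸ B)) ≤ 2 := by
  classical
  set S := MulAction.stabilizer G ((1 : G) : G ⧸ B) ⊓ MulAction.stabilizer G ((n : G) : G ⧸ B) ⊓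
      MulAction.stabilizer G ((U t u v * n : G) : G ⧸ B) with hS
  have hsub : (S : Set G) ⊆ ({h 1, h (-1)} : Set G) := by
    intro g hg
    have hg' : g ∈ S := hg
    rw [hS, Subgroup.mem_inf] at hg'
    obtain ⟨a, rfl⟩ := (mem_stab_two D B hB g).1 hg'.1
    obtain ⟨h1, h2, h3⟩ := (h_mem_stab_iff D B hB a t u v).1 hg'.2
    rcases unit_of_fix hK a t u v hne h1 h2 h3 with rfl | rfl
    · exact Or.inl rfl
    · exact Or.inr rfl
  have hcard : Nat.card S = (S : Set G).ncard := rfl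
  rw [hcard]
  calc (S : Set G).ncard ≤ ({h 1, h (-1)} : Set G).ncard := Set.ncard_le_ncard hsub (by simp)
    _ ≤ 2 := Set.ncard_insert_le _ _ |>.trans (by simp)

theorem card_le_two [Fintype K] (hK : Fintype.card K = 3 ^ (2 * m + 1)) (x y z : G ⧸ B) (hxy : x ≠ y)
    (hxz : x ≠ z) (hyz : y ≠ z) :
    Nat.card ↥(MulAction.stabilizer G x ⊓ MulAction.stabilizer G y ⊓ MulAction.stabilizer G z) ≤ 2 := by
  obtain ⟨g, h1, h2⟩ := two_transitive D B hB x y hxy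
  rw [← card_conj D B hB g x y z, h1, h2]
  rcases coset_cases D B hB (g • z) with h3 | ⟨t, u, v, h3⟩
  · exfalso
    apply hxz
    rw [← h1] at h3
    exact (smul_left_cancel g h3).symm
  · rw [h3]
    apply card_le_two_aux D B hB hK
    rintro ⟨rfl, rfl, rfl⟩
    apply hyz
    rw [D.U_zero, one_mul, ← h2] at h3
    exact (smul_left_cancel g h3).symm

theorem card_eq_two [Fintype K] (hK : Fintype.card K = 3 ^ (2 * m + 1)) :
    Nat.card ↥(MulAction.stabilizer G ((1 : G) : G ⧸ B) ⊓ MulAction.stabilizer G ((n : G) : G ⧸ B) ⊓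
      MulAction.stabilizer G ((U 0 1 0 * n : G) : G ⧸ B)) = 2 := by
  classical
  apply le_antisymm
  · exact card_le_two_aux D B hB hK 0 1 0 (by simp)
  · set S := MulAction.stabilizer G ((1 : G) : G ⧸ B) ⊓ MulAction.stabilizer G ((n : G) : G ⧸ B) ⊓
      MulAction.stabilizer G ((U 0 1 0 * n : G) : G ⧸ B) with hS
    have h1 : h (-1) ∈ S := by
      rw [hS, Subgroup.mem_inf]
      refine ⟨(mem_stab_two D B hB _).2 ⟨_, rfl⟩, (h_mem_stab_iff D B hB _ _ _ _).2 ⟨by simp, ?_, by simp⟩⟩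
      have h2 : (((-1 : Kˣ) : K)) ^ (3 ^ (m + 1) + 3) = 1 := by
        rw [pow_add, Units.val_neg, Units.val_one, (odd_three_pow _).neg_one_pow]
        ring
      rw [h2, mul_one]
    have h2 : h 1 ∈ S := by rw [D.h_one]; exact S.one_mem
    have hle : ({h 1, h (-1)} : Set G).ncard ≤ (S : Set G).ncard := by
      apply Set.ncard_le_ncard
      · intro g hg
        rcases hg with rfl | rfl
        · exact h2
        · exact h1
      · have hfin : Finite G := finite D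
        exact Set.toFinite _
    rw [Set.ncard_pair (neg_one_ne' D hK).symm] at hle
    exact hle

theorem main [Fintype K] (hK : Fintype.card K = 3 ^ (2 * m + 1)) :
    (∀ x y z : G ⧸ B, x ≠ y → x ≠ z → y ≠ z →
      Nat.card ↥(MulAction.stabilizer G x ⊓ MulAction.stabilizer G y ⊓ MulAction.stabilizer G z) ≤ 2) ∧
    ∃ x y z : G ⧸ B, x ≠ y ∧ x ≠ z ∧ y ≠ z ∧
      Nat.card ↥(MulAction.stabilizer G x ⊓ MulAction.stabilizer G y ⊓ MulAction.stabilizer G z) = 2 := by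
  refine ⟨fun x y z hxy hxz hyz => card_le_two D B hB hK x y z hxy hxz hyz,
    ((1 : G) : G ⧸ B), ((n : G) : G ⧸ B), ((U 0 1 0 * n : G) : G ⧸ B), ?_, ?_, ?_, card_eq_two D B hB hK⟩
  · have := one_ne D B hB 0 0 0
    rwa [D.U_zero, one_mul] at this
  · exact one_ne D B hB 0 1 0
  · intro he
    have h1 : ((U 0 0 0 * n : G) : G ⧸ B) = ((U 0 1 0 * n : G) : G ⧸ B) := by
      rw [D.U_zero, one_mul]
      exact he
    exact zero_ne_one (Un_inj D B hB _ _ _ _ _ _ h1).2.1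

end cosets

end Cfsg.Agent.LieRecognition.ReeThree
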