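import Cfsg.Agent.LieRecognition.ReeEq

set_option autoImplicit false
set_option linter.unusedVariables false
set_option linter.unusedSectionVars false
set_option linter.unusedSimpArgs false

/-!
# The six-letter words of `²G₂` acting on the 7-dimensional ideal and quotient (partly generated)
-/

namespace Cfsg.Agent.LieRecognition.ReeWord

open Cfsg.Lie Cfsg.Agent.LieRecognition.ReeTab Cfsg.Agent.LieRecognition.ReeAct Cfsg.Agent.LieRecognition.ReeEq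
open scoped Matrix

variable {K : Type*} [Field K]

theorem iota_add (u v : Fin 7 → K) : iota (u + v) = iota u + iota v := by
  obtain ⟨u1, u2, u3, u4, u5, u6, u7, rfl⟩ := exists_vec u
  obtain ⟨v1, v2, v3, v4, v5, v6, v7, rfl⟩ := exists_vec v
  rw [iota_vec, iota_vec, mk_add]
  show mk _ _ _ _ _ _ _ _ _ _ _ _ _ _ = _
  refine mk_congr ?_ ?_ ?_ ?_ ?_ ?_ ?_ ?_ ?_ ?_ ?_ ?_ ?_ ?_
  all_goals first | rfl | simp

theorem iota_smul (c : K) (v : Fin 7 → K) : iota (c • v) = c • iota v := by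
  obtain ⟨v1, v2, v3, v4, v5, v6, v7, rfl⟩ := exists_vec v
  rw [iota_vec, mk_smul]
  show mk _ _ _ _ _ _ _ _ _ _ _ _ _ _ = _
  refine mk_congr ?_ ?_ ?_ ?_ ?_ ?_ ?_ ?_ ?_ ?_ ?_ ?_ ?_ ?_
  all_goals first | rfl | simp

theorem pi_add (u v : chevG2.Idx → K) : pi (u + v) = pi u + pi v := by
  funext i
  fin_cases i <;> rfl

theorem pi_smul (c : K) (v : chevG2.Idx → K) : pi (c • v) = c • pi v := by
  funext i
  fin_cases i <;> rfl

theorem rho_add (u v : chevG2.Idx → K) : rho (u + v) = rho u + rho v := by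
  funext i
  fin_cases i <;> rfl

theorem rho_smul (c : K) (v : chevG2.Idx → K) : rho (c • v) = c • rho v := by
  funext i
  fin_cases i <;> rfl

theorem rho_iota (v : Fin 7 → K) : rho (iota v) = v := by
  obtain ⟨v1, v2, v3, v4, v5, v6, v7, rfl⟩ := exists_vec v
  rfl

theorem pi_iota (v : Fin 7 → K) : pi (iota v) = 0 := by
  obtain ⟨v1, v2, v3, v4, v5, v6, v7, rfl⟩ := exists_vec v
  rw [iota_vec, pi_mk, zero_eq_vec]

theorem pi_sec (v : Fin 7 → K) : pi (sec v) = v := by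
  obtain ⟨v1, v2, v3, v4, v5, v6, v7, rfl⟩ := exists_vec v
  rfl

theorem decomp (w : chevG2.Idx → K) : w = sec (pi w) + iota (rho w) := by
  obtain ⟨a0, a1, b0, b1, b2, b3, b4, b5, b6, b7, b8, b9, b10, b11, rfl⟩ := exists_mk w
  rw [pi_mk, rho_mk, sec_vec, iota_vec, mk_add]
  refine mk_congr ?_ ?_ ?_ ?_ ?_ ?_ ?_ ?_ ?_ ?_ ?_ ?_ ?_ ?_
  all_goals simp

theorem sec_zero : sec (0 : Fin 7 → K) = 0 := by
  rw [zero_eq_vec, sec_vec]
  funext i
  refine forall_idx (P := fun i => mk (0 : K) 0 0 0 0 0 0 0 0 0 0 0 0 0 i = 0) ?_ ?_ ?_ ?_ ?_ ?_ ?_ ?_ ?_ ?_ ?_ ?_ ?_ ?_ i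
  all_goals rfl

theorem eq_iota_of_pi (w : chevG2.Idx → K) (h : pi w = 0) : w = iota (rho w) := by
  conv_lhs => rw [decomp w, h, sec_zero, zero_add]

theorem mulVec_iota {M : Matrix chevG2.Idx chevG2.Idx K} (hM : Good M) (v : Fin 7 → K) :
    M *ᵥ iota v = iota (aI M v) := eq_iota_of_pi _ (hM.hinv v)

theorem pi_mulVec {M : Matrix chevG2.Idx chevG2.Idx K} (hM : Good M) (w : chevG2.Idx → K) :
    pi (M *ᵥ w) = cQ M (pi w) := by
  conv_lhs => rw [decomp w, Matrix.mulVec_add, pi_add, hM.hinv, add_zero]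
  rfl

theorem aI_mul (M : Matrix chevG2.Idx chevG2.Idx K) {N : Matrix chevG2.Idx chevG2.Idx K} (hN : Good N)
    (v : Fin 7 → K) : aI (M * N) v = aI M (aI N v) := by
  rw [aI, ← Matrix.mulVec_mulVec, mulVec_iota hN]
  rfl

theorem cQ_mul {M : Matrix chevG2.Idx chevG2.Idx K} (hM : Good M) (N : Matrix chevG2.Idx chevG2.Idx K)
    (q : Fin 7 → K) : cQ (M * N) q = cQ M (cQ N q) := by
  rw [cQ, ← Matrix.mulVec_mulVec, pi_mulVec hM]
  rfl

theorem aI_add (M : Matrix chevG2.Idx chevG2.Idx K) (u v : Fin 7 → K) : aI M (u + v) = aI M u + aI M v := by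
  rw [aI, iota_add, Matrix.mulVec_add, rho_add]
  rfl

theorem aI_smul (M : Matrix chevG2.Idx chevG2.Idx K) (c : K) (v : Fin 7 → K) : aI M (c • v) = c • aI M v := by
  rw [aI, iota_smul, Matrix.mulVec_smul, rho_smul]
  rfl

theorem aI_zero (M : Matrix chevG2.Idx chevG2.Idx K) : aI M (0 : Fin 7 → K) = 0 := by
  have h := aI_smul M 0 0
  simpa using h

theorem aI_one (v : Fin 7 → K) : aI (1 : Matrix chevG2.Idx chevG2.Idx K) v = v := by
  rw [aI, Matrix.one_mulVec, rho_iota]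

theorem cQ_one (v : Fin 7 → K) : cQ (1 : Matrix chevG2.Idx chevG2.Idx K) v = v := by
  rw [cQ, Matrix.one_mulVec, pi_sec]

theorem good_one : Good (1 : Matrix chevG2.Idx chevG2.Idx K) where
  hinv v := by rw [Matrix.one_mulVec, pi_iota]
  hbr w v := by rw [aI_one, aI_one, Matrix.one_mulVec]
  hqf v := by rw [aI_one]
  hpk u v _ := by rw [aI_one, aI_one, cQ_one]

theorem good_mul {M N : Matrix chevG2.Idx chevG2.Idx K} (hM : Good M) (hN : Good N) : Good (M * N) where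
  hinv v := by rw [← Matrix.mulVec_mulVec, mulVec_iota hN, hM.hinv]
  hbr w v := by
    rw [aI_mul M hN, aI_mul M hN, hN.hbr, hM.hbr, ← Matrix.mulVec_mulVec]
  hqf v := by rw [aI_mul M hN, hM.hqf, hN.hqf]
  hpk u v h := by
    rw [aI_mul M hN, aI_mul M hN, cQ_mul hM, ← hN.hpk u v h, hM.hpk]
    rw [← mulVec_iota hN, ← hN.hbr, h, aI_zero]

variable [CharP K 3]

theorem good_x (r : ℕ) (t : K) : Good (chevG2.x K r t) := by
  by_cases hr : r < 12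
  · interval_cases r
    · exact good0 t
    · exact good1 t
    · exact good2 t
    · exact good3 t
    · exact good4 t
    · exact good5 t
    · exact good6 t
    · exact good7 t
    · exact good8 t
    · exact good9 t
    · exact good10 t
    · exact good11 t
  · have h : chevG2.x K r t = 1 := by
      rw [ChevalleyDatum.x, dif_neg]
      exact hr
    rw [h]
    exact good_one

theorem good_word (w : List (ℕ × K)) : Good (chevG2.wordMat K w) := by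
  induction w with
  | nil => simpa [ChevalleyDatum.wordMat] using good_one
  | cons p w ih =>
    have h : chevG2.wordMat K (p :: w) = chevG2.x K p.1 p.2 * chevG2.wordMat K w := by
      simp [ChevalleyDatum.wordMat]
    rw [h]
    exact good_mul (good_x _ _) ih

theorem aI_cons (r : ℕ) (t : K) (w : List (ℕ × K)) (v : Fin 7 → K) :
    aI (chevG2.wordMat K ((r, t) :: w)) v = aI (chevG2.x K r t) (aI (chevG2.wordMat K w) v) := by
  have h : chevG2.wordMat K ((r, t) :: w) = chevG2.x K r t * chevG2.wordMat K w := by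
    simp [ChevalleyDatum.wordMat]
  rw [h, aI_mul _ (good_word w)]

theorem cQ_cons (r : ℕ) (t : K) (w : List (ℕ × K)) (v : Fin 7 → K) :
    cQ (chevG2.wordMat K ((r, t) :: w)) v = cQ (chevG2.x K r t) (cQ (chevG2.wordMat K w) v) := by
  have h : chevG2.wordMat K ((r, t) :: w) = chevG2.x K r t * chevG2.wordMat K w := by
    simp [ChevalleyDatum.wordMat]
  rw [h, cQ_mul (good_x r t)]

theorem aI_nil (v : Fin 7 → K) : aI (chevG2.wordMat K []) v = v := by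
  have h : chevG2.wordMat K ([] : List (ℕ × K)) = 1 := by simp [ChevalleyDatum.wordMat]
  rw [h, aI_one]

theorem cQ_nil (v : Fin 7 → K) : cQ (chevG2.wordMat K []) v = v := by
  have h : chevG2.wordMat K ([] : List (ℕ × K)) = 1 := by simp [ChevalleyDatum.wordMat]
  rw [h, cQ_one]

theorem aI_U (x X s r Y Z v1 v2 v3 v4 v5 v6 v7 : K) :
    aI (chevG2.wordMat K [(7, x), (6, X), (8, s), (9, r), (10, Y), (11, Z)]) ![v1, v2, v3, v4, v5, v6, v7] =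
      ![X*Y*v7*x + X*r*v6*x - r*s*v7*x - s^2*v6*x + X*v3*x - Y*s*v7 + Z*v7*x - r*s*v6 - r*v5*x - r^2*v7 + s*v4*x - Y*v5 - Z*v6 - r*v4 - s*v3 + v2*x + v1,
        X*Y*v7 + X*r*v6 - r*s*v7 - s^2*v6 + X*v3 + Z*v7 - r*v5 + s*v4 + v2,
        X*v6*x^2 - s*v7*x^2 - r*v7*x + s*v6*x - v5*x^2 + Y*v7 + r*v6 + v4*x + v3,
        -X*v6*x + s*v7*x - r*v7 + s*v6 + v5*x + v4,
        -X*v6 + s*v7 + v5,
        -v7*x + v6,
        v7] := by
  have h3 : (3 : K) = 0 := three_eq_zero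
  rw [aI_cons, aI_cons, aI_cons, aI_cons, aI_cons, aI_cons, aI_nil, aI_x11, aI_x10, aI_x9, aI_x8, aI_x6, aI_x7]
  refine vec_congr ?_ ?_ ?_ ?_ ?_ ?_ ?_
  · ring
  · ring
  · ring
  · ring
  · ring
  · ring
  · ring

theorem cQ_U (x X s r Y Z v1 v2 v3 v4 v5 v6 v7 : K) :
    cQ (chevG2.wordMat K [(7, x), (6, X), (8, s), (9, r), (10, Y), (11, Z)]) ![v1, v2, v3, v4, v5, v6, v7] =
      ![X*r^3*v7 - Y*s^3*v7 - X*Y*Z*v7 - X*Y^2*v6 - r^3*v6 - s^3*v5 + X*Y*v4 - X*Z*v5 - Y*Z*v6 - Z^2*v7 + X*v2 - Y*v3 - Z*v4 + v1,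
        -X^2*Y*v7*x^3 + s^3*v7*x^3 + X*Y*v6*x^3 - X*Z*v7*x^3 - X^2*v5*x^3 + X*v4*x^3 + Z*v6*x^3 + r^3*v7 + v3*x^3 - Y*Z*v7 - Y^2*v6 + Y*v4 - Z*v5 + v2,
        -X^2*Y*v7 + s^3*v7 + X*Y*v6 - X*Z*v7 - X^2*v5 + X*v4 + Z*v6 + v3,
        X*Y*v7 + X*v5 + Y*v6 - Z*v7 + v4,
        X*v7*x^3 - v6*x^3 + Y*v7 + v5,
        -X*v7 + v6,
        v7] := by
  have h3 : (3 : K) = 0 := three_eq_zero
  rw [cQ_cons, cQ_cons, cQ_cons, cQ_cons, cQ_cons, cQ_cons, cQ_nil, cQ_x11, cQ_x10, cQ_x9, cQ_x8, cQ_x6, cQ_x7]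
  refine vec_congr ?_ ?_ ?_ ?_ ?_ ?_ ?_
  · ring
  · ring
  · ring
  · ring
  · ring
  · ring
  · ring

theorem aI_V (x X s r Y Z v1 v2 v3 v4 v5 v6 v7 : K) :
    aI (chevG2.wordMat K [(4, -x), (5, -X), (3, -s), (2, -r), (1, -Y), (0, -Z)]) ![v1, v2, v3, v4, v5, v6, v7] =
      ![v1,
        -v1*x + v2,
        -X*v2 + s*v1 + v3,
        -X*v2*x + s*v1*x - r*v1 + s*v2 + v3*x + v4,
        X*v2*x^2 - s*v1*x^2 - r*v1*x + s*v2*x - v3*x^2 + Y*v1 + r*v2 + v4*x + v5,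
        X*Y*v1 + X*r*v2 - r*s*v1 - s^2*v2 + X*v5 + Z*v1 - r*v3 + s*v4 + v6,
        X*Y*v1*x + X*r*v2*x - r*s*v1*x - s^2*v2*x + X*v5*x - Y*s*v1 + Z*v1*x - r*s*v2 - r*v3*x - r^2*v1 + s*v4*x - Y*v3 - Z*v2 - r*v4 - s*v5 + v6*x + v7] := by
  have h3 : (3 : K) = 0 := three_eq_zero
  rw [aI_cons, aI_cons, aI_cons, aI_cons, aI_cons, aI_cons, aI_nil, aI_x0, aI_x1, aI_x2, aI_x3, aI_x5, aI_x4]
  refine vec_congr ?_ ?_ ?_ ?_ ?_ ?_ ?_
  · ring
  · ring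
  · ring
  · ring
  · ring
  · ring
  · ring

theorem cQ_V (x X s r Y Z v1 v2 v3 v4 v5 v6 v7 : K) :
    cQ (chevG2.wordMat K [(4, -x), (5, -X), (3, -s), (2, -r), (1, -Y), (0, -Z)]) ![v1, v2, v3, v4, v5, v6, v7] =
      ![v1,
        -X*v1 + v2,
        X*v1*x^3 - v2*x^3 + Y*v1 + v3,
        X*Y*v1 + X*v3 + Y*v2 - Z*v1 + v4,
        -X^2*Y*v1 + s^3*v1 + X*Y*v2 - X*Z*v1 - X^2*v3 + X*v4 + Z*v2 + v5,
        -X^2*Y*v1*x^3 + s^3*v1*x^3 + X*Y*v2*x^3 - X*Z*v1*x^3 - X^2*v3*x^3 + X*v4*x^3 + Z*v2*x^3 + r^3*v1 + v5*x^3 - Y*Z*v1 - Y^2*v2 + Y*v4 - Z*v3 + v6,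
        X*r^3*v1 - Y*s^3*v1 - X*Y*Z*v1 - X*Y^2*v2 - r^3*v2 - s^3*v3 + X*Y*v4 - X*Z*v3 - Y*Z*v2 - Z^2*v1 + X*v6 - Y*v5 - Z*v4 + v7] := by
  have h3 : (3 : K) = 0 := three_eq_zero
  rw [cQ_cons, cQ_cons, cQ_cons, cQ_cons, cQ_cons, cQ_cons, cQ_nil, cQ_x0, cQ_x1, cQ_x2, cQ_x3, cQ_x5, cQ_x4]
  refine vec_congr ?_ ?_ ?_ ?_ ?_ ?_ ?_
  · ring
  · ring
  · ring
  · ring
  · ring
  · ring
  · ring

end Cfsg.Agent.LieRecognition.ReeWord
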