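import Mathlib
import Cfsg.Prelude.Def_LieExceptional
import Cfsg.Agent.LieRecognition.ZassEven

set_option autoImplicit false

namespace Cfsg.Agent.LieRecognition.ZassEvenGroup

variable {G Ω : Type*} [Group G] [MulAction G Ω]

/-- involutions have exactly one fixed point, when the degree is odd and no three points are fixed -/
theorem involution_fixed [Finite Ω] (hodd : Odd (Nat.card Ω))
    (h3 : ∀ g : G, ∀ a b c : Ω, a ≠ b → b ≠ c → a ≠ c → g • a = a → g • b = b → g • c = c → g = 1)
    (z : G) (hz1 : z ≠ 1) (hz2 : z * z = 1) : ∃ c : Ω, z • c = c ∧ ∀ d : Ω, z • d = d → d = c := by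
  classical
  have := Fintype.ofFinite Ω
  have : Fact (Nat.Prime 2) := ⟨Nat.prime_two⟩
  let f : Function.End Ω := fun x => z • x
  have hf : f ^ 2 ^ 1 = 1 := by
    rw [pow_one, pow_two]
    funext x
    show z • z • x = x
    rw [smul_smul, hz2, one_smul]
  have h := Equiv.Perm.card_fixedPoints_modEq hf
  rw [← Nat.card_eq_fintype_card] at h
  set F : Finset Ω := Finset.univ.filter (fun x => z • x = x) with hF
  have hcard : Fintype.card f.fixedPoints = F.card := by
    rw [hF]
    exact Fintype.card_subtype _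
  rw [hcard] at h
  have hFodd : F.card % 2 = 1 := by
    rw [← h]; exact Nat.odd_iff.mp hodd
  have hle : ¬ 2 < F.card := by
    intro h2
    rw [Finset.two_lt_card] at h2
    obtain ⟨x, hx, y, hy, w, hw, hxy, hxw, hyw⟩ := h2
    simp only [hF, Finset.mem_filter, Finset.mem_univ, true_and] at hx hy hw
    exact hz1 (h3 z x y w hxy hyw hxw hx hy hw)
  have h1 : F.card = 1 := by omega
  rw [Finset.card_eq_one] at h1
  obtain ⟨c, hc⟩ := h1
  refine ⟨c, ?_, ?_⟩
  · have : c ∈ F := by rw [hc]; simp
    simpa [hF] using this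
  · intro d hd
    have : d ∈ F := by simp [hF, hd]
    rw [hc] at this
    simpa using this

/-- the degree is odd -/
theorem card_odd [Finite Ω] {a : Ω} (U : Subgroup G) (hUle : U ≤ MulAction.stabilizer G a)
    (hreg : ∀ c d : Ω, c ≠ a → d ≠ a → ∃! u : U, (u : G) • c = d) (hU2 : IsPGroup 2 U)
    (b d : Ω) (hb : b ≠ a) (hd : d ≠ a) (hbd : b ≠ d) : Odd (Nat.card Ω) := by
  classical
  have : Fact (Nat.Prime 2) := ⟨Nat.prime_two⟩
  obtain ⟨u, hu, -⟩ := hreg b d hb hd
  have h := hU2.card_modEq_card_fixedPoints Ω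
  have hfix : MulAction.fixedPoints U Ω = {a} := by
    ext x
    simp only [MulAction.mem_fixedPoints, Set.mem_singleton_iff]
    constructor
    · intro hx
      by_contra hxa
      have hu1 : u ≠ 1 := by
        rintro rfl
        exact hbd (by simpa using hu)
      obtain ⟨w, hw, hw'⟩ := hreg x x hxa hxa
      have e1 := hw' u (hx u)
      have e2 := hw' 1 (by simp)
      exact hu1 (e1.trans e2.symm)
    · rintro rfl g
      exact hUle g.2
  rw [hfix] at h
  rw [Nat.odd_iff]
  simpa [Nat.ModEq] using h

/-- a square root in an involution-free situation -/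
theorem exists_sqrt [Finite G] (h : G) (hno : ∀ n : ℕ, (h ^ n) * (h ^ n) = 1 → h ^ n = 1) :
    ∃ n : ℕ, (h ^ n) * (h ^ n) = h := by
  have hodd : Odd (orderOf h) := by
    by_contra hne
    rw [Nat.not_odd_iff_even] at hne
    obtain ⟨m, hm⟩ := hne
    have h1 : h ^ m = 1 := hno m (by rw [← pow_add, ← hm, pow_orderOf_eq_one])
    have hpos : 0 < orderOf h := orderOf_pos h
    have := Nat.le_of_dvd (by omega) (orderOf_dvd_of_pow_eq_one h1)
    omega
  obtain ⟨m, hm⟩ := hodd
  refine ⟨m + 1, ?_⟩
  rw [← pow_add]
  have : m + 1 + (m + 1) = (2 * m + 1) + 1 := by ring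
  rw [this, ← hm, pow_succ, pow_orderOf_eq_one, one_mul]

/-- `v` inverts the stabiliser of the two points it interchanges -/
theorem inverts [Finite G]
    (h3 : ∀ g : G, ∀ a b c : Ω, a ≠ b → b ≠ c → a ≠ c → g • a = a → g • b = b → g • c = c → g = 1)
    {a b : Ω} (hab : a ≠ b) (v : G) (hv2 : v * v = 1) (hva : v • a = b) (hvb : v • b = a)
    (c : Ω) (hvc : v • c = c) (hvu : ∀ d : Ω, v • d = d → d = c)
    (h : G) (ha : h • a = a) (hb : h • b = b) : v * h * v = h⁻¹ := by
  classical
  have hvinv : v⁻¹ = v := inv_eq_of_mul_eq_one_left hv2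
  let H : Subgroup G := MulAction.stabilizer G a ⊓ MulAction.stabilizer G b
  have hmem : ∀ x : G, x ∈ H ↔ x • a = a ∧ x • b = b := fun x => Iff.rfl
  have hvH : ∀ x ∈ H, v * x * v ∈ H := by
    intro x hx
    rw [hmem] at hx ⊢
    simp only [mul_smul, hva, hvb, hx.1, hx.2, and_self]
  let φ : H →* H :=
    { toFun := fun x => ⟨v * x * v, hvH x x.2⟩
      map_one' := by ext; simp [hv2]
      map_mul' := by
        intro x y
        ext
        show v * (x * y : G) * v = v * x * v * (v * y * v)
        have : v * x * v * (v * y * v) = v * x * (v * v) * y * v := by group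
        rw [this, hv2]; group }
  have hfix : MonoidHom.FixedPointFree φ := by
    intro x hx
    have hx' : v * (x : G) * v = x := congrArg Subtype.val hx
    have hx'' := (hmem x).1 x.2
    ext
    have hxc : (x : G) • c = c := by
      apply hvu
      have : v * x = x * v := by
        calc v * (x : G) = v * x * (v * v) := by rw [hv2, mul_one]
          _ = (v * x * v) * v := by group
          _ = x * v := by rw [hx']
      rw [← mul_smul, this, mul_smul, hvc]
    have hca : c ≠ a := by
      rintro rfl
      exact hab (hvc.symm.trans hva)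
    have hcb : c ≠ b := by
      rintro rfl
      exact hab (hvb.symm.trans hvc)
    exact h3 x a b c hab hcb.symm hca.symm hx''.1 hx''.2 hxc
  have hinv : Function.Involutive φ := by
    intro x
    ext
    show v * (v * x * v) * v = (x : G)
    have : v * (v * x * v) * v = (v * v) * x * (v * v) := by group
    rw [this, hv2]; group
  have := MonoidHom.FixedPointFree.coe_eq_inv_of_involutive hfix hinv
  have h1 := congrFun this ⟨h, (hmem h).2 ⟨ha, hb⟩⟩
  exact congrArg Subtype.val h1

end Cfsg.Agent.LieRecognition.ZassEvenGroup
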